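import Mathlib

/-! Lemmas on henselian local rings (lead). -/

namespace Groth.Agent.Lib.lead.HenselLocal

open Polynomial IsLocalRing

variable {R : Type*} [CommRing R]

/-- A polynomial all of whose coefficients lie in `I` maps into `I • ⊤` in any quotient of `R[X]`. -/
theorem mk_mem_smul_top_of_coeff_mem (I : Ideal R) (J : Ideal R[X]) (d : R[X])
    (hd : ∀ i, d.coeff i ∈ I) :
    (Ideal.Quotient.mk J d : R[X] ⧸ J) ∈ (I • ⊤ : Submodule R (R[X] ⧸ J)) := by
  have h1 : d = ∑ i ∈ d.support, (d.coeff i) • (X ^ i : R[X]) := by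
    conv_lhs => rw [d.as_sum_support]
    refine Finset.sum_congr rfl fun i _ => ?_
    rw [← C_mul_X_pow_eq_monomial, smul_eq_C_mul]
  rw [h1, map_sum]
  refine Submodule.sum_mem _ fun i _ => ?_
  have : (Ideal.Quotient.mk J) (d.coeff i • (X ^ i : R[X])) =
      d.coeff i • (Ideal.Quotient.mk J (X ^ i)) :=
    map_smul (Ideal.Quotient.mkₐ R J) _ _
  rw [this]
  exact Submodule.smul_mem_smul (hd i) Submodule.mem_top

/-- If `f` is monic over a local ring, `f = g * h` and `g` reduces to `X - ā₀`, then `g` has a root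
lifting `ā₀`. -/
theorem exists_root_of_factor [IsLocalRing R] {f g h : R[X]} (hf : f.Monic)
    (hfg : f = g * h) (a₀ : R) (hg : g.map (residue R) = X - C (residue R a₀)) :
    ∃ b : R, g.IsRoot b ∧ b - a₀ ∈ maximalIdeal R := by
  classical
  let J : Ideal R[X] := Ideal.span {g}
  have hfJ : Ideal.span {f} ≤ J := by
    rw [Ideal.span_singleton_le_iff_mem]; exact Ideal.mem_span_singleton.mpr ⟨h, hfg⟩
  have : Module.Finite R (AdjoinRoot f) := hf.finite_adjoinRoot
  have hfin : Module.Finite R (R[X] ⧸ J) := by
    let φ : AdjoinRoot f →ₐ[R] R[X] ⧸ J := Ideal.Quotient.factorₐ R hfJ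
    exact Module.Finite.of_surjective φ.toLinearMap (Ideal.Quotient.factor_surjective hfJ)
  -- coefficients of d := g - (X - C a₀) lie in m
  set d : R[X] := g - (X - C a₀) with hd_def
  have hd : ∀ i, d.coeff i ∈ maximalIdeal R := by
    intro i
    have : (d.map (residue R)) = 0 := by
      rw [hd_def, Polynomial.map_sub, hg]; simp
    have h2 : (d.map (residue R)).coeff i = 0 := by rw [this]; simp
    rw [coeff_map] at h2
    rwa [← Ideal.Quotient.eq_zero_iff_mem]
  have key : (⊤ : Submodule R (R[X] ⧸ J)) ≤ Submodule.span R {1} := by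
    apply Submodule.le_of_le_smul_of_le_jacobson_bot (I := maximalIdeal R) Module.Finite.fg_top
      (IsLocalRing.maximalIdeal_le_jacobson _)
    intro x _
    obtain ⟨p, rfl⟩ := Ideal.Quotient.mk_surjective x
    have hp := modByMonic_add_div p (X - C a₀)
    rw [modByMonic_X_sub_C_eq_C_eval] at hp
    set q := p /ₘ (X - C a₀)
    -- p = C (p.eval a₀) + (g - d) * q
    have hp' : p = C (p.eval a₀) + g * q - d * q := by
      rw [hd_def]; linear_combination -hp
    have hdq : ∀ i, (d * q).coeff i ∈ maximalIdeal R := by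
      have hmem : d ∈ Ideal.map (C : R →+* R[X]) (maximalIdeal R) := Ideal.mem_map_C_iff.mpr hd
      have : d * q ∈ Ideal.map (C : R →+* R[X]) (maximalIdeal R) := Ideal.mul_mem_right _ _ hmem
      exact Ideal.mem_map_C_iff.mp this
    have hgq : (Ideal.Quotient.mk J) (g * q) = 0 := by
      rw [Ideal.Quotient.eq_zero_iff_mem]
      exact Ideal.mul_mem_right _ _ (Ideal.subset_span rfl)
    rw [hp', map_sub, map_add, hgq, add_zero]
    refine Submodule.sub_mem _ (Submodule.mem_sup_left ?_) (Submodule.mem_sup_right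
      (mk_mem_smul_top_of_coeff_mem _ _ _ hdq))
    rw [Submodule.mem_span_singleton]
    refine ⟨p.eval a₀, ?_⟩
    rw [← Algebra.algebraMap_eq_smul_one]; rfl
  have hX : (Ideal.Quotient.mk J X : R[X] ⧸ J) ∈ Submodule.span R {1} := key Submodule.mem_top
  rw [Submodule.mem_span_singleton] at hX
  obtain ⟨b, hb⟩ := hX
  have hb' : (Ideal.Quotient.mk J) (C b) = Ideal.Quotient.mk J X := by
    rw [← hb, ← Algebra.algebraMap_eq_smul_one]; rfl
  have hmem : X - C b ∈ J := by
    rw [← Ideal.Quotient.eq_zero_iff_mem, map_sub, hb', sub_self]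
  obtain ⟨q, hq⟩ := Ideal.mem_span_singleton.mp hmem
  -- reduce mod m
  have hq' : (X - C (residue R b) : (ResidueField R)[X]) =
      (X - C (residue R a₀)) * q.map (residue R) := by
    have := congrArg (Polynomial.map (residue R)) hq
    simpa [hg] using this
  have hba : residue R b = residue R a₀ := by
    have := congrArg (eval (residue R a₀)) hq'
    simp at this
    exact (sub_eq_zero.mp this).symm
  have hq1 : q.map (residue R) = 1 := by
    rw [hba] at hq'
    have hne : (X - C (residue R a₀) : (ResidueField R)[X]) ≠ 0 := X_sub_C_ne_zero _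
    have : (X - C (residue R a₀)) * 1 = (X - C (residue R a₀)) * q.map (residue R) := by
      rw [mul_one]; exact hq'
    exact (mul_left_cancel₀ hne this).symm
  have hqb : IsUnit (q.eval b) := by
    have : residue R (q.eval b) = 1 := by
      have h3 : residue R (q.eval b) = (q.map (residue R)).eval (residue R b) := by
        rw [eval_map, eval₂_at_apply]
      rw [h3, hq1, eval_one]
    exact (IsLocalRing.residue_ne_zero_iff_isUnit _).mp (by rw [this]; exact one_ne_zero)
  refine ⟨b, ?_, ?_⟩
  · have := congrArg (eval b) hq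
    simp only [eval_sub, eval_X, eval_C, sub_self, eval_mul] at this
    exact (hqb.mul_left_eq_zero.mp this.symm)
  · rw [← Ideal.Quotient.eq_zero_iff_mem]
    change residue R (b - a₀) = 0
    rw [map_sub, hba, sub_self]

universe u

/-- Over a henselian local ring, any `k`-point of a standard étale algebra lifts to a section. -/
theorem standardEtalePair_exists_lift {R : Type u} [CommRing R] [HenselianLocalRing R]
    (P : StandardEtalePair R) (φ₀ : P.Ring →ₐ[R] ResidueField R) :
    ∃ φ : P.Ring →ₐ[R] R, (Algebra.ofId R (ResidueField R)).comp φ = φ₀ := by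
  have hx₀ : P.HasMap (φ₀ P.X) := P.hasMap_X.map φ₀
  have H := ((HenselianLocalRing.TFAE R).out 0 1).mp ‹HenselianLocalRing R›
  obtain ⟨a, ha, hax⟩ := H P.f P.monic_f (φ₀ P.X) hx₀.1 hx₀.isUnit_derivative_f.ne_zero
  have hmap : P.HasMap a := by
    refine ⟨by simpa [Polynomial.coe_aeval_eq_eval] using ha, ?_⟩
    have h1 : residue R (aeval a P.g) = aeval (φ₀ P.X) P.g := by
      rw [← hax]
      exact (Polynomial.aeval_algebraMap_apply (A := R) (B := ResidueField R) a P.g).symm
    exact (IsLocalRing.residue_ne_zero_iff_isUnit _).mp (by rw [h1]; exact hx₀.2.ne_zero)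
  refine ⟨P.lift a hmap, P.hom_ext ?_⟩
  simp only [AlgHom.comp_apply, StandardEtalePair.lift_X]
  exact hax

/-- Over a henselian local ring `R`, any `k`-point of an étale `R`-algebra lifts to a section. -/
theorem etale_exists_section {R : Type u} [CommRing R] [HenselianLocalRing R]
    (A : Type u) [CommRing A] [Algebra R A] [Algebra.Etale R A]
    (ψ : A →ₐ[R] ResidueField R) :
    ∃ s : A →ₐ[R] R, (Algebra.ofId R (ResidueField R)).comp s = ψ := by
  let q : Ideal A := RingHom.ker ψ.toRingHom
  have hq : q.IsPrime := RingHom.ker_isPrime _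
  have : Algebra.FinitePresentation R A := inferInstance
  have : Algebra.IsEtaleAt R q := inferInstance
  obtain ⟨f, hfq, hstd⟩ := Algebra.IsEtaleAt.exists_isStandardEtale (R := R) q
  have hu : IsUnit (ψ f) := by
    rw [isUnit_iff_ne_zero]
    intro h0
    exact hfq ((RingHom.mem_ker).mpr h0)
  obtain ⟨⟨P⟩⟩ := hstd
  let ψf : Localization.Away f →ₐ[R] ResidueField R := IsLocalization.Away.liftAlgHom (f := ψ) f hu
  let φ₀ : P.Ring →ₐ[R] ResidueField R := ψf.comp P.equivRing.symm.toAlgHom
  obtain ⟨φ, hφ⟩ := standardEtalePair_exists_lift P.P φ₀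
  refine ⟨φ.comp (P.equivRing.toAlgHom.comp (IsScalarTower.toAlgHom R A (Localization.Away f))), ?_⟩
  rw [← AlgHom.comp_assoc, hφ]
  ext a
  simp [φ₀, ψf, IsLocalization.Away.lift_eq]

open TensorProduct in
/-- Two algebra maps from an unramified algebra to a local ring that agree modulo the maximal ideal
are equal. -/
theorem unramified_algHom_ext {R A S : Type*} [CommRing R] [CommRing A] [CommRing S] [Algebra R A]
    [Algebra R S] [IsLocalRing S] [Algebra.FormallyUnramified R A] [Algebra.EssFiniteType R A]
    (f₁ f₂ : A →ₐ[R] S) (h : ∀ a, residue S (f₁ a) = residue S (f₂ a)) : f₁ = f₂ := by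
  let Φ : A ⊗[R] A →ₐ[R] S := Algebra.TensorProduct.productMap f₁ f₂
  let e : S := Φ (Algebra.FormallyUnramified.elem R A)
  have he : IsUnit e := by
    apply (IsLocalRing.residue_ne_zero_iff_isUnit _).mp
    -- residue ∘ Φ = residue ∘ f₁ ∘ lmul'
    have key : ∀ t : A ⊗[R] A, residue S (Φ t) = residue S (f₁ (Algebra.TensorProduct.lmul' R t)) := by
      intro t
      induction t using TensorProduct.induction_on with
      | zero => simp
      | tmul a b =>
        simp only [Φ, Algebra.TensorProduct.productMap_apply_tmul, Algebra.TensorProduct.lmul'_apply_tmul,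
          map_mul, h b]
      | add x y hx hy => simp only [map_add, hx, hy]
    rw [key, Algebra.FormallyUnramified.lmul_elem, map_one, map_one]
    exact one_ne_zero
  ext a
  have h0 : (f₂ a - f₁ a) * e = 0 := by
    have := congrArg Φ (Algebra.FormallyUnramified.one_tmul_sub_tmul_one_mul_elem (R := R) a)
    simpa [Φ, e, map_mul, map_sub] using this
  have := he.mul_left_eq_zero.mp h0
  exact (sub_eq_zero.mp this).symm

end Groth.Agent.Lib.lead.HenselLocal
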