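import Mathlib
import Groth.Agent.Lib.lead.HenselLocal

/-! Finite algebras over henselian local rings are products of local rings (lead). -/

namespace Groth.Agent.Lib.lead.HenselLocal

universe u

open IsLocalRing TensorProduct

/-- A ring with complete orthogonal idempotents `e i` such that at most one maximal ideal avoids each
`e i` is a finite product of local rings. -/
theorem exists_pi_isLocalRing_of_idempotents {S : Type u} [CommRing S] {I : Type} [Fintype I]
    (e : I → S) (he : CompleteOrthogonalIdempotents e)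
    (huniq : ∀ i, ∀ M₁ M₂ : Ideal S, M₁.IsMaximal → M₂.IsMaximal → e i ∉ M₁ → e i ∉ M₂ → M₁ = M₂) :
    ∃ (ι : Type u) (_ : Fintype ι) (A : ι → Type u) (_ : ∀ i, CommRing (A i)),
      (∀ i, IsLocalRing (A i)) ∧ Nonempty (S ≃+* (∀ i, A i)) := by
  classical
  let B : I → Type u := fun i => S ⧸ Ideal.span ({1 - e i} : Set S)
  let ι : Type u := ULift.{u} {i : I // Nontrivial (B i)}
  have hloc : ∀ j : ι, IsLocalRing (B j.down.1) := by
    intro j
    have hnt : Nontrivial (B j.down.1) := j.down.2
    apply IsLocalRing.of_unique_max_ideal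
    obtain ⟨N, hN⟩ := Ideal.exists_maximal (B j.down.1)
    refine ⟨N, hN, fun N' hN' => ?_⟩
    have hsurj : Function.Surjective (Ideal.Quotient.mk (Ideal.span ({1 - e j.down.1} : Set S))) :=
      Ideal.Quotient.mk_surjective
    have key : ∀ N'' : Ideal (B j.down.1), N''.IsMaximal →
        e j.down.1 ∉ N''.comap (Ideal.Quotient.mk (Ideal.span ({1 - e j.down.1} : Set S))) := by
      intro N'' hN'' hmem
      have h1 : (1 - e j.down.1) ∈ N''.comap (Ideal.Quotient.mk (Ideal.span ({1 - e j.down.1} : Set S))) := by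
        rw [Ideal.mem_comap]
        have : Ideal.Quotient.mk (Ideal.span ({1 - e j.down.1} : Set S)) (1 - e j.down.1) = 0 :=
          Ideal.Quotient.eq_zero_iff_mem.mpr (Ideal.subset_span rfl)
        rw [this]; exact N''.zero_mem
      have h2 := Ideal.add_mem _ h1 hmem
      rw [sub_add_cancel] at h2
      have hmax : (N''.comap (Ideal.Quotient.mk (Ideal.span ({1 - e j.down.1} : Set S)))).IsMaximal :=
        Ideal.comap_isMaximal_of_surjective _ hsurj
      exact hmax.ne_top ((Ideal.eq_top_iff_one _).mpr h2)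
    have hEq := huniq j.down.1 _ _ (Ideal.comap_isMaximal_of_surjective _ hsurj (K := N'))
      (Ideal.comap_isMaximal_of_surjective _ hsurj (K := N)) (key N' hN') (key N hN)
    exact Ideal.comap_injective_of_surjective _ hsurj hEq
  let φ : (∀ i, B i) →+* (∀ j : ι, B j.down.1) :=
    RingHom.pi (fun j => Pi.evalRingHom B j.down.1)
  have hφ : Function.Bijective φ := by
    constructor
    · intro f g hfg
      funext i
      by_cases hi : Nontrivial (B i)
      · exact congrFun hfg ⟨⟨i, hi⟩⟩
      · rw [not_nontrivial_iff_subsingleton] at hi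
        exact Subsingleton.elim _ _
    · intro g
      refine ⟨fun i => if hi : Nontrivial (B i) then g ⟨⟨i, hi⟩⟩ else 0, ?_⟩
      funext j
      have hj : Nontrivial (B j.down.1) := j.down.2
      change (if hi : Nontrivial (B j.down.1) then g ⟨⟨j.down.1, hi⟩⟩ else 0) = g j
      rw [dif_pos hj]
  refine ⟨ι, inferInstance, fun j => B j.down.1, fun j => inferInstance, hloc, ⟨?_⟩⟩
  exact (RingEquiv.ofBijective _ he.bijective_pi).trans (RingEquiv.ofBijective φ hφ)

/-- Given an étale `R`-algebra `R'` with a prime `P` over the maximal ideal with trivial residue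
field extension, over a henselian local ring there is a section `σ : R' → R` with `σ⁻¹(m) = P`. -/
theorem etale_exists_section_of_prime {R : Type u} [CommRing R] [HenselianLocalRing R]
    (R' : Type u) [CommRing R'] [Algebra R R'] [Algebra.Etale R R'] (P : Ideal R') [P.IsPrime]
    [P.LiesOver (maximalIdeal R)] (hsurj : Function.Surjective (algebraMap R P.ResidueField)) :
    ∃ σ : R' →ₐ[R] R, ∀ x, σ x ∈ maximalIdeal R ↔ x ∈ P := by
  have hker : ∀ a ∈ maximalIdeal R, (Algebra.ofId R P.ResidueField) a = 0 := by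
    intro a ha
    change algebraMap R P.ResidueField a = 0
    rw [IsScalarTower.algebraMap_apply R R' P.ResidueField, Ideal.algebraMap_residueField_eq_zero]
    exact (Ideal.mem_of_liesOver P (maximalIdeal R) a).mp ha
  let χ : ResidueField R →ₐ[R] P.ResidueField :=
    Ideal.Quotient.liftₐ (maximalIdeal R) (Algebra.ofId R P.ResidueField) hker
  have hχbij : Function.Bijective χ := by
    refine ⟨(χ : ResidueField R →+* P.ResidueField).injective, fun x => ?_⟩
    obtain ⟨r, rfl⟩ := hsurj x
    exact ⟨residue R r, rfl⟩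
  let E : ResidueField R ≃ₐ[R] P.ResidueField := AlgEquiv.ofBijective χ hχbij
  let ψ : R' →ₐ[R] ResidueField R := E.symm.toAlgHom.comp (IsScalarTower.toAlgHom R R' P.ResidueField)
  obtain ⟨σ, hσ⟩ := etale_exists_section R' ψ
  refine ⟨σ, fun x => ?_⟩
  have h1 : residue R (σ x) = ψ x := AlgHom.congr_fun hσ x
  rw [← Ideal.Quotient.eq_zero_iff_mem]
  change residue R (σ x) = 0 ↔ _
  rw [h1]
  change E.symm (algebraMap R' P.ResidueField x) = 0 ↔ _
  rw [map_eq_zero_iff _ E.symm.injective, Ideal.algebraMap_residueField_eq_zero]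

/-- A finite algebra over a henselian local ring has complete orthogonal idempotents each of which
is avoided by at most one maximal ideal. -/
theorem finite_exists_idempotents {R : Type u} [CommRing R] [HenselianLocalRing R]
    (S : Type u) [CommRing S] [Algebra R S] [Module.Finite R S] :
    ∃ (n : ℕ) (e : Fin (n + 1) → S), CompleteOrthogonalIdempotents e ∧
      ∀ i (M₁ M₂ : Ideal S), M₁.IsMaximal → M₂.IsMaximal → e i ∉ M₁ → e i ∉ M₂ → M₁ = M₂ := by
  obtain ⟨R', _, _, _, P, _, _, n, e, he, P', _, _, hbij, hP', H⟩ :=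
    Algebra.exists_etale_completeOrthogonalIdempotents_forall_liesOver_eq (R := R) (S := S)
      (maximalIdeal R)
  have hsurj : Function.Surjective (algebraMap R P.ResidueField) := by
    intro x
    obtain ⟨y, rfl⟩ := hbij.surjective x
    obtain ⟨r, rfl⟩ := Ideal.algebraMap_residueField_surjective (maximalIdeal R) y
    exact ⟨r, (AlgHom.commutes _ r).symm⟩
  obtain ⟨σ, hσ⟩ := etale_exists_section_of_prime R' P hsurj
  let π : R' ⊗[R] S →ₐ[R] S :=
    Algebra.TensorProduct.lift ((Algebra.ofId R S).comp σ) (AlgHom.id R S) (fun _ _ => Commute.all _ _)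
  have hπsurj : Function.Surjective π := fun s => ⟨1 ⊗ₜ s, by simp [π]⟩
  have hM : ∀ M : Ideal S, M.IsMaximal → (M.comap π.toRingHom).LiesOver P := by
    intro M hMmax
    have hMu : M.comap (algebraMap R S) = maximalIdeal R :=
      IsLocalRing.eq_maximalIdeal (Ideal.isMaximal_comap_of_isIntegral_of_isMaximal M)
    refine ⟨?_⟩
    ext x
    rw [Ideal.under, Ideal.mem_comap, Ideal.mem_comap, Algebra.TensorProduct.algebraMap_apply,
      Algebra.algebraMap_self, RingHom.id_apply]
    have h1 : π.toRingHom (x ⊗ₜ[R] (1 : S)) = algebraMap R S (σ x) := by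
      simp [π, Algebra.ofId_apply]
    rw [h1, ← hσ x, ← hMu, Ideal.mem_comap]
  refine ⟨n, fun i => π (e i), he.map π.toRingHom, ?_⟩
  intro i M₁ M₂ hM₁ hM₂ h₁ h₂
  have hp₁ : (M₁.comap π.toRingHom).IsPrime := Ideal.comap_isPrime _ _
  have hp₂ : (M₂.comap π.toRingHom).IsPrime := Ideal.comap_isPrime _ _
  have H₁ := H (M₁.comap π.toRingHom) hp₁ (hM M₁ hM₁)
  have H₂ := H (M₂.comap π.toRingHom) hp₂ (hM M₂ hM₂)
  induction i using Fin.lastCases with
  | last => exact absurd H₁.1 h₁
  | cast j =>
    have e₁ := H₁.2 j h₁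
    have e₂ := H₂.2 j h₂
    exact Ideal.comap_injective_of_surjective π.toRingHom hπsurj (e₁.trans e₂.symm)

/-- A finite algebra over a henselian local ring is a finite product of local rings. -/
theorem finite_exists_pi_isLocalRing {R : Type u} [CommRing R] [HenselianLocalRing R]
    (S : Type u) [CommRing S] [Algebra R S] [Module.Finite R S] :
    ∃ (ι : Type u) (_ : Fintype ι) (A : ι → Type u) (_ : ∀ i, CommRing (A i)),
      (∀ i, IsLocalRing (A i)) ∧ Nonempty (S ≃+* (∀ i, A i)) := by
  obtain ⟨n, e, he, huniq⟩ := finite_exists_idempotents (R := R) S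
  exact exists_pi_isLocalRing_of_idempotents e he huniq

end Groth.Agent.Lib.lead.HenselLocal
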