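import Mathlib
import Groth.Agent.Lib.lead.HenselLocal

namespace Groth.Agent.Lib.lead.HenselLocal

universe u

open IsLocalRing MvPolynomial

/-- Multivariate Hensel's lemma over a henselian local ring. -/
theorem exists_common_zero_of_isUnit_jacobian {A : Type u} [CommRing A] [HenselianLocalRing A] (n : ℕ)
    (P : Fin n → MvPolynomial (Fin n) A) (a₀ : Fin n → A)
    (h₀ : ∀ i, MvPolynomial.eval a₀ (P i) ∈ maximalIdeal A)
    (hJ : IsUnit (Matrix.of (fun i j => MvPolynomial.eval a₀ (MvPolynomial.pderiv j (P i)))).det) :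
    ∃ a : Fin n → A, (∀ i, MvPolynomial.eval a (P i) = 0) ∧
      ∀ j, a j - a₀ j ∈ maximalIdeal A := by
  classical
  let I₀ : Ideal (MvPolynomial (Fin n) A) := Ideal.span (Set.range P)
  let Pre : Algebra.PreSubmersivePresentation A (MvPolynomial (Fin n) A ⧸ I₀) (Fin n) (Fin n) :=
    Algebra.PreSubmersivePresentation.naive (v := P) id Function.injective_id
  let Δ : MvPolynomial (Fin n) A ⧸ I₀ := Pre.jacobian
  have hΔ : IsUnit (algebraMap _ (Localization.Away Δ) Δ) :=
    IsLocalization.Away.algebraMap_isUnit _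
  let SP : Algebra.SubmersivePresentation A (Localization.Away Δ) _ _ :=
    { toPreSubmersivePresentation :=
        .comp (.localizationAway (Localization.Away Δ) Δ) Pre,
      jacobian_isUnit := by
        simpa [Algebra.smul_def, -isUnit_map_iff, hΔ] }
  have hss : Algebra.IsStandardSmoothOfRelativeDimension 0 A (Localization.Away Δ) :=
    ⟨_, _, _, inferInstance, SP, by
      simp only [Algebra.PreSubmersivePresentation.dimension_comp_eq_dimension_add_dimension, SP]
      simp [Algebra.Presentation.dimension]⟩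
  have hetale : Algebra.Etale A (Localization.Away Δ) := inferInstance
  -- the k-point
  let ev : MvPolynomial (Fin n) A →ₐ[A] ResidueField A := aeval (fun i => residue A (a₀ i))
  have hev : ∀ p : MvPolynomial (Fin n) A, ev p = residue A (MvPolynomial.eval a₀ p) := by
    intro p
    have := MvPolynomial.aeval_algebraMap_apply (B := ResidueField A) a₀ p
    rw [MvPolynomial.aeval_eq_eval (f := a₀)] at this
    exact this
  have hevI : ∀ p ∈ I₀, ev p = 0 := by
    have : I₀ ≤ RingHom.ker ev.toRingHom := by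
      rw [Ideal.span_le]
      rintro _ ⟨i, rfl⟩
      rw [SetLike.mem_coe, RingHom.mem_ker]
      change ev (P i) = 0
      rw [hev]
      exact (Ideal.Quotient.eq_zero_iff_mem).mpr (h₀ i)
    exact fun p hp => this hp
  let ψ₀ : (MvPolynomial (Fin n) A ⧸ I₀) →ₐ[A] ResidueField A := Ideal.Quotient.liftₐ I₀ ev hevI
  have hψ₀mk : ∀ p, ψ₀ (Ideal.Quotient.mk I₀ p) = ev p := fun p => rfl
  have hΔmk : Δ = Ideal.Quotient.mk I₀ (Pre.jacobiMatrix.det) := by
    change Pre.jacobian = _
    rw [Pre.jacobian_eq_jacobiMatrix_det]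
    rfl
  have hψ₀Δ : IsUnit (ψ₀ Δ) := by
    rw [hΔmk, hψ₀mk, hev, RingHom.map_det]
    have hM : (MvPolynomial.eval a₀).mapMatrix Pre.jacobiMatrix =
        Matrix.transpose (Matrix.of (fun i j => MvPolynomial.eval a₀ (MvPolynomial.pderiv j (P i)))) := by
      ext i j
      rw [RingHom.mapMatrix_apply, Matrix.map_apply, Matrix.transpose_apply, Matrix.of_apply]
      have := Algebra.PreSubmersivePresentation.jacobiMatrix_naive (v := P) id
        Function.injective_id (Function.surjInv Ideal.Quotient.mk_surjective)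
        (by apply Function.surjInv_eq) i j
      rw [show Pre.jacobiMatrix i j = (pderiv (id i)) (P j) from this]
      rfl
    rw [hM, Matrix.det_transpose]
    exact hJ.map (residue A)
  let ψ : Localization.Away Δ →ₐ[A] ResidueField A :=
    IsLocalization.Away.liftAlgHom (f := ψ₀) Δ hψ₀Δ
  obtain ⟨s, hs⟩ := etale_exists_section (Localization.Away Δ) ψ
  let ι₀ : MvPolynomial (Fin n) A →ₐ[A] Localization.Away Δ :=
    (IsScalarTower.toAlgHom A (MvPolynomial (Fin n) A ⧸ I₀) (Localization.Away Δ)).comp
      (Ideal.Quotient.mkₐ A I₀)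
  let a : Fin n → A := fun j => s (ι₀ (X j))
  have hsa : ∀ p : MvPolynomial (Fin n) A, s (ι₀ p) = MvPolynomial.eval a p := by
    intro p
    have : s.comp ι₀ = aeval a := by
      apply MvPolynomial.algHom_ext
      intro j
      simp [a]
    rw [← AlgHom.comp_apply, this, MvPolynomial.aeval_eq_eval (f := a)]
  refine ⟨a, fun i => ?_, fun j => ?_⟩
  · rw [← hsa]
    have : ι₀ (P i) = 0 := by
      change algebraMap _ (Localization.Away Δ) (Ideal.Quotient.mk I₀ (P i)) = 0
      have : Ideal.Quotient.mk I₀ (P i) = 0 :=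
        Ideal.Quotient.eq_zero_iff_mem.mpr (Ideal.subset_span ⟨i, rfl⟩)
      rw [this, map_zero]
    rw [this, map_zero]
  · have h1 : residue A (a j) = ψ (ι₀ (X j)) := AlgHom.congr_fun hs (ι₀ (X j))
    have h2 : ψ (ι₀ (X j)) = residue A (a₀ j) := by
      change ψ (algebraMap _ (Localization.Away Δ) (Ideal.Quotient.mk I₀ (X j))) = _
      simp only [ψ, IsLocalization.Away.liftAlgHom_apply, IsLocalization.Away.lift_eq]
      change ψ₀ (Ideal.Quotient.mk I₀ (X j)) = _
      rw [hψ₀mk]
      simp [ev]
    rw [← Ideal.Quotient.eq_zero_iff_mem]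
    change residue A (a j - a₀ j) = 0
    rw [map_sub, h1, h2, sub_self]

end Groth.Agent.Lib.lead.HenselLocal
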