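import Mathlib
import Groth.Prelude.Def_EssEt
import Groth.Agent.S0501
import Groth.Agent.S17977
import Groth.Agent.S17978

/-!
# Maps from essentially étale local algebras to henselian local rings
-/

universe u

open IsLocalRing

namespace Groth.Agent.Lib.lead.EssEtale

/-- Existence of a local homomorphism from an essentially étale local algebra to a henselian local
ring inducing a prescribed map on residue fields. -/
theorem exists_localHom (A A' : Type u) [CommRing A] [IsLocalRing A]
    [CommRing A'] [IsLocalRing A'] [Algebra A A'] [IsLocalHom (algebraMap A A')]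
    (hA' : EGA4loc.IsEssentiallyEtale A A')
    (B : Type u) [CommRing B] [HenselianLocalRing B]
    (ψ : A →+* B) [IsLocalHom ψ]
    (α : ResidueField A' →+* ResidueField B)
    (hα : α.comp (ResidueField.map (algebraMap A A')) = ResidueField.map ψ) :
    ∃ ψ' : A' →+* B, IsLocalHom ψ' ∧ ψ'.comp (algebraMap A A') = ψ ∧
      ∀ x : A', residue B (ψ' x) = α (residue A' x) := by
  have hA'' := hA'
  obtain ⟨C, _, _, q, _, hEt, hq, ⟨e⟩⟩ := hA'
  letI : Algebra A B := ψ.toAlgebra
  let es : Localization.AtPrime q →+* A' := RingHomClass.toRingHom e.symm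
  have hloc_e : IsLocalHom es := inferInstance
  let τ : q.ResidueField →+* ResidueField B := α.comp (ResidueField.map es)
  have hτ : τ.comp (algebraMap A q.ResidueField) = (residue B).comp (algebraMap A B) := by
    ext a
    have h1 : algebraMap A q.ResidueField a =
        residue (Localization.AtPrime q) (algebraMap A (Localization.AtPrime q) a) := rfl
    have h2 : es (algebraMap A (Localization.AtPrime q) a) = algebraMap A A' a :=
      e.symm.commutes a
    have h3 := RingHom.congr_fun hα (residue A a)
    simp only [RingHom.comp_apply, τ, h1, ResidueField.map_residue, h2] at h3 ⊢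
    exact h3
  obtain ⟨f, ⟨hfq, hfτ⟩, -⟩ := Groth.Agent.S0501.result A B C q τ hτ
  have hunit : ∀ y : q.primeCompl, IsUnit (f (y : C)) := by
    intro y
    by_contra hn
    have h1 : f y ∈ maximalIdeal B := hn
    have h2 : (y : C) ∈ q := hfq.le h1
    exact y.2 h2
  let F : Localization.AtPrime q →ₐ[A] B :=
    IsLocalization.liftAlgHom (M := q.primeCompl) (f := f) hunit
  let ψa : A' →ₐ[A] B := F.comp e.toAlgHom
  have : IsLocalHom (algebraMap A B) := ‹IsLocalHom ψ›
  have hψloc : IsLocalHom ψa.toRingHom := Groth.Agent.S17977.result A A' hA'' B ψa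
  refine ⟨ψa.toRingHom, hψloc, ?_, ?_⟩
  · ext a
    exact ψa.commutes a
  · intro x
    have key : ((residue B).comp F.toRingHom) = (α.comp (residue A')).comp es := by
      apply IsLocalization.ringHom_ext q.primeCompl
      ext c
      have h1 : F (algebraMap C (Localization.AtPrime q) c) = f c := by
        simp [F]
      have h2 := hfτ c
      simp only [RingHom.comp_apply, τ] at h2 ⊢
      change residue B (F (algebraMap C (Localization.AtPrime q) c)) = _
      rw [h1, h2]
      rfl
    obtain ⟨y, rfl⟩ := e.symm.surjective x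
    have h3 := RingHom.congr_fun key y
    simp only [RingHom.comp_apply] at h3
    have h4 : ψa.toRingHom (e.symm y) = F y := by
      simp [ψa]
    rw [h4]
    exact h3

/-- Two ring maps from an essentially étale local algebra to a local ring, extending the same
local map from the base and inducing the same map on residue fields, are equal. -/
theorem localHom_ext (A A' : Type u) [CommRing A] [IsLocalRing A]
    [CommRing A'] [IsLocalRing A'] [Algebra A A']
    (hA' : EGA4loc.IsEssentiallyEtale A A')
    (B : Type u) [CommRing B] [IsLocalRing B] (ψ : A →+* B) [IsLocalHom ψ]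
    (ψ₁ ψ₂ : A' →+* B) (h₁ : ψ₁.comp (algebraMap A A') = ψ) (h₂ : ψ₂.comp (algebraMap A A') = ψ)
    (hres : ∀ x, residue B (ψ₁ x) = residue B (ψ₂ x)) : ψ₁ = ψ₂ := by
  letI : Algebra A B := ψ.toAlgebra
  have : IsLocalHom (algebraMap A B) := ‹IsLocalHom ψ›
  let u : A' →ₐ[A] B := { ψ₁ with commutes' := fun a => RingHom.congr_fun h₁ a }
  let v : A' →ₐ[A] B := { ψ₂ with commutes' := fun a => RingHom.congr_fun h₂ a }
  have huv := Groth.Agent.S17978.result A A' hA' B u v (RingHom.ext hres)
  ext x
  exact AlgHom.congr_fun huv x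

/-- Strict case: existence and uniqueness of the local extension. -/
theorem existsUnique_localHom_of_strict (A A' : Type u) [CommRing A] [IsLocalRing A]
    [CommRing A'] [IsLocalRing A'] [Algebra A A'] [IsLocalHom (algebraMap A A')]
    (hA' : EGA4loc.IsStrictlyEssentiallyEtale A A')
    (B : Type u) [CommRing B] [HenselianLocalRing B] (ψ : A →+* B) [IsLocalHom ψ] :
    ∃! ψ' : A' →+* B, IsLocalHom ψ' ∧ ψ'.comp (algebraMap A A') = ψ := by
  let E := RingEquiv.ofBijective (ResidueField.map (algebraMap A A')) hA'.2
  let α : ResidueField A' →+* ResidueField B :=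
    (ResidueField.map ψ).comp (E.symm : ResidueField A' →+* ResidueField A)
  have hα : α.comp (ResidueField.map (algebraMap A A')) = ResidueField.map ψ := by
    ext x
    simp only [RingHom.comp_apply, α]
    congr 1
    exact E.symm_apply_apply x
  obtain ⟨ψ', hloc, hcomp, -⟩ := exists_localHom A A' hA'.1 B ψ α hα
  refine ⟨ψ', ⟨hloc, hcomp⟩, ?_⟩
  rintro ψ₂ ⟨hloc₂, hcomp₂⟩
  apply localHom_ext A A' hA'.1 B ψ ψ₂ ψ' hcomp₂ hcomp
  have hgen : ∀ (χ : A' →+* B), IsLocalHom χ → χ.comp (algebraMap A A') = ψ →
      ∀ x a, x - algebraMap A A' a ∈ maximalIdeal A' → residue B (χ x) = residue B (ψ a) := by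
    intro χ hχ hχc x a hxa
    have h3 : χ '' (maximalIdeal A').1 ⊆ maximalIdeal B :=
      ((local_hom_TFAE χ).out 0 1).mp hχ
    have h4 : χ (x - algebraMap A A' a) ∈ maximalIdeal B := h3 ⟨_, hxa, rfl⟩
    have hx : x = algebraMap A A' a + (x - algebraMap A A' a) := by ring
    have h5 : χ (algebraMap A A' a) = ψ a := RingHom.congr_fun hχc a
    rw [hx, map_add, map_add, (residue_eq_zero_iff _).mpr h4, add_zero, h5]
  intro x
  obtain ⟨a, ha⟩ := hA'.2.surjective (residue A' x)
  obtain ⟨a, rfl⟩ := residue_surjective a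
  have hd : x - algebraMap A A' a ∈ maximalIdeal A' := by
    rw [← residue_eq_zero_iff, map_sub, ← ha, sub_eq_zero]
    rfl
  rw [hgen ψ₂ hloc₂ hcomp₂ x a hd, hgen ψ' hloc hcomp x a hd]

end Groth.Agent.Lib.lead.EssEtale
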