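import Mathlib

/-!
# Descending étale algebras along a ring map containing the coefficients of a presentation

If `Q` is an étale `R`-algebra with a submersive presentation `𝒫` (of dimension `0`) all of whose
coefficients come from `R₀ → R`, then there is an étale `R₀`-algebra `Q₀` with `R ⊗[R₀] Q₀ ≃ Q`.
-/

universe u v

open TensorProduct

namespace Groth.Agent.Lib.lead.EtaleDescent

/-- Core descent statement. -/
theorem exists_etale_model_of_hasCoeffs {R₀ : Type u} {R : Type u} {Q : Type u}
    [CommRing R₀] [CommRing R] [CommRing Q]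
    [Algebra R₀ R] [Algebra R Q] [Algebra R₀ Q] [IsScalarTower R₀ R Q]
    {ι σ : Type} [Finite σ] [Finite ι] (P : Algebra.SubmersivePresentation R Q ι σ)
    (hP : P.dimension = 0) [hc : P.HasCoeffs R₀] :
    ∃ (Q₀ : Type u) (_ : CommRing Q₀) (_ : Algebra R₀ Q₀), Algebra.Etale R₀ Q₀ ∧
      Nonempty ((R ⊗[R₀] Q₀) ≃ₐ[R] Q) := by
  classical
  let M := P.toPresentation.ModelOfHasCoeffs R₀
  let P₀ : Algebra.PreSubmersivePresentation R₀ M ι σ := P.toPreSubmersivePresentation.ofHasCoeffs R₀
  let e : R ⊗[R₀] M ≃ₐ[R] Q := P.toPresentation.tensorModelOfHasCoeffsEquiv R₀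
  let Δ : M := P₀.jacobian
  have hΔ : e (1 ⊗ₜ Δ) = P.jacobian := by
    have h1 : Δ = Ideal.Quotient.mk _ (P.jacobianOfHasCoeffs R₀) := by
      change P₀.jacobian = _
      letI := Fintype.ofFinite σ
      rw [Algebra.PreSubmersivePresentation.jacobian_eq_jacobiMatrix_det]
      unfold Algebra.SubmersivePresentation.jacobianOfHasCoeffs
      rfl
    rw [h1]
    have h2 := Algebra.Presentation.tensorModelOfHasCoeffsEquiv_tmul (P := P.toPresentation) R₀
      (1 : R) (P.jacobianOfHasCoeffs R₀)
    exact h2.trans (by rw [map_one, one_mul, Algebra.SubmersivePresentation.aeval_jacobianOfHasCoeffs])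
  obtain ⟨M', _, _, P₀', e', hΔ'⟩ : ∃ (M' : Type u) (_ : CommRing M') (_ : Algebra R₀ M')
      (P₀' : Algebra.PreSubmersivePresentation R₀ M' ι σ) (e' : R ⊗[R₀] M' ≃ₐ[R] Q),
      e' (1 ⊗ₜ P₀'.jacobian) = P.jacobian := ⟨M, inferInstance, inferInstance, P₀, e, hΔ⟩
  clear hΔ
  let Δ' : M' := P₀'.jacobian
  let T := Localization.Away Δ'
  let Q' : Algebra.PreSubmersivePresentation M' T Unit Unit :=
    Algebra.PreSubmersivePresentation.localizationAway T Δ'
  let QP : Algebra.PreSubmersivePresentation R₀ T (Unit ⊕ ι) (Unit ⊕ σ) := Q'.comp P₀'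
  have hjac : IsUnit QP.jacobian := by
    rw [Algebra.PreSubmersivePresentation.comp_jacobian_eq_jacobian_smul_jacobian,
      Algebra.PreSubmersivePresentation.localizationAway_jacobian, Algebra.smul_def]
    exact (IsLocalization.Away.algebraMap_isUnit Δ').mul (IsLocalization.Away.algebraMap_isUnit Δ')
  let SP : Algebra.SubmersivePresentation R₀ T (Unit ⊕ ι) (Unit ⊕ σ) :=
    { QP with jacobian_isUnit := hjac }
  have hdim : SP.dimension = 0 := by
    change (Q'.comp P₀').dimension = 0
    rw [Algebra.PreSubmersivePresentation.dimension_comp_eq_dimension_add_dimension]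
    have h1 : P₀'.dimension = 0 := hP
    have h2 : Q'.dimension = 0 := by simp [Algebra.Presentation.dimension]
    rw [h1, h2]
  have hst : Algebra.IsStandardSmoothOfRelativeDimension 0 R₀ T :=
    SP.isStandardSmoothOfRelativeDimension hdim
  have hEt : Algebra.Etale R₀ T := inferInstance
  refine ⟨T, inferInstance, inferInstance, hEt, ?_⟩
  letI alg : Algebra (R ⊗[R₀] M') Q := e'.toAlgHom.toRingHom.toAlgebra
  haveI : IsScalarTower R (R ⊗[R₀] M') Q := by
    refine ⟨fun x y z => ?_⟩
    change e' (x • y) * z = x • (e' y * z)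
    rw [map_smul, smul_mul_assoc]
  have hbij : Function.Bijective (@algebraMap (R ⊗[R₀] M') Q _ _ alg) := e'.bijective
  have hunit : IsUnit ((1 : R) ⊗ₜ[R₀] Δ') := by
    have h1 : IsUnit (e' (1 ⊗ₜ Δ')) := by rw [hΔ']; exact P.jacobian_isUnit
    have := h1.map e'.symm
    rwa [AlgEquiv.symm_apply_apply] at this
  haveI : IsLocalization ((Submonoid.powers Δ').map
      (Algebra.TensorProduct.includeRight (R := R₀) (A := R))) Q := by
    rw [Submonoid.map_powers]
    exact IsLocalization.away_of_isUnit_of_bijective Q hunit hbij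
  exact ⟨IsLocalization.tensorProductEquivOfMapIncludeRight R₀ R (Submonoid.powers Δ') T Q⟩

end Groth.Agent.Lib.lead.EtaleDescent
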