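import Mathlib
import Groth.Prelude.Def_EssEt
import Groth.Agent.Lib.lead.EtaleDescent

/-!
# Transitivity of essentially étale local algebras
-/

universe u

open TensorProduct

namespace Groth.Agent.Lib.lead.EssEtaleTrans

theorem trans_core {P : Type u} [CommRing P] (q : Ideal P) [q.IsPrime]
    (B : Type u) [CommRing B] [Algebra P B] [IsLocalization.AtPrime B q]
    (Q : Type u) [CommRing Q] [Algebra B Q] [Algebra P Q] [IsScalarTower P B Q] [Algebra.Etale B Q]
    (r : Ideal Q) [r.IsPrime] :
    ∃ (P' : Type u) (_ : CommRing P') (_ : Algebra P P'), Algebra.Etale P P' ∧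
      ∃ (r' : Ideal P') (_ : r'.IsPrime),
        Nonempty (Localization.AtPrime r' ≃ₐ[P] Localization.AtPrime r) := by
  classical
  obtain ⟨ι, σ, hσ, hι, Pr, hPr⟩ :=
    (Algebra.Etale.iff_isStandardSmoothOfRelativeDimension_zero.mp
      (inferInstance : Algebra.Etale B Q)).out
  -- common denominator
  obtain ⟨b, hb⟩ := IsLocalization.exist_integer_multiples_of_finset q.primeCompl
    (S := B) Pr.finite_coeffs.toFinset
  let R₀ := Localization.Away (b : P)
  have hbu : IsUnit (algebraMap P B (b : P)) := IsLocalization.map_units B b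
  letI algR₀B : Algebra R₀ B := (IsLocalization.Away.lift (b : P) hbu).toAlgebra
  haveI tw1 : IsScalarTower P R₀ B := IsScalarTower.of_algebraMap_eq (fun x => by
    rw [RingHom.algebraMap_toAlgebra, IsLocalization.Away.lift_eq])
  letI algR₀Q : Algebra R₀ Q := ((algebraMap B Q).comp (algebraMap R₀ B)).toAlgebra
  haveI tw2 : IsScalarTower R₀ B Q := IsScalarTower.of_algebraMap_eq (fun x => rfl)
  haveI tw3 : IsScalarTower P R₀ Q := IsScalarTower.of_algebraMap_eq (fun x => by
    rw [IsScalarTower.algebraMap_apply R₀ B Q, ← IsScalarTower.algebraMap_apply P R₀ B,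
      ← IsScalarTower.algebraMap_apply P B Q])
  haveI hc : Pr.HasCoeffs R₀ := ⟨fun a ha => by
    obtain ⟨c, hc⟩ := hb a (by simpa using ha)
    refine ⟨IsLocalization.mk' R₀ c (⟨(b : P), Submonoid.mem_powers _⟩ : Submonoid.powers (b : P)), ?_⟩
    have h1 : IsLocalization.mk' R₀ c (⟨(b : P), Submonoid.mem_powers _⟩ : Submonoid.powers (b : P)) *
        algebraMap P R₀ (b : P) = algebraMap P R₀ c := IsLocalization.mk'_spec _ _ _
    have h2 := congrArg (algebraMap R₀ B) h1
    rw [map_mul, ← IsScalarTower.algebraMap_apply P R₀ B, ← IsScalarTower.algebraMap_apply P R₀ B,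
      hc, Algebra.smul_def, mul_comm] at h2
    exact hbu.mul_left_cancel h2⟩
  obtain ⟨Q₀, _, _, hEt, ⟨e⟩⟩ :=
    Groth.Agent.Lib.lead.EtaleDescent.exists_etale_model_of_hasCoeffs (R₀ := R₀) Pr hPr
  -- `Q₀` as a `P`-algebra
  letI algPQ₀ : Algebra P Q₀ := Algebra.compHom Q₀ (algebraMap P R₀)
  haveI tw4 : IsScalarTower P R₀ Q₀ := IsScalarTower.of_algebraMap_eq (fun x => rfl)
  haveI hEtP : Algebra.Etale P Q₀ := Algebra.Etale.comp P R₀ Q₀
  refine ⟨Q₀, inferInstance, algPQ₀, hEtP, ?_⟩
  -- `B` is a localization of `R₀`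
  have hle : Submonoid.powers (b : P) ≤ q.primeCompl := by
    rw [Submonoid.powers_le]; exact b.2
  haveI locB : IsLocalization (q.primeCompl.map (algebraMap P R₀)) B :=
    IsLocalization.isLocalization_of_submonoid_le R₀ B (Submonoid.powers (b : P)) q.primeCompl hle
  -- the map `Q₀ → Q`
  let φ : Q₀ →ₐ[R₀] Q := (e.toAlgHom.restrictScalars R₀).comp
    (Algebra.TensorProduct.includeRight : Q₀ →ₐ[R₀] B ⊗[R₀] Q₀)
  letI algQ₀Q : Algebra Q₀ Q := φ.toRingHom.toAlgebra
  haveI tw5 : IsScalarTower R₀ Q₀ Q := IsScalarTower.of_algebraMap_eq (fun x => (φ.commutes x).symm)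
  haveI tw6 : IsScalarTower P Q₀ Q := IsScalarTower.of_algebraMap_eq (fun x => by
    rw [IsScalarTower.algebraMap_apply P R₀ Q₀, ← IsScalarTower.algebraMap_apply R₀ Q₀ Q,
      ← IsScalarTower.algebraMap_apply P R₀ Q])
  -- `Q` is a localization of `Q₀`
  let M₀ : Submonoid R₀ := q.primeCompl.map (algebraMap P R₀)
  haveI locQ : IsLocalization (Algebra.algebraMapSubmonoid Q₀ M₀) Q := by
    letI : Algebra Q₀ (B ⊗[R₀] Q₀) := Algebra.TensorProduct.rightAlgebra
    haveI h1 : IsLocalization (Algebra.algebraMapSubmonoid Q₀ M₀) (B ⊗[R₀] Q₀) :=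
      IsLocalization.tensorRight (R := R₀) (S := Q₀) B M₀
    let e' : (B ⊗[R₀] Q₀) ≃ₐ[Q₀] Q :=
      { e.toRingEquiv with
        commutes' := fun x => rfl }
    exact IsLocalization.isLocalization_of_algEquiv (Algebra.algebraMapSubmonoid Q₀ M₀) e'
  -- localization of localization
  let r' : Ideal Q₀ := r.comap (algebraMap Q₀ Q)
  haveI hr' : r'.IsPrime := Ideal.comap_isPrime _ _
  haveI locR : IsLocalization.AtPrime (Localization.AtPrime r) r' :=
    IsLocalization.isLocalization_isLocalization_atPrime_isLocalization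
      (Algebra.algebraMapSubmonoid Q₀ M₀) (Localization.AtPrime r) r
  refine ⟨r', hr', ⟨?_⟩⟩
  haveI tw7 : IsScalarTower P Q₀ (Localization.AtPrime r) := IsScalarTower.of_algebraMap_eq (fun x => by
    rw [IsScalarTower.algebraMap_apply P Q (Localization.AtPrime r),
      IsScalarTower.algebraMap_apply Q₀ Q (Localization.AtPrime r),
      ← IsScalarTower.algebraMap_apply P Q₀ Q])
  exact (IsLocalization.algEquiv r'.primeCompl (Localization.AtPrime r')
    (Localization.AtPrime r)).restrictScalars P


open IsLocalRing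

theorem isLocalHom_of_comap_eq {A P : Type*} [CommRing A] [IsLocalRing A] [CommRing P] [Algebra A P]
    (q : Ideal P) [q.IsPrime] (h : q.comap (algebraMap A P) = maximalIdeal A) :
    IsLocalHom (algebraMap A (Localization.AtPrime q)) := by
  refine ⟨fun a ha => ?_⟩
  by_contra hn
  have h1 : a ∈ maximalIdeal A := hn
  have h2 : algebraMap A P a ∈ q := by rw [← h] at h1; exact h1
  have h3 := (IsLocalization.AtPrime.to_map_mem_maximal_iff (Localization.AtPrime q) q _).mpr h2
  rw [← IsScalarTower.algebraMap_apply] at h3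
  exact h3 ha

theorem comap_eq_of_isLocalHom {A P : Type*} [CommRing A] [IsLocalRing A] [CommRing P] [Algebra A P]
    (q : Ideal P) [q.IsPrime] (h : IsLocalHom (algebraMap A (Localization.AtPrime q))) :
    q.comap (algebraMap A P) = maximalIdeal A := by
  ext a
  rw [Ideal.mem_comap, ← IsLocalization.AtPrime.to_map_mem_maximal_iff (Localization.AtPrime q) q,
    ← IsScalarTower.algebraMap_apply, mem_maximalIdeal, mem_maximalIdeal, mem_nonunits_iff,
    mem_nonunits_iff, not_iff_not]
  exact ⟨fun hu => h.map_nonunit a hu, fun hu => hu.map _⟩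

theorem isLocalHom_of_algEquiv {A X Y : Type*} [CommRing A] [CommRing X] [CommRing Y]
    [Algebra A X] [Algebra A Y] (e : Y ≃ₐ[A] X) [h : IsLocalHom (algebraMap A X)] :
    IsLocalHom (algebraMap A Y) := by
  refine ⟨fun a ha => ?_⟩
  have := ha.map e
  rw [e.commutes] at this
  exact h.map_nonunit a this


/-- Transitivity of essentially étale local algebras. -/
theorem isEssentiallyEtale_trans (A : Type u) [CommRing A] [IsLocalRing A]
    (B : Type u) [CommRing B] [IsLocalRing B] [Algebra A B]
    (C : Type u) [CommRing C] [Algebra B C] [Algebra A C] [IsScalarTower A B C]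
    (hB : EGA4loc.IsEssentiallyEtale A B) (hC : EGA4loc.IsEssentiallyEtale B C) :
    EGA4loc.IsEssentiallyEtale A C := by
  obtain ⟨P, _, _, q, hq, hEtP, hqA, ⟨eB⟩⟩ := hB
  obtain ⟨Q, _, _, r, hr, hEtQ, hrB, ⟨eC⟩⟩ := hC
  -- `B` as a `P`-algebra
  letI algPB : Algebra P B :=
    ((eB.symm : Localization.AtPrime q →+* B).comp (algebraMap P (Localization.AtPrime q))).toAlgebra
  haveI twAPB : IsScalarTower A P B := IsScalarTower.of_algebraMap_eq (fun a => by
    change algebraMap A B a = eB.symm (algebraMap P (Localization.AtPrime q) (algebraMap A P a))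
    rw [← IsScalarTower.algebraMap_apply A P (Localization.AtPrime q), eB.symm.commutes])
  let eB' : Localization.AtPrime q ≃ₐ[P] B :=
    { eB.symm.toRingEquiv with commutes' := fun x => rfl }
  haveI locB : IsLocalization.AtPrime B q :=
    IsLocalization.isLocalization_of_algEquiv q.primeCompl eB'
  letI algPQ : Algebra P Q := Algebra.compHom Q (algebraMap P B)
  haveI twPBQ : IsScalarTower P B Q := IsScalarTower.of_algebraMap_eq (fun x => rfl)
  letI algAQ : Algebra A Q := Algebra.compHom Q (algebraMap A B)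
  haveI twABQ : IsScalarTower A B Q := IsScalarTower.of_algebraMap_eq (fun x => rfl)
  haveI twAPQ : IsScalarTower A P Q := IsScalarTower.of_algebraMap_eq (fun x => by
    rw [IsScalarTower.algebraMap_apply A B Q, IsScalarTower.algebraMap_apply A P B,
      ← IsScalarTower.algebraMap_apply P B Q])
  obtain ⟨P', _, _, hEtP', r', hr', ⟨ψ⟩⟩ := trans_core q B Q r
  letI algAP' : Algebra A P' := Algebra.compHom P' (algebraMap A P)
  haveI twAPP' : IsScalarTower A P P' := IsScalarTower.of_algebraMap_eq (fun x => rfl)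
  haveI hEtAP' : Algebra.Etale A P' := Algebra.Etale.comp A P P'
  haveI tw1 : IsScalarTower A B (Localization.AtPrime r) := IsScalarTower.of_algebraMap_eq (fun x => by
    rw [IsScalarTower.algebraMap_apply A Q (Localization.AtPrime r),
      IsScalarTower.algebraMap_apply B Q (Localization.AtPrime r),
      ← IsScalarTower.algebraMap_apply A B Q])
  haveI tw2 : IsScalarTower A P (Localization.AtPrime r) := IsScalarTower.of_algebraMap_eq (fun x => by
    rw [IsScalarTower.algebraMap_apply A Q (Localization.AtPrime r),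
      IsScalarTower.algebraMap_apply P Q (Localization.AtPrime r),
      ← IsScalarTower.algebraMap_apply A P Q])
  haveI tw3 : IsScalarTower A P (Localization.AtPrime r') := IsScalarTower.of_algebraMap_eq (fun x => by
    rw [IsScalarTower.algebraMap_apply A P' (Localization.AtPrime r'),
      IsScalarTower.algebraMap_apply P P' (Localization.AtPrime r'),
      ← IsScalarTower.algebraMap_apply A P P'])
  let e1 : C ≃ₐ[A] Localization.AtPrime r := eC.restrictScalars A
  let e2 : Localization.AtPrime r ≃ₐ[A] Localization.AtPrime r' := ψ.symm.restrictScalars A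
  -- local homomorphisms
  haveI l1 : IsLocalHom (algebraMap A (Localization.AtPrime q)) := isLocalHom_of_comap_eq q hqA
  haveI l2 : IsLocalHom (algebraMap A B) := isLocalHom_of_algEquiv eB
  haveI l3 : IsLocalHom (algebraMap B (Localization.AtPrime r)) := isLocalHom_of_comap_eq r hrB
  haveI l4 : IsLocalHom (algebraMap A (Localization.AtPrime r)) := by
    rw [IsScalarTower.algebraMap_eq A B (Localization.AtPrime r)]
    exact RingHom.isLocalHom_comp _ _
  haveI l5 : IsLocalHom (algebraMap A (Localization.AtPrime r')) := isLocalHom_of_algEquiv e2.symm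
  exact ⟨P', inferInstance, inferInstance, r', hr', hEtAP', comap_eq_of_isLocalHom r' l5,
    ⟨e1.trans e2⟩⟩

end Groth.Agent.Lib.lead.EssEtaleTrans
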