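import Mathlib
import Groth.Prelude.Def_EssEt
import Groth.Agent.Lib.lead.EssEtale
import Groth.Agent.Lib.lead.EssEtaleTrans
import Groth.Agent.S2780

/-!
# Henselization, part 1: pointed étale algebras and elementary extensions
-/

universe u

open IsLocalRing TensorProduct Polynomial

namespace Groth.Agent.Lib.lead.Hzn

variable (R : Type u) [CommRing R] [IsLocalRing R]

/-- the kernel of a point `χ : C → k` -/
noncomputable abbrev pker {C : Type*} [CommRing C] [Algebra R C] (χ : C →ₐ[R] ResidueField R) : Ideal C :=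
  RingHom.ker χ.toRingHom

instance {C : Type*} [CommRing C] [Algebra R C] (χ : C →ₐ[R] ResidueField R) :
    (pker R χ).IsPrime := RingHom.ker_isPrime _

variable {R}

theorem mem_pker {C : Type*} [CommRing C] [Algebra R C] (χ : C →ₐ[R] ResidueField R) (c : C) :
    c ∈ pker R χ ↔ χ c = 0 := RingHom.mem_ker

instance isLocalHom_pointed {C : Type*} [CommRing C] [Algebra R C] (χ : C →ₐ[R] ResidueField R) :
    IsLocalHom (algebraMap R (Localization.AtPrime (pker R χ))) := by
  apply Groth.Agent.Lib.lead.EssEtaleTrans.isLocalHom_of_comap_eq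
  ext a
  rw [Ideal.mem_comap, mem_pker, χ.commutes]
  exact residue_eq_zero_iff a

theorem residue_bijective_pointed {C : Type*} [CommRing C] [Algebra R C]
    (χ : C →ₐ[R] ResidueField R) :
    Function.Bijective (ResidueField.map (algebraMap R (Localization.AtPrime (pker R χ)))) := by
  set q₃ := pker R χ
  have hmem : ∀ t, t ∈ q₃ ↔ χ t = 0 := fun t => RingHom.mem_ker
  have hχA : ∀ a : R, χ (algebraMap R _ a) = residue R a := fun a => χ.commutes a
  refine ⟨RingHom.injective _, ?_⟩
  intro y
  obtain ⟨x, rfl⟩ := residue_surjective y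
  obtain ⟨c, s, rfl⟩ := IsLocalization.exists_mk'_eq q₃.primeCompl x
  obtain ⟨a, ha⟩ := residue_surjective (χ c)
  obtain ⟨b, hb⟩ := residue_surjective (χ (s : C))
  have hbu : IsUnit b := by
    by_contra hn
    have h1 : b ∈ maximalIdeal R := hn
    have h2 : χ (s : C) = 0 := by rw [← hb]; exact (residue_eq_zero_iff _).mpr h1
    exact s.2 ((hmem _).mpr h2)
  obtain ⟨b, rfl⟩ := hbu
  refine ⟨residue R (a * ((b⁻¹ : Rˣ) : R)), ?_⟩
  rw [ResidueField.map_residue, ← sub_eq_zero, ← map_sub, residue_eq_zero_iff]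
  set z := algebraMap R (Localization.AtPrime q₃) (a * ((b⁻¹ : Rˣ) : R)) -
    IsLocalization.mk' (Localization.AtPrime q₃) c s with hz
  have hsu : IsUnit (algebraMap C (Localization.AtPrime q₃) s) :=
    IsLocalization.map_units _ s
  have h1 : z * algebraMap C (Localization.AtPrime q₃) s =
      algebraMap C (Localization.AtPrime q₃)
        (algebraMap R C (a * ((b⁻¹ : Rˣ) : R)) * s - c) := by
    have e1 : algebraMap R (Localization.AtPrime q₃) (a * ((b⁻¹ : Rˣ) : R)) =
        algebraMap C (Localization.AtPrime q₃)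
          (algebraMap R C (a * ((b⁻¹ : Rˣ) : R))) :=
      IsScalarTower.algebraMap_apply _ _ _ _
    rw [hz, sub_mul, IsLocalization.mk'_spec, e1, ← map_mul, ← map_sub]
  have h2 : algebraMap R C (a * ((b⁻¹ : Rˣ) : R)) * s - c ∈ q₃ := by
    rw [hmem, map_sub, map_mul, hχA, ← hb, ← ha, ← map_mul, ← map_sub]
    have : a * ((b⁻¹ : Rˣ) : R) * (b : R) - a = 0 := by
      rw [mul_assoc, Units.inv_mul, mul_one, sub_self]
    rw [this, map_zero]
  have h3 := (IsLocalization.AtPrime.to_map_mem_maximal_iff (Localization.AtPrime q₃) q₃ _).mpr h2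
  rw [← h1] at h3
  exact ((maximalIdeal.isMaximal _).isPrime.mem_or_mem h3).resolve_right
    (fun h => h hsu)

theorem essEtale_pointed {C : Type u} [CommRing C] [Algebra R C] [Algebra.Etale R C]
    (χ : C →ₐ[R] ResidueField R) :
    EGA4loc.IsEssentiallyEtale R (Localization.AtPrime (pker R χ)) := by
  refine ⟨C, inferInstance, inferInstance, pker R χ, inferInstance, inferInstance, ?_, ⟨AlgEquiv.refl⟩⟩
  ext a
  rw [Ideal.mem_comap, mem_pker, χ.commutes]
  exact residue_eq_zero_iff a

theorem strict_pointed {C : Type u} [CommRing C] [Algebra R C] [Algebra.Etale R C]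
    (χ : C →ₐ[R] ResidueField R) :
    EGA4loc.IsStrictlyEssentiallyEtale R (Localization.AtPrime (pker R χ)) :=
  ⟨essEtale_pointed χ, residue_bijective_pointed χ⟩

end Groth.Agent.Lib.lead.Hzn
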