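import Mathlib
import Groth.Agent.Lib.lead.Hzn1

/-!
# Henselization, part 2: the elementary extension adjoining a simple root
-/

universe u

open IsLocalRing TensorProduct Polynomial

namespace Groth.Agent.Lib.lead.Hzn

/-- Elementary étale extension: for a monic polynomial `p` over a local ring `E` with a simple root
`b` modulo the maximal ideal, there is a strictly essentially étale local `E`-algebra in which `p`
has a root congruent to `b`. -/
theorem exists_elementary_extension (E : Type u) [CommRing E] [IsLocalRing E]
    (p : E[X]) (hp : p.Monic) (b : E) (hb : p.eval b ∈ maximalIdeal E)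
    (hb' : IsUnit (p.derivative.eval b)) :
    ∃ (E' : Type u) (_ : CommRing E') (_ : IsLocalRing E') (_ : Algebra E E')
      (_ : IsLocalHom (algebraMap E E')),
      EGA4loc.IsStrictlyEssentiallyEtale E E' ∧
      ∃ r : E', (p.map (algebraMap E E')).eval r = 0 ∧ r - algebraMap E E' b ∈ maximalIdeal E' := by
  let P : StandardEtalePair E := ⟨p, hp, derivative p, ⟨1, 0, 1, by simp⟩⟩
  have hmap : P.HasMap (residue E b) := by
    refine ⟨?_, ?_⟩
    · change aeval (algebraMap E (ResidueField E) b) p = 0
      rw [Polynomial.aeval_algebraMap_apply, Polynomial.coe_aeval_eq_eval]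
      exact (residue_eq_zero_iff _).mpr hb
    · change IsUnit (aeval (algebraMap E (ResidueField E) b) (derivative p))
      rw [Polynomial.aeval_algebraMap_apply, Polynomial.coe_aeval_eq_eval]
      exact hb'.map _
  let χ : P.Ring →ₐ[E] ResidueField E := P.lift (residue E b) hmap
  refine ⟨Localization.AtPrime (pker E χ), inferInstance, inferInstance, inferInstance,
    inferInstance, strict_pointed χ, algebraMap P.Ring _ P.X, ?_, ?_⟩
  · rw [Polynomial.eval_map, ← Polynomial.aeval_def, Polynomial.aeval_algebraMap_apply]
    have : aeval P.X p = 0 := P.hasMap_X.1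
    rw [this, map_zero]
  · rw [IsScalarTower.algebraMap_apply E P.Ring (Localization.AtPrime (pker E χ)), ← map_sub,
      IsLocalization.AtPrime.to_map_mem_maximal_iff (Localization.AtPrime (pker E χ)) (pker E χ),
      mem_pker, map_sub, χ.commutes]
    have : χ P.X = residue E b := P.lift_X _ hmap
    rw [this]
    exact sub_self _

end Groth.Agent.Lib.lead.Hzn
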