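import Mathlib
import Groth.Agent.Lib.lead.Hzn2

/-!
# Henselization, part 3: a small skeleton of strictly essentially étale local algebras
-/

universe u

open IsLocalRing TensorProduct Polynomial

namespace Groth.Agent.Lib.lead.Hzn

/-- Index type: presentations of pointed étale algebras. -/
structure Idx (R : Type u) [CommRing R] [IsLocalRing R] : Type u where
  n : ℕ
  I : Ideal (MvPolynomial (Fin n) R)
  χ : (MvPolynomial (Fin n) R ⧸ I) →ₐ[R] ResidueField R
  etale : Algebra.Etale R (MvPolynomial (Fin n) R ⧸ I)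

variable {R : Type u} [CommRing R] [IsLocalRing R]

/-- the local ring attached to an index -/
abbrev Idx.Ring (j : Idx R) : Type u := Localization.AtPrime (pker R j.χ)

theorem Idx.strict (j : Idx R) : EGA4loc.IsStrictlyEssentiallyEtale R j.Ring := by
  haveI := j.etale
  exact strict_pointed j.χ

/-- every strictly essentially étale local algebra is isomorphic to a member of the skeleton -/
theorem exists_idx (B : Type u) [CommRing B] [IsLocalRing B] [Algebra R B]
    [IsLocalHom (algebraMap R B)] (hB : EGA4loc.IsStrictlyEssentiallyEtale R B) :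
    ∃ j : Idx R, Nonempty (B ≃ₐ[R] j.Ring) := by
  obtain ⟨C, _, _, hEt, q, hq, χ, hχ, ⟨e⟩⟩ := Groth.Agent.S2780.exists_model R B hB
  obtain ⟨n, f, hf⟩ := Algebra.FiniteType.iff_quotient_mvPolynomial''.mp
    (inferInstance : Algebra.FiniteType R C)
  let ε : (MvPolynomial (Fin n) R ⧸ RingHom.ker f.toRingHom) ≃ₐ[R] C :=
    Ideal.quotientKerAlgEquivOfSurjective hf
  let j : Idx R := ⟨n, RingHom.ker f.toRingHom, χ.comp ε.toAlgHom, Algebra.Etale.of_equiv ε.symm⟩
  refine ⟨j, ⟨e.trans ?_⟩⟩
  symm
  refine IsLocalization.algEquivOfAlgEquiv (M := (pker R j.χ).primeCompl) (T := q.primeCompl)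
    j.Ring (Localization.AtPrime q) ε ?_
  ext x
  simp only [Submonoid.mem_map, Ideal.mem_primeCompl_iff]
  constructor
  · rintro ⟨y, hy, rfl⟩
    intro h
    apply hy
    rw [mem_pker]
    exact (hχ _).mpr h
  · intro hx
    refine ⟨ε.symm x, ?_, ε.apply_symm_apply x⟩
    intro h
    apply hx
    rw [mem_pker] at h
    have : χ (ε (ε.symm x)) = 0 := h
    rw [ε.apply_symm_apply] at this
    exact (hχ _).mp this


/-- the residue class of an element of a strict algebra comes from `R` -/
theorem exists_sub_mem_maximalIdeal (B : Type u) [CommRing B] [IsLocalRing B] [Algebra R B]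
    [IsLocalHom (algebraMap R B)] (hB : EGA4loc.IsStrictlyEssentiallyEtale R B) (x : B) :
    ∃ a : R, x - algebraMap R B a ∈ maximalIdeal B := by
  obtain ⟨y, hy⟩ := hB.2.2 (residue B x)
  obtain ⟨a, rfl⟩ := residue_surjective y
  refine ⟨a, ?_⟩
  rw [← residue_eq_zero_iff, map_sub, sub_eq_zero, ← hy]
  rfl

/-- algebra maps between strictly essentially étale local algebras are unique -/
theorem algHom_ext_strict (B B' : Type u) [CommRing B] [IsLocalRing B] [Algebra R B]
    [IsLocalHom (algebraMap R B)] [CommRing B'] [IsLocalRing B'] [Algebra R B']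
    [IsLocalHom (algebraMap R B')] (hB : EGA4loc.IsStrictlyEssentiallyEtale R B)
    (φ ψ : B →ₐ[R] B') : φ = ψ := by
  apply Groth.Agent.S17978.result R B hB.1 B' φ ψ
  have key : ∀ (θ : B →ₐ[R] B') (x : B) (a : R), x - algebraMap R B a ∈ maximalIdeal B →
      residue B' (θ x) = residue B' (algebraMap R B' a) := by
    intro θ x a hxa
    have hloc : IsLocalHom θ.toRingHom := Groth.Agent.S17977.result R B hB.1 B' θ
    rw [← sub_eq_zero, ← map_sub, residue_eq_zero_iff, ← θ.commutes a, ← map_sub]
    intro hu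
    exact hxa (hloc.map_nonunit _ hu)
  ext x
  obtain ⟨a, ha⟩ := exists_sub_mem_maximalIdeal B hB x
  simp only [RingHom.comp_apply]
  exact (key φ x a ha).trans (key ψ x a ha).symm

end Groth.Agent.Lib.lead.Hzn
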