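import Mathlib
import Groth.Agent.Lib.lead.Hzn3
import Groth.Agent.Lib.helper3.HensColim

/-!
# Henselization, part 4: the directed system and its colimit
-/

universe u

open IsLocalRing TensorProduct Polynomial

namespace Groth.Agent.Lib.lead.Hzn

variable {R : Type u} [CommRing R] [IsLocalRing R]

instance : Preorder (Idx R) where
  le i j := Nonempty (i.Ring →ₐ[R] j.Ring)
  le_refl i := ⟨AlgHom.id R _⟩
  le_trans i j k := fun ⟨f⟩ ⟨g⟩ => ⟨g.comp f⟩

/-- the transition maps -/
noncomputable def tr (i j : Idx R) (h : i ≤ j) : i.Ring →ₐ[R] j.Ring := Classical.choice h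

theorem tr_unique (i j : Idx R) (φ ψ : i.Ring →ₐ[R] j.Ring) : φ = ψ :=
  algHom_ext_strict i.Ring j.Ring i.strict φ ψ

instance : IsDirectedOrder (Idx R) := ⟨fun i j => by
  obtain ⟨A₃, _, _, _, _, h3, ⟨f⟩, ⟨g⟩⟩ :=
    Groth.Agent.S2780.result R i.Ring j.Ring i.strict j.strict
  obtain ⟨k, ⟨e⟩⟩ := exists_idx A₃ h3
  exact ⟨k, ⟨e.toAlgHom.comp f⟩, ⟨e.toAlgHom.comp g⟩⟩⟩

instance : Nonempty (Idx R) := by
  let χ₀ : R →ₐ[R] ResidueField R := Algebra.ofId R (ResidueField R)
  obtain ⟨j, -⟩ := exists_idx (Localization.AtPrime (pker R χ₀)) (strict_pointed χ₀)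
  exact ⟨j⟩

/-- transition maps as ring homomorphisms -/
noncomputable def trR (i j : Idx R) (h : i ≤ j) : i.Ring →+* j.Ring := (tr i j h).toRingHom

instance : DirectedSystem (fun j : Idx R => j.Ring) (fun i j h => trR i j h) where
  map_self i x := by
    have : tr i i le_rfl = AlgHom.id R _ := tr_unique i i _ _
    change tr i i le_rfl x = x
    rw [this]; rfl
  map_map k j i hij hjk x := by
    have : (tr j k hjk).comp (tr i j hij) = tr i k (hij.trans hjk) := tr_unique i k _ _
    change tr j k hjk (tr i j hij x) = tr i k (hij.trans hjk) x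
    rw [← this]; rfl

variable (R)

/-- the henselization of `R` -/
def Hzn : Type u := Ring.DirectLimit (fun j : Idx R => j.Ring) (fun i j h => trR i j h)

noncomputable instance : CommRing (Hzn R) := by unfold Hzn; infer_instance

variable {R}

/-- canonical maps -/
noncomputable def ofIdx (i : Idx R) : i.Ring →+* Hzn R :=
  Ring.DirectLimit.of (fun j : Idx R => j.Ring) (fun i j h => trR i j h) i

theorem ofIdx_tr (i j : Idx R) (h : i ≤ j) (x : i.Ring) : ofIdx j (trR i j h x) = ofIdx i x :=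
  Ring.DirectLimit.of_f h x

theorem isLocalHom_trR (i j : Idx R) (h : i ≤ j) : IsLocalHom (trR i j h) :=
  Groth.Agent.S17977.result R i.Ring i.strict.1 j.Ring (tr i j h)

theorem hyp : Groth.Agent.Lib.helper3.HensColim.Hyp (fun i : Idx R => ofIdx i) where
  dir i j := by
    obtain ⟨k, hik, hjk⟩ := exists_ge_ge i j
    exact ⟨k, trR i k hik, trR j k hjk, isLocalHom_trR i k hik, isLocalHom_trR j k hjk,
      ofIdx_tr i k hik, ofIdx_tr j k hjk⟩
  ker i x hx := by
    obtain ⟨j, hij, h0⟩ := Ring.DirectLimit.of.zero_exact (f' := fun i j h => trR i j h) hx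
    exact ⟨j, trR i j hij, isLocalHom_trR i j hij, ofIdx_tr i j hij, h0⟩
  surj z := Ring.DirectLimit.exists_of z

end Groth.Agent.Lib.lead.Hzn
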