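import Mathlib
import Groth.Agent.Lib.lead.Hzn4

/-!
# Henselization, part 5: the colimit is a henselian local ring
-/

universe u

open IsLocalRing TensorProduct Polynomial

namespace Groth.Agent.Lib.lead.Hzn

variable {R : Type u} [CommRing R] [IsLocalRing R]

/-- transitivity for strictly essentially étale local algebras -/
theorem strict_trans (E : Type u) [CommRing E] [IsLocalRing E] [Algebra R E]
    [IsLocalHom (algebraMap R E)] (hE : EGA4loc.IsStrictlyEssentiallyEtale R E)
    (E' : Type u) [CommRing E'] [IsLocalRing E'] [Algebra E E'] [IsLocalHom (algebraMap E E')]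
    (hE' : EGA4loc.IsStrictlyEssentiallyEtale E E') [Algebra R E'] [IsScalarTower R E E'] :
    ∃ _ : IsLocalHom (algebraMap R E'), EGA4loc.IsStrictlyEssentiallyEtale R E' := by
  have hloc : IsLocalHom (algebraMap R E') := by
    rw [IsScalarTower.algebraMap_eq R E E']
    exact RingHom.isLocalHom_comp _ _
  refine ⟨hloc, Groth.Agent.Lib.lead.EssEtaleTrans.isEssentiallyEtale_trans R E E' hE.1 hE'.1, ?_⟩
  have h1 : ResidueField.map (algebraMap R E') =
      (ResidueField.map (algebraMap E E')).comp (ResidueField.map (algebraMap R E)) := by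
    ext x
    obtain ⟨a, rfl⟩ := residue_surjective x
    simp only [RingHom.comp_apply, ResidueField.map_residue]
    rw [IsScalarTower.algebraMap_apply R E E']
  rw [h1]
  exact hE'.2.comp hE.2

instance : IsLocalRing (Hzn R) := (hyp (R := R)).isLocalRing

instance (i : Idx R) : IsLocalHom (ofIdx i) := (hyp (R := R)).isLocalHom i

noncomputable instance : Algebra R (Hzn R) :=
  ((ofIdx (Classical.arbitrary (Idx R))).comp
    (algebraMap R (Classical.arbitrary (Idx R)).Ring)).toAlgebra

theorem ofIdx_algebraMap (i : Idx R) (a : R) :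
    ofIdx i (algebraMap R i.Ring a) = algebraMap R (Hzn R) a := by
  obtain ⟨k, hik, h0k⟩ := exists_ge_ge i (Classical.arbitrary (Idx R))
  have h1 : ofIdx i (algebraMap R i.Ring a) = ofIdx k (algebraMap R k.Ring a) := by
    rw [← ofIdx_tr i k hik]
    congr 1
    exact (tr i k hik).commutes a
  have h2 : ofIdx (Classical.arbitrary (Idx R)) (algebraMap R _ a) =
      ofIdx k (algebraMap R k.Ring a) := by
    rw [← ofIdx_tr _ k h0k]
    congr 1
    exact (tr _ k h0k).commutes a
  rw [h1, ← h2]
  rfl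

instance : IsLocalHom (algebraMap R (Hzn R)) := by
  refine ⟨fun a ha => ?_⟩
  rw [← ofIdx_algebraMap (Classical.arbitrary (Idx R))] at ha
  have h1 := (inferInstance : IsLocalHom (ofIdx (Classical.arbitrary (Idx R)))).map_nonunit _ ha
  exact (inferInstance : IsLocalHom (algebraMap R (Classical.arbitrary (Idx R)).Ring)).map_nonunit _ h1


instance : HenselianLocalRing (Hzn R) := by
  have h := hyp (R := R)
  refine ⟨fun p hp a₀ h₁ h₂ => ?_⟩
  obtain ⟨i₁, q0, hq0⟩ := h.exists_poly p
  obtain ⟨i₂, b0, hb0⟩ := h.surj a₀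
  obtain ⟨m, α, β, -, -, hαφ, hβφ⟩ := h.dir i₁ i₂
  have hq1 : (q0.map α).map (ofIdx m) = p := by
    rw [Polynomial.map_map, ← hq0]
    congr 1
    exact RingHom.ext hαφ
  obtain ⟨q, hq, -, hqm⟩ := Polynomial.lifts_and_natDegree_eq_and_monic
    ((Polynomial.mem_lifts p).mpr ⟨_, hq1⟩) hp
  set b := β b0 with hb
  have hbm : ofIdx m b = a₀ := by rw [hb, hβφ, hb0]
  have e₁ : q.eval b ∈ maximalIdeal m.Ring := by
    rw [mem_maximalIdeal, mem_nonunits_iff]
    intro hu
    have := hu.map (ofIdx m)
    rw [← Polynomial.eval_map_apply, hq, hbm] at this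
    exact (mem_nonunits_iff.mp ((mem_maximalIdeal _).mp h₁)) this
  have e₂ : IsUnit (q.derivative.eval b) := by
    apply h.isUnit_of_map (i := m)
    rw [← Polynomial.eval_map_apply, ← Polynomial.derivative_map, hq, hbm]
    exact h₂
  -- elementary extension
  obtain ⟨E', _, _, _, _, hE', r, hr, hrb⟩ := exists_elementary_extension m.Ring q hqm b e₁ e₂
  letI : Algebra R E' := Algebra.compHom E' (algebraMap R m.Ring)
  haveI : IsScalarTower R m.Ring E' := IsScalarTower.of_algebraMap_eq (fun _ => rfl)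
  obtain ⟨hloc, hstrict⟩ := strict_trans m.Ring m.strict E' hE'
  obtain ⟨k, ⟨e⟩⟩ := exists_idx E' hstrict
  let ψ : m.Ring →ₐ[R] k.Ring := e.toAlgHom.comp (IsScalarTower.toAlgHom R m.Ring E')
  have hmk : m ≤ k := ⟨ψ⟩
  have hψ : tr m k hmk = ψ := tr_unique _ _ _ _
  have hφ : ∀ x : m.Ring, ofIdx k (ψ x) = ofIdx m x := by
    intro x
    rw [← hψ]
    exact ofIdx_tr m k hmk x
  have hpk : p = (q.map ψ.toRingHom).map (ofIdx k) := by
    rw [Polynomial.map_map, ← hq]
    congr 1
    exact RingHom.ext (fun x => (hφ x).symm)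
  have hroot : (q.map ψ.toRingHom).eval (e r) = 0 := by
    have h1 : q.map ψ.toRingHom = (q.map (algebraMap m.Ring E')).map (e : E' →+* k.Ring) := by
      rw [Polynomial.map_map]; rfl
    rw [h1]
    change eval ((e : E' →+* k.Ring) r) _ = 0
    rw [Polynomial.eval_map_apply, hr, map_zero]
  refine ⟨ofIdx k (e r), ?_, ?_⟩
  · rw [Polynomial.IsRoot.def, hpk, Polynomial.eval_map_apply, hroot, map_zero]
  · have h2 : ofIdx k (e r) - a₀ = ofIdx k (e (r - algebraMap m.Ring E' b)) := by
      rw [map_sub, map_sub, ← hbm, ← hφ b]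
      rfl
    rw [h2, mem_maximalIdeal, mem_nonunits_iff]
    intro hu
    have h3 : IsUnit (e (r - algebraMap m.Ring E' b)) := h.isUnit_of_map hu
    have h4 := h3.map e.symm
    rw [AlgEquiv.symm_apply_apply] at h4
    exact hrb h4

end Groth.Agent.Lib.lead.Hzn
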