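import Mathlib
import Groth.Agent.Lib.lead.Hzn5

/-!
# Henselization, part 6: the universal property
-/

universe u

open IsLocalRing TensorProduct Polynomial

namespace Groth.Agent.Lib.lead.Hzn

variable {R : Type u} [CommRing R] [IsLocalRing R]

/-- the unique local extension of `g` to the `i`-th stage -/
theorem stage_existsUnique (T : Type u) [CommRing T] [HenselianLocalRing T] (g : R →+* T)
    [IsLocalHom g] (i : Idx R) :
    ∃! ψ' : i.Ring →+* T, IsLocalHom ψ' ∧ ψ'.comp (algebraMap R i.Ring) = g :=
  Groth.Agent.Lib.lead.EssEtale.existsUnique_localHom_of_strict R i.Ring i.strict T g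

/-- any ring map from a stage to a local ring `T` extending a local map `g` is local -/
theorem stage_isLocalHom (T : Type u) [CommRing T] [IsLocalRing T] (g : R →+* T)
    [IsLocalHom g] (i : Idx R) (θ : i.Ring →+* T) (hθ : θ.comp (algebraMap R i.Ring) = g) :
    IsLocalHom θ := by
  letI : Algebra R T := g.toAlgebra
  haveI : IsLocalHom (algebraMap R T) := ‹IsLocalHom g›
  let θ' : i.Ring →ₐ[R] T := { θ with commutes' := fun a => RingHom.congr_fun hθ a }
  exact Groth.Agent.S17977.result R i.Ring i.strict.1 T θ'

theorem universal (T : Type u) [CommRing T] [HenselianLocalRing T] (g : R →+* T)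
    (hg : IsLocalHom g) : ∃! G : Hzn R →+* T, G.comp (algebraMap R (Hzn R)) = g := by
  classical
  let ψ : ∀ i : Idx R, i.Ring →+* T := fun i => (stage_existsUnique T g i).choose
  have hψ : ∀ i, IsLocalHom (ψ i) ∧ (ψ i).comp (algebraMap R i.Ring) = g :=
    fun i => (stage_existsUnique T g i).choose_spec.1
  have hψu : ∀ i (θ : i.Ring →+* T), θ.comp (algebraMap R i.Ring) = g → θ = ψ i := by
    intro i θ hθ
    exact (stage_existsUnique T g i).choose_spec.2 θ ⟨stage_isLocalHom T g i θ hθ, hθ⟩
  have hcompat : ∀ i j (hij : i ≤ j) x, ψ j (trR i j hij x) = ψ i x := by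
    intro i j hij x
    have : (ψ j).comp (trR i j hij) = ψ i := by
      apply hψu
      ext a
      simp only [RingHom.comp_apply]
      have h1 : trR i j hij (algebraMap R i.Ring a) = algebraMap R j.Ring a :=
        (tr i j hij).commutes a
      rw [h1]
      exact RingHom.congr_fun (hψ j).2 a
    exact RingHom.congr_fun this x
  let G : Hzn R →+* T :=
    Ring.DirectLimit.lift (fun j : Idx R => j.Ring) (fun i j h => trR i j h) T ψ hcompat
  have hG : ∀ i x, G (ofIdx i x) = ψ i x := fun i x => Ring.DirectLimit.lift_of _ _ _ _ _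
  refine ⟨G, ?_, ?_⟩
  · ext a
    simp only [RingHom.comp_apply]
    rw [← ofIdx_algebraMap (Classical.arbitrary (Idx R)) a, hG]
    exact RingHom.congr_fun (hψ _).2 a
  · intro G' hG'
    apply Ring.DirectLimit.hom_ext
    intro i
    have h1 : G'.comp (ofIdx i) = ψ i := by
      apply hψu
      ext a
      simp only [RingHom.comp_apply]
      rw [ofIdx_algebraMap]
      exact RingHom.congr_fun hG' a
    have h2 : G.comp (ofIdx i) = ψ i := by
      ext x
      exact hG i x
    exact h1.trans h2.symm

end Groth.Agent.Lib.lead.Hzn
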