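import Mathlib
import Groth.Agent.Lib.lead.Hzn6
import Groth.Prelude.Def_Hensel

/-!
# Henselization, part 7: models of an arbitrary henselization, first properties
-/

universe u

open IsLocalRing TensorProduct Polynomial

namespace Groth.Agent.Lib.lead.Hzn

variable {R : Type u} [CommRing R] [IsLocalRing R]

section stage

variable (i : Idx R)

instance Idx.etaleC : Algebra.Etale R (MvPolynomial (Fin i.n) R ⧸ i.I) := i.etale

instance Idx.essFiniteType : Algebra.EssFiniteType R i.Ring := by
  have : Algebra.EssFiniteType (MvPolynomial (Fin i.n) R ⧸ i.I) i.Ring :=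
    Algebra.EssFiniteType.of_isLocalization _ (pker R i.χ).primeCompl
  exact Algebra.EssFiniteType.comp R (MvPolynomial (Fin i.n) R ⧸ i.I) _

instance Idx.formallyEtale : Algebra.FormallyEtale R i.Ring := by
  have : Algebra.FormallyEtale (MvPolynomial (Fin i.n) R ⧸ i.I) i.Ring :=
    Algebra.FormallyEtale.of_isLocalization (pker R i.χ).primeCompl
  exact Algebra.FormallyEtale.comp R (MvPolynomial (Fin i.n) R ⧸ i.I) _

instance Idx.flat : Module.Flat R i.Ring :=
  Module.Flat.trans R (MvPolynomial (Fin i.n) R ⧸ i.I) _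

theorem Idx.map_maximalIdeal :
    (maximalIdeal R).map (algebraMap R i.Ring) = maximalIdeal i.Ring :=
  Algebra.FormallyUnramified.map_maximalIdeal

end stage

/-- A presentation of an `R`-algebra `S` as the colimit of the stages. -/
structure Model (S : Type u) [CommRing S] [Algebra R S] where
  φ : ∀ i : Idx R, i.Ring →ₐ[R] S
  compat : ∀ i j (h : i ≤ j) x, φ j (tr i j h x) = φ i x
  ker : ∀ i x, φ i x = 0 → ∃ j, ∃ h : i ≤ j, tr i j h x = 0
  surj : ∀ z : S, ∃ i x, φ i x = z

/-- the tautological model of `Hzn R` -/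
noncomputable def modelHzn : Model (R := R) (Hzn R) where
  φ i := { ofIdx i with commutes' := ofIdx_algebraMap i }
  compat i j h x := ofIdx_tr i j h x
  ker i x hx := by
    obtain ⟨j, hij, h0⟩ := Ring.DirectLimit.of.zero_exact (f' := fun i j h => trR i j h) hx
    exact ⟨j, hij, h0⟩
  surj z := Ring.DirectLimit.exists_of z

/-- transport of a model along an isomorphism -/
noncomputable def Model.transport {S S' : Type u} [CommRing S] [Algebra R S] [CommRing S']
    [Algebra R S'] (M : Model (R := R) S) (e : S ≃ₐ[R] S') : Model (R := R) S' where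
  φ i := e.toAlgHom.comp (M.φ i)
  compat i j h x := by
    change e (M.φ j (tr i j h x)) = e (M.φ i x)
    rw [M.compat]
  ker i x hx := by
    apply M.ker
    apply e.injective
    rw [map_zero]
    exact hx
  surj z := by
    obtain ⟨i, x, hx⟩ := M.surj (e.symm z)
    refine ⟨i, x, ?_⟩
    change e (M.φ i x) = z
    rw [hx, e.apply_symm_apply]

/-- any two henselizations are isomorphic; here: any henselization is isomorphic to `Hzn R` -/
theorem exists_algEquiv (S : Type u) [CommRing S] [IsLocalRing S] [Algebra R S]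
    [IsLocalHom (algebraMap R S)] [hS : Hensel.IsHenselization R S] :
    Nonempty (Hzn R ≃ₐ[R] S) := by
  haveI : HenselianLocalRing S := hS.henselian
  obtain ⟨g, hg, -⟩ := hS.universal (Hzn R) (algebraMap R (Hzn R)) inferInstance
  obtain ⟨g', hg', -⟩ := universal S (algebraMap R S) inferInstance
  have h1 : g'.comp g = RingHom.id S := by
    obtain ⟨k, -, hku⟩ := hS.universal S (algebraMap R S) inferInstance
    rw [hku (g'.comp g) (by change (g'.comp g).comp _ = _; rw [RingHom.comp_assoc, hg, hg']),
      hku (RingHom.id S) (by change (RingHom.id S).comp _ = _; simp)]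
  have h2 : g.comp g' = RingHom.id (Hzn R) := by
    obtain ⟨k, -, hku⟩ := universal (Hzn R) (algebraMap R (Hzn R)) inferInstance
    rw [hku (g.comp g') (by change (g.comp g').comp _ = _; rw [RingHom.comp_assoc, hg', hg]),
      hku (RingHom.id _) (by change (RingHom.id _).comp _ = _; simp)]
  exact ⟨{ RingEquiv.ofRingHom g' g h1 h2 with
    commutes' := fun a => RingHom.congr_fun hg' a }⟩

theorem exists_model (S : Type u) [CommRing S] [IsLocalRing S] [Algebra R S]
    [IsLocalHom (algebraMap R S)] [Hensel.IsHenselization R S] :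
    Nonempty (Model (R := R) S) := by
  obtain ⟨e⟩ := exists_algEquiv (R := R) S
  exact ⟨modelHzn.transport e⟩

namespace Model

variable {S : Type u} [CommRing S] [Algebra R S]

theorem hyp (M : Model (R := R) S) : Groth.Agent.Lib.helper3.HensColim.Hyp (fun i : Idx R => (M.φ i).toRingHom) where
  dir i j := by
    obtain ⟨k, hik, hjk⟩ := exists_ge_ge i j
    exact ⟨k, trR i k hik, trR j k hjk, isLocalHom_trR i k hik, isLocalHom_trR j k hjk,
      M.compat i k hik, M.compat j k hjk⟩
  ker i x hx := by
    obtain ⟨j, hij, h0⟩ := M.ker i x hx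
    exact ⟨j, trR i j hij, isLocalHom_trR i j hij, M.compat i j hij, h0⟩
  surj z := M.surj z

/-- finite families lift to a common stage -/
theorem exists_fin (M : Model (R := R) S) {l : ℕ} (x : Fin l → S) : ∃ i, ∃ x' : Fin l → i.Ring, ∀ k, M.φ i (x' k) = x k := by
  induction l with
  | zero => exact ⟨Classical.arbitrary _, Fin.elim0, fun k => k.elim0⟩
  | succ l ih =>
    obtain ⟨i, x', hx'⟩ := ih (fun k => x k.succ)
    obtain ⟨j, y, hy⟩ := M.surj (x 0)
    obtain ⟨k, hik, hjk⟩ := exists_ge_ge i j
    refine ⟨k, Fin.cons (tr j k hjk y) (fun t => tr i k hik (x' t)), ?_⟩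
    intro t
    refine Fin.cases ?_ (fun t => ?_) t
    · rw [Fin.cons_zero, M.compat, hy]
    · rw [Fin.cons_succ, M.compat, hx']

theorem flat (M : Model (R := R) S) : Module.Flat R S := by
  rw [Module.Flat.iff_forall_isTrivialRelation]
  intro l f x hfx
  obtain ⟨m, x', hx'⟩ := M.exists_fin x
  have h0 : M.φ m (∑ t, f t • x' t) = 0 := by
    rw [map_sum, ← hfx]
    refine Finset.sum_congr rfl fun t _ => ?_
    rw [map_smul, hx']
  obtain ⟨j, hmj, hj⟩ := M.ker m _ h0
  rw [map_sum] at hj
  have hj' : ∑ t, f t • tr m j hmj (x' t) = 0 := by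
    rw [← hj]
    refine Finset.sum_congr rfl fun t _ => ?_
    rw [map_smul]
  obtain ⟨k, a, y, hxy, hfa⟩ := (Module.Flat.iff_forall_isTrivialRelation.mp (Idx.flat j)) hj'
  refine ⟨k, a, fun t => M.φ j (y t), ?_, hfa⟩
  intro t
  have hxy' : tr m j hmj (x' t) = ∑ s, a t s • y s := hxy t
  rw [← hx' t, ← M.compat m j hmj, hxy', map_sum]
  refine Finset.sum_congr rfl fun s _ => ?_
  rw [map_smul]

variable [IsLocalRing S] [IsLocalHom (algebraMap R S)]

omit [IsLocalHom (algebraMap R S)] [IsLocalRing S] in
theorem isLocalHom_φ (M : Model (R := R) S) (i : Idx R) : IsLocalHom (M.φ i).toRingHom := M.hyp.isLocalHom i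

theorem map_maximalIdeal (M : Model (R := R) S) : (maximalIdeal R).map (algebraMap R S) = maximalIdeal S := by
  apply le_antisymm
  · exact IsLocalRing.map_maximalIdeal_le (algebraMap R S)
  · intro s hs
    obtain ⟨i, x, rfl⟩ := M.surj s
    have hx : x ∈ maximalIdeal i.Ring := by
      rw [mem_maximalIdeal, mem_nonunits_iff]
      intro hu
      exact hs (hu.map (M.φ i))
    rw [← Idx.map_maximalIdeal i] at hx
    have h1 := Ideal.mem_map_of_mem (M.φ i).toRingHom hx
    rw [Ideal.map_map] at h1
    have h2 : (M.φ i).toRingHom.comp (algebraMap R i.Ring) = algebraMap R S := by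
      ext a
      exact (M.φ i).commutes a
    rw [h2] at h1
    exact h1

theorem residue_bijective (M : Model (R := R) S) : Function.Bijective (ResidueField.map (algebraMap R S)) := by
  refine ⟨RingHom.injective _, ?_⟩
  intro y
  obtain ⟨s, rfl⟩ := residue_surjective y
  obtain ⟨i, x, rfl⟩ := M.surj s
  obtain ⟨a, ha⟩ := exists_sub_mem_maximalIdeal i.Ring i.strict x
  refine ⟨residue R a, ?_⟩
  rw [ResidueField.map_residue, ← sub_eq_zero, ← map_sub, residue_eq_zero_iff,
    ← (M.φ i).commutes a, ← map_sub]
  intro hu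
  have := (M.isLocalHom_φ i).map_nonunit _ hu
  apply ha
  have h3 : x - algebraMap R i.Ring a = -(algebraMap R i.Ring a - x) := by ring
  rw [h3]
  exact this.neg

theorem faithfullyFlat (M : Model (R := R) S) : Module.FaithfullyFlat R S := by
  haveI := M.flat
  exact Module.FaithfullyFlat.of_flat_of_isLocalHom

end Model

end Groth.Agent.Lib.lead.Hzn
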