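import Mathlib

/-! Converse: local rings all of whose finite algebras are products of local rings are henselian (lead). -/

namespace Groth.Agent.Lib.lead.HenselLocal

universe u

open Polynomial IsLocalRing

/-- Idempotent lifting along an arbitrary ideal in a ring that is a finite product of local rings. -/
theorem exists_idempotent_sub_mem_of_pi {S : Type*} [CommRing S] {ι : Type*} [Fintype ι]
    {A : ι → Type*} [∀ i, CommRing (A i)] [∀ i, IsLocalRing (A i)] (Ψ : S ≃+* (∀ i, A i))
    (J : Ideal S) (s₀ : S) (hs₀ : s₀ ^ 2 - s₀ ∈ J) :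
    ∃ ε : S, IsIdempotentElem ε ∧ ε - s₀ ∈ J := by
  classical
  let t : ∀ i, A i := Ψ s₀
  let J' : Ideal (∀ i, A i) := J.comap Ψ.symm.toRingHom
  have ht : t ^ 2 - t ∈ J' := by
    change Ψ.symm (t ^ 2 - t) ∈ J
    simpa [t] using hs₀
  let η : ∀ i, A i := fun i => if IsUnit (t i) then 1 else 0
  have hη : IsIdempotentElem η := by
    funext i
    by_cases hi : IsUnit (t i) <;> simp [η, hi]
  have key : ∀ i, Pi.single i (η i - t i) ∈ J' := by
    intro i
    by_cases hi : IsUnit (t i)
    · obtain ⟨v, hv⟩ := hi.exists_left_inv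
      have : Pi.single i (η i - t i) = Pi.single i (-v) * (t ^ 2 - t) := by
        funext j
        by_cases hj : j = i
        · subst hj
          simp only [η, hi, if_true, Pi.single_eq_same, Pi.mul_apply, Pi.sub_apply, Pi.pow_apply]
          linear_combination (t j - 1) * hv
        · simp [Pi.single_eq_of_ne hj]
      rw [this]; exact Ideal.mul_mem_left _ _ ht
    · have hi' : IsUnit (1 - t i) := (IsLocalRing.isUnit_or_isUnit_one_sub_self (t i)).resolve_left hi
      obtain ⟨w, hw⟩ := hi'.exists_left_inv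
      have : Pi.single i (η i - t i) = Pi.single i w * (t ^ 2 - t) := by
        funext j
        by_cases hj : j = i
        · subst hj
          simp only [η, hi, if_false, Pi.single_eq_same, Pi.mul_apply, Pi.sub_apply, Pi.pow_apply]
          linear_combination (t j) * hw
        · simp [Pi.single_eq_of_ne hj]
      rw [this]; exact Ideal.mul_mem_left _ _ ht
  have hsum : η - t ∈ J' := by
    have : η - t = ∑ i, Pi.single i (η i - t i) := by
      funext j
      simp [Finset.sum_apply]
    rw [this]; exact Ideal.sum_mem _ fun i _ => key i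
  refine ⟨Ψ.symm η, ?_, ?_⟩
  · change Ψ.symm η * Ψ.symm η = Ψ.symm η
    rw [← map_mul, hη.eq]
  · have : Ψ.symm η - s₀ = Ψ.symm (η - t) := by simp [t]
    rw [this]; exact hsum

/-- If `AdjoinRoot f` is a finite product of local rings for every monic `f`, then the local ring
`R` is henselian. -/
theorem henselian_of_adjoinRoot_pi {R : Type u} [CommRing R] [IsLocalRing R]
    (h : ∀ f : R[X], f.Monic → ∃ (ι : Type u) (_ : Fintype ι) (A : ι → Type u)
      (_ : ∀ i, CommRing (A i)), (∀ i, IsLocalRing (A i)) ∧ Nonempty (AdjoinRoot f ≃+* ∀ i, A i)) :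
    HenselianLocalRing R := by
  classical
  apply ((HenselianLocalRing.TFAE R).out 0 1).mpr
  intro f hf a₀ h₁ h₂
  have haeval : ∀ p : R[X], aeval a₀ p = (p.map (residue R)).eval a₀ := by
    intro p
    rw [eval_map, aeval_def]; rfl
  have hroot : (f.map (residue R)).IsRoot a₀ := by
    rw [IsRoot, ← haeval]; exact h₁
  obtain ⟨h₀, hh₀⟩ := dvd_iff_isRoot.mpr hroot
  have hder : (derivative (f.map (residue R))).eval a₀ ≠ 0 := by
    rw [derivative_map, ← haeval]; exact h₂
  have hh₀ne : h₀.eval a₀ ≠ 0 := by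
    rw [hh₀, derivative_mul] at hder
    simpa using hder
  obtain ⟨a, ha⟩ : ∃ a : R, residue R a = a₀ := Ideal.Quotient.mk_surjective a₀
  obtain ⟨H, hH⟩ := map_surjective (residue R) Ideal.Quotient.mk_surjective h₀
  obtain ⟨c, hc⟩ : ∃ c : R, residue R c = (h₀.eval a₀)⁻¹ := Ideal.Quotient.mk_surjective _
  let J : Ideal (AdjoinRoot f) := Ideal.map (algebraMap R (AdjoinRoot f)) (maximalIdeal R)
  have hcoeff : ∀ d : R[X], d.map (residue R) = 0 → ∀ i, d.coeff i ∈ maximalIdeal R := by
    intro d hd i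
    have h2 : (d.map (residue R)).coeff i = 0 := by rw [hd]; simp
    rw [coeff_map] at h2
    exact (Ideal.Quotient.eq_zero_iff_mem).mp h2
  have hJ : ∀ d : R[X], (∀ i, d.coeff i ∈ maximalIdeal R) → AdjoinRoot.mk f d ∈ J := by
    intro d hd
    have h1 : d = ∑ i ∈ d.support, C (d.coeff i) * X ^ i := by
      conv_lhs => rw [d.as_sum_support]
      refine Finset.sum_congr rfl fun i _ => ?_
      rw [← C_mul_X_pow_eq_monomial]
    rw [h1, map_sum]
    refine Ideal.sum_mem _ fun i _ => ?_
    rw [map_mul]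
    refine Ideal.mul_mem_right _ _ ?_
    rw [AdjoinRoot.mk_C]
    exact Ideal.mem_map_of_mem _ (hd i)
  let s₀ : AdjoinRoot f := AdjoinRoot.mk f (C c * H)
  have hXs₀ : AdjoinRoot.mk f (X - C a) * s₀ ∈ J := by
    have h3 : ((X - C a) * (C c * H) - C c * f).map (residue R) = 0 := by
      simp only [Polynomial.map_sub, Polynomial.map_mul, map_X, map_C, hH, ha, hc, hh₀]
      ring
    have h4 := hJ _ (hcoeff _ h3)
    rw [map_sub, map_mul (AdjoinRoot.mk f) (C c) f, AdjoinRoot.mk_self, mul_zero, sub_zero,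
      map_mul] at h4
    exact h4
  have hs₀ : s₀ ^ 2 - s₀ ∈ J := by
    have hroot' : ((C c * H - 1).map (residue R)).IsRoot a₀ := by
      simp [IsRoot, hH, hc, hh₀ne]
    obtain ⟨qb, hqb⟩ := dvd_iff_isRoot.mpr hroot'
    obtain ⟨q, hq⟩ := map_surjective (residue R) Ideal.Quotient.mk_surjective qb
    have h3 : ((C c * H - 1) - (X - C a) * q).map (residue R) = 0 := by
      rw [Polynomial.map_sub, hqb, Polynomial.map_mul, hq]
      simp [ha]
    have h4 := hJ _ (hcoeff _ h3)
    have h5 : s₀ ^ 2 - s₀ = (AdjoinRoot.mk f (X - C a) * s₀) * AdjoinRoot.mk f q +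
        s₀ * AdjoinRoot.mk f ((C c * H - 1) - (X - C a) * q) := by
      simp only [s₀, map_sub, map_mul, map_one]; ring
    rw [h5]
    exact J.add_mem (J.mul_mem_right _ hXs₀) (J.mul_mem_left _ h4)
  obtain ⟨ι, _, A, _, hloc, ⟨Ψ⟩⟩ := h f hf
  obtain ⟨ε, hε, hεs⟩ := exists_idempotent_sub_mem_of_pi Ψ J s₀ hs₀
  -- the point S → k
  let φ₀ : AdjoinRoot f →ₐ[R] ResidueField R :=
    AdjoinRoot.liftAlgHom f (Algebra.ofId R (ResidueField R)) a₀ (by
      have := h₁
      rwa [aeval_def] at this)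
  have hφ₀J : ∀ j ∈ J, φ₀ j = 0 := by
    intro j hj
    have : J ≤ RingHom.ker φ₀.toRingHom := by
      rw [Ideal.map_le_iff_le_comap]
      intro r hr
      rw [Ideal.mem_comap, RingHom.mem_ker]
      change φ₀ (algebraMap R _ r) = 0
      rw [AlgHom.commutes]
      exact (Ideal.Quotient.eq_zero_iff_mem).mpr hr
    exact this hj
  have hφ₀s₀ : φ₀ s₀ = 1 := by
    change φ₀ (AdjoinRoot.mk f (C c * H)) = 1
    rw [AdjoinRoot.liftAlgHom_mk]
    have h6 : eval₂ (↑(Algebra.ofId R (ResidueField R)) : R →+* ResidueField R) a₀ (C c * H) =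
        ((C c * H).map (residue R)).eval a₀ := by
      rw [eval_map]; rfl
    rw [h6, Polynomial.map_mul, map_C, hc, hH, eval_mul, eval_C]
    exact inv_mul_cancel₀ hh₀ne
  have hφ₀ε : φ₀ ε = 1 := by
    have : ε = s₀ + (ε - s₀) := by ring
    rw [this, map_add, hφ₀s₀, hφ₀J _ hεs, add_zero]
  -- the quotient T
  let I₁ : Ideal (AdjoinRoot f) := Ideal.span {1 - ε}
  have hfinS : Module.Finite R (AdjoinRoot f) := hf.finite_adjoinRoot
  have hfreeS : Module.Free R (AdjoinRoot f) := hf.free_adjoinRoot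
  have hfinT : Module.Finite R (AdjoinRoot f ⧸ I₁) :=
    Module.Finite.of_surjective (Ideal.Quotient.mkₐ R I₁).toLinearMap Ideal.Quotient.mk_surjective
  have hntT : Nontrivial (AdjoinRoot f ⧸ I₁) := by
    rw [Ideal.Quotient.nontrivial_iff]
    intro htop
    have h1 : (1 : AdjoinRoot f) ∈ I₁ := by rw [htop]; trivial
    obtain ⟨s, hs⟩ := Ideal.mem_span_singleton.mp h1
    have := congrArg φ₀ hs
    rw [map_one, map_mul, map_sub, map_one, hφ₀ε, sub_self, zero_mul] at this
    exact one_ne_zero this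
  -- projective
  have hprojT : Module.Projective R (AdjoinRoot f ⧸ I₁) := by
    let E := AlgEquiv.prodQuotientOfIsIdempotentElem R (S := AdjoinRoot f) hε.one_sub hε
      (by ring) (by rw [sub_mul, one_mul, hε.eq, sub_self])
    refine Module.Projective.of_split
      (E.symm.toLinearMap.comp (LinearMap.inl R _ _)) ((LinearMap.fst R _ _).comp E.toLinearMap) ?_
    ext x
    simp
  have hfreeT : Module.Free R (AdjoinRoot f ⧸ I₁) := Module.free_of_flat_of_isLocalRing
  have hinj : Function.Injective (algebraMap R (AdjoinRoot f ⧸ I₁)) :=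
    FaithfulSMul.algebraMap_injective R _
  -- Nakayama
  have hmapJ : ∀ j ∈ J, Ideal.Quotient.mk I₁ j ∈
      Ideal.map (algebraMap R (AdjoinRoot f ⧸ I₁)) (maximalIdeal R) := by
    intro j hj
    have : Ideal.map (Ideal.Quotient.mk I₁) J =
        Ideal.map (algebraMap R (AdjoinRoot f ⧸ I₁)) (maximalIdeal R) := by
      rw [Ideal.map_map]; rfl
    rw [← this]
    exact Ideal.mem_map_of_mem _ hj
  have hXT : Ideal.Quotient.mk I₁ (AdjoinRoot.mk f (X - C a)) ∈
      Ideal.map (algebraMap R (AdjoinRoot f ⧸ I₁)) (maximalIdeal R) := by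
    have h7 : AdjoinRoot.mk f (X - C a) = AdjoinRoot.mk f (X - C a) * ε +
        AdjoinRoot.mk f (X - C a) * (1 - ε) := by ring
    have h8 : AdjoinRoot.mk f (X - C a) * ε ∈ J := by
      have : AdjoinRoot.mk f (X - C a) * ε = AdjoinRoot.mk f (X - C a) * s₀ +
          AdjoinRoot.mk f (X - C a) * (ε - s₀) := by ring
      rw [this]
      exact J.add_mem hXs₀ (J.mul_mem_left _ hεs)
    have h9 : Ideal.Quotient.mk I₁ (AdjoinRoot.mk f (X - C a) * (1 - ε)) = 0 :=
      Ideal.Quotient.eq_zero_iff_mem.mpr (Ideal.mul_mem_left _ _ (Ideal.subset_span rfl))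
    rw [h7, map_add, h9, add_zero]
    exact hmapJ _ h8
  have key : (⊤ : Submodule R (AdjoinRoot f ⧸ I₁)) ≤ Submodule.span R {1} := by
    apply Submodule.le_of_le_smul_of_le_jacobson_bot (I := maximalIdeal R) Module.Finite.fg_top
      (IsLocalRing.maximalIdeal_le_jacobson _)
    rw [Ideal.smul_top_eq_map]
    intro x _
    obtain ⟨y, rfl⟩ := Ideal.Quotient.mk_surjective x
    obtain ⟨p, rfl⟩ := AdjoinRoot.mk_surjective y
    have hp := modByMonic_add_div p (X - C a)
    rw [modByMonic_X_sub_C_eq_C_eval] at hp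
    rw [← hp, map_add, map_add, map_mul, map_mul]
    refine Submodule.add_mem _ (Submodule.mem_sup_left ?_) (Submodule.mem_sup_right ?_)
    · rw [Submodule.mem_span_singleton]
      refine ⟨p.eval a, ?_⟩
      rw [← Algebra.algebraMap_eq_smul_one, AdjoinRoot.mk_C]; rfl
    · exact Ideal.mul_mem_right _ _ hXT
  have hX : (Ideal.Quotient.mk I₁ (AdjoinRoot.root f)) ∈ Submodule.span R {1} := key Submodule.mem_top
  rw [Submodule.mem_span_singleton] at hX
  obtain ⟨b, hb⟩ := hX
  rw [← Algebra.algebraMap_eq_smul_one] at hb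
  refine ⟨b, ?_, ?_⟩
  · apply hinj
    rw [map_zero]
    have h10 : algebraMap R (AdjoinRoot f ⧸ I₁) (f.eval b) =
        aeval (algebraMap R (AdjoinRoot f ⧸ I₁) b) f := by
      rw [aeval_algebraMap_apply]; rfl
    rw [h10, hb]
    have h11 : aeval (Ideal.Quotient.mk I₁ (AdjoinRoot.root f)) f =
        Ideal.Quotient.mk I₁ (aeval (AdjoinRoot.root f) f) := by
      rw [← Ideal.Quotient.mkₐ_eq_mk R, aeval_algHom_apply]
    rw [h11, AdjoinRoot.aeval_eq, AdjoinRoot.mk_self, map_zero]
  · -- residue b = a₀ via T → k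
    let φT : (AdjoinRoot f ⧸ I₁) →ₐ[R] ResidueField R :=
      Ideal.Quotient.liftₐ I₁ φ₀ (by
        intro x hx
        obtain ⟨s, rfl⟩ := Ideal.mem_span_singleton.mp hx
        rw [map_mul, map_sub, map_one, hφ₀ε, sub_self, zero_mul])
    have := congrArg φT hb
    rw [AlgHom.commutes] at this
    change residue R b = φ₀ (AdjoinRoot.root f) at this
    rw [this, AdjoinRoot.liftAlgHom_root]

end Groth.Agent.Lib.lead.HenselLocal
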