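import Mathlib
import Groth.Agent.Lib.lead.HenselFinite
import Groth.Agent.S0505

/-!
# Integral domains over henselian local rings
-/

universe u

open IsLocalRing Polynomial

namespace Groth.Agent.Lib.lead.HenselLocal

/-- A domain finite over a henselian local ring is local. -/
theorem isLocalRing_of_finite_domain (A : Type u) [CommRing A] [HenselianLocalRing A] (B : Type u)
    [CommRing B] [IsDomain B] [Algebra A B] [Module.Finite A B] : IsLocalRing B := by
  classical
  obtain ⟨n, e, he, huniq⟩ := finite_exists_idempotents (R := A) B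
  have hex : ∃ i, e i = 1 := by
    have hsum : ∑ i, e i = 1 := he.complete
    by_contra hne
    push_neg at hne
    have hz : ∀ i, e i = 0 := by
      intro i
      have h1 := (he.idem i).eq
      have h2 : e i * (e i - 1) = 0 := by rw [mul_sub, h1, mul_one, sub_self]
      rcases mul_eq_zero.mp h2 with h | h
      · exact h
      · exact absurd (sub_eq_zero.mp h) (hne i)
    rw [Finset.sum_eq_zero (fun i _ => hz i)] at hsum
    exact zero_ne_one hsum
  obtain ⟨i, hi⟩ := hex
  obtain ⟨M, hM⟩ := Ideal.exists_maximal B
  refine IsLocalRing.of_unique_max_ideal ⟨M, hM, fun M' hM' => ?_⟩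
  have h1 : e i ∉ M := by rw [hi]; exact (Ideal.ne_top_iff_one M).mp hM.ne_top
  have h1' : e i ∉ M' := by rw [hi]; exact (Ideal.ne_top_iff_one M').mp hM'.ne_top
  exact huniq i M' M hM' hM h1' h1

/-- A domain integral over a henselian local ring is a local ring. -/
theorem isLocalRing_of_integral_domain (A B : Type u) [CommRing A] [HenselianLocalRing A]
    [CommRing B] [IsDomain B] [Algebra A B] [Algebra.IsIntegral A B] : IsLocalRing B := by
  classical
  have hfinsub : ∀ s : Finset B, Module.Finite A (Algebra.adjoin A (s : Set B)) := fun s =>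
    Module.Finite.iff_fg.mpr (fg_adjoin_of_finite s.finite_toSet
      (fun x _ => Algebra.IsIntegral.isIntegral x))
  refine IsLocalRing.of_isUnit_or_isUnit_one_sub_self fun b => ?_
  have := hfinsub {b}
  have hloc : IsLocalRing (Algebra.adjoin A (({b} : Finset B) : Set B)) :=
    isLocalRing_of_finite_domain A _
  let b' : Algebra.adjoin A (({b} : Finset B) : Set B) :=
    ⟨b, Algebra.subset_adjoin (by simp)⟩
  rcases IsLocalRing.isUnit_or_isUnit_one_sub_self b' with h | h
  · left
    exact h.map (algebraMap _ B)
  · right
    have := h.map (algebraMap (Algebra.adjoin A (({b} : Finset B) : Set B)) B)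
    simpa [b'] using this

/-- A domain integral over a henselian local ring is henselian local. -/
theorem henselian_of_integral_domain (A B : Type u) [CommRing A] [HenselianLocalRing A]
    [CommRing B] [IsDomain B] [Algebra A B] [Algebra.IsIntegral A B] :
    HenselianLocalRing B := by
  classical
  have hfinsub : ∀ s : Finset B, Module.Finite A (Algebra.adjoin A (s : Set B)) := fun s =>
    Module.Finite.iff_fg.mpr (fg_adjoin_of_finite s.finite_toSet
      (fun x _ => Algebra.IsIntegral.isIntegral x))
  have hB : IsLocalRing B := isLocalRing_of_integral_domain A B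
  refine { toIsLocalRing := hB, is_henselian := ?_ }
  intro f hf a₀ h₁ h₂
  let s : Finset B := insert a₀ (f.coeffs)
  let S : Subalgebra A B := Algebra.adjoin A (s : Set B)
  have := hfinsub s
  have hlocS : IsLocalRing S := isLocalRing_of_finite_domain A _
  have hhensS : HenselianLocalRing S := Groth.Agent.S0505.result A S
  have hintS : Algebra.IsIntegral S B := Algebra.IsIntegral.tower_top (R := A)
  have hlochom : IsLocalHom (algebraMap S B) := inferInstance
  -- lift f and a₀
  have ha₀ : a₀ ∈ S := Algebra.subset_adjoin (by simp [s])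
  have hcoeff : ∀ n, f.coeff n ∈ S := by
    intro n
    by_cases hn : f.coeff n = 0
    · rw [hn]; exact S.zero_mem
    · exact Algebra.subset_adjoin (by
        simp only [s, Finset.coe_insert, Set.mem_insert_iff, Finset.mem_coe]
        right
        exact Polynomial.coeff_mem_coeffs hn)
  have hlift : f ∈ Polynomial.lifts (algebraMap S B) := by
    rw [Polynomial.lifts_iff_coeff_lifts]
    intro n
    exact ⟨⟨f.coeff n, hcoeff n⟩, rfl⟩
  obtain ⟨g, hg, -, hgm⟩ := Polynomial.lifts_and_natDegree_eq_and_monic hlift hf
  let a₀' : S := ⟨a₀, ha₀⟩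
  have hev : algebraMap S B (g.eval a₀') = f.eval a₀ := by
    have h0 : a₀ = algebraMap S B a₀' := rfl
    rw [← hg, Polynomial.eval_map, h0, Polynomial.eval₂_at_apply]
  have hev' : algebraMap S B (g.derivative.eval a₀') = f.derivative.eval a₀ := by
    have h0 : a₀ = algebraMap S B a₀' := rfl
    rw [← hg, Polynomial.derivative_map, Polynomial.eval_map, h0, Polynomial.eval₂_at_apply]
  have h₁' : g.eval a₀' ∈ maximalIdeal S := by
    rw [mem_maximalIdeal, mem_nonunits_iff]
    intro hu
    have := hu.map (algebraMap S B)
    rw [hev] at this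
    exact h₁ this
  have h₂' : IsUnit (g.derivative.eval a₀') := by
    apply hlochom.map_nonunit
    rw [hev']
    exact h₂
  obtain ⟨a, ha, haa₀⟩ := HenselianLocalRing.is_henselian g hgm a₀' h₁' h₂'
  refine ⟨algebraMap S B a, ?_, ?_⟩
  · rw [Polynomial.IsRoot.def] at ha ⊢
    rw [← hg, Polynomial.eval_map, Polynomial.eval₂_at_apply, ha, map_zero]
  · have h3 : algebraMap S B a - a₀ = algebraMap S B (a - a₀') := by
      rw [map_sub]
      rfl
    rw [h3, mem_maximalIdeal, mem_nonunits_iff]
    intro hu
    exact haa₀ (hlochom.map_nonunit _ hu)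

end Groth.Agent.Lib.lead.HenselLocal
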