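import Mathlib
import Groth.Agent.Lib.lead.HenselIntegral

/-!
# Local rings integral over henselian local rings are henselian
-/

universe u

set_option maxHeartbeats 400000

open IsLocalRing Polynomial

namespace Groth.Agent.Lib.lead.HenselLocal

/-- a subalgebra over which the local ring `B` is integral is local -/
theorem isLocalRing_subalgebra_of_isIntegral {A B : Type*} [CommRing A] [CommRing B] [Algebra A B]
    [IsLocalRing B] (S : Subalgebra A B) [Algebra.IsIntegral S B] : IsLocalRing S := by
  haveI : IsLocalHom (algebraMap S B) := inferInstance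
  refine IsLocalRing.of_isUnit_or_isUnit_one_sub_self fun b => ?_
  rcases IsLocalRing.isUnit_or_isUnit_one_sub_self (algebraMap S B b) with h | h
  · left
    exact (isUnit_map_iff (algebraMap S B) b).mp h
  · right
    rw [← map_one (algebraMap S B), ← map_sub] at h
    exact (isUnit_map_iff (algebraMap S B) _).mp h

/-- A local ring integral over a henselian local ring is henselian. -/
theorem henselian_of_integral_local (A B : Type u) [CommRing A] [HenselianLocalRing A]
    [CommRing B] [IsLocalRing B] [Algebra A B] [Algebra.IsIntegral A B] :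
    HenselianLocalRing B := by
  classical
  have hfinsub : ∀ s : Finset B, Module.Finite A (Algebra.adjoin A (s : Set B)) := fun s =>
    Module.Finite.iff_fg.mpr (fg_adjoin_of_finite s.finite_toSet
      (fun x _ => Algebra.IsIntegral.isIntegral x))
  refine { toIsLocalRing := inferInstance, is_henselian := ?_ }
  intro f hf a₀ h₁ h₂
  let s : Finset B := insert a₀ (f.coeffs)
  let S : Subalgebra A B := Algebra.adjoin A (s : Set B)
  have := hfinsub s
  have hintS : Algebra.IsIntegral S B := Algebra.IsIntegral.tower_top (R := A)
  have hlocS : IsLocalRing S := isLocalRing_subalgebra_of_isIntegral S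
  have hhensS : HenselianLocalRing S := Groth.Agent.S0505.result A S
  have hlochom : IsLocalHom (algebraMap S B) := inferInstance
  -- lift f and a₀
  have ha₀ : a₀ ∈ S := Algebra.subset_adjoin (by simp [s])
  have hcoeff : ∀ n, f.coeff n ∈ S := by
    intro n
    by_cases hn : f.coeff n = 0
    · rw [hn]; exact S.zero_mem
    · exact Algebra.subset_adjoin (by
        simp only [s, Finset.coe_insert, Set.mem_insert_iff, Finset.mem_coe]
        right
        exact Polynomial.coeff_mem_coeffs hn)
  have hlift : f ∈ Polynomial.lifts (algebraMap S B) := by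
    rw [Polynomial.lifts_iff_coeff_lifts]
    intro n
    exact ⟨⟨f.coeff n, hcoeff n⟩, rfl⟩
  obtain ⟨g, hg, -, hgm⟩ := Polynomial.lifts_and_natDegree_eq_and_monic hlift hf
  let a₀' : S := ⟨a₀, ha₀⟩
  have hev : algebraMap S B (g.eval a₀') = f.eval a₀ := by
    have h0 : a₀ = algebraMap S B a₀' := rfl
    rw [← hg, Polynomial.eval_map, h0, Polynomial.eval₂_at_apply]
  have hev' : algebraMap S B (g.derivative.eval a₀') = f.derivative.eval a₀ := by
    have h0 : a₀ = algebraMap S B a₀' := rfl
    rw [← hg, Polynomial.derivative_map, Polynomial.eval_map, h0, Polynomial.eval₂_at_apply]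
  have h₁' : g.eval a₀' ∈ maximalIdeal S := by
    rw [mem_maximalIdeal, mem_nonunits_iff]
    intro hu
    have := hu.map (algebraMap S B)
    rw [hev] at this
    exact h₁ this
  have h₂' : IsUnit (g.derivative.eval a₀') := by
    apply hlochom.map_nonunit
    rw [hev']
    exact h₂
  obtain ⟨a, ha, haa₀⟩ := HenselianLocalRing.is_henselian g hgm a₀' h₁' h₂'
  refine ⟨algebraMap S B a, ?_, ?_⟩
  · rw [Polynomial.IsRoot.def] at ha ⊢
    rw [← hg, Polynomial.eval_map, Polynomial.eval₂_at_apply, ha, map_zero]
  · have h3 : algebraMap S B a - a₀ = algebraMap S B (a - a₀') := by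
      rw [map_sub]
      rfl
    rw [h3, mem_maximalIdeal, mem_nonunits_iff]
    intro hu
    exact haa₀ (hlochom.map_nonunit _ hu)

end Groth.Agent.Lib.lead.HenselLocal
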