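import Mathlib

/-!
# Surjective images of henselian local rings are henselian
-/

universe u

open IsLocalRing Polynomial

namespace Groth.Agent.Lib.lead.HenselQuot

/-- a local ring which is a surjective image of a henselian local ring is henselian -/
theorem henselian_of_surjective {S Q : Type*} [CommRing S] [HenselianLocalRing S] [CommRing Q]
    [IsLocalRing Q] (π : S →+* Q) (hπ : Function.Surjective π) : HenselianLocalRing Q := by
  have hloc : IsLocalHom π := hπ.isLocalHom π
  refine ⟨?_⟩
  intro fbar hfbar abar h1 h2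
  obtain ⟨f, hf, -, hfm⟩ := Polynomial.lifts_and_degree_eq_and_monic
    ((Polynomial.mem_lifts _).2 (Polynomial.map_surjective _ hπ fbar)) hfbar
  obtain ⟨a₀, rfl⟩ := hπ abar
  have e1 : π (f.eval a₀) = fbar.eval (π a₀) := by
    rw [← hf, Polynomial.eval_map, Polynomial.eval₂_at_apply]
  have e2 : π (f.derivative.eval a₀) = fbar.derivative.eval (π a₀) := by
    rw [← hf, Polynomial.derivative_map, Polynomial.eval_map, Polynomial.eval₂_at_apply]
  have hmem : ∀ x : S, π x ∈ maximalIdeal Q ↔ x ∈ maximalIdeal S := by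
    intro x
    rw [mem_maximalIdeal, mem_maximalIdeal, mem_nonunits_iff, mem_nonunits_iff, not_iff_not]
    exact ⟨fun h => isUnit_of_map_unit _ _ h, fun h => h.map _⟩
  obtain ⟨a, ha, haa⟩ := HenselianLocalRing.is_henselian f hfm a₀ ((hmem _).1 (e1 ▸ h1))
    (isUnit_of_map_unit π _ (e2 ▸ h2))
  refine ⟨π a, ?_, ?_⟩
  · rw [Polynomial.IsRoot.def, ← hf, Polynomial.eval_map, Polynomial.eval₂_at_apply, ha, map_zero]
  · rw [← map_sub, hmem]; exact haa

end Groth.Agent.Lib.lead.HenselQuot
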