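import Mathlib
import Groth.Agent.Lib.lead.HenselFinite

/-! Splitting of finite type / quasi-finite algebras over henselian local rings (lead). -/

namespace Groth.Agent.Lib.lead.HenselLocal

universe u

open IsLocalRing

/-- Over a henselian local ring, a quasi-finite point of a finite type algebra over the closed point
is cut out by an idempotent with finite (local) quotient. -/
theorem exists_idempotent_of_quasiFiniteAt {R : Type u} [CommRing R] [HenselianLocalRing R]
    {S : Type u} [CommRing S] [Algebra R S] [Algebra.FiniteType R S] (q : Ideal S) [q.IsPrime]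
    [hql : q.LiesOver (maximalIdeal R)] [Algebra.QuasiFiniteAt R q] :
    ∃ e : S, IsIdempotentElem e ∧ e ∉ q ∧ (∃ N : Submodule R S, N.FG ∧ ∀ x, e * x ∈ N) ∧
      ∀ q₂ : Ideal S, q₂.IsPrime → q₂.LiesOver (maximalIdeal R) → e ∉ q₂ → q₂ = q := by
  classical
  obtain ⟨S', hS'fg, r, hrq, hbij⟩ :=
    Algebra.QuasiFiniteAt.exists_fg_and_exists_notMem_and_awayMap_bijective (R := R) q
  have hfin : Module.Finite R S' := ⟨(Submodule.fg_top _).mpr hS'fg⟩
  obtain ⟨n, e', he', huniq⟩ := finite_exists_idempotents (R := R) S'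
  -- primes of S over m restrict to maximal ideals of S'
  have hmax : ∀ q₂ : Ideal S, q₂.IsPrime → q₂.LiesOver (maximalIdeal R) →
      (q₂.comap (algebraMap S' S)).IsMaximal := by
    intro q₂ hq₂ hl
    have hp : (q₂.comap (algebraMap S' S)).IsPrime := Ideal.comap_isPrime _ _
    apply Ideal.isMaximal_of_isIntegral_of_isMaximal_comap (R := R)
    rw [Ideal.comap_comap, ← IsScalarTower.algebraMap_eq]
    have : q₂.comap (algebraMap R S) = maximalIdeal R := (hl.over).symm
    rw [this]; infer_instance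
  have hq'max := hmax q inferInstance hql
  obtain ⟨j, hj⟩ : ∃ j, e' j ∉ q.comap (algebraMap S' S) := by
    by_contra hcon
    push Not at hcon
    have : (1 : S') ∈ q.comap (algebraMap S' S) := by
      rw [← he'.complete]
      exact Ideal.sum_mem _ fun i _ => hcon i
    exact hq'max.ne_top ((Ideal.eq_top_iff_one _).mpr this)
  set ε : S' := e' j with hε
  have hεid : IsIdempotentElem ε := he'.idem j
  have hrq' : r ∉ q.comap (algebraMap S' S) := hrq
  -- r is invertible on the ε-part
  obtain ⟨t, ht⟩ : ∃ t : S', r * t * ε = ε := by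
    have hu : IsUnit (Ideal.Quotient.mk (Ideal.span ({1 - ε} : Set S')) r) := by
      by_contra hnu
      obtain ⟨M, hM, hrM⟩ := exists_max_ideal_of_mem_nonunits hnu
      have hsurj : Function.Surjective (Ideal.Quotient.mk (Ideal.span ({1 - ε} : Set S'))) :=
        Ideal.Quotient.mk_surjective
      have hM' : (M.comap (Ideal.Quotient.mk (Ideal.span ({1 - ε} : Set S')))).IsMaximal :=
        Ideal.comap_isMaximal_of_surjective _ hsurj
      have hεM : ε ∉ M.comap (Ideal.Quotient.mk (Ideal.span ({1 - ε} : Set S'))) := by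
        intro hmem
        have h1 : (1 - ε) ∈ M.comap (Ideal.Quotient.mk (Ideal.span ({1 - ε} : Set S'))) := by
          rw [Ideal.mem_comap]
          have : Ideal.Quotient.mk (Ideal.span ({1 - ε} : Set S')) (1 - ε) = 0 :=
            Ideal.Quotient.eq_zero_iff_mem.mpr (Ideal.subset_span rfl)
          rw [this]; exact M.zero_mem
        have h2 := Ideal.add_mem _ h1 hmem
        rw [sub_add_cancel] at h2
        exact hM'.ne_top ((Ideal.eq_top_iff_one _).mpr h2)
      have hEq := huniq j _ _ hM' hq'max hεM hj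
      exact hrq' (hEq ▸ (Ideal.mem_comap.mpr hrM))
    obtain ⟨tb, htb⟩ := hu.exists_right_inv
    obtain ⟨t, rfl⟩ := Ideal.Quotient.mk_surjective tb
    have h1 : r * t - 1 ∈ Ideal.span ({1 - ε} : Set S') := by
      rw [← Ideal.Quotient.eq_zero_iff_mem, map_sub, map_mul, htb, map_one, sub_self]
    obtain ⟨s, hs⟩ := Ideal.mem_span_singleton.mp h1
    refine ⟨t, ?_⟩
    have h2 : (r * t - 1) * ε = 0 := by
      rw [hs, mul_assoc, mul_comm s ε, ← mul_assoc, sub_mul, one_mul, hεid.eq, sub_self, zero_mul]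
    linear_combination h2
  set e : S := (ε : S) with he
  have heid : IsIdempotentElem e := by
    change (ε : S) * (ε : S) = ε
    rw [← Subalgebra.coe_mul, hεid.eq]
  have hrte : ((r : S) * (t : S)) * e = e := by
    have := congrArg (Subtype.val) ht
    simpa using this
  have hrtek : ∀ k : ℕ, ((r : S) * (t : S)) ^ k * e = e := by
    intro k
    induction k with
    | zero => simp
    | succ k ih => rw [pow_succ, mul_assoc, hrte, ih]
  have key : ∀ x : S, ∃ s' : S', e * x = e * (s' : S) := by
    intro x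
    obtain ⟨y, k, hy⟩ := (Localization.awayMap_surjective_iff.mp hbij.2) x
    refine ⟨t ^ k * y, ?_⟩
    have hy' : (y : S) = (r : S) ^ k * x := hy
    calc e * x = (((r : S) * (t : S)) ^ k * e) * x := by rw [hrtek]
      _ = e * ((t : S) ^ k * ((r : S) ^ k * x)) := by rw [mul_pow]; ring
      _ = e * ((t ^ k * y : S') : S) := by rw [← hy']; simp
  refine ⟨e, heid, hj, ?_, ?_⟩
  · refine ⟨(Subalgebra.toSubmodule S').map (LinearMap.mulLeft R e), hS'fg.map _, fun x => ?_⟩
    obtain ⟨s', hs'⟩ := key x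
    rw [hs']
    exact Submodule.mem_map.mpr ⟨(s' : S), s'.2, rfl⟩
  · intro q₂ hq₂ hl he₂
    have hq₂max := hmax q₂ hq₂ hl
    have hεq₂ : ε ∉ q₂.comap (algebraMap S' S) := he₂
    have hEq : q₂.comap (algebraMap S' S) = q.comap (algebraMap S' S) :=
      huniq j _ _ hq₂max hq'max hεq₂ hj
    have hsub : ∀ (a b : Ideal S), a.IsPrime → b.IsPrime → e ∉ a → e ∉ b →
        a.comap (algebraMap S' S) = b.comap (algebraMap S' S) → a ≤ b := by
      intro a b ha hb hea heb hab x hx
      obtain ⟨s', hs'⟩ := key x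
      have h1 : e * (s' : S) ∈ a := hs' ▸ Ideal.mul_mem_left _ _ hx
      have h2 : (s' : S) ∈ a := (ha.mem_or_mem h1).resolve_left hea
      have h3 : s' ∈ b.comap (algebraMap S' S) := hab ▸ (Ideal.mem_comap.mpr h2)
      have h4 : e * x ∈ b := hs' ▸ Ideal.mul_mem_left _ _ (Ideal.mem_comap.mp h3)
      exact (hb.mem_or_mem h4).resolve_left heb
    exact le_antisymm (hsub q₂ q hq₂ inferInstance he₂ hj hEq)
      (hsub q q₂ inferInstance hq₂ hj he₂ hEq.symm)

/-- If `e S` is contained in a finitely generated `R`-submodule, then `S/(1-e)` is a finite module. -/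
theorem finite_quotient_of_fin {R S : Type*} [CommRing R] [CommRing S] [Algebra R S] (e : S)
    (N : Submodule R S) (hN : N.FG) (h : ∀ x, e * x ∈ N) :
    Module.Finite R (S ⧸ Ideal.span ({1 - e} : Set S)) := by
  have : Module.Finite R N := Module.Finite.iff_fg.mpr hN
  let φ : N →ₗ[R] (S ⧸ Ideal.span ({1 - e} : Set S)) :=
    (Ideal.Quotient.mkₐ R (Ideal.span ({1 - e} : Set S))).toLinearMap.comp N.subtype
  refine Module.Finite.of_surjective φ ?_
  intro z
  obtain ⟨x, rfl⟩ := Ideal.Quotient.mk_surjective z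
  refine ⟨⟨e * x, h x⟩, ?_⟩
  change Ideal.Quotient.mk _ (e * x) = Ideal.Quotient.mk _ x
  rw [Ideal.Quotient.mk_eq_mk_iff_sub_mem]
  have : e * x - x = (1 - e) * (-x) := by ring
  rw [this]
  exact Ideal.mul_mem_right _ _ (Ideal.subset_span rfl)

/-- The "finite part" property is stable under finite unions of idempotents. -/
theorem fin_one_sub_prod {R S : Type*} [CommRing R] [CommRing S] [Algebra R S] {ι : Type*}
    (s : Finset ι) (e : ι → S)
    (h : ∀ i ∈ s, ∃ N : Submodule R S, N.FG ∧ ∀ x, e i * x ∈ N) :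
    ∃ N : Submodule R S, N.FG ∧ ∀ x, (1 - ∏ i ∈ s, (1 - e i)) * x ∈ N := by
  classical
  induction s using Finset.induction_on with
  | empty => exact ⟨⊥, Submodule.fg_bot, fun x => by simp⟩
  | insert a s ha ih =>
    obtain ⟨N₁, hN₁, h₁⟩ := h a (Finset.mem_insert_self a s)
    obtain ⟨N₂, hN₂, h₂⟩ := ih fun i hi => h i (Finset.mem_insert_of_mem hi)
    refine ⟨N₁ ⊔ N₂, hN₁.sup hN₂, fun x => ?_⟩
    rw [Finset.prod_insert ha]
    have : (1 - (1 - e a) * ∏ i ∈ s, (1 - e i)) * x =
        e a * x + (1 - ∏ i ∈ s, (1 - e i)) * (x - e a * x) := by ring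
    rw [this]
    exact Submodule.add_mem _ (Submodule.mem_sup_left (h₁ x)) (Submodule.mem_sup_right (h₂ _))

/-- Quasi-finiteness at a prime of `S/(e)` (with `e` idempotent) transfers to the corresponding
prime of `S`. -/
theorem quasiFiniteAt_of_quotient_idempotent {R S : Type*} [CommRing R] [CommRing S] [Algebra R S]
    (e : S) (he : IsIdempotentElem e) (q : Ideal (S ⧸ Ideal.span ({e} : Set S))) [q.IsPrime]
    [Algebra.QuasiFiniteAt R q] :
    haveI : (q.comap (Ideal.Quotient.mk (Ideal.span ({e} : Set S)))).IsPrime :=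
      Ideal.comap_isPrime _ _
    Algebra.QuasiFiniteAt R (q.comap (Ideal.Quotient.mk (Ideal.span ({e} : Set S)))) := by
  have hP : (q.comap (Ideal.Quotient.mk (Ideal.span ({e} : Set S)))).IsPrime :=
    Ideal.comap_isPrime _ _
  set P := q.comap (Ideal.Quotient.mk (Ideal.span ({e} : Set S))) with hPdef
  have heP : e ∈ P := by
    rw [hPdef, Ideal.mem_comap]
    have : Ideal.Quotient.mk (Ideal.span ({e} : Set S)) e = 0 :=
      Ideal.Quotient.eq_zero_iff_mem.mpr (Ideal.subset_span rfl)
    rw [this]; exact q.zero_mem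
  have h1e : (1 - e) ∉ P := by
    intro h
    have := P.add_mem h heP
    rw [sub_add_cancel] at this
    exact hP.ne_top ((Ideal.eq_top_iff_one _).mpr this)
  have he0 : algebraMap S (Localization.AtPrime P) e = 0 := by
    have hu : IsUnit (algebraMap S (Localization.AtPrime P) (1 - e)) :=
      IsLocalization.map_units (M := P.primeCompl) _ ⟨1 - e, h1e⟩
    have : algebraMap S (Localization.AtPrime P) e * algebraMap S (Localization.AtPrime P) (1 - e) = 0 := by
      rw [← map_mul, mul_sub, mul_one, he.eq, sub_self, map_zero]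
    exact hu.mul_left_eq_zero.mp this
  let g₀ : (S ⧸ Ideal.span ({e} : Set S)) →ₐ[R] Localization.AtPrime P :=
    Ideal.Quotient.liftₐ (Ideal.span ({e} : Set S)) (IsScalarTower.toAlgHom R S (Localization.AtPrime P))
      (by
        intro a ha
        obtain ⟨s, rfl⟩ := Ideal.mem_span_singleton.mp ha
        change algebraMap S (Localization.AtPrime P) (e * s) = 0
        rw [map_mul, he0, zero_mul])
  have hg₀ : ∀ s : S, g₀ (Ideal.Quotient.mk (Ideal.span ({e} : Set S)) s) =
      algebraMap S (Localization.AtPrime P) s := fun s => rfl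
  let g : Localization.AtPrime q →ₐ[R] Localization.AtPrime P :=
    IsLocalization.liftAlgHom (M := q.primeCompl) (f := g₀) (by
      rintro ⟨t, ht⟩
      obtain ⟨s, rfl⟩ := Ideal.Quotient.mk_surjective t
      rw [hg₀]
      exact IsLocalization.map_units (M := P.primeCompl) _ ⟨s, fun hs => ht (Ideal.mem_comap.mp hs)⟩)
  have hg : ∀ t, g (algebraMap _ (Localization.AtPrime q) t) = g₀ t := by
    intro t
    simp [g]
  refine Algebra.QuasiFinite.of_forall_exists_mul_mem_range g fun x => ?_
  obtain ⟨a, ⟨b, hb⟩, rfl⟩ := IsLocalization.exists_mk'_eq P.primeCompl x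
  refine ⟨algebraMap _ (Localization.AtPrime q) (Ideal.Quotient.mk (Ideal.span ({e} : Set S)) b), ?_, ?_⟩
  · rw [hg, hg₀]
    exact IsLocalization.map_units (M := P.primeCompl) _ ⟨b, hb⟩
  · rw [hg, hg₀]
    refine ⟨algebraMap _ (Localization.AtPrime q) (Ideal.Quotient.mk (Ideal.span ({e} : Set S)) a), ?_⟩
    change g (algebraMap _ (Localization.AtPrime q) (Ideal.Quotient.mk (Ideal.span ({e} : Set S)) a)) = _
    rw [hg, hg₀, IsLocalization.mk'_spec_mk]

theorem isNoetherianRing_quotient_map_maximalIdeal {R : Type*} [CommRing R] [IsLocalRing R]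
    (S : Type*) [CommRing S] [Algebra R S] [Algebra.FiniteType R S] :
    IsNoetherianRing (S ⧸ Ideal.map (algebraMap R S) (maximalIdeal R)) := by
  letI := Ideal.Quotient.field (maximalIdeal R)
  have h1 : Algebra.FiniteType R (S ⧸ Ideal.map (algebraMap R S) (maximalIdeal R)) :=
    Algebra.FiniteType.of_surjective (Ideal.Quotient.mkₐ R _) Ideal.Quotient.mk_surjective
  have h2 : Algebra.FiniteType (R ⧸ maximalIdeal R)
      (S ⧸ Ideal.map (algebraMap R S) (maximalIdeal R)) :=
    Algebra.FiniteType.of_restrictScalars_finiteType R _ _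
  exact Algebra.FiniteType.isNoetherianRing (R ⧸ maximalIdeal R) _

/-- Over a henselian local ring, every finite type algebra splits as (finite) × (not quasi-finite at
any point of the closed fibre). -/
theorem finiteType_split {R : Type u} [CommRing R] [HenselianLocalRing R] (S : Type u) [CommRing S]
    [Algebra R S] [Algebra.FiniteType R S] :
    ∃ e : S, IsIdempotentElem e ∧ Module.Finite R (S ⧸ Ideal.span ({1 - e} : Set S)) ∧
      ∀ (q : Ideal (S ⧸ Ideal.span ({e} : Set S))) [q.IsPrime],
        q.LiesOver (maximalIdeal R) → ¬ Algebra.QuasiFiniteAt R q := by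
  classical
  let Q : Set (PrimeSpectrum S) :=
    {q | q.asIdeal.LiesOver (maximalIdeal R) ∧ Algebra.QuasiFiniteAt R q.asIdeal}
  have step1 : ∀ q : Q, ∃ e : S, IsIdempotentElem e ∧ e ∉ q.1.asIdeal ∧
      (∃ N : Submodule R S, N.FG ∧ ∀ x, e * x ∈ N) ∧
      ∀ q₂ : Ideal S, q₂.IsPrime → q₂.LiesOver (maximalIdeal R) → e ∉ q₂ → q₂ = q.1.asIdeal := by
    rintro ⟨q, hq1, hq2⟩
    have := hq1
    have := hq2
    exact exists_idempotent_of_quasiFiniteAt q.asIdeal
  choose E hEid hEq hEfin hEuniq using step1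
  set mS : Ideal S := Ideal.map (algebraMap R S) (maximalIdeal R) with hmS
  have hmSle : ∀ q : Ideal S, q.LiesOver (maximalIdeal R) → mS ≤ q := by
    intro q hq
    rw [hmS, Ideal.map_le_iff_le_comap]
    exact (hq.over).le
  have hnoeth : IsNoetherianRing (S ⧸ mS) := isNoetherianRing_quotient_map_maximalIdeal S
  have hover : ∀ P : Ideal S, P.IsPrime → mS ≤ P → P.LiesOver (maximalIdeal R) := by
    intro P hP hle
    refine ⟨?_⟩
    have h1 : maximalIdeal R ≤ P.under R := by
      rw [hmS, Ideal.map_le_iff_le_comap] at hle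
      exact hle
    have h2 : P.under R ≠ ⊤ := (Ideal.comap_isPrime (algebraMap R S) P).ne_top
    exact ((maximalIdeal.isMaximal R).eq_of_le h2 h1)
  have horth : ∀ q q' : Q, q ≠ q' → Ideal.Quotient.mk mS (E q * E q') = 0 := by
    intro q q' hne
    have hid : IsIdempotentElem (Ideal.Quotient.mk mS (E q * E q')) :=
      ((hEid q).mul (hEid q')).map (Ideal.Quotient.mk mS)
    have hnil : IsNilpotent (Ideal.Quotient.mk mS (E q * E q')) := by
      rw [← mem_nilradical, nilradical_eq_sInf, Ideal.mem_sInf]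
      intro Pb hPb
      have hPb' : Pb.IsPrime := hPb
      by_contra hz
      have hPprime : (Pb.comap (Ideal.Quotient.mk mS)).IsPrime := Ideal.comap_isPrime _ _
      have hle : mS ≤ Pb.comap (Ideal.Quotient.mk mS) := by
        intro x hx
        rw [Ideal.mem_comap, Ideal.Quotient.eq_zero_iff_mem.mpr hx]
        exact Pb.zero_mem
      have hPm := hover _ hPprime hle
      have hzP : E q * E q' ∉ Pb.comap (Ideal.Quotient.mk mS) := hz
      have h1 : E q ∉ Pb.comap (Ideal.Quotient.mk mS) := fun h => hzP (Ideal.mul_mem_right _ _ h)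
      have h2 : E q' ∉ Pb.comap (Ideal.Quotient.mk mS) := fun h => hzP (Ideal.mul_mem_left _ _ h)
      have e1 := hEuniq q _ hPprime hPm h1
      have e2 := hEuniq q' _ hPprime hPm h2
      exact hne (Subtype.ext (PrimeSpectrum.ext (e1.symm.trans e2)))
    obtain ⟨n, hn⟩ := hnil
    cases n with
    | zero =>
      rw [pow_zero] at hn
      have : Subsingleton (S ⧸ mS) := subsingleton_of_zero_eq_one hn.symm
      exact Subsingleton.elim _ _
    | succ n => rwa [hid.pow_succ_eq] at hn
  have hfg : (Ideal.span (Set.range fun q : Q => Ideal.Quotient.mk mS (E q))).FG :=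
    IsNoetherian.noetherian _
  obtain ⟨T, hTsub, hTspan⟩ := (Submodule.fg_span_iff_fg_span_finset_subset _).mp hfg
  have hTq : ∀ τ : (T : Set (S ⧸ mS)), ∃ q : Q, Ideal.Quotient.mk mS (E q) = τ.1 :=
    fun τ => hTsub τ.2
  choose qT hqT using hTq
  let qs : Finset Q := T.attach.image (fun τ => qT ⟨τ.1, τ.2⟩)
  have hQsub : ∀ q : Q, q ∈ qs := by
    intro q
    by_contra hq
    have hkill : ∀ x ∈ Ideal.span (↑T : Set (S ⧸ mS)), Ideal.Quotient.mk mS (E q) * x = 0 := by
      intro x hx
      induction hx using Submodule.span_induction with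
      | mem τ hτ =>
        have hne : q ≠ qT ⟨τ, hτ⟩ := by
          intro h
          apply hq
          rw [h]
          exact Finset.mem_image.mpr ⟨⟨τ, hτ⟩, Finset.mem_attach _ _, rfl⟩
        have := horth q (qT ⟨τ, hτ⟩) hne
        rw [map_mul, hqT ⟨τ, hτ⟩] at this
        exact this
      | zero => simp
      | add x y _ _ hx hy => rw [mul_add, hx, hy, add_zero]
      | smul a x _ hx => rw [smul_eq_mul, mul_left_comm, hx, mul_zero]
    have hmem : Ideal.Quotient.mk mS (E q) ∈ Ideal.span (↑T : Set (S ⧸ mS)) := by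
      have : Ideal.span (↑T : Set (S ⧸ mS)) =
          Ideal.span (Set.range fun q : Q => Ideal.Quotient.mk mS (E q)) := hTspan.symm
      rw [this]
      exact Ideal.subset_span ⟨q, rfl⟩
    have h0 := hkill _ hmem
    rw [((hEid q).map (Ideal.Quotient.mk mS)).eq] at h0
    exact hEq q (hmSle _ q.2.1 (Ideal.Quotient.eq_zero_iff_mem.mp h0))
  set e : S := 1 - ∏ q ∈ qs, (1 - E q) with he
  have heid : IsIdempotentElem e := by
    apply IsIdempotentElem.one_sub
    exact Finset.prod_induction _ IsIdempotentElem (fun a b ha hb => ha.mul hb)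
      IsIdempotentElem.one (fun q _ => (hEid q).one_sub)
  obtain ⟨N, hN, hNe⟩ := fin_one_sub_prod (R := R) qs E (fun q _ => hEfin q)
  refine ⟨e, heid, finite_quotient_of_fin e N hN hNe, ?_⟩
  intro qb hqb hqbm hqf
  have hPprime : (qb.comap (Ideal.Quotient.mk (Ideal.span ({e} : Set S)))).IsPrime :=
    Ideal.comap_isPrime _ _
  have hPqf := quasiFiniteAt_of_quotient_idempotent (R := R) e heid qb
  have hPm : (qb.comap (Ideal.Quotient.mk (Ideal.span ({e} : Set S)))).LiesOver (maximalIdeal R) := by
    refine ⟨?_⟩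
    rw [hqbm.over, Ideal.under, Ideal.under, Ideal.comap_comap]
    rfl
  let q : Q := ⟨⟨_, hPprime⟩, hPm, hPqf⟩
  have heP : e ∈ qb.comap (Ideal.Quotient.mk (Ideal.span ({e} : Set S))) := by
    rw [Ideal.mem_comap]
    have h0 : Ideal.Quotient.mk (Ideal.span ({e} : Set S)) e = 0 :=
      Ideal.Quotient.eq_zero_iff_mem.mpr (Ideal.subset_span rfl)
    rw [h0]
    exact qb.zero_mem
  have hEe : E q * e = E q := by
    have h0 : E q * ∏ q' ∈ qs, (1 - E q') = 0 := by
      rw [← Finset.mul_prod_erase qs _ (hQsub q), ← mul_assoc, mul_sub, mul_one, (hEid q).eq,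
        sub_self, zero_mul]
    rw [he, mul_sub, mul_one, h0, sub_zero]
  exact hEq q (hEe ▸ Ideal.mul_mem_left _ _ heP)

/-- Over a henselian local ring, a quasi-finite finite type algebra splits as (finite) × (empty
closed fibre). -/
theorem quasiFinite_split {R : Type u} [CommRing R] [HenselianLocalRing R] (S : Type u) [CommRing S]
    [Algebra R S] [Algebra.FiniteType R S] [Algebra.QuasiFinite R S] :
    ∃ e : S, IsIdempotentElem e ∧ Module.Finite R (S ⧸ Ideal.span ({1 - e} : Set S)) ∧
      Ideal.map (algebraMap R (S ⧸ Ideal.span ({e} : Set S))) (maximalIdeal R) = ⊤ := by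
  obtain ⟨e, he, hfin, hq⟩ := finiteType_split (R := R) S
  refine ⟨e, he, hfin, ?_⟩
  by_contra hne
  obtain ⟨M, hM, hle⟩ := Ideal.exists_le_maximal _ hne
  have hMp : M.IsPrime := hM.isPrime
  have hMm : M.LiesOver (maximalIdeal R) := by
    refine ⟨?_⟩
    have h1 : maximalIdeal R ≤ M.under R := by
      rw [Ideal.map_le_iff_le_comap] at hle
      exact hle
    have h2 : M.under R ≠ ⊤ := (Ideal.comap_isPrime (algebraMap R _) M).ne_top
    exact ((maximalIdeal.isMaximal R).eq_of_le h2 h1)
  exact hq M hMm inferInstance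

end Groth.Agent.Lib.lead.HenselLocal
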