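import Mathlib
import Groth.Agent.Lib.lead.HenselQF

/-! Converse characterizations of henselian local rings via finite type algebras (lead). -/

namespace Groth.Agent.Lib.lead.HenselLocal

universe u

open IsLocalRing Polynomial

/-- Root extraction: if `T` is a finite `R`-algebra with injective structure map, `T = R + mT`,
and `x ∈ T` is a root of `f` with `x ≡ a` mod `mT`, then `f` has a root `b ∈ R` with `b ≡ a`. -/
theorem exists_root_of_finite_algebra {R : Type*} [CommRing R] [IsLocalRing R] (T : Type*)
    [CommRing T] [Algebra R T] [Module.Finite R T]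
    (hinj : Function.Injective (algebraMap R T))
    (hgen : ∀ s : T, ∃ r : R, s - algebraMap R T r ∈ Ideal.map (algebraMap R T) (maximalIdeal R))
    (f : R[X]) (x : T) (hx : aeval x f = 0) (a : R)
    (hxa : x - algebraMap R T a ∈ Ideal.map (algebraMap R T) (maximalIdeal R)) :
    ∃ b : R, f.IsRoot b ∧ b - a ∈ maximalIdeal R := by
  have key : (⊤ : Submodule R T) ≤ Submodule.span R {1} := by
    apply Submodule.le_of_le_smul_of_le_jacobson_bot (I := maximalIdeal R) Module.Finite.fg_top
      (IsLocalRing.maximalIdeal_le_jacobson _)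
    rw [Ideal.smul_top_eq_map]
    intro s _
    obtain ⟨r, hr⟩ := hgen s
    have : s = algebraMap R T r + (s - algebraMap R T r) := by ring
    rw [this]
    refine Submodule.add_mem _ (Submodule.mem_sup_left ?_) (Submodule.mem_sup_right hr)
    rw [Submodule.mem_span_singleton]
    exact ⟨r, (Algebra.algebraMap_eq_smul_one r).symm⟩
  have hX : x ∈ Submodule.span R {1} := key Submodule.mem_top
  rw [Submodule.mem_span_singleton] at hX
  obtain ⟨b, hb⟩ := hX
  rw [← Algebra.algebraMap_eq_smul_one] at hb
  refine ⟨b, ?_, ?_⟩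
  · apply hinj
    rw [map_zero, ← hx, ← hb, aeval_algebraMap_apply]
    rfl
  · by_contra hnm
    have hu : IsUnit (b - a) := by
      by_contra hnu
      exact hnm ((mem_maximalIdeal _).mpr hnu)
    have h1 : algebraMap R T (b - a) ∈ Ideal.map (algebraMap R T) (maximalIdeal R) := by
      rw [map_sub, hb]; exact hxa
    have htop : Ideal.map (algebraMap R T) (maximalIdeal R) = ⊤ :=
      Ideal.eq_top_of_isUnit_mem _ h1 (hu.map _)
    -- then T = 0 by Nakayama, contradiction with injectivity
    have h0 : (⊤ : Submodule R T) ≤ ⊥ := by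
      apply Submodule.le_of_le_smul_of_le_jacobson_bot (I := maximalIdeal R) Module.Finite.fg_top
        (IsLocalRing.maximalIdeal_le_jacobson _)
      rw [Ideal.smul_top_eq_map, htop]
      intro s _
      exact Submodule.mem_sup_right trivial
    have h1T : (1 : T) = 0 := by
      have : (1 : T) ∈ (⊥ : Submodule R T) := h0 Submodule.mem_top
      simpa using this
    have : algebraMap R T 1 = algebraMap R T 0 := by rw [map_one, map_zero, h1T]
    exact one_ne_zero (hinj this)

/-- A quasi-finite flat local model for a simple root of the reduction of a monic polynomial. -/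
theorem exists_local_model {R : Type u} [CommRing R] [IsLocalRing R] (f : R[X]) (hf : f.Monic)
    (a₀ : ResidueField R) (h₁ : aeval a₀ f = 0) (h₂ : aeval a₀ (derivative f) ≠ 0) :
    ∃ (S : Type u) (_ : CommRing S) (_ : Algebra R S) (_ : Algebra.FiniteType R S)
      (_ : Module.Flat R S) (_ : Algebra.QuasiFinite R S) (φ₀ : S →ₐ[R] ResidueField R) (x : S)
      (a : R), aeval x f = 0 ∧ residue R a = a₀ ∧ φ₀ x = a₀ ∧
        x - algebraMap R S a ∈ Ideal.map (algebraMap R S) (maximalIdeal R) ∧
        ∀ s : S, ∃ r : R, s - algebraMap R S r ∈ Ideal.map (algebraMap R S) (maximalIdeal R) := by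
  classical
  have haeval : ∀ p : R[X], aeval a₀ p = (p.map (residue R)).eval a₀ := by
    intro p
    rw [eval_map, aeval_def]; rfl
  have hroot : (f.map (residue R)).IsRoot a₀ := by
    rw [IsRoot, ← haeval]; exact h₁
  obtain ⟨h₀, hh₀⟩ := dvd_iff_isRoot.mpr hroot
  have hder : (derivative (f.map (residue R))).eval a₀ ≠ 0 := by
    rw [derivative_map, ← haeval]; exact h₂
  have hh₀ne : h₀.eval a₀ ≠ 0 := by
    rw [hh₀, derivative_mul] at hder
    simpa using hder
  obtain ⟨a, ha⟩ : ∃ a : R, residue R a = a₀ := Ideal.Quotient.mk_surjective a₀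
  obtain ⟨H, hH⟩ := map_surjective (residue R) Ideal.Quotient.mk_surjective h₀
  have hfin : Module.Finite R (AdjoinRoot f) := hf.finite_adjoinRoot
  have hfree : Module.Free R (AdjoinRoot f) := hf.free_adjoinRoot
  let η : AdjoinRoot f := AdjoinRoot.mk f H
  let J : Ideal (AdjoinRoot f) := Ideal.map (algebraMap R (AdjoinRoot f)) (maximalIdeal R)
  have hcoeff : ∀ d : R[X], d.map (residue R) = 0 → ∀ i, d.coeff i ∈ maximalIdeal R := by
    intro d hd i
    have h2 : (d.map (residue R)).coeff i = 0 := by rw [hd]; simp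
    rw [coeff_map] at h2
    exact (Ideal.Quotient.eq_zero_iff_mem).mp h2
  have hJ : ∀ d : R[X], (∀ i, d.coeff i ∈ maximalIdeal R) → AdjoinRoot.mk f d ∈ J := by
    intro d hd
    have h1 : d = ∑ i ∈ d.support, C (d.coeff i) * X ^ i := by
      conv_lhs => rw [d.as_sum_support]
      refine Finset.sum_congr rfl fun i _ => ?_
      rw [← C_mul_X_pow_eq_monomial]
    rw [h1, map_sum]
    refine Ideal.sum_mem _ fun i _ => ?_
    rw [map_mul]
    refine Ideal.mul_mem_right _ _ ?_
    rw [AdjoinRoot.mk_C]
    exact Ideal.mem_map_of_mem _ (hd i)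
  have hXη : AdjoinRoot.mk f (X - C a) * η ∈ J := by
    have h3 : ((X - C a) * H - f).map (residue R) = 0 := by
      simp only [Polynomial.map_sub, Polynomial.map_mul, map_X, map_C, hH, ha, hh₀]
      ring
    have h4 := hJ _ (hcoeff _ h3)
    rw [map_sub, AdjoinRoot.mk_self, sub_zero, map_mul] at h4
    exact h4
  -- the localization
  let S := Localization.Away η
  have hmS : Ideal.map (algebraMap (AdjoinRoot f) S) J =
      Ideal.map (algebraMap R S) (maximalIdeal R) := by
    rw [Ideal.map_map, ← IsScalarTower.algebraMap_eq]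
  have hηu : IsUnit (algebraMap (AdjoinRoot f) S η) := IsLocalization.Away.algebraMap_isUnit η
  let x : S := algebraMap (AdjoinRoot f) S (AdjoinRoot.root f)
  have hof : ∀ r : R, algebraMap (AdjoinRoot f) S (AdjoinRoot.of f r) = algebraMap R S r := fun r => by
    rw [IsScalarTower.algebraMap_apply R (AdjoinRoot f) S, AdjoinRoot.algebraMap_eq]
  have hxa : x - algebraMap R S a ∈ Ideal.map (algebraMap R S) (maximalIdeal R) := by
    have h5 : algebraMap (AdjoinRoot f) S (AdjoinRoot.mk f (X - C a) * η) ∈
        Ideal.map (algebraMap R S) (maximalIdeal R) := by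
      rw [← hmS]; exact Ideal.mem_map_of_mem _ hXη
    rw [map_mul] at h5
    have h6 : algebraMap (AdjoinRoot f) S (AdjoinRoot.mk f (X - C a)) = x - algebraMap R S a := by
      rw [map_sub, AdjoinRoot.mk_X, AdjoinRoot.mk_C, map_sub, hof]
    rw [h6] at h5
    obtain ⟨v, hv⟩ := hηu.exists_right_inv
    have : x - algebraMap R S a = (x - algebraMap R S a) * algebraMap (AdjoinRoot f) S η * v := by
      rw [mul_assoc, hv, mul_one]
    rw [this]
    exact Ideal.mul_mem_right _ _ h5
  -- every polynomial expression in x is congruent to a constant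
  have hpoly : ∀ p : R[X], algebraMap (AdjoinRoot f) S (AdjoinRoot.mk f p) -
      algebraMap R S (p.eval a) ∈ Ideal.map (algebraMap R S) (maximalIdeal R) := by
    intro p
    have hdvd : (X - C a) ∣ p - C (p.eval a) := by
      rw [dvd_iff_isRoot]; simp
    obtain ⟨q, hq⟩ := hdvd
    generalize p.eval a = v at hq ⊢
    have h7 : p = C v + (X - C a) * q := by rw [← hq]; ring
    have h8 : algebraMap (AdjoinRoot f) S (AdjoinRoot.mk f p) - algebraMap R S v =
        (x - algebraMap R S a) * algebraMap (AdjoinRoot f) S (AdjoinRoot.mk f q) := by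
      rw [h7, map_add, map_mul, map_add, map_mul, map_sub, AdjoinRoot.mk_X, AdjoinRoot.mk_C,
        AdjoinRoot.mk_C, map_sub, hof, hof]
      ring
    rw [h8]
    exact Ideal.mul_mem_right _ _ hxa
  -- the unit c = H(a)
  have hcu : IsUnit (H.eval a) := by
    apply (IsLocalRing.residue_ne_zero_iff_isUnit _).mp
    have : residue R (H.eval a) = (H.map (residue R)).eval (residue R a) := by
      rw [eval_map, eval₂_at_apply]
    rw [this, hH, ha]; exact hh₀ne
  obtain ⟨u, hu⟩ := hcu.exists_right_inv
  have hgen : ∀ s : S, ∃ r : R, s - algebraMap R S r ∈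
      Ideal.map (algebraMap R S) (maximalIdeal R) := by
    intro s
    obtain ⟨n, y, hy⟩ := IsLocalization.Away.surj η s
    obtain ⟨p, rfl⟩ := AdjoinRoot.mk_surjective y
    refine ⟨p.eval a * u ^ n, ?_⟩
    set c := H.eval a with hc
    set E := algebraMap (AdjoinRoot f) S η with hE
    have hEc : E - algebraMap R S c ∈ Ideal.map (algebraMap R S) (maximalIdeal R) := hpoly H
    have hEcn : E ^ n - algebraMap R S c ^ n ∈ Ideal.map (algebraMap R S) (maximalIdeal R) := by
      obtain ⟨w, hw⟩ := sub_dvd_pow_sub_pow E (algebraMap R S c) n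
      rw [hw]; exact Ideal.mul_mem_right _ _ hEc
    have hcun : algebraMap R S c ^ n * algebraMap R S (u ^ n) = 1 := by
      rw [← map_pow, ← map_mul, ← mul_pow, hu, one_pow, map_one]
    have : s - algebraMap R S (p.eval a * u ^ n) = algebraMap R S (u ^ n) *
        ((algebraMap (AdjoinRoot f) S (AdjoinRoot.mk f p) - algebraMap R S (p.eval a)) -
          s * (E ^ n - algebraMap R S c ^ n)) := by
      rw [← hy, map_mul]
      linear_combination (-s) * hcun
    rw [this]
    exact Ideal.mul_mem_left _ _ (Ideal.sub_mem _ (hpoly p) (Ideal.mul_mem_left _ _ hEcn))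
  -- the point
  let φ₁ : AdjoinRoot f →ₐ[R] ResidueField R :=
    AdjoinRoot.liftAlgHom f (Algebra.ofId R (ResidueField R)) a₀ (by
      have := h₁
      rwa [aeval_def] at this)
  have hφ₁η : IsUnit (φ₁ η) := by
    change IsUnit (φ₁ (AdjoinRoot.mk f H))
    rw [AdjoinRoot.liftAlgHom_mk]
    have h6 : eval₂ (↑(Algebra.ofId R (ResidueField R)) : R →+* ResidueField R) a₀ H =
        (H.map (residue R)).eval a₀ := by
      rw [eval_map]; rfl
    rw [h6, hH]
    exact isUnit_iff_ne_zero.mpr hh₀ne
  let φ₀ : S →ₐ[R] ResidueField R := IsLocalization.Away.liftAlgHom (f := φ₁) η hφ₁η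
  have hφ₀x : φ₀ x = a₀ := by
    change φ₀ (algebraMap (AdjoinRoot f) S (AdjoinRoot.root f)) = a₀
    simp only [φ₀, IsLocalization.Away.liftAlgHom_apply, IsLocalization.Away.lift_eq]
    change φ₁ (AdjoinRoot.root f) = a₀
    rw [AdjoinRoot.liftAlgHom_root]
  have hxroot : aeval x f = 0 := by
    have : aeval x f = algebraMap (AdjoinRoot f) S (aeval (AdjoinRoot.root f) f) := by
      rw [← aeval_algebraMap_apply]
    rw [this, AdjoinRoot.aeval_eq, AdjoinRoot.mk_self, map_zero]
  have hflat : Module.Flat R S := Module.Flat.trans R (AdjoinRoot f) S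
  exact ⟨S, inferInstance, inferInstance, inferInstance, hflat, inferInstance, φ₀, x, a,
    hxroot, ha, hφ₀x, hxa, hgen⟩

/-- If every finite type algebra over the local ring `R` splits as (finite) × (nowhere quasi-finite
over the closed point), then `R` is henselian. -/
theorem henselian_of_finiteType_split {R : Type u} [CommRing R] [IsLocalRing R]
    (h : ∀ (S : Type u) [CommRing S] [Algebra R S] [Algebra.FiniteType R S],
      ∃ e : S, IsIdempotentElem e ∧ Module.Finite R (S ⧸ Ideal.span ({1 - e} : Set S)) ∧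
        ∀ (q : Ideal (S ⧸ Ideal.span ({e} : Set S))) [q.IsPrime],
          q.LiesOver (maximalIdeal R) → ¬ Algebra.QuasiFiniteAt R q) :
    HenselianLocalRing R := by
  classical
  apply ((HenselianLocalRing.TFAE R).out 0 1).mpr
  intro f hf a₀ h₁ h₂
  obtain ⟨S, _, _, _, hflat, hqf, φ₀, x, a, hxroot, ha, hφ₀x, hxa, hgen⟩ :=
    exists_local_model f hf a₀ h₁ h₂
  obtain ⟨e, he, hfinT, hB⟩ := h S
  let q : Ideal S := RingHom.ker φ₀.toRingHom
  have hqprime : q.IsPrime := RingHom.ker_isPrime _
  have hqm : q.LiesOver (maximalIdeal R) := by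
    refine ⟨?_⟩
    rw [Ideal.under, RingHom.comap_ker, AlgHom.toRingHom_eq_coe, φ₀.comp_algebraMap]
    exact (IsLocalRing.ker_residue (R := R)).symm
  have heq : e ∉ q := by
    intro hmem
    have hker : RingHom.ker (Ideal.Quotient.mk (Ideal.span ({e} : Set S))) ≤ q := by
      rw [Ideal.mk_ker]; exact (Ideal.span_singleton_le_iff_mem _).mpr hmem
    have hqbprime : (q.map (Ideal.Quotient.mk (Ideal.span ({e} : Set S)))).IsPrime :=
      Ideal.map_isPrime_of_surjective Ideal.Quotient.mk_surjective hker
    have hcomap : (q.map (Ideal.Quotient.mk (Ideal.span ({e} : Set S)))).comap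
        (Ideal.Quotient.mk (Ideal.span ({e} : Set S))) = q := by
      rw [Ideal.comap_map_of_surjective _ Ideal.Quotient.mk_surjective]
      rw [← RingHom.ker_eq_comap_bot]
      exact sup_eq_left.mpr hker
    have hqbm : (q.map (Ideal.Quotient.mk (Ideal.span ({e} : Set S)))).LiesOver (maximalIdeal R) := by
      refine ⟨?_⟩
      rw [hqm.over]
      conv_lhs => rw [← hcomap]
      rw [Ideal.under, Ideal.under, Ideal.comap_comap]
      rfl
    exact hB _ hqbm inferInstance
  have hφe : φ₀ e = 1 := by
    have h1 : φ₀ e * φ₀ e = φ₀ e := by rw [← map_mul, he.eq]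
    have h2 : φ₀ e ≠ 0 := fun h0 => heq (RingHom.mem_ker.mpr h0)
    exact mul_left_cancel₀ h2 (by rw [h1, mul_one])
  -- T := S ⧸ (1 - e)
  let I₁ : Ideal S := Ideal.span {1 - e}
  have hntT : Nontrivial (S ⧸ I₁) := by
    rw [Ideal.Quotient.nontrivial_iff]
    intro htop
    have h1 : (1 : S) ∈ I₁ := by rw [htop]; trivial
    obtain ⟨s, hs⟩ := Ideal.mem_span_singleton.mp h1
    have := congrArg φ₀ hs
    rw [map_one, map_mul, map_sub, map_one, hφe, sub_self, zero_mul] at this
    exact one_ne_zero this
  have hflatT : Module.Flat R (S ⧸ I₁) := by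
    let E := AlgEquiv.prodQuotientOfIsIdempotentElem R (S := S) he.one_sub he
      (by ring) (by rw [sub_mul, one_mul, he.eq, sub_self])
    refine Module.Flat.of_retract (M := S)
      (E.symm.toLinearMap.comp (LinearMap.inl R _ _)) ((LinearMap.fst R _ _).comp E.toLinearMap) ?_
    ext t
    simp
  have hfreeT : Module.Free R (S ⧸ I₁) := Module.free_of_flat_of_isLocalRing
  have hinj : Function.Injective (algebraMap R (S ⧸ I₁)) :=
    FaithfulSMul.algebraMap_injective R _
  have hmapT : ∀ j ∈ Ideal.map (algebraMap R S) (maximalIdeal R), Ideal.Quotient.mk I₁ j ∈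
      Ideal.map (algebraMap R (S ⧸ I₁)) (maximalIdeal R) := by
    intro j hj
    have : Ideal.map (Ideal.Quotient.mk I₁) (Ideal.map (algebraMap R S) (maximalIdeal R)) =
        Ideal.map (algebraMap R (S ⧸ I₁)) (maximalIdeal R) := by
      rw [Ideal.map_map]; rfl
    rw [← this]
    exact Ideal.mem_map_of_mem _ hj
  have hgenT : ∀ t : S ⧸ I₁, ∃ r : R, t - algebraMap R (S ⧸ I₁) r ∈
      Ideal.map (algebraMap R (S ⧸ I₁)) (maximalIdeal R) := by
    intro t
    obtain ⟨s, rfl⟩ := Ideal.Quotient.mk_surjective t
    obtain ⟨r, hr⟩ := hgen s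
    exact ⟨r, hmapT _ hr⟩
  have hxT : aeval (Ideal.Quotient.mk I₁ x) f = 0 := by
    have : aeval (Ideal.Quotient.mk I₁ x) f = Ideal.Quotient.mk I₁ (aeval x f) := by
      rw [← Ideal.Quotient.mkₐ_eq_mk R, aeval_algHom_apply]
    rw [this, hxroot, map_zero]
  obtain ⟨b, hb, hba⟩ := exists_root_of_finite_algebra (S ⧸ I₁) hinj hgenT f
    (Ideal.Quotient.mk I₁ x) hxT a (hmapT _ hxa)
  refine ⟨b, hb, ?_⟩
  have : residue R (b - a) = 0 := (Ideal.Quotient.eq_zero_iff_mem).mpr hba
  rw [map_sub, sub_eq_zero] at this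
  rw [this, ha]

/-- If localizations at quasi-finite primes over the closed point are finite, `R` is henselian. -/
theorem henselian_of_finite_localization {R : Type u} [CommRing R] [IsLocalRing R]
    (h : ∀ (S : Type u) [CommRing S] [Algebra R S] [Algebra.FiniteType R S] (q : Ideal S) [q.IsPrime],
        q.LiesOver (maximalIdeal R) → Algebra.QuasiFiniteAt R q →
          Module.Finite R (Localization.AtPrime q)) :
    HenselianLocalRing R := by
  classical
  apply ((HenselianLocalRing.TFAE R).out 0 1).mpr
  intro f hf a₀ h₁ h₂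
  obtain ⟨S, _, _, _, hflat, hqf, φ₀, x, a, hxroot, ha, hφ₀x, hxa, hgen⟩ :=
    exists_local_model f hf a₀ h₁ h₂
  let q : Ideal S := RingHom.ker φ₀.toRingHom
  have hqprime : q.IsPrime := RingHom.ker_isPrime _
  have hqm : q.LiesOver (maximalIdeal R) := by
    refine ⟨?_⟩
    rw [Ideal.under, RingHom.comap_ker, AlgHom.toRingHom_eq_coe, φ₀.comp_algebraMap]
    exact (IsLocalRing.ker_residue (R := R)).symm
  have hfinT : Module.Finite R (Localization.AtPrime q) := h S q hqm inferInstance
  have hflatT : Module.Flat R (Localization.AtPrime q) := Module.Flat.trans R S _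
  have hfreeT : Module.Free R (Localization.AtPrime q) := Module.free_of_flat_of_isLocalRing
  have hinj : Function.Injective (algebraMap R (Localization.AtPrime q)) :=
    FaithfulSMul.algebraMap_injective R _
  have hmSq : Ideal.map (algebraMap R S) (maximalIdeal R) ≤ q := by
    rw [Ideal.map_le_iff_le_comap]; exact (hqm.over).le
  have hmapT : ∀ j ∈ Ideal.map (algebraMap R S) (maximalIdeal R),
      algebraMap S (Localization.AtPrime q) j ∈
      Ideal.map (algebraMap R (Localization.AtPrime q)) (maximalIdeal R) := by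
    intro j hj
    have : Ideal.map (algebraMap S (Localization.AtPrime q))
        (Ideal.map (algebraMap R S) (maximalIdeal R)) =
        Ideal.map (algebraMap R (Localization.AtPrime q)) (maximalIdeal R) := by
      rw [Ideal.map_map, ← IsScalarTower.algebraMap_eq]
    rw [← this]
    exact Ideal.mem_map_of_mem _ hj
  have hgenT : ∀ t : Localization.AtPrime q, ∃ r : R, t - algebraMap R _ r ∈
      Ideal.map (algebraMap R (Localization.AtPrime q)) (maximalIdeal R) := by
    intro t
    obtain ⟨s, ⟨u, hu⟩, rfl⟩ := IsLocalization.exists_mk'_eq q.primeCompl t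
    obtain ⟨r₁, hr₁⟩ := hgen s
    obtain ⟨r₂, hr₂⟩ := hgen u
    have hr₂u : IsUnit r₂ := by
      by_contra hnu
      have hr₂m : r₂ ∈ maximalIdeal R := (mem_maximalIdeal _).mpr hnu
      have h3 : algebraMap R S r₂ ∈ q := hmSq (Ideal.mem_map_of_mem _ hr₂m)
      have h4 : u ∈ q := by
        have : u = (u - algebraMap R S r₂) + algebraMap R S r₂ := by ring
        rw [this]; exact q.add_mem (hmSq hr₂) h3
      exact hu h4
    obtain ⟨v, hv⟩ := hr₂u.exists_right_inv
    refine ⟨r₁ * v, ?_⟩
    set t := IsLocalization.mk' (Localization.AtPrime q) s (⟨u, hu⟩ : q.primeCompl) with ht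
    have htu : t * algebraMap S _ u = algebraMap S _ s := IsLocalization.mk'_spec _ s ⟨u, hu⟩
    have hv' : algebraMap R (Localization.AtPrime q) r₂ * algebraMap R _ v = 1 := by
      rw [← map_mul, hv, map_one]
    have : t - algebraMap R _ (r₁ * v) = algebraMap R (Localization.AtPrime q) v *
        (algebraMap S _ (s - algebraMap R S r₁) - t * algebraMap S _ (u - algebraMap R S r₂)) := by
      rw [map_sub, map_sub, map_mul, ← htu, ← IsScalarTower.algebraMap_apply R S,
        ← IsScalarTower.algebraMap_apply R S]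
      linear_combination (-t) * hv'
    rw [this]
    exact Ideal.mul_mem_left _ _ (Ideal.sub_mem _ (hmapT _ hr₁) (Ideal.mul_mem_left _ _ (hmapT _ hr₂)))
  have hxT : aeval (algebraMap S (Localization.AtPrime q) x) f = 0 := by
    rw [aeval_algebraMap_apply, hxroot, map_zero]
  have hxaT : algebraMap S (Localization.AtPrime q) x - algebraMap R _ a ∈
      Ideal.map (algebraMap R (Localization.AtPrime q)) (maximalIdeal R) := by
    have := hmapT _ hxa
    rwa [map_sub, ← IsScalarTower.algebraMap_apply R S] at this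
  obtain ⟨b, hb, hba⟩ := exists_root_of_finite_algebra (Localization.AtPrime q) hinj hgenT f
    _ hxT a hxaT
  refine ⟨b, hb, ?_⟩
  have : residue R (b - a) = 0 := (Ideal.Quotient.eq_zero_iff_mem).mpr hba
  rw [map_sub, sub_eq_zero] at this
  rw [this, ha]

/-- Over a henselian local ring, the localization of a finite type algebra at a quasi-finite prime
over the closed point is a finite module. -/
theorem finite_localization_of_quasiFiniteAt {R : Type u} [CommRing R] [HenselianLocalRing R]
    (S : Type u) [CommRing S] [Algebra R S] [Algebra.FiniteType R S] (q : Ideal S) [q.IsPrime]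
    (hqm : q.LiesOver (maximalIdeal R)) (hqf : Algebra.QuasiFiniteAt R q) :
    Module.Finite R (Localization.AtPrime q) := by
  classical
  obtain ⟨e, he, heq, ⟨N, hN, hNe⟩, huniq⟩ := exists_idempotent_of_quasiFiniteAt (R := R) q
  have hfinA : Module.Finite R (S ⧸ Ideal.span ({1 - e} : Set S)) :=
    finite_quotient_of_fin e N hN hNe
  set I₁ : Ideal S := Ideal.span {1 - e} with hI₁
  -- elements outside q are units in A
  have hunit : ∀ t : S, t ∉ q → IsUnit (Ideal.Quotient.mk I₁ t) := by
    intro t ht
    by_contra hnu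
    obtain ⟨M, hM, htM⟩ := exists_max_ideal_of_mem_nonunits hnu
    have hMp : M.IsPrime := hM.isPrime
    have hMu : M.comap (algebraMap R (S ⧸ I₁)) = maximalIdeal R :=
      IsLocalRing.eq_maximalIdeal (Ideal.isMaximal_comap_of_isIntegral_of_isMaximal M)
    have hP : (M.comap (Ideal.Quotient.mk I₁)).IsPrime := Ideal.comap_isPrime _ _
    have hPm : (M.comap (Ideal.Quotient.mk I₁)).LiesOver (maximalIdeal R) := by
      refine ⟨?_⟩
      rw [← hMu, Ideal.under, Ideal.comap_comap]
      rfl
    have heP : e ∉ M.comap (Ideal.Quotient.mk I₁) := by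
      intro hmem
      have h1 : (1 - e) ∈ M.comap (Ideal.Quotient.mk I₁) := by
        rw [Ideal.mem_comap]
        have : Ideal.Quotient.mk I₁ (1 - e) = 0 :=
          Ideal.Quotient.eq_zero_iff_mem.mpr (Ideal.subset_span rfl)
        rw [this]; exact M.zero_mem
      have h2 := Ideal.add_mem _ h1 hmem
      rw [sub_add_cancel] at h2
      exact hP.ne_top ((Ideal.eq_top_iff_one _).mpr h2)
    have := huniq _ hP hPm heP
    exact ht (this ▸ (Ideal.mem_comap.mpr htM))
  have he0 : algebraMap S (Localization.AtPrime q) (1 - e) = 0 := by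
    have hu : IsUnit (algebraMap S (Localization.AtPrime q) e) :=
      IsLocalization.map_units (M := q.primeCompl) _ ⟨e, heq⟩
    have : algebraMap S (Localization.AtPrime q) e * algebraMap S (Localization.AtPrime q) (1 - e) = 0 := by
      rw [← map_mul, mul_sub, mul_one, he.eq, sub_self, map_zero]
    exact hu.mul_right_eq_zero.mp this
  let g : (S ⧸ I₁) →ₐ[R] Localization.AtPrime q :=
    Ideal.Quotient.liftₐ I₁ (IsScalarTower.toAlgHom R S (Localization.AtPrime q)) (by
      intro y hy
      obtain ⟨s, rfl⟩ := Ideal.mem_span_singleton.mp hy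
      change algebraMap S (Localization.AtPrime q) ((1 - e) * s) = 0
      rw [map_mul, he0, zero_mul])
  have hg : ∀ s : S, g (Ideal.Quotient.mk I₁ s) = algebraMap S (Localization.AtPrime q) s :=
    fun s => rfl
  refine Module.Finite.of_surjective g.toLinearMap ?_
  intro z
  obtain ⟨s, ⟨t, ht⟩, rfl⟩ := IsLocalization.exists_mk'_eq q.primeCompl z
  obtain ⟨w, hw⟩ := (hunit t ht).exists_right_inv
  refine ⟨Ideal.Quotient.mk I₁ s * w, ?_⟩
  change g (Ideal.Quotient.mk I₁ s * w) = _
  rw [map_mul, hg, eq_comm, IsLocalization.mk'_eq_iff_eq_mul]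
  have h1 : g w * algebraMap S (Localization.AtPrime q) t = 1 := by
    rw [← hg t, ← map_mul, mul_comm, hw, map_one]
  rw [mul_assoc, h1, mul_one]

end Groth.Agent.Lib.lead.HenselLocal
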