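import Mathlib
import Groth.Prelude.Def_EssEt
import Groth.Agent.Lib.lead.EssEtale
import Groth.Agent.Lib.lead.EssEtaleTrans

/-!
# (Strict) henselization, part 1: algebras with a point in a field `Ω`
-/

universe u

set_option maxHeartbeats 400000

open IsLocalRing TensorProduct Polynomial

namespace Groth.Agent.Lib.lead.SH

section generic

variable {R : Type*} [CommRing R] {Ω : Type*} [Field Ω] [Algebra R Ω]
variable {C : Type*} [CommRing C] [Algebra R C]

/-- kernel of a point -/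
abbrev pk (χ : C →ₐ[R] Ω) : Ideal C := RingHom.ker χ.toRingHom

instance (χ : C →ₐ[R] Ω) : (pk χ).IsPrime := RingHom.ker_isPrime _

theorem mem_pk (χ : C →ₐ[R] Ω) (c : C) : c ∈ pk χ ↔ χ c = 0 := RingHom.mem_ker

/-- the local ring at a point -/
abbrev Loc (χ : C →ₐ[R] Ω) : Type _ := Localization.AtPrime (pk χ)

theorem isUnit_of_primeCompl (χ : C →ₐ[R] Ω) (y : (pk χ).primeCompl) : IsUnit (χ y) :=
  isUnit_iff_ne_zero.mpr (fun h => y.2 ((mem_pk χ _).mpr h))

/-- the induced point of the local ring -/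
noncomputable def pt (χ : C →ₐ[R] Ω) : Loc χ →ₐ[R] Ω :=
  IsLocalization.liftAlgHom (M := (pk χ).primeCompl) (f := χ) (isUnit_of_primeCompl χ)

@[simp]
theorem pt_algebraMap (χ : C →ₐ[R] Ω) (c : C) : pt χ (algebraMap C (Loc χ) c) = χ c := by
  unfold pt
  rw [IsLocalization.liftAlgHom_apply, IsLocalization.lift_eq]
  rfl

theorem pt_eq_zero_iff (χ : C →ₐ[R] Ω) (x : Loc χ) : pt χ x = 0 ↔ x ∈ maximalIdeal (Loc χ) := by
  obtain ⟨c, s, rfl⟩ := IsLocalization.exists_mk'_eq (pk χ).primeCompl x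
  rw [IsLocalization.AtPrime.mk'_mem_maximal_iff (Loc χ) (pk χ), mem_pk]
  have hs : pt χ (algebraMap C (Loc χ) s) ≠ 0 := by
    rw [pt_algebraMap]
    exact (isUnit_of_primeCompl χ s).ne_zero
  have h1 : pt χ (IsLocalization.mk' (Loc χ) c s) * pt χ (algebraMap C (Loc χ) s) = χ c := by
    rw [← map_mul, IsLocalization.mk'_spec, pt_algebraMap]
  constructor
  · intro h
    rw [← h1, h, zero_mul]
  · intro h
    rw [h] at h1
    exact (mul_eq_zero.mp h1).resolve_right hs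

theorem isUnit_iff_pt_ne_zero (χ : C →ₐ[R] Ω) (x : Loc χ) : IsUnit x ↔ pt χ x ≠ 0 := by
  rw [Ne, pt_eq_zero_iff, mem_maximalIdeal, mem_nonunits_iff, not_not]

theorem isLocalHom_pt (χ : C →ₐ[R] Ω) : IsLocalHom (pt χ).toRingHom :=
  ⟨fun x hx => (isUnit_iff_pt_ne_zero χ x).mpr hx.ne_zero⟩

theorem comap_pk [IsLocalRing R] [IsLocalHom (algebraMap R Ω)] (χ : C →ₐ[R] Ω) :
    (pk χ).comap (algebraMap R C) = maximalIdeal R := by
  ext a
  rw [Ideal.mem_comap, mem_pk, χ.commutes, mem_maximalIdeal, mem_nonunits_iff]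
  constructor
  · intro h hu
    exact (hu.map (algebraMap R Ω)).ne_zero h
  · intro h
    by_contra hne
    exact h (isUnit_of_map_unit (algebraMap R Ω) a (isUnit_iff_ne_zero.mpr hne))

instance isLocalHom_Loc [IsLocalRing R] [IsLocalHom (algebraMap R Ω)] (χ : C →ₐ[R] Ω) :
    IsLocalHom (algebraMap R (Loc χ)) :=
  Groth.Agent.Lib.lead.EssEtaleTrans.isLocalHom_of_comap_eq _ (comap_pk χ)

variable {C' : Type*} [CommRing C'] [Algebra R C']

/-- functoriality of the local ring at a point -/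
noncomputable def locMap {χ : C →ₐ[R] Ω} {χ' : C' →ₐ[R] Ω} (g : C →ₐ[R] C')
    (h : χ'.comp g = χ) : Loc χ →ₐ[R] Loc χ' :=
  IsLocalization.liftAlgHom (M := (pk χ).primeCompl)
    (f := (IsScalarTower.toAlgHom R C' (Loc χ')).comp g) (fun y => by
      apply IsLocalization.map_units (Loc χ') (⟨g y, ?_⟩ : (pk χ').primeCompl)
      intro hy
      have hy' : χ' (g y) = 0 := (mem_pk χ' (g y)).mp hy
      apply y.2
      apply (mem_pk χ (y : C)).mpr
      have := AlgHom.congr_fun h (y : C)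
      rw [← this]
      exact hy')

@[simp]
theorem locMap_algebraMap {χ : C →ₐ[R] Ω} {χ' : C' →ₐ[R] Ω} (g : C →ₐ[R] C')
    (h : χ'.comp g = χ) (c : C) :
    locMap g h (algebraMap C (Loc χ) c) = algebraMap C' (Loc χ') (g c) := by
  unfold locMap
  rw [IsLocalization.liftAlgHom_apply, IsLocalization.lift_eq]
  rfl

theorem pt_locMap {χ : C →ₐ[R] Ω} {χ' : C' →ₐ[R] Ω} (g : C →ₐ[R] C')
    (h : χ'.comp g = χ) (x : Loc χ) : pt χ' (locMap g h x) = pt χ x := by
  obtain ⟨c, s, rfl⟩ := IsLocalization.exists_mk'_eq (pk χ).primeCompl x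
  have hs : pt χ (algebraMap C (Loc χ) s) ≠ 0 := by
    rw [pt_algebraMap]
    exact (isUnit_of_primeCompl χ s).ne_zero
  have hχ : ∀ c, χ' (g c) = χ c := fun c => AlgHom.congr_fun h c
  apply mul_right_cancel₀ hs
  have h2 : pt χ (algebraMap C (Loc χ) s) = pt χ' (locMap g h (algebraMap C (Loc χ) s)) := by
    rw [locMap_algebraMap, pt_algebraMap, pt_algebraMap, hχ]
  rw [← map_mul, IsLocalization.mk'_spec, h2, ← map_mul, ← map_mul, IsLocalization.mk'_spec,
    locMap_algebraMap, pt_algebraMap, pt_algebraMap, hχ]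

theorem locMap_comp_locMap {C'' : Type*} [CommRing C''] [Algebra R C''] {χ : C →ₐ[R] Ω}
    {χ' : C' →ₐ[R] Ω} {χ'' : C'' →ₐ[R] Ω} (g : C →ₐ[R] C') (h : χ'.comp g = χ)
    (g' : C' →ₐ[R] C'') (h' : χ''.comp g' = χ') (h'' : χ''.comp (g'.comp g) = χ) :
    (locMap g' h').comp (locMap g h) = locMap (g'.comp g) h'' := by
  apply Localization.algHom_ext
  refine AlgHom.ext fun c => ?_
  have e1 : ((locMap g' h').comp (locMap g h)) (algebraMap C (Loc χ) c) =
      algebraMap C'' (Loc χ'') (g' (g c)) := by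
    rw [AlgHom.comp_apply, locMap_algebraMap, locMap_algebraMap]
  have e2 : locMap (g'.comp g) h'' (algebraMap C (Loc χ) c) =
      algebraMap C'' (Loc χ'') (g' (g c)) := by
    rw [locMap_algebraMap]; rfl
  exact e1.trans e2.symm

theorem locMap_id {χ : C →ₐ[R] Ω} (h : χ.comp (AlgHom.id R C) = χ) :
    locMap (AlgHom.id R C) h = AlgHom.id R (Loc χ) := by
  apply Localization.algHom_ext
  refine AlgHom.ext fun c => ?_
  have e1 : locMap (AlgHom.id R C) h (algebraMap C (Loc χ) c) = algebraMap C (Loc χ) c := by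
    rw [locMap_algebraMap]; rfl
  exact e1

theorem locMap_congr {χ : C →ₐ[R] Ω} {χ' : C' →ₐ[R] Ω} {g g' : C →ₐ[R] C'} (hg : g = g')
    (h : χ'.comp g = χ) (h' : χ'.comp g' = χ) : locMap g h = locMap g' h' := by
  subst hg; rfl

/-- isomorphic pointed algebras have isomorphic local rings -/
noncomputable def locEquiv {χ : C →ₐ[R] Ω} {χ' : C' →ₐ[R] Ω} (ε : C ≃ₐ[R] C')
    (h : χ'.comp ε.toAlgHom = χ) : Loc χ ≃ₐ[R] Loc χ' :=
  have hsymm : χ.comp ε.symm.toAlgHom = χ' := by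
    rw [← h, AlgHom.comp_assoc]
    refine AlgHom.ext fun c => ?_
    simp
  have h1 : ε.toAlgHom.comp ε.symm.toAlgHom = AlgHom.id R C' := by
    refine AlgHom.ext fun c => ?_
    simp
  have h2 : ε.symm.toAlgHom.comp ε.toAlgHom = AlgHom.id R C := by
    refine AlgHom.ext fun c => ?_
    simp
  AlgEquiv.ofAlgHom (locMap ε.toAlgHom h) (locMap ε.symm.toAlgHom hsymm)
    (by
      rw [locMap_comp_locMap _ hsymm _ h (by rw [h1]; rfl),
        locMap_congr h1 _ (by rfl), locMap_id])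
    (by
      rw [locMap_comp_locMap _ h _ hsymm (by rw [h2]; rfl),
        locMap_congr h2 _ (by rfl), locMap_id])

theorem pt_locEquiv {χ : C →ₐ[R] Ω} {χ' : C' →ₐ[R] Ω} (ε : C ≃ₐ[R] C')
    (h : χ'.comp ε.toAlgHom = χ) (x : Loc χ) : pt χ' (locEquiv ε h x) = pt χ x :=
  pt_locMap ε.toAlgHom h x

end generic

section etale

variable {R : Type u} [CommRing R] [IsLocalRing R] {Ω : Type u} [Field Ω] [Algebra R Ω]
  [IsLocalHom (algebraMap R Ω)]

theorem essEtale_Loc {C : Type u} [CommRing C] [Algebra R C] [Algebra.Etale R C]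
    (χ : C →ₐ[R] Ω) : EGA4loc.IsEssentiallyEtale R (Loc χ) :=
  ⟨C, inferInstance, inferInstance, pk χ, inferInstance, inferInstance, comap_pk χ,
    ⟨AlgEquiv.refl⟩⟩

end etale

end Groth.Agent.Lib.lead.SH
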