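import Mathlib
import Groth.Agent.Lib.lead.SH1

/-!
# (Strict) henselization, part 2: elementary extension adjoining a simple root in `Ω`
-/

universe u

set_option maxHeartbeats 400000

open IsLocalRing TensorProduct Polynomial

namespace Groth.Agent.Lib.lead.SH

/-- Elementary étale extension: `E` local with a local point in `Ω`, `p` monic over `E` with a simple
root `β ∈ Ω`. Then there is an essentially étale local `E`-algebra `E'` with a point extending the
given one, containing a root of `p` mapping to `β`. -/
theorem exists_elementary_extension (E : Type u) [CommRing E] [IsLocalRing E]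
    (Ω : Type u) [Field Ω] [Algebra E Ω] [IsLocalHom (algebraMap E Ω)]
    (p : E[X]) (hp : p.Monic) (β : Ω) (hβ : aeval β p = 0) (hβ' : aeval β (derivative p) ≠ 0) :
    ∃ (E' : Type u) (_ : CommRing E') (_ : IsLocalRing E') (_ : Algebra E E')
      (_ : IsLocalHom (algebraMap E E')),
      EGA4loc.IsEssentiallyEtale E E' ∧
      ∃ ρ : E' →ₐ[E] Ω, IsLocalHom ρ.toRingHom ∧
      ∃ r : E', (p.map (algebraMap E E')).eval r = 0 ∧ ρ r = β := by
  let P : StandardEtalePair E := ⟨p, hp, derivative p, ⟨1, 0, 1, by simp⟩⟩
  have hmap : P.HasMap β := ⟨hβ, isUnit_iff_ne_zero.mpr hβ'⟩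
  let χ : P.Ring →ₐ[E] Ω := P.lift β hmap
  refine ⟨Loc χ, inferInstance, inferInstance, inferInstance, inferInstance, essEtale_Loc χ,
    pt χ, isLocalHom_pt χ, algebraMap P.Ring _ P.X, ?_, ?_⟩
  · rw [Polynomial.eval_map, ← Polynomial.aeval_def, Polynomial.aeval_algebraMap_apply]
    have : aeval P.X p = 0 := P.hasMap_X.1
    rw [this, map_zero]
  · rw [pt_algebraMap]
    exact P.lift_X _ hmap

end Groth.Agent.Lib.lead.SH
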