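import Mathlib
import Groth.Agent.Lib.lead.SH2
import Groth.Agent.S17978
import Groth.Agent.S17977

/-!
# (Strict) henselization, part 3: the skeleton of pointed essentially étale local algebras
-/

universe u

set_option maxHeartbeats 400000

open IsLocalRing TensorProduct Polynomial

namespace Groth.Agent.Lib.lead.SH

/-- Index type: presentations of étale algebras with a point in `Ω`. -/
structure Idx (R : Type u) [CommRing R] (Ω : Type u) [Field Ω] [Algebra R Ω] : Type u where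
  n : ℕ
  I : Ideal (MvPolynomial (Fin n) R)
  χ : (MvPolynomial (Fin n) R ⧸ I) →ₐ[R] Ω
  etale : Algebra.Etale R (MvPolynomial (Fin n) R ⧸ I)

variable {R : Type u} [CommRing R] {Ω : Type u} [Field Ω] [Algebra R Ω]

/-- the local ring attached to an index -/
abbrev Idx.Ring (j : Idx R Ω) : Type u := Loc j.χ

/-- the point of the local ring attached to an index -/
noncomputable def Idx.pt (j : Idx R Ω) : j.Ring →ₐ[R] Ω := SH.pt j.χ

instance Idx.etaleC (i : Idx R Ω) : Algebra.Etale R (MvPolynomial (Fin i.n) R ⧸ i.I) := i.etale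

theorem Idx.pt_eq_zero_iff (j : Idx R Ω) (x : j.Ring) : j.pt x = 0 ↔ x ∈ maximalIdeal j.Ring :=
  SH.pt_eq_zero_iff j.χ x

theorem Idx.isLocalHom_pt (j : Idx R Ω) : IsLocalHom j.pt.toRingHom := SH.isLocalHom_pt j.χ

/-- every pointed étale algebra is isomorphic to a member of the skeleton -/
theorem exists_idx_of_etale (C : Type u) [CommRing C] [Algebra R C] [Algebra.Etale R C]
    (χ : C →ₐ[R] Ω) : ∃ j : Idx R Ω, ∃ e : Loc χ ≃ₐ[R] j.Ring, ∀ x, j.pt (e x) = pt χ x := by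
  obtain ⟨n, f, hf⟩ := Algebra.FiniteType.iff_quotient_mvPolynomial''.mp
    (inferInstance : Algebra.FiniteType R C)
  let ε : (MvPolynomial (Fin n) R ⧸ RingHom.ker f.toRingHom) ≃ₐ[R] C :=
    Ideal.quotientKerAlgEquivOfSurjective hf
  let j : Idx R Ω := ⟨n, RingHom.ker f.toRingHom, χ.comp ε.toAlgHom, Algebra.Etale.of_equiv ε.symm⟩
  have h : j.χ.comp ε.symm.toAlgHom = χ := by
    refine AlgHom.ext fun c => ?_
    change χ (ε (ε.symm c)) = χ c
    rw [ε.apply_symm_apply]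
  exact ⟨j, locEquiv ε.symm h, fun x => pt_locEquiv ε.symm h x⟩

theorem isLocalization_of_eq {C : Type*} [CommRing C] (q q' : Ideal C) [q.IsPrime] [q'.IsPrime]
    (h : q = q') : IsLocalization.AtPrime (Localization.AtPrime q') q := by
  subst h; infer_instance

variable [IsLocalRing R] [IsLocalHom (algebraMap R Ω)]

theorem Idx.essEtale (j : Idx R Ω) : EGA4loc.IsEssentiallyEtale R j.Ring := essEtale_Loc j.χ

/-- for a local homomorphism to a field: zero iff non-unit -/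
theorem eq_zero_iff_of_isLocalHom {B : Type*} [CommRing B] (ρ : B →+* Ω) [IsLocalHom ρ] (x : B) :
    ρ x = 0 ↔ ¬ IsUnit x := by
  constructor
  · intro h hu
    exact (hu.map ρ).ne_zero h
  · intro h
    by_contra hne
    exact h (isUnit_of_map_unit ρ x (isUnit_iff_ne_zero.mpr hne))

/-- every essentially étale local algebra with a local point in `Ω` is isomorphic to a member of
the skeleton -/
theorem exists_idx (B : Type u) [CommRing B] [IsLocalRing B] [Algebra R B]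
    (hB : EGA4loc.IsEssentiallyEtale R B) (ρ : B →ₐ[R] Ω) (hρ : IsLocalHom ρ.toRingHom) :
    ∃ j : Idx R Ω, ∃ e : B ≃ₐ[R] j.Ring, ∀ x, j.pt (e x) = ρ x := by
  obtain ⟨C, _, _, q, hq, hEt, -, ⟨e₀⟩⟩ := hB
  let χ₀ : C →ₐ[R] Ω :=
    ρ.comp (e₀.symm.toAlgHom.comp (IsScalarTower.toAlgHom R C (Localization.AtPrime q)))
  have hχ₀ : ∀ c, χ₀ c = ρ (e₀.symm (algebraMap C (Localization.AtPrime q) c)) := fun c => rfl
  have hqeq : q = pk χ₀ := by
    ext c
    rw [mem_pk, hχ₀]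
    have h1 := eq_zero_iff_of_isLocalHom (Ω := Ω) ρ.toRingHom
      (e₀.symm (algebraMap C (Localization.AtPrime q) c))
    change ρ _ = 0 ↔ _ at h1
    rw [h1, ← IsLocalization.AtPrime.to_map_mem_maximal_iff (Localization.AtPrime q) q c,
      mem_maximalIdeal, mem_nonunits_iff, not_iff_not]
    constructor
    · intro hu
      exact hu.map e₀.symm
    · intro hu
      have := hu.map e₀
      rwa [e₀.apply_symm_apply] at this
  haveI : IsLocalization.AtPrime (Loc χ₀) q := isLocalization_of_eq q (pk χ₀) hqeq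
  let e₁ : Localization.AtPrime q ≃ₐ[C] Loc χ₀ :=
    IsLocalization.algEquiv q.primeCompl (Localization.AtPrime q) (Loc χ₀)
  obtain ⟨j, e₂, he₂⟩ := exists_idx_of_etale C χ₀
  refine ⟨j, (e₀.trans (e₁.restrictScalars R)).trans e₂, ?_⟩
  intro x
  change j.pt (e₂ (e₁ (e₀ x))) = ρ x
  rw [he₂]
  have key : ∀ y : Localization.AtPrime q, pt χ₀ (e₁ y) = ρ (e₀.symm y) := by
    intro y
    have h2 : ((pt χ₀).comp (e₁.restrictScalars R).toAlgHom) = ρ.comp e₀.symm.toAlgHom := by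
      apply Localization.algHom_ext
      refine AlgHom.ext fun c => ?_
      change pt χ₀ (e₁ (algebraMap C (Localization.AtPrime q) c)) =
        ρ (e₀.symm (algebraMap C (Localization.AtPrime q) c))
      rw [e₁.commutes, pt_algebraMap, hχ₀]
    exact AlgHom.congr_fun h2 y
  rw [key, e₀.symm_apply_apply]

/-- pointed algebra maps between members of the skeleton are unique -/
theorem algHom_ext_pointed (i j : Idx R Ω) (φ ψ : i.Ring →ₐ[R] j.Ring)
    (hφ : ∀ x, j.pt (φ x) = i.pt x) (hψ : ∀ x, j.pt (ψ x) = i.pt x) : φ = ψ := by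
  apply Groth.Agent.S17978.result R i.Ring i.essEtale j.Ring φ ψ
  ext x
  simp only [RingHom.comp_apply]
  rw [← sub_eq_zero, ← map_sub, residue_eq_zero_iff, ← j.pt_eq_zero_iff]
  change j.pt (φ x - ψ x) = 0
  rw [map_sub, hφ, hψ, sub_self]

/-- pointed maps are local -/
theorem isLocalHom_of_pointed (i j : Idx R Ω) (φ : i.Ring →ₐ[R] j.Ring)
    (hφ : ∀ x, j.pt (φ x) = i.pt x) : IsLocalHom φ.toRingHom := by
  refine ⟨fun x hx => ?_⟩
  have h1 := (isUnit_iff_pt_ne_zero j.χ (φ x)).mp hx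
  apply (isUnit_iff_pt_ne_zero i.χ x).mpr
  intro h0
  apply h1
  change j.pt (φ x) = 0
  rw [hφ]
  exact h0

instance : Preorder (Idx R Ω) where
  le i j := ∃ t : i.Ring →ₐ[R] j.Ring, ∀ x, j.pt (t x) = i.pt x
  le_refl i := ⟨AlgHom.id R _, fun _ => rfl⟩
  le_trans i j k := fun ⟨f, hf⟩ ⟨g, hg⟩ => ⟨g.comp f, fun x => by
    change k.pt (g (f x)) = i.pt x
    rw [hg, hf]⟩

/-- the transition maps -/
noncomputable def tr (i j : Idx R Ω) (h : i ≤ j) : i.Ring →ₐ[R] j.Ring := h.choose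

theorem pt_tr (i j : Idx R Ω) (h : i ≤ j) (x : i.Ring) : j.pt (tr i j h x) = i.pt x :=
  h.choose_spec x

theorem tr_unique (i j : Idx R Ω) (h : i ≤ j) (φ : i.Ring →ₐ[R] j.Ring)
    (hφ : ∀ x, j.pt (φ x) = i.pt x) : φ = tr i j h :=
  algHom_ext_pointed i j _ _ hφ (pt_tr i j h)

instance : IsDirectedOrder (Idx R Ω) := ⟨fun i j => by
  let C₁ := MvPolynomial (Fin i.n) R ⧸ i.I
  let C₂ := MvPolynomial (Fin j.n) R ⧸ j.I
  let χ : C₁ ⊗[R] C₂ →ₐ[R] Ω := Algebra.TensorProduct.lift i.χ j.χ (fun _ _ => Commute.all _ _)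
  haveI hEt : Algebra.Etale R (C₁ ⊗[R] C₂) := Algebra.Etale.comp R C₁ (C₁ ⊗[R] C₂)
  obtain ⟨k, e, he⟩ := exists_idx_of_etale (C₁ ⊗[R] C₂) χ
  have h1 : χ.comp (Algebra.TensorProduct.includeLeft : C₁ →ₐ[R] C₁ ⊗[R] C₂) = i.χ := by
    refine AlgHom.ext fun c => ?_
    simp [χ]
  have h2 : χ.comp ((Algebra.TensorProduct.includeRight : C₂ →ₐ[R] C₁ ⊗[R] C₂)) = j.χ := by
    refine AlgHom.ext fun c => ?_
    simp [χ]
  refine ⟨k, ⟨e.toAlgHom.comp (locMap _ h1), fun x => ?_⟩, ⟨e.toAlgHom.comp (locMap _ h2), fun x => ?_⟩⟩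
  · change k.pt (e (locMap _ h1 x)) = i.pt x
    rw [he, pt_locMap]
    rfl
  · change k.pt (e (locMap _ h2 x)) = j.pt x
    rw [he, pt_locMap]
    rfl⟩

instance : Nonempty (Idx R Ω) := by
  obtain ⟨j, -⟩ := exists_idx_of_etale R (Algebra.ofId R Ω)
  exact ⟨j⟩

end Groth.Agent.Lib.lead.SH
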