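import Mathlib
import Groth.Agent.Lib.lead.SH3
import Groth.Agent.Lib.helper3.HensColim

/-!
# (Strict) henselization, part 4: the directed system and its colimit
-/

universe u

set_option maxHeartbeats 400000

open IsLocalRing TensorProduct Polynomial

namespace Groth.Agent.Lib.lead.SH

variable {R : Type u} [CommRing R] [IsLocalRing R] {Ω : Type u} [Field Ω] [Algebra R Ω]
  [IsLocalHom (algebraMap R Ω)]

/-- transition maps as ring homomorphisms -/
noncomputable def trR (i j : Idx R Ω) (h : i ≤ j) : i.Ring →+* j.Ring := (tr i j h).toRingHom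

theorem tr_self (i : Idx R Ω) : tr i i le_rfl = AlgHom.id R _ :=
  (tr_unique i i le_rfl _ (fun _ => rfl)).symm

theorem tr_comp (i j k : Idx R Ω) (hij : i ≤ j) (hjk : j ≤ k) :
    (tr j k hjk).comp (tr i j hij) = tr i k (hij.trans hjk) :=
  tr_unique i k _ _ (fun x => by
    change k.pt (tr j k hjk (tr i j hij x)) = i.pt x
    rw [pt_tr, pt_tr])

instance : DirectedSystem (fun j : Idx R Ω => j.Ring) (fun i j h => trR i j h) where
  map_self i x := by
    change tr i i le_rfl x = x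
    rw [tr_self]; rfl
  map_map k j i hij hjk x := by
    change tr j k hjk (tr i j hij x) = tr i k (hij.trans hjk) x
    rw [← tr_comp i j k hij hjk]; rfl

variable (R Ω)

/-- the henselization of `R` with residue field `Ω` -/
def Hz : Type u := Ring.DirectLimit (fun j : Idx R Ω => j.Ring) (fun i j h => trR i j h)

noncomputable instance : CommRing (Hz R Ω) := by unfold Hz; infer_instance

variable {R Ω}

/-- canonical maps -/
noncomputable def ofIdx (i : Idx R Ω) : i.Ring →+* Hz R Ω :=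
  Ring.DirectLimit.of (fun j : Idx R Ω => j.Ring) (fun i j h => trR i j h) i

theorem ofIdx_tr (i j : Idx R Ω) (h : i ≤ j) (x : i.Ring) : ofIdx j (tr i j h x) = ofIdx i x :=
  Ring.DirectLimit.of_f h x

theorem isLocalHom_trR (i j : Idx R Ω) (h : i ≤ j) : IsLocalHom (trR i j h) :=
  isLocalHom_of_pointed i j (tr i j h) (pt_tr i j h)

theorem exists_of (z : Hz R Ω) : ∃ i x, ofIdx i x = z := Ring.DirectLimit.exists_of z

theorem ofIdx_eq_zero (i : Idx R Ω) (x : i.Ring) (hx : ofIdx i x = 0) :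
    ∃ j, ∃ h : i ≤ j, tr i j h x = 0 := by
  obtain ⟨j, hij, h0⟩ := Ring.DirectLimit.of.zero_exact (f' := fun i j h => trR i j h) hx
  exact ⟨j, hij, h0⟩

theorem hyp : Groth.Agent.Lib.helper3.HensColim.Hyp (fun i : Idx R Ω => ofIdx i) where
  dir i j := by
    obtain ⟨k, hik, hjk⟩ := exists_ge_ge i j
    exact ⟨k, trR i k hik, trR j k hjk, isLocalHom_trR i k hik, isLocalHom_trR j k hjk,
      ofIdx_tr i k hik, ofIdx_tr j k hjk⟩
  ker i x hx := by
    obtain ⟨j, hij, h0⟩ := ofIdx_eq_zero i x hx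
    exact ⟨j, trR i j hij, isLocalHom_trR i j hij, ofIdx_tr i j hij, h0⟩
  surj z := exists_of z

instance : IsLocalRing (Hz R Ω) := (hyp (R := R) (Ω := Ω)).isLocalRing

instance (i : Idx R Ω) : IsLocalHom (ofIdx i) := (hyp (R := R) (Ω := Ω)).isLocalHom i

noncomputable instance : Algebra R (Hz R Ω) :=
  ((ofIdx (Classical.arbitrary (Idx R Ω))).comp
    (algebraMap R (Classical.arbitrary (Idx R Ω)).Ring)).toAlgebra

theorem ofIdx_algebraMap (i : Idx R Ω) (a : R) :
    ofIdx i (algebraMap R i.Ring a) = algebraMap R (Hz R Ω) a := by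
  obtain ⟨k, hik, h0k⟩ := exists_ge_ge i (Classical.arbitrary (Idx R Ω))
  have h1 : ofIdx i (algebraMap R i.Ring a) = ofIdx k (algebraMap R k.Ring a) := by
    rw [← ofIdx_tr i k hik]
    congr 1
    exact (tr i k hik).commutes a
  have h2 : ofIdx (Classical.arbitrary (Idx R Ω)) (algebraMap R _ a) =
      ofIdx k (algebraMap R k.Ring a) := by
    rw [← ofIdx_tr _ k h0k]
    congr 1
    exact (tr _ k h0k).commutes a
  rw [h1, ← h2]
  rfl

/-- the canonical maps as algebra maps -/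
noncomputable def ofIdxₐ (i : Idx R Ω) : i.Ring →ₐ[R] Hz R Ω :=
  { ofIdx i with commutes' := ofIdx_algebraMap i }

theorem ofIdxₐ_apply (i : Idx R Ω) (x : i.Ring) : ofIdxₐ i x = ofIdx i x := rfl

instance : IsLocalHom (algebraMap R (Hz R Ω)) := by
  refine ⟨fun a ha => ?_⟩
  rw [← ofIdx_algebraMap (Classical.arbitrary (Idx R Ω))] at ha
  have h1 := (inferInstance : IsLocalHom (ofIdx (Classical.arbitrary (Idx R Ω)))).map_nonunit _ ha
  exact (inferInstance : IsLocalHom
    (algebraMap R (Classical.arbitrary (Idx R Ω)).Ring)).map_nonunit _ h1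

/-- maps out of `Hz R Ω` from compatible families, as ring maps -/
noncomputable def liftR {B : Type*} [CommRing B] [Algebra R B] (ψ : ∀ i : Idx R Ω, i.Ring →ₐ[R] B)
    (hψ : ∀ i j (h : i ≤ j), (ψ j).comp (tr i j h) = ψ i) : Hz R Ω →+* B :=
  Ring.DirectLimit.lift (fun j : Idx R Ω => j.Ring) (fun i j h => trR i j h) B
      (fun i => (ψ i).toRingHom) (fun i j h x => by
        change (ψ j) (tr i j h x) = ψ i x
        exact AlgHom.congr_fun (hψ i j h) x)

theorem liftR_ofIdx {B : Type*} [CommRing B] [Algebra R B] (ψ : ∀ i : Idx R Ω, i.Ring →ₐ[R] B)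
    (hψ : ∀ i j (h : i ≤ j), (ψ j).comp (tr i j h) = ψ i) (i : Idx R Ω) (x : i.Ring) :
    liftR ψ hψ (ofIdx i x) = ψ i x := by
  unfold liftR ofIdx
  exact Ring.DirectLimit.lift_of (G := fun j : Idx R Ω => j.Ring) (f := fun i j h => trR i j h) B
      (fun i => (ψ i).toRingHom) _ i x

/-- maps out of `Hz R Ω` from compatible families -/
noncomputable def liftₐ {B : Type*} [CommRing B] [Algebra R B] (ψ : ∀ i : Idx R Ω, i.Ring →ₐ[R] B)
    (hψ : ∀ i j (h : i ≤ j), (ψ j).comp (tr i j h) = ψ i) : Hz R Ω →ₐ[R] B :=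
  { liftR ψ hψ with
    commutes' := fun a => by
      change liftR ψ hψ (algebraMap R (Hz R Ω) a) = _
      rw [← ofIdx_algebraMap (Classical.arbitrary (Idx R Ω)) a, liftR_ofIdx]
      exact (ψ _).commutes a }

theorem liftₐ_ofIdx {B : Type*} [CommRing B] [Algebra R B] (ψ : ∀ i : Idx R Ω, i.Ring →ₐ[R] B)
    (hψ : ∀ i j (h : i ≤ j), (ψ j).comp (tr i j h) = ψ i) (i : Idx R Ω) (x : i.Ring) :
    liftₐ ψ hψ (ofIdx i x) = ψ i x :=
  liftR_ofIdx ψ hψ i x

theorem algHom_ext_Hz {B : Type*} [CommRing B] [Algebra R B] (g₁ g₂ : Hz R Ω →ₐ[R] B)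
    (h : ∀ i, g₁.comp (ofIdxₐ i) = g₂.comp (ofIdxₐ i)) : g₁ = g₂ := by
  refine AlgHom.ext fun z => ?_
  obtain ⟨i, x, rfl⟩ := exists_of z
  exact AlgHom.congr_fun (h i) x

/-- the point of the colimit -/
noncomputable def ptS : Hz R Ω →ₐ[R] Ω :=
  liftₐ (fun i => i.pt) (fun i j h => AlgHom.ext (pt_tr i j h))

theorem ptS_ofIdx (i : Idx R Ω) (x : i.Ring) : ptS (ofIdx i x) = i.pt x :=
  liftₐ_ofIdx _ _ i x

theorem ptS_eq_zero_iff (z : Hz R Ω) : ptS z = 0 ↔ z ∈ maximalIdeal (Hz R Ω) := by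
  obtain ⟨i, x, rfl⟩ := exists_of z
  rw [ptS_ofIdx, i.pt_eq_zero_iff, mem_maximalIdeal, mem_maximalIdeal, mem_nonunits_iff,
    mem_nonunits_iff, not_iff_not]
  exact ⟨fun hu => hu.map _, fun hu => isUnit_of_map_unit (ofIdx i) x hu⟩

theorem isLocalHom_ptS : IsLocalHom (ptS (R := R) (Ω := Ω)).toRingHom := by
  refine ⟨fun z hz => ?_⟩
  by_contra hn
  have : z ∈ maximalIdeal (Hz R Ω) := hn
  rw [← ptS_eq_zero_iff] at this
  exact hz.ne_zero this

end Groth.Agent.Lib.lead.SH
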