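import Mathlib
import Groth.Agent.Lib.lead.SH4

/-!
# (Strict) henselization, part 5: the colimit is henselian; its residue field
-/

universe u

set_option maxHeartbeats 400000

open IsLocalRing TensorProduct Polynomial

namespace Groth.Agent.Lib.lead.SH

variable {R : Type u} [CommRing R] [IsLocalRing R] {Ω : Type u} [Field Ω] [Algebra R Ω]
  [IsLocalHom (algebraMap R Ω)]

/-- adjoining a simple root in `Ω` of a monic polynomial over a stage -/
theorem exists_root_stage (m : Idx R Ω) (q : m.Ring[X]) (hq : q.Monic) (β : Ω)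
    (hβ : (q.map m.pt.toRingHom).eval β = 0)
    (hβ' : (derivative (q.map m.pt.toRingHom)).eval β ≠ 0) :
    ∃ k, ∃ h : m ≤ k, ∃ r : k.Ring, (q.map (tr m k h).toRingHom).eval r = 0 ∧ k.pt r = β := by
  letI : Algebra m.Ring Ω := m.pt.toRingHom.toAlgebra
  haveI : IsLocalHom (algebraMap m.Ring Ω) := m.isLocalHom_pt
  haveI : IsScalarTower R m.Ring Ω := IsScalarTower.of_algebraMap_eq
    (fun a => (m.pt.commutes a).symm)
  have h1 : aeval β q = 0 := by
    rw [Polynomial.aeval_def, ← Polynomial.eval_map]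
    exact hβ
  have h2 : aeval β (derivative q) ≠ 0 := by
    rw [Polynomial.aeval_def, ← Polynomial.eval_map, ← Polynomial.derivative_map]
    exact hβ'
  obtain ⟨E', _, _, _, _, hE', ρ, hρ, r, hr, hrβ⟩ :=
    exists_elementary_extension m.Ring Ω q hq β h1 h2
  letI : Algebra R E' := Algebra.compHom E' (algebraMap R m.Ring)
  haveI : IsScalarTower R m.Ring E' := IsScalarTower.of_algebraMap_eq (fun _ => rfl)
  have hRE' : EGA4loc.IsEssentiallyEtale R E' :=
    Groth.Agent.Lib.lead.EssEtaleTrans.isEssentiallyEtale_trans R m.Ring E' m.essEtale hE'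
  obtain ⟨k, e, he⟩ := exists_idx E' hRE' (ρ.restrictScalars R) hρ
  let ψ : m.Ring →ₐ[R] k.Ring := e.toAlgHom.comp (IsScalarTower.toAlgHom R m.Ring E')
  have hψpt : ∀ x, k.pt (ψ x) = m.pt x := by
    intro x
    change k.pt (e (algebraMap m.Ring E' x)) = m.pt x
    rw [he]
    exact ρ.commutes x
  have hmk : m ≤ k := ⟨ψ, hψpt⟩
  have hψ : ψ = tr m k hmk := tr_unique m k hmk ψ hψpt
  refine ⟨k, hmk, e r, ?_, ?_⟩
  · rw [← hψ]
    have h1 : q.map ψ.toRingHom = (q.map (algebraMap m.Ring E')).map (e : E' →+* k.Ring) := by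
      rw [Polynomial.map_map]; rfl
    rw [h1]
    change eval ((e : E' →+* k.Ring) r) _ = 0
    rw [Polynomial.eval_map_apply, hr, map_zero]
  · rw [he]
    exact hrβ

instance : HenselianLocalRing (Hz R Ω) := by
  have h := hyp (R := R) (Ω := Ω)
  refine ⟨fun p hp a₀ h₁ h₂ => ?_⟩
  obtain ⟨i₁, q0, hq0⟩ := h.exists_poly p
  obtain ⟨i₂, b0, hb0⟩ := h.surj a₀
  obtain ⟨m, α, β, -, -, hαφ, hβφ⟩ := h.dir i₁ i₂
  have hq1 : (q0.map α).map (ofIdx m) = p := by
    rw [Polynomial.map_map, ← hq0]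
    congr 1
    exact RingHom.ext hαφ
  obtain ⟨q, hq, -, hqm⟩ := Polynomial.lifts_and_natDegree_eq_and_monic
    ((Polynomial.mem_lifts p).mpr ⟨_, hq1⟩) hp
  set b := β b0 with hb
  have hbm : ofIdx m b = a₀ := by rw [hb, hβφ, hb0]
  have e₁ : q.eval b ∈ maximalIdeal m.Ring := by
    rw [mem_maximalIdeal, mem_nonunits_iff]
    intro hu
    have := hu.map (ofIdx m)
    rw [← Polynomial.eval_map_apply, hq, hbm] at this
    exact (mem_nonunits_iff.mp ((mem_maximalIdeal _).mp h₁)) this
  have e₂ : IsUnit (q.derivative.eval b) := by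
    apply h.isUnit_of_map (i := m)
    rw [← Polynomial.eval_map_apply, ← Polynomial.derivative_map, hq, hbm]
    exact h₂
  have f₁ : (q.map m.pt.toRingHom).eval (m.pt b) = 0 := by
    have : (q.map m.pt.toRingHom).eval (m.pt.toRingHom b) = 0 := by
      rw [Polynomial.eval_map_apply]
      exact (m.pt_eq_zero_iff _).mpr e₁
    exact this
  have f₂ : (derivative (q.map m.pt.toRingHom)).eval (m.pt b) ≠ 0 := by
    have : (derivative (q.map m.pt.toRingHom)).eval (m.pt.toRingHom b) =
        m.pt (q.derivative.eval b) := by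
      rw [Polynomial.derivative_map, Polynomial.eval_map_apply]
      rfl
    change (derivative (q.map m.pt.toRingHom)).eval (m.pt.toRingHom b) ≠ 0
    rw [this]
    exact (isUnit_iff_pt_ne_zero m.χ _).mp e₂
  obtain ⟨k, hmk, r, hr, hrβ⟩ := exists_root_stage m q hqm (m.pt b) f₁ f₂
  have hφ : ∀ x : m.Ring, ofIdx k (tr m k hmk x) = ofIdx m x := ofIdx_tr m k hmk
  have hpk : p = (q.map (tr m k hmk).toRingHom).map (ofIdx k) := by
    rw [Polynomial.map_map, ← hq]
    congr 1
    exact RingHom.ext (fun x => (hφ x).symm)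
  refine ⟨ofIdx k r, ?_, ?_⟩
  · rw [Polynomial.IsRoot.def, hpk, Polynomial.eval_map_apply, hr, map_zero]
  · have h2 : ofIdx k r - a₀ = ofIdx k (r - tr m k hmk b) := by
      rw [map_sub, ← hbm, ← hφ b]
    rw [h2, mem_maximalIdeal, mem_nonunits_iff]
    intro hu
    have h3 : IsUnit (r - tr m k hmk b) := h.isUnit_of_map hu
    have h4 := (isUnit_iff_pt_ne_zero k.χ _).mp h3
    apply h4
    change k.pt (r - tr m k hmk b) = 0
    rw [map_sub, hrβ, pt_tr, sub_self]

/-- the induced map on the residue field -/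
noncomputable def ptBar : ResidueField (Hz R Ω) →+* Ω :=
  Ideal.Quotient.lift (maximalIdeal (Hz R Ω)) (ptS (R := R) (Ω := Ω)).toRingHom
    (fun a ha => (ptS_eq_zero_iff a).mpr ha)

theorem ptBar_residue (z : Hz R Ω) : ptBar (residue _ z) = ptS z :=
  Ideal.Quotient.lift_mk _ _ _

/-- if every element of `Ω` is a simple root of a monic polynomial over `R`, the point of the
colimit is surjective -/
theorem ptS_surjective
    (hsep : ∀ β : Ω, ∃ P : R[X], P.Monic ∧ aeval β P = 0 ∧ aeval β (derivative P) ≠ 0) :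
    Function.Surjective (ptS (R := R) (Ω := Ω)) := by
  intro β
  obtain ⟨P, hP, h1, h2⟩ := hsep β
  let m := Classical.arbitrary (Idx R Ω)
  have hmap : (P.map (algebraMap R m.Ring)).map m.pt.toRingHom = P.map (algebraMap R Ω) := by
    rw [Polynomial.map_map]
    congr 1
    ext a
    exact m.pt.commutes a
  obtain ⟨k, hmk, r, -, hrβ⟩ := exists_root_stage m (P.map (algebraMap R m.Ring))
    (hP.map _) β (by rw [hmap, Polynomial.eval_map, ← Polynomial.aeval_def]; exact h1)
    (by rw [hmap, Polynomial.derivative_map, Polynomial.eval_map, ← Polynomial.aeval_def]; exact h2)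
  exact ⟨ofIdx k r, by rw [ptS_ofIdx]; exact hrβ⟩

theorem ptBar_bijective
    (hsep : ∀ β : Ω, ∃ P : R[X], P.Monic ∧ aeval β P = 0 ∧ aeval β (derivative P) ≠ 0) :
    Function.Bijective (ptBar (R := R) (Ω := Ω)) := by
  refine ⟨RingHom.injective _, fun β => ?_⟩
  obtain ⟨z, hz⟩ := ptS_surjective hsep β
  exact ⟨residue _ z, by rw [ptBar_residue, hz]⟩

end Groth.Agent.Lib.lead.SH
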