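import Mathlib
import Groth.Agent.Lib.lead.SH5

/-!
# (Strict) henselization, part 6: the universal property
-/

universe u

set_option maxHeartbeats 400000

open IsLocalRing TensorProduct Polynomial

namespace Groth.Agent.Lib.lead.SH

variable {R : Type u} [CommRing R] [IsLocalRing R] {Ω : Type u} [Field Ω] [Algebra R Ω]
  [IsLocalHom (algebraMap R Ω)]

/-- the map induced by the point on the residue field of a stage -/
noncomputable def Idx.ptBar (i : Idx R Ω) : ResidueField i.Ring →+* Ω :=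
  Ideal.Quotient.lift (maximalIdeal i.Ring) i.pt.toRingHom
    (fun a ha => (i.pt_eq_zero_iff a).mpr ha)

theorem Idx.ptBar_residue (i : Idx R Ω) (x : i.Ring) : i.ptBar (residue _ x) = i.pt x :=
  Ideal.Quotient.lift_mk _ _ _

/-- the unique extension of `f` to the `i`-th stage inducing `τ` -/
theorem stage_existsUnique (T : Type u) [CommRing T] [HenselianLocalRing T] (f : R →+* T)
    [IsLocalHom f] (τ : Ω →+* ResidueField T)
    (hτ : ∀ a, τ (algebraMap R Ω a) = residue T (f a)) (i : Idx R Ω) :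
    ∃! ψ : i.Ring →+* T, ψ.comp (algebraMap R i.Ring) = f ∧
      ∀ x, residue T (ψ x) = τ (i.pt x) := by
  have hα : (τ.comp i.ptBar).comp (ResidueField.map (algebraMap R i.Ring)) =
      ResidueField.map f := by
    ext a
    obtain ⟨a, rfl⟩ := residue_surjective a
    simp only [RingHom.comp_apply, ResidueField.map_residue]
    rw [Idx.ptBar_residue, i.pt.commutes, hτ]
  obtain ⟨ψ, -, hψ1, hψ2⟩ := Groth.Agent.Lib.lead.EssEtale.exists_localHom R i.Ring i.essEtale T f
    (τ.comp i.ptBar) hα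
  refine ⟨ψ, ⟨hψ1, fun x => ?_⟩, ?_⟩
  · rw [hψ2]
    simp only [RingHom.comp_apply]
    rw [Idx.ptBar_residue]
  · rintro ψ₂ ⟨h1, h2⟩
    apply Groth.Agent.Lib.lead.EssEtale.localHom_ext R i.Ring i.essEtale T f ψ₂ ψ h1 hψ1
    intro x
    rw [h2, hψ2]
    simp only [RingHom.comp_apply]
    rw [Idx.ptBar_residue]

theorem universal (T : Type u) [CommRing T] [HenselianLocalRing T] (f : R →+* T) [IsLocalHom f]
    (τ : Ω →+* ResidueField T) (hτ : ∀ a, τ (algebraMap R Ω a) = residue T (f a)) :
    ∃! g : Hz R Ω →+* T, g.comp (algebraMap R (Hz R Ω)) = f ∧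
      ∀ z, residue T (g z) = τ (ptS z) := by
  classical
  letI : Algebra R T := f.toAlgebra
  let ψ₀ : ∀ i : Idx R Ω, i.Ring →+* T := fun i => (stage_existsUnique T f τ hτ i).choose
  have hψ₀ : ∀ i, (ψ₀ i).comp (algebraMap R i.Ring) = f ∧
      ∀ x, residue T (ψ₀ i x) = τ (i.pt x) :=
    fun i => (stage_existsUnique T f τ hτ i).choose_spec.1
  have hψu : ∀ i (θ : i.Ring →+* T), θ.comp (algebraMap R i.Ring) = f →
      (∀ x, residue T (θ x) = τ (i.pt x)) → θ = ψ₀ i := by
    intro i θ h1 h2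
    exact (stage_existsUnique T f τ hτ i).choose_spec.2 θ ⟨h1, h2⟩
  let ψ : ∀ i : Idx R Ω, i.Ring →ₐ[R] T := fun i =>
    { ψ₀ i with commutes' := fun a => RingHom.congr_fun (hψ₀ i).1 a }
  have hψcoe : ∀ i x, ψ i x = ψ₀ i x := fun i x => rfl
  have hcompat : ∀ i j (hij : i ≤ j), (ψ j).comp (tr i j hij) = ψ i := by
    intro i j hij
    have h1 : (ψ₀ j).comp (tr i j hij).toRingHom = ψ₀ i := by
      apply hψu
      · ext a
        simp only [RingHom.comp_apply]
        have : (tr i j hij).toRingHom (algebraMap R i.Ring a) = algebraMap R j.Ring a :=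
          (tr i j hij).commutes a
        rw [this]
        exact RingHom.congr_fun (hψ₀ j).1 a
      · intro x
        simp only [RingHom.comp_apply]
        rw [(hψ₀ j).2]
        congr 1
        exact pt_tr i j hij x
    refine AlgHom.ext fun x => ?_
    exact RingHom.congr_fun h1 x
  let G : Hz R Ω →ₐ[R] T := liftₐ ψ hcompat
  have hG : ∀ i x, G (ofIdx i x) = ψ₀ i x := fun i x => liftₐ_ofIdx ψ hcompat i x
  refine ⟨G.toRingHom, ⟨?_, ?_⟩, ?_⟩
  · ext a
    exact G.commutes a
  · intro z
    obtain ⟨i, x, rfl⟩ := exists_of z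
    change residue T (G (ofIdx i x)) = _
    rw [hG, (hψ₀ i).2, ptS_ofIdx]
  · rintro G' ⟨hG'1, hG'2⟩
    ext z
    obtain ⟨i, x, rfl⟩ := exists_of z
    change G' (ofIdx i x) = G (ofIdx i x)
    rw [hG]
    have h1 : G'.comp (ofIdx i) = ψ₀ i := by
      apply hψu
      · ext a
        simp only [RingHom.comp_apply]
        rw [ofIdx_algebraMap]
        exact RingHom.congr_fun hG'1 a
      · intro x
        simp only [RingHom.comp_apply]
        rw [hG'2, ptS_ofIdx]
    exact RingHom.congr_fun h1 x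

end Groth.Agent.Lib.lead.SH
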