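import Mathlib
import Groth.Agent.Lib.lead.SH6
import Groth.Prelude.Def_Hensel

/-!
# (Strict) henselization, part 7: existence of the strict henselization and of the henselization
-/

universe u

set_option maxHeartbeats 400000

open IsLocalRing TensorProduct Polynomial

namespace Groth.Agent.Lib.lead.SH

/-- separably closed fields transfer along ring isomorphisms -/
theorem isSepClosed_of_ringEquiv {K K' : Type*} [Field K] [Field K'] (e : K ≃+* K')
    [IsSepClosed K] : IsSepClosed K' := by
  refine IsSepClosed.of_exists_root K' fun p hpm hpi hps => ?_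
  have hq : (p.map (e.symm : K' →+* K)).Separable := hps.map
  have hdeg : (p.map (e.symm : K' →+* K)).degree ≠ 0 := by
    rw [Polynomial.degree_map]
    exact fun h => hpi.not_isUnit (Polynomial.isUnit_iff_degree_eq_zero.mpr h)
  obtain ⟨x, hx⟩ := IsSepClosed.exists_root _ hdeg hq
  refine ⟨e x, ?_⟩
  have h1 : p = (p.map (e.symm : K' →+* K)).map (e : K →+* K') := by
    rw [Polynomial.map_map]
    have : (e : K →+* K').comp (e.symm : K' →+* K) = RingHom.id K' := by
      ext y; simp
    rw [this, Polynomial.map_id]
  rw [h1]
  change eval ((e : K →+* K') x) _ = 0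
  rw [Polynomial.eval_map_apply, hx, map_zero]

section strict

variable (R : Type u) [CommRing R] [IsLocalRing R]

/-- the separable closure of the residue field -/
abbrev Ωs : Type u := SeparableClosure (ResidueField R)

instance : IsLocalHom (algebraMap R (Ωs R)) := by
  refine ⟨fun a ha => ?_⟩
  by_contra hn
  have h1 : residue R a = 0 := (residue_eq_zero_iff a).mpr hn
  have h2 : algebraMap R (Ωs R) a = algebraMap (ResidueField R) (Ωs R) (residue R a) :=
    IsScalarTower.algebraMap_apply R (ResidueField R) (Ωs R) a
  rw [h2, h1, map_zero] at ha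
  exact not_isUnit_zero ha

theorem hsep_Ωs (β : Ωs R) :
    ∃ P : R[X], P.Monic ∧ aeval β P = 0 ∧ aeval β (derivative P) ≠ 0 := by
  have hβ : IsSeparable (ResidueField R) β := Algebra.IsSeparable.isSeparable _ β
  have hint : IsIntegral (ResidueField R) β := hβ.isIntegral
  obtain ⟨P, hP, -, hPm⟩ := Polynomial.lifts_and_degree_eq_and_monic
    ((Polynomial.mem_lifts _).2 (Polynomial.map_surjective _ (residue_surjective (R := R))
      (minpoly (ResidueField R) β))) (minpoly.monic hint)
  have key : ∀ Q : R[X], aeval β Q = aeval β (Q.map (residue R)) := by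
    intro Q
    rw [Polynomial.aeval_def, Polynomial.aeval_def, Polynomial.eval₂_map]
    congr 1
  refine ⟨P, hPm, ?_, ?_⟩
  · rw [key, hP, minpoly.aeval]
  · rw [key, ← Polynomial.derivative_map, hP]
    exact hβ.aeval_derivative_ne_zero (minpoly.aeval _ β)

/-- the strict henselization -/
abbrev Sh : Type u := Hz R (Ωs R)

/-- the residue field of the strict henselization is `Ωs R` -/
noncomputable def resEquiv : ResidueField (Sh R) ≃+* Ωs R :=
  RingEquiv.ofBijective ptBar (ptBar_bijective (hsep_Ωs R))

theorem resEquiv_residue (z : Sh R) : resEquiv R (residue _ z) = ptS z := ptBar_residue z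

theorem resEquiv_algebraMap (x : ResidueField R) :
    resEquiv R (algebraMap (ResidueField R) (ResidueField (Sh R)) x) =
      algebraMap (ResidueField R) (Ωs R) x := by
  obtain ⟨a, rfl⟩ := residue_surjective x
  have h1 : algebraMap (ResidueField R) (ResidueField (Sh R)) (residue R a) =
      residue _ (algebraMap R (Sh R) a) := rfl
  rw [h1, resEquiv_residue, AlgHom.commutes]
  exact IsScalarTower.algebraMap_apply R (ResidueField R) (Ωs R) a

/-- the residue field of the strict henselization as an algebra isomorphism -/
noncomputable def resEquivₐ : ResidueField (Sh R) ≃ₐ[ResidueField R] Ωs R :=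
  { resEquiv R with commutes' := resEquiv_algebraMap R }

instance : IsSepClosure (ResidueField R) (ResidueField (Sh R)) where
  sep_closed := isSepClosed_of_ringEquiv (resEquiv R).symm
  separable := Algebra.IsSeparable.of_algHom _ _ (resEquivₐ R).toAlgHom

instance isStrictHenselization_Sh : Hensel.IsStrictHenselization R (Sh R) where
  henselian := inferInstance
  isSepClosure := inferInstance
  universal T _ _ f _ τ' hτ' := by
    let τ : Ωs R →+* ResidueField T := τ'.comp (resEquiv R).symm
    have hsymm : ∀ a : R, (resEquiv R).symm (algebraMap R (Ωs R) a) =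
        residue _ (algebraMap R (Sh R) a) := by
      intro a
      rw [RingEquiv.symm_apply_eq, resEquiv_residue, AlgHom.commutes]
    have hτ : ∀ a, τ (algebraMap R (Ωs R) a) = residue T (f a) := by
      intro a
      change τ' ((resEquiv R).symm (algebraMap R (Ωs R) a)) = _
      rw [hsymm]
      exact RingHom.congr_fun hτ' (residue R a)
    have hiff : ∀ g : Sh R →+* T, (∀ z, residue T (g z) = τ (ptS z)) ↔
        (∀ x, residue T (g x) = τ' (residue _ x)) := by
      intro g
      have : ∀ z : Sh R, τ (ptS z) = τ' (residue _ z) := by
        intro z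
        change τ' ((resEquiv R).symm (ptS z)) = _
        rw [← resEquiv_residue, RingEquiv.symm_apply_apply]
      constructor
      · intro h x; rw [h, this]
      · intro h x; rw [h, this]
    obtain ⟨g, ⟨hg1, hg2⟩, hgu⟩ := universal T f τ hτ
    refine ⟨g, ⟨hg1, (hiff g).mp hg2⟩, ?_⟩
    rintro g' ⟨h1, h2⟩
    exact hgu g' ⟨h1, (hiff g').mpr h2⟩

end strict

end Groth.Agent.Lib.lead.SH
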