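import Mathlib
import Groth.Agent.Lib.lead.SH7

/-!
# (Strict) henselization, part 8: models and first properties
-/

universe u

set_option maxHeartbeats 400000

open IsLocalRing TensorProduct Polynomial

namespace Groth.Agent.Lib.lead.SH

variable {R : Type u} [CommRing R] [IsLocalRing R] {Ω : Type u} [Field Ω] [Algebra R Ω]
  [IsLocalHom (algebraMap R Ω)]

section stage

variable (i : Idx R Ω)

instance Idx.essFiniteType : Algebra.EssFiniteType R i.Ring := by
  have : Algebra.EssFiniteType (MvPolynomial (Fin i.n) R ⧸ i.I) i.Ring :=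
    Algebra.EssFiniteType.of_isLocalization _ (pk i.χ).primeCompl
  exact Algebra.EssFiniteType.comp R (MvPolynomial (Fin i.n) R ⧸ i.I) _

instance Idx.formallyEtale : Algebra.FormallyEtale R i.Ring := by
  have : Algebra.FormallyEtale (MvPolynomial (Fin i.n) R ⧸ i.I) i.Ring :=
    Algebra.FormallyEtale.of_isLocalization (pk i.χ).primeCompl
  exact Algebra.FormallyEtale.comp R (MvPolynomial (Fin i.n) R ⧸ i.I) _

instance Idx.flat : Module.Flat R i.Ring :=
  Module.Flat.trans R (MvPolynomial (Fin i.n) R ⧸ i.I) _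

instance Idx.quasiFinite : Algebra.QuasiFinite R i.Ring := inferInstance

instance Idx.isNoetherianRing [IsNoetherianRing R] : IsNoetherianRing i.Ring := by
  have : IsNoetherianRing (MvPolynomial (Fin i.n) R ⧸ i.I) := inferInstance
  exact IsLocalization.isNoetherianRing (pk i.χ).primeCompl _ this

theorem Idx.map_maximalIdeal :
    (maximalIdeal R).map (algebraMap R i.Ring) = maximalIdeal i.Ring :=
  Algebra.FormallyUnramified.map_maximalIdeal

end stage

variable (R Ω) in
/-- A presentation of an `R`-algebra `S` as the colimit of the stages. -/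
structure Model (S : Type u) [CommRing S] [Algebra R S] where
  φ : ∀ i : Idx R Ω, i.Ring →ₐ[R] S
  compat : ∀ i j (h : i ≤ j) x, φ j (tr i j h x) = φ i x
  ker : ∀ i x, φ i x = 0 → ∃ j, ∃ h : i ≤ j, tr i j h x = 0
  surj : ∀ z : S, ∃ i x, φ i x = z

/-- the tautological model of `Hz R Ω` -/
noncomputable def modelHz : Model R Ω (Hz R Ω) where
  φ i := ofIdxₐ i
  compat i j h x := ofIdx_tr i j h x
  ker i x hx := ofIdx_eq_zero i x hx
  surj z := exists_of z

/-- transport of a model along an isomorphism -/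
noncomputable def Model.transport {S S' : Type u} [CommRing S] [Algebra R S] [CommRing S']
    [Algebra R S'] (M : Model R Ω S) (e : S ≃ₐ[R] S') : Model R Ω S' where
  φ i := e.toAlgHom.comp (M.φ i)
  compat i j h x := by
    change e (M.φ j (tr i j h x)) = e (M.φ i x)
    rw [M.compat]
  ker i x hx := by
    apply M.ker
    apply e.injective
    rw [map_zero]
    exact hx
  surj z := by
    obtain ⟨i, x, hx⟩ := M.surj (e.symm z)
    refine ⟨i, x, ?_⟩
    change e (M.φ i x) = z
    rw [hx, e.apply_symm_apply]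

namespace Model

variable {S : Type u} [CommRing S] [Algebra R S]

theorem hyp (M : Model R Ω S) :
    Groth.Agent.Lib.helper3.HensColim.Hyp (fun i : Idx R Ω => (M.φ i).toRingHom) where
  dir i j := by
    obtain ⟨k, hik, hjk⟩ := exists_ge_ge i j
    exact ⟨k, trR i k hik, trR j k hjk, isLocalHom_trR i k hik, isLocalHom_trR j k hjk,
      M.compat i k hik, M.compat j k hjk⟩
  ker i x hx := by
    obtain ⟨j, hij, h0⟩ := M.ker i x hx
    exact ⟨j, trR i j hij, isLocalHom_trR i j hij, M.compat i j hij, h0⟩
  surj z := M.surj z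

/-- finite families lift to a common stage -/
theorem exists_fin (M : Model R Ω S) {l : ℕ} (x : Fin l → S) :
    ∃ i, ∃ x' : Fin l → i.Ring, ∀ k, M.φ i (x' k) = x k := by
  induction l with
  | zero => exact ⟨Classical.arbitrary _, Fin.elim0, fun k => k.elim0⟩
  | succ l ih =>
    obtain ⟨i, x', hx'⟩ := ih (fun k => x k.succ)
    obtain ⟨j, y, hy⟩ := M.surj (x 0)
    obtain ⟨k, hik, hjk⟩ := exists_ge_ge i j
    refine ⟨k, Fin.cons (tr j k hjk y) (fun t => tr i k hik (x' t)), ?_⟩
    intro t
    refine Fin.cases ?_ (fun t => ?_) t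
    · rw [Fin.cons_zero, M.compat, hy]
    · rw [Fin.cons_succ, M.compat, hx']

/-- finite sets lift to a common stage -/
theorem exists_finset (M : Model R Ω S) (s : Finset S) :
    ∃ i, ∀ z ∈ s, ∃ x : i.Ring, M.φ i x = z := by
  classical
  induction s using Finset.induction_on with
  | empty => exact ⟨Classical.arbitrary _, fun z hz => absurd hz (Finset.notMem_empty z)⟩
  | insert a s _ ih =>
    obtain ⟨i, hi⟩ := ih
    obtain ⟨j, y, hy⟩ := M.surj a
    obtain ⟨k, hik, hjk⟩ := exists_ge_ge i j
    refine ⟨k, fun z hz => ?_⟩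
    rcases Finset.mem_insert.mp hz with rfl | hz
    · exact ⟨tr j k hjk y, by rw [M.compat, hy]⟩
    · obtain ⟨x, hx⟩ := hi z hz
      exact ⟨tr i k hik x, by rw [M.compat, hx]⟩

theorem flat (M : Model R Ω S) : Module.Flat R S := by
  rw [Module.Flat.iff_forall_isTrivialRelation]
  intro l f x hfx
  obtain ⟨m, x', hx'⟩ := M.exists_fin x
  have h0 : M.φ m (∑ t, f t • x' t) = 0 := by
    rw [map_sum, ← hfx]
    refine Finset.sum_congr rfl fun t _ => ?_
    rw [map_smul, hx']
  obtain ⟨j, hmj, hj⟩ := M.ker m _ h0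
  rw [map_sum] at hj
  have hj' : ∑ t, f t • tr m j hmj (x' t) = 0 := by
    rw [← hj]
    refine Finset.sum_congr rfl fun t _ => ?_
    rw [map_smul]
  obtain ⟨k, a, y, hxy, hfa⟩ := (Module.Flat.iff_forall_isTrivialRelation.mp (Idx.flat j)) hj'
  refine ⟨k, a, fun t => M.φ j (y t), ?_, hfa⟩
  intro t
  have hxy' : tr m j hmj (x' t) = ∑ s, a t s • y s := hxy t
  rw [← hx' t, ← M.compat m j hmj, hxy', map_sum]
  refine Finset.sum_congr rfl fun s _ => ?_
  rw [map_smul]

theorem isLocalHom_φ (M : Model R Ω S) (i : Idx R Ω) : IsLocalHom (M.φ i).toRingHom :=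
  M.hyp.isLocalHom i

variable [IsLocalRing S] [IsLocalHom (algebraMap R S)]

theorem map_maximalIdeal (M : Model R Ω S) :
    (maximalIdeal R).map (algebraMap R S) = maximalIdeal S := by
  apply le_antisymm
  · exact IsLocalRing.map_maximalIdeal_le (algebraMap R S)
  · intro s hs
    obtain ⟨i, x, rfl⟩ := M.surj s
    have hx : x ∈ maximalIdeal i.Ring := by
      rw [mem_maximalIdeal, mem_nonunits_iff]
      intro hu
      exact hs (hu.map (M.φ i))
    rw [← Idx.map_maximalIdeal i] at hx
    have h1 := Ideal.mem_map_of_mem (M.φ i).toRingHom hx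
    rw [Ideal.map_map] at h1
    have h2 : (M.φ i).toRingHom.comp (algebraMap R i.Ring) = algebraMap R S := by
      ext a
      exact (M.φ i).commutes a
    rw [h2] at h1
    exact h1

theorem faithfullyFlat (M : Model R Ω S) : Module.FaithfullyFlat R S := by
  haveI := M.flat
  exact Module.FaithfullyFlat.of_flat_of_isLocalHom

end Model

end Groth.Agent.Lib.lead.SH
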