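import Mathlib
import Groth.Agent.Lib.lead.SH8

/-!
# (Strict) henselization, part 9: uniqueness, and models of arbitrary (strict) henselizations
-/

universe u

set_option maxHeartbeats 400000

open IsLocalRing TensorProduct Polynomial

namespace Groth.Agent.Lib.lead.SH

variable {R : Type u} [CommRing R] [IsLocalRing R]

/-- two strict henselizations are isomorphic -/
theorem strict_unique (S S' : Type u) [CommRing S] [IsLocalRing S] [Algebra R S]
    [IsLocalHom (algebraMap R S)] [hS : Hensel.IsStrictHenselization R S]
    [CommRing S'] [IsLocalRing S'] [Algebra R S'] [IsLocalHom (algebraMap R S')]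
    [hS' : Hensel.IsStrictHenselization R S'] : Nonempty (S ≃ₐ[R] S') := by
  haveI := hS.isSepClosure
  haveI := hS'.isSepClosure
  haveI : HenselianLocalRing S := hS.henselian
  haveI : HenselianLocalRing S' := hS'.henselian
  let σ : ResidueField S ≃ₐ[ResidueField R] ResidueField S' :=
    IsSepClosure.equiv (ResidueField R) (ResidueField S) (ResidueField S')
  have hσ : (σ : ResidueField S →+* ResidueField S').comp (ResidueField.map (algebraMap R S)) =
      ResidueField.map (algebraMap R S') := by
    ext x
    exact σ.commutes x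
  have hσ' : (σ.symm : ResidueField S' →+* ResidueField S).comp
      (ResidueField.map (algebraMap R S')) = ResidueField.map (algebraMap R S) := by
    ext x
    exact σ.symm.commutes x
  obtain ⟨g, ⟨hg1, hg2⟩, -⟩ := hS.universal S' (algebraMap R S') σ hσ
  obtain ⟨g', ⟨hg'1, hg'2⟩, -⟩ := hS'.universal S (algebraMap R S) σ.symm hσ'
  have h1 : g'.comp g = RingHom.id S := by
    obtain ⟨k, -, hku⟩ := hS.universal S (algebraMap R S) (RingHom.id _) (by ext x; rfl)
    rw [hku (g'.comp g) ⟨by rw [RingHom.comp_assoc, hg1, hg'1], fun x => by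
        change residue S (g' (g x)) = residue S x
        rw [hg'2, hg2]
        exact σ.symm_apply_apply _⟩,
      hku (RingHom.id S) ⟨by simp, fun x => rfl⟩]
  have h2 : g.comp g' = RingHom.id S' := by
    obtain ⟨k, -, hku⟩ := hS'.universal S' (algebraMap R S') (RingHom.id _) (by ext x; rfl)
    rw [hku (g.comp g') ⟨by rw [RingHom.comp_assoc, hg'1, hg1], fun x => by
        change residue S' (g (g' x)) = residue S' x
        rw [hg2, hg'2]
        exact σ.apply_symm_apply _⟩,
      hku (RingHom.id S') ⟨by simp, fun x => rfl⟩]
  exact ⟨{ RingEquiv.ofRingHom g g' h2 h1 with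
    commutes' := fun a => RingHom.congr_fun hg1 a }⟩

theorem exists_model_of_strict (S : Type u) [CommRing S] [IsLocalRing S] [Algebra R S]
    [IsLocalHom (algebraMap R S)] [Hensel.IsStrictHenselization R S] :
    Nonempty (Model R (Ωs R) S) := by
  obtain ⟨e⟩ := strict_unique (R := R) (Sh R) S
  exact ⟨modelHz.transport e⟩

/-! ### the henselization -/

instance : IsLocalHom (algebraMap R (ResidueField R)) := by
  refine ⟨fun a ha => ?_⟩
  by_contra hn
  have h1 : residue R a = 0 := (residue_eq_zero_iff a).mpr hn
  have h2 : algebraMap R (ResidueField R) a = residue R a := rfl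
  rw [h2, h1] at ha
  exact not_isUnit_zero ha

variable (R) in
/-- the henselization -/
abbrev Hn : Type u := Hz R (ResidueField R)

/-- every element of a stage is congruent to an element of `R` -/
theorem Idx.exists_sub_mem (i : Idx R (ResidueField R)) (x : i.Ring) :
    ∃ a : R, x - algebraMap R i.Ring a ∈ maximalIdeal i.Ring := by
  obtain ⟨a, ha⟩ := residue_surjective (i.pt x)
  refine ⟨a, ?_⟩
  rw [← i.pt_eq_zero_iff, map_sub, i.pt.commutes, ← ha, sub_eq_zero]
  rfl

instance isHenselization_Hn : Hensel.IsHenselization R (Hn R) where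
  henselian := inferInstance
  universal T _ _ f hf := by
    obtain ⟨g, ⟨hg1, hg2⟩, hgu⟩ := universal (Ω := ResidueField R) T f (ResidueField.map f)
      (fun a => rfl)
    refine ⟨g, hg1, ?_⟩
    intro g' hg'
    apply hgu
    refine ⟨hg', ?_⟩
    intro z
    obtain ⟨i, x, rfl⟩ := exists_of z
    obtain ⟨a, ha⟩ := i.exists_sub_mem x
    letI : Algebra R T := f.toAlgebra
    haveI : IsLocalHom (algebraMap R T) := hf
    let θ : i.Ring →ₐ[R] T :=
      { g'.comp (ofIdx i) with
        commutes' := fun a => by
          change g' (ofIdx i (algebraMap R i.Ring a)) = f a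
          rw [ofIdx_algebraMap]
          exact RingHom.congr_fun hg' a }
    have hloc : IsLocalHom θ.toRingHom := Groth.Agent.S17977.result R i.Ring i.essEtale T θ
    have h1 : θ (x - algebraMap R i.Ring a) ∈ maximalIdeal T := by
      intro hu
      exact ha (hloc.map_nonunit _ hu)
    have h2 : residue T (θ x) = residue T (f a) := by
      rw [← sub_eq_zero, ← map_sub]
      have : θ x - f a = θ (x - algebraMap R i.Ring a) := by
        rw [map_sub, θ.commutes]; rfl
      rw [this]
      exact (residue_eq_zero_iff _).mpr h1
    change residue T (θ x) = _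
    rw [h2, ptS_ofIdx]
    have h3 : i.pt x = residue R a := by
      have := (i.pt_eq_zero_iff _).mpr ha
      rw [map_sub, i.pt.commutes, sub_eq_zero] at this
      exact this
    rw [h3]
    rfl

/-- any two henselizations are isomorphic; here: any henselization is isomorphic to `Hn R` -/
theorem hens_unique (S : Type u) [CommRing S] [IsLocalRing S] [Algebra R S]
    [IsLocalHom (algebraMap R S)] [hS : Hensel.IsHenselization R S] :
    Nonempty (Hn R ≃ₐ[R] S) := by
  haveI : HenselianLocalRing S := hS.henselian
  have hH : Hensel.IsHenselization R (Hn R) := isHenselization_Hn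
  obtain ⟨g, hg, -⟩ := hS.universal (Hn R) (algebraMap R (Hn R)) inferInstance
  obtain ⟨g', hg', -⟩ := hH.universal S (algebraMap R S) inferInstance
  have h1 : g'.comp g = RingHom.id S := by
    obtain ⟨k, -, hku⟩ := hS.universal S (algebraMap R S) inferInstance
    rw [hku (g'.comp g) (by change (g'.comp g).comp _ = _; rw [RingHom.comp_assoc, hg, hg']),
      hku (RingHom.id S) (by change (RingHom.id S).comp _ = _; simp)]
  have h2 : g.comp g' = RingHom.id (Hn R) := by
    obtain ⟨k, -, hku⟩ := hH.universal (Hn R) (algebraMap R (Hn R)) inferInstance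
    rw [hku (g.comp g') (by change (g.comp g').comp _ = _; rw [RingHom.comp_assoc, hg', hg]),
      hku (RingHom.id _) (by change (RingHom.id _).comp _ = _; simp)]
  exact ⟨{ RingEquiv.ofRingHom g' g h1 h2 with
    commutes' := fun a => RingHom.congr_fun hg' a }⟩

theorem exists_model_of_hens (S : Type u) [CommRing S] [IsLocalRing S] [Algebra R S]
    [IsLocalHom (algebraMap R S)] [Hensel.IsHenselization R S] :
    Nonempty (Model R (ResidueField R) S) := by
  obtain ⟨e⟩ := hens_unique (R := R) S
  exact ⟨modelHz.transport e⟩

end Groth.Agent.Lib.lead.SH
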