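import Mathlib
import Groth.Agent.Lib.lead.SH9

/-!
# (Strict) henselization, part 12: the transition maps are flat
-/

universe u

set_option maxHeartbeats 400000

open IsLocalRing TensorProduct Polynomial

namespace Groth.Agent.Lib.lead.SH

variable {R : Type u} [CommRing R] [IsLocalRing R] {Ω : Type u} [Field Ω] [Algebra R Ω]
  [IsLocalHom (algebraMap R Ω)]

/-- abstract form of the cancellation argument: if an étale `i.Ring`-algebra `D` with a point
receives the étale algebra of `j` and maps to `j.Ring` compatibly with the points, then `j.Ring` is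
isomorphic to the local ring of `D` at its point, hence flat over `i.Ring`. -/
theorem flat_tr_aux (i j : Idx R Ω) (h : i ≤ j)
    (D : Type u) [CommRing D] [Algebra R D] [Algebra i.Ring D] [IsScalarTower R i.Ring D]
    [Algebra.Etale i.Ring D]
    (χD : D →ₐ[R] Ω) (hχD : ∀ x : i.Ring, χD (algebraMap i.Ring D x) = i.pt x)
    (g : (MvPolynomial (Fin j.n) R ⧸ j.I) →ₐ[R] D) (hg : χD.comp g = j.χ)
    (ν : D →ₐ[R] j.Ring) (hν : ∀ d, j.pt (ν d) = χD d) :
    (tr i j h).toRingHom.Flat := by
  have hcomap : (pk χD).comap (algebraMap i.Ring D) = maximalIdeal i.Ring := by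
    ext x
    rw [Ideal.mem_comap, mem_pk, hχD]
    exact i.pt_eq_zero_iff x
  have hT_E : EGA4loc.IsEssentiallyEtale i.Ring (Loc χD) :=
    ⟨D, inferInstance, inferInstance, pk χD, inferInstance, inferInstance, hcomap, ⟨AlgEquiv.refl⟩⟩
  have hT_R : EGA4loc.IsEssentiallyEtale R (Loc χD) :=
    Groth.Agent.Lib.lead.EssEtaleTrans.isEssentiallyEtale_trans R i.Ring (Loc χD) i.essEtale hT_E
  obtain ⟨k, e, he⟩ := exists_idx (Loc χD) hT_R (pt χD) (isLocalHom_pt χD)
  -- `i ≤ k`
  let ψik : i.Ring →ₐ[R] k.Ring := e.toAlgHom.comp (IsScalarTower.toAlgHom R i.Ring (Loc χD))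
  have hψik : ∀ x, k.pt (ψik x) = i.pt x := by
    intro x
    change k.pt (e (algebraMap i.Ring (Loc χD) x)) = i.pt x
    rw [he, IsScalarTower.algebraMap_apply i.Ring D (Loc χD), pt_algebraMap, hχD]
  have hik : i ≤ k := ⟨ψik, hψik⟩
  -- `j ≤ k`
  let α : j.Ring →ₐ[R] Loc χD := locMap g hg
  have hjk : j ≤ k := ⟨e.toAlgHom.comp α, fun x => by
    change k.pt (e (α x)) = j.pt x
    rw [he]
    exact pt_locMap g hg x⟩
  -- `k ≤ j`
  let ν' : Loc χD →ₐ[R] j.Ring := IsLocalization.liftAlgHom (M := (pk χD).primeCompl) (f := ν)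
    (fun y => by
      apply (isUnit_iff_pt_ne_zero j.χ _).mpr
      change j.pt (ν y) ≠ 0
      rw [hν]
      exact (isUnit_of_primeCompl χD y).ne_zero)
  have hν'alg : ∀ d, ν' (algebraMap D (Loc χD) d) = ν d := by
    intro d
    change IsLocalization.liftAlgHom _ (algebraMap D (Loc χD) d) = ν d
    rw [IsLocalization.liftAlgHom_apply, IsLocalization.lift_eq]
    rfl
  have hν' : ∀ x, j.pt (ν' x) = pt χD x := by
    intro x
    have : j.pt.comp ν' = pt χD := by
      apply Localization.algHom_ext
      refine AlgHom.ext fun d => ?_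
      change j.pt (ν' (algebraMap D (Loc χD) d)) = pt χD (algebraMap D (Loc χD) d)
      rw [pt_algebraMap, hν'alg, hν]
    exact AlgHom.congr_fun this x
  have hkj : k ≤ j := ⟨ν'.comp e.symm.toAlgHom, fun y => by
    change j.pt (ν' (e.symm y)) = k.pt y
    rw [hν', ← he, e.apply_symm_apply]⟩
  -- `tr k j` is bijective
  have h1 : (tr k j hkj).comp (tr j k hjk) = AlgHom.id R _ := by
    rw [tr_comp, ← tr_self]
  have h2 : (tr j k hjk).comp (tr k j hkj) = AlgHom.id R _ := by
    rw [tr_comp, ← tr_self]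
  have hψ : ψik = tr i k hik := tr_unique i k hik ψik hψik
  have hfac : ∀ x : i.Ring, tr k j hkj (e (algebraMap i.Ring (Loc χD) x)) = tr i j h x := by
    intro x
    have h3 : e (algebraMap i.Ring (Loc χD) x) = tr i k hik x := by
      rw [← hψ]; rfl
    rw [h3]
    exact AlgHom.congr_fun (tr_comp i k j hik hkj) x
  -- flatness of `Loc χD` over `i.Ring`
  haveI hflatT : Module.Flat i.Ring (Loc χD) := Module.Flat.trans i.Ring D (Loc χD)
  letI : Algebra i.Ring j.Ring := (tr i j h).toRingHom.toAlgebra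
  let β : Loc χD ≃ₗ[i.Ring] j.Ring :=
    { toFun := fun x => tr k j hkj (e x)
      map_add' := fun x y => by simp
      map_smul' := fun c x => by
        change tr k j hkj (e (c • x)) = (tr i j h) c * tr k j hkj (e x)
        rw [Algebra.smul_def, map_mul, map_mul, hfac]
      invFun := fun y => e.symm (tr j k hjk y)
      left_inv := fun x => by
        change e.symm (tr j k hjk (tr k j hkj (e x))) = x
        have := AlgHom.congr_fun h2 (e x)
        change tr j k hjk (tr k j hkj (e x)) = e x at this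
        rw [this, e.symm_apply_apply]
      right_inv := fun y => by
        change tr k j hkj (e (e.symm (tr j k hjk y))) = y
        rw [e.apply_symm_apply]
        exact AlgHom.congr_fun h1 y }
  exact Module.Flat.of_linearEquiv β.symm

end Groth.Agent.Lib.lead.SH

namespace Groth.Agent.Lib.lead.SH

/-- abstract base change of pointed algebras -/
theorem exists_baseChange {R : Type u} [CommRing R] {Ω : Type u} [Field Ω] [Algebra R Ω]
    (E C : Type u) [CommRing E] [CommRing C] [Algebra R E] [Algebra R C] [Algebra.Etale R C]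
    (ρ : E →ₐ[R] Ω) (χ : C →ₐ[R] Ω) (P : Type u) [CommRing P] [Algebra R P]
    (t : E →ₐ[R] P) (c : C →ₐ[R] P) (π : P →ₐ[R] Ω) (hπt : π.comp t = ρ) (hπc : π.comp c = χ) :
    ∃ (D : Type u) (_ : CommRing D) (_ : Algebra R D) (_ : Algebra E D)
      (_ : IsScalarTower R E D) (_ : Algebra.Etale E D) (χD : D →ₐ[R] Ω) (g : C →ₐ[R] D)
      (ν : D →ₐ[R] P), (∀ x, χD (algebraMap E D x) = ρ x) ∧ χD.comp g = χ ∧
        (∀ d, π (ν d) = χD d) := by
  refine ⟨E ⊗[R] C, inferInstance, inferInstance, inferInstance, inferInstance, inferInstance,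
    Algebra.TensorProduct.lift ρ χ (fun _ _ => Commute.all _ _),
    Algebra.TensorProduct.includeRight,
    Algebra.TensorProduct.lift t c (fun _ _ => Commute.all _ _), ?_, ?_, ?_⟩
  · intro x
    rw [Algebra.TensorProduct.algebraMap_apply, Algebra.algebraMap_self, RingHom.id_apply,
      Algebra.TensorProduct.lift_tmul, map_one, mul_one]
  · refine AlgHom.ext fun y => ?_
    change Algebra.TensorProduct.lift ρ χ (fun _ _ => Commute.all _ _) ((1 : E) ⊗ₜ y) = χ y
    rw [Algebra.TensorProduct.lift_tmul, map_one, one_mul]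
  · intro d
    have : π.comp (Algebra.TensorProduct.lift t c (fun _ _ => Commute.all _ _)) =
        Algebra.TensorProduct.lift ρ χ (fun _ _ => Commute.all _ _) := by
      apply Algebra.TensorProduct.ext'
      intro x y
      change π (Algebra.TensorProduct.lift t c (fun _ _ => Commute.all _ _) (x ⊗ₜ y)) =
        Algebra.TensorProduct.lift ρ χ (fun _ _ => Commute.all _ _) (x ⊗ₜ y)
      rw [Algebra.TensorProduct.lift_tmul, Algebra.TensorProduct.lift_tmul, map_mul, ← hπt, ← hπc]
      rfl
    exact AlgHom.congr_fun this d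

variable {R : Type u} [CommRing R] [IsLocalRing R] {Ω : Type u} [Field Ω] [Algebra R Ω]
  [IsLocalHom (algebraMap R Ω)]

/-- the transition maps of the system of stages are flat -/
theorem flat_tr (i j : Idx R Ω) (h : i ≤ j) : (tr i j h).toRingHom.Flat := by
  obtain ⟨D, _, _, _, _, _, χD, g, ν, h1, h2, h3⟩ := exists_baseChange i.Ring
    (MvPolynomial (Fin j.n) R ⧸ j.I) i.pt j.χ j.Ring (tr i j h)
    (IsScalarTower.toAlgHom R (MvPolynomial (Fin j.n) R ⧸ j.I) j.Ring) j.pt
    (AlgHom.ext (pt_tr i j h)) (AlgHom.ext (fun c => pt_algebraMap j.χ c))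
  exact flat_tr_aux i j h D χD h1 g h2 ν h3

end Groth.Agent.Lib.lead.SH
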