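import Mathlib
import Groth.Agent.Lib.lead.SH12
import Groth.Agent.S0542

/-!
# (Strict) henselization, part 13: Noetherianity
-/

universe u

set_option maxHeartbeats 400000

open IsLocalRing TensorProduct Polynomial

namespace Groth.Agent.Lib.lead.SH

/-- Noetherianity descends along faithfully flat ring maps -/
theorem isNoetherianRing_of_faithfullyFlat (A B : Type*) [CommRing A] [CommRing B] [Algebra A B]
    [Module.FaithfullyFlat A B] [IsNoetherianRing B] : IsNoetherianRing A := by
  have hB : WellFoundedGT (Ideal B) := isNoetherian_iff'.mp ‹IsNoetherianRing B›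
  let f : Ideal A ↪o Ideal B :=
    { toFun := Ideal.map (algebraMap A B)
      inj' := fun I J h => by
        have := congrArg (Ideal.comap (algebraMap A B)) h
        rwa [Ideal.comap_map_eq_self_of_faithfullyFlat, Ideal.comap_map_eq_self_of_faithfullyFlat]
          at this
      map_rel_iff' := by
        intro I J
        constructor
        · intro h
          have h' : I.map (algebraMap A B) ≤ J.map (algebraMap A B) := h
          have := Ideal.comap_mono (f := algebraMap A B) h'
          rwa [Ideal.comap_map_eq_self_of_faithfullyFlat,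
            Ideal.comap_map_eq_self_of_faithfullyFlat] at this
        · intro h
          exact Ideal.map_mono h }
  exact isNoetherian_iff'.mpr f.wellFoundedGT

/-- Krull's intersection theorem, in the form used below -/
theorem mem_of_forall_mem_sup_pow {B : Type*} [CommRing B] [IsNoetherianRing B] [IsLocalRing B]
    (J : Ideal B) (x : B) (hx : ∀ n, x ∈ J ⊔ maximalIdeal B ^ n) : x ∈ J := by
  have h := Ideal.iInf_pow_smul_eq_bot_of_isLocalRing (M := B ⧸ J) (maximalIdeal B)
    (Ideal.IsPrime.ne_top inferInstance)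
  have hmem : Ideal.Quotient.mk J x ∈ ⨅ i, maximalIdeal B ^ i • (⊤ : Submodule B (B ⧸ J)) := by
    rw [Submodule.mem_iInf]
    intro n
    obtain ⟨a, ha, b, hb, hab⟩ := Submodule.mem_sup.mp (hx n)
    have h1 : Ideal.Quotient.mk J x = b • (Ideal.Quotient.mk J 1) := by
      rw [← hab, map_add, Ideal.Quotient.eq_zero_iff_mem.mpr ha, zero_add]
      rw [Algebra.smul_def, map_one, mul_one]
      rfl
    rw [h1]
    exact Submodule.smul_mem_smul hb Submodule.mem_top
  rw [h] at hmem
  exact Ideal.Quotient.eq_zero_iff_mem.mp ((Submodule.mem_bot _).mp hmem)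

/-- an ideal with ACC-type property: if the extension map to a Noetherian ring reflects membership
for finitely generated ideals, the ring is Noetherian -/
theorem isNoetherianRing_of_comap_map_le {A B : Type*} [CommRing A] [CommRing B]
    [IsNoetherianRing B] (f : A →+* B)
    (h : ∀ J : Ideal A, J.FG → (J.map f).comap f ≤ J) : IsNoetherianRing A := by
  rw [isNoetherianRing_iff_ideal_fg]
  intro J
  -- the set of extensions of finitely generated subideals of `J`
  let 𝒮 : Set (Ideal B) := {K | ∃ J' : Ideal A, J'.FG ∧ J' ≤ J ∧ K = J'.map f}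
  have hne : 𝒮.Nonempty := ⟨⊥, ⊥, Submodule.fg_bot, bot_le, by simp⟩
  have hwf : WellFoundedGT (Ideal B) := isNoetherian_iff'.mp ‹IsNoetherianRing B›
  obtain ⟨K, ⟨J', hJ'fg, hJ'le, rfl⟩, hmax⟩ := hwf.wf.has_min 𝒮 hne
  have : J = J' := by
    refine le_antisymm (fun x hx => ?_) hJ'le
    have hfg : (J' ⊔ Ideal.span {x}).FG := Submodule.FG.sup hJ'fg (Submodule.fg_span_singleton x)
    have hle : J' ⊔ Ideal.span {x} ≤ J :=
      sup_le hJ'le ((Ideal.span_singleton_le_iff_mem J).mpr hx)
    have hmem : (J' ⊔ Ideal.span {x}).map f ∈ 𝒮 := ⟨_, hfg, hle, rfl⟩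
    have hnot := hmax _ hmem
    have hge : J'.map f ≤ (J' ⊔ Ideal.span {x}).map f := Ideal.map_mono le_sup_left
    have heq : (J' ⊔ Ideal.span {x}).map f = J'.map f := by
      by_contra hne'
      exact hnot (lt_of_le_of_ne hge (Ne.symm hne'))
    apply h J' hJ'fg
    rw [Ideal.mem_comap, ← heq]
    exact Ideal.mem_map_of_mem f (Ideal.mem_sup_right (Ideal.subset_span rfl))
  rw [this]
  exact hJ'fg

variable {R : Type u} [CommRing R] [IsLocalRing R] {Ω : Type u} [Field Ω] [Algebra R Ω]
  [IsLocalHom (algebraMap R Ω)]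

/-- transition maps are faithfully flat: contraction of extension is the identity -/
theorem comap_map_tr (i j : Idx R Ω) (h : i ≤ j) (K : Ideal i.Ring) :
    (K.map (tr i j h).toRingHom).comap (tr i j h).toRingHom = K := by
  letI : Algebra i.Ring j.Ring := (tr i j h).toRingHom.toAlgebra
  haveI : Module.Flat i.Ring j.Ring := flat_tr i j h
  haveI : IsLocalHom (algebraMap i.Ring j.Ring) := isLocalHom_trR i j h
  haveI : Module.FaithfullyFlat i.Ring j.Ring := Module.FaithfullyFlat.of_flat_of_isLocalHom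
  exact Ideal.comap_map_eq_self_of_faithfullyFlat K

theorem map_map_tr (i j k : Idx R Ω) (hij : i ≤ j) (hjk : j ≤ k) (K : Ideal i.Ring) :
    (K.map (tr i j hij).toRingHom).map (tr j k hjk).toRingHom =
      K.map (tr i k (hij.trans hjk)).toRingHom := by
  rw [Ideal.map_map]
  congr 1
  exact congrArg AlgHom.toRingHom (tr_comp i j k hij hjk)

namespace Model

variable {S : Type u} [CommRing S] [Algebra R S]

/-- membership in an extended ideal is detected at a finite stage -/
theorem exists_stage_of_mem_map (M : Model R Ω S) (i : Idx R Ω) (K : Ideal i.Ring) (y : S)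
    (hy : y ∈ K.map (M.φ i).toRingHom) :
    ∃ j, ∃ h : i ≤ j, ∃ y' : j.Ring, M.φ j y' = y ∧ y' ∈ K.map (tr i j h).toRingHom := by
  induction hy using Submodule.span_induction with
  | mem y hy =>
    obtain ⟨k, hk, rfl⟩ := hy
    refine ⟨i, le_rfl, tr i i le_rfl k, ?_, Ideal.mem_map_of_mem _ hk⟩
    rw [M.compat]
    rfl
  | zero => exact ⟨i, le_rfl, 0, map_zero _, Ideal.zero_mem _⟩
  | add y z _ _ hy hz =>
    obtain ⟨j₁, h₁, y', hy', hy'K⟩ := hy
    obtain ⟨j₂, h₂, z', hz', hz'K⟩ := hz
    obtain ⟨k, hk₁, hk₂⟩ := exists_ge_ge j₁ j₂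
    refine ⟨k, h₁.trans hk₁, tr j₁ k hk₁ y' + tr j₂ k hk₂ z', ?_, ?_⟩
    · rw [map_add, M.compat, M.compat, hy', hz']
    · refine Ideal.add_mem _ ?_ ?_
      · rw [← map_map_tr i j₁ k h₁ hk₁]
        exact Ideal.mem_map_of_mem _ hy'K
      · have : K.map (tr i k (h₁.trans hk₁)).toRingHom = K.map (tr i k (h₂.trans hk₂)).toRingHom :=
          rfl
        rw [this, ← map_map_tr i j₂ k h₂ hk₂]
        exact Ideal.mem_map_of_mem _ hz'K
  | smul s y _ hy =>
    obtain ⟨j₁, h₁, y', hy', hy'K⟩ := hy
    obtain ⟨j₀, s', hs'⟩ := M.surj s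
    obtain ⟨k, hk₁, hk₀⟩ := exists_ge_ge j₁ j₀
    refine ⟨k, h₁.trans hk₁, tr j₀ k hk₀ s' * tr j₁ k hk₁ y', ?_, ?_⟩
    · rw [map_mul, M.compat, M.compat, hy', hs', smul_eq_mul]
    · refine Ideal.mul_mem_left _ _ ?_
      rw [← map_map_tr i j₁ k h₁ hk₁]
      exact Ideal.mem_map_of_mem _ hy'K

/-- the maps from the stages reflect membership in extended ideals -/
theorem mem_of_map_mem (M : Model R Ω S) (i : Idx R Ω) (K : Ideal i.Ring) (x : i.Ring)
    (hx : M.φ i x ∈ K.map (M.φ i).toRingHom) : x ∈ K := by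
  obtain ⟨j, hij, y', hy', hy'K⟩ := M.exists_stage_of_mem_map i K _ hx
  have h0 : M.φ j (y' - tr i j hij x) = 0 := by
    rw [map_sub, hy', M.compat, sub_self]
  obtain ⟨k, hjk, hk⟩ := M.ker j _ h0
  rw [map_sub, sub_eq_zero] at hk
  have h1 : tr i k (hij.trans hjk) x ∈ K.map (tr i k (hij.trans hjk)).toRingHom := by
    rw [← map_map_tr i j k hij hjk]
    have h2 : tr i k (hij.trans hjk) x = tr j k hjk (tr i j hij x) :=
      (AlgHom.congr_fun (tr_comp i j k hij hjk) x).symm
    rw [h2, ← hk]
    exact Ideal.mem_map_of_mem _ hy'K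
  rw [← comap_map_tr i k (hij.trans hjk) K]
  exact h1

variable [IsLocalRing S] [IsLocalHom (algebraMap R S)]

theorem map_maximalIdeal_stage (M : Model R Ω S) (i : Idx R Ω) :
    (maximalIdeal i.Ring).map (M.φ i).toRingHom = maximalIdeal S := by
  rw [← Idx.map_maximalIdeal i, Ideal.map_map, ← M.map_maximalIdeal]
  congr 1
  ext a
  exact (M.φ i).commutes a

theorem isNoetherianRing [IsNoetherianRing R] (M : Model R Ω S) : IsNoetherianRing S := by
  have hfg : (maximalIdeal S).FG := by
    rw [← M.map_maximalIdeal]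
    exact Ideal.FG.map (IsNoetherian.noetherian _) _
  haveI : IsNoetherianRing (S ⧸ maximalIdeal S) :=
    (inferInstance : IsNoetherianRing (ResidueField S))
  haveI : IsNoetherianRing (AdicCompletion (maximalIdeal S) S) :=
    Groth.Agent.S0542.result S (maximalIdeal S) hfg
  apply isNoetherianRing_of_comap_map_le (algebraMap S (AdicCompletion (maximalIdeal S) S))
  intro J hJ x hx
  -- step 1
  have h1 : ∀ n, x ∈ J ⊔ maximalIdeal S ^ n := by
    intro n
    have hx' : algebraMap S (AdicCompletion (maximalIdeal S) S) x ∈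
        J.map (algebraMap S (AdicCompletion (maximalIdeal S) S)) := hx
    have h2 := Ideal.mem_map_of_mem (AdicCompletion.evalₐ (maximalIdeal S) n).toRingHom hx'
    rw [Ideal.map_map] at h2
    have h3 : (AdicCompletion.evalₐ (maximalIdeal S) n).toRingHom.comp
        (algebraMap S (AdicCompletion (maximalIdeal S) S)) =
        Ideal.Quotient.mk (maximalIdeal S ^ n) := by
      ext a
      exact (AdicCompletion.evalₐ (maximalIdeal S) n).commutes a
    have h4 : (AdicCompletion.evalₐ (maximalIdeal S) n).toRingHom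
        (algebraMap S (AdicCompletion (maximalIdeal S) S) x) =
        Ideal.Quotient.mk (maximalIdeal S ^ n) x :=
      (AdicCompletion.evalₐ (maximalIdeal S) n).commutes x
    rw [h3, h4] at h2
    obtain ⟨y, hy, hyx⟩ := (Ideal.mem_map_iff_of_surjective _ Ideal.Quotient.mk_surjective).mp h2
    have h5 : x - y ∈ maximalIdeal S ^ n := by
      rw [← Ideal.Quotient.eq]
      exact hyx.symm
    have : x = y + (x - y) := by ring
    rw [this]
    exact Ideal.add_mem _ (Ideal.mem_sup_left hy) (Ideal.mem_sup_right h5)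
  -- step 2
  obtain ⟨s, rfl⟩ := hJ
  classical
  obtain ⟨i, hi⟩ := M.exists_finset (insert x s)
  obtain ⟨x', rfl⟩ := hi x (Finset.mem_insert_self x s)
  set J : Ideal S := Ideal.span (s : Set S) with hJdef
  let K : Ideal i.Ring := J.comap (M.φ i).toRingHom
  have hKJ : K.map (M.φ i).toRingHom = J := by
    apply le_antisymm Ideal.map_comap_le
    rw [hJdef, Ideal.span_le]
    intro z hz
    obtain ⟨z', rfl⟩ := hi z (Finset.mem_insert_of_mem hz)
    exact Ideal.mem_map_of_mem _ (show z' ∈ K from Ideal.subset_span hz)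
  suffices x' ∈ K from this
  apply mem_of_forall_mem_sup_pow K x'
  intro n
  apply M.mem_of_map_mem i
  rw [Ideal.map_sup, hKJ, Ideal.map_pow, M.map_maximalIdeal_stage]
  exact h1 n

end Model

end Groth.Agent.Lib.lead.SH
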