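import Mathlib
import Groth.Agent.Lib.lead.SH13

/-!
# (Strict) henselization, part 16: the (strict) henselization is weakly étale
-/

universe u

set_option maxHeartbeats 400000

open IsLocalRing TensorProduct

namespace Groth.Agent.Lib.lead.SH

section general

/-- a localization is an epimorphism of rings -/
theorem isEpi_of_isLocalization {E L : Type*} [CommRing E] [CommRing L] [Algebra E L]
    (M : Submonoid E) [IsLocalization M L] : Algebra.IsEpi E L := by
  rw [Algebra.isEpi_iff_forall_one_tmul_eq]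
  intro a
  obtain ⟨x, s, rfl⟩ := IsLocalization.exists_mk'_eq M a
  have hv : (s : E) • IsLocalization.mk' L (1 : E) s = 1 := by
    rw [Algebra.smul_def, mul_comm, IsLocalization.mk'_spec, map_one]
  have h1 : (1 : L) ⊗ₜ[E] IsLocalization.mk' L (1 : E) s =
      IsLocalization.mk' L (1 : E) s ⊗ₜ[E] (1 : L) := by
    calc (1 : L) ⊗ₜ[E] IsLocalization.mk' L (1 : E) s
        = ((s : E) • IsLocalization.mk' L (1 : E) s) ⊗ₜ[E] IsLocalization.mk' L (1 : E) s := by
          rw [hv]
      _ = IsLocalization.mk' L (1 : E) s ⊗ₜ[E] ((s : E) • IsLocalization.mk' L (1 : E) s) := by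
          rw [TensorProduct.smul_tmul]
      _ = IsLocalization.mk' L (1 : E) s ⊗ₜ[E] (1 : L) := by rw [hv]
  have hx : IsLocalization.mk' L x s = x • IsLocalization.mk' L (1 : E) s := by
    rw [Algebra.smul_def, IsLocalization.mul_mk'_eq_mk'_of_mul, mul_one]
  rw [hx, TensorProduct.tmul_smul, h1, TensorProduct.smul_tmul']

theorem lmul'_bijective_of_isEpi (E L : Type*) [CommRing E] [CommRing L] [Algebra E L]
    [Algebra.IsEpi E L] : Function.Bijective (Algebra.TensorProduct.lmul' E (S := L)) := by
  constructor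
  · have h := Algebra.IsEpi.injective_lift_mul (R := E) (A := L)
    have e : ∀ x : L ⊗[E] L, Algebra.TensorProduct.lmul' E (S := L) x =
        TensorProduct.lift (LinearMap.mul E L) x := by
      intro x
      induction x using TensorProduct.induction_on with
      | zero => simp
      | tmul a b => simp
      | add a b ha hb => rw [map_add, map_add, ha, hb]
    intro x y hxy
    apply h
    rw [← e, ← e, hxy]
  · intro a
    exact ⟨a ⊗ₜ 1, by simp⟩

theorem weaklyEtale_of_isLocalization {E L : Type*} [CommRing E] [CommRing L] [Algebra E L]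
    (M : Submonoid E) [IsLocalization M L] : Algebra.WeaklyEtale E L := by
  haveI := isEpi_of_isLocalization (L := L) M
  exact
    { flat := IsLocalization.flat L M
      flat_lmul' := .of_bijective (lmul'_bijective_of_isEpi E L) }

theorem pure_of_forall_exists_eq_mul {A : Type*} [CommRing A] (I : Ideal A)
    (h : ∀ x ∈ I, ∃ y ∈ I, x = x * y) : I.Pure := by
  refine Ideal.Pure.of_inf_eq_mul I (fun J _ => le_antisymm ?_ Ideal.mul_le_inf)
  rintro x ⟨hxI, hxJ⟩
  obtain ⟨y, hy, e⟩ := h x hxI
  rw [e, mul_comm x y]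
  exact Ideal.mul_mem_mul hy hxJ

theorem flat_iff_pure_ker {A B : Type*} [CommRing A] [CommRing B] (f : A →+* B)
    (hf : Function.Surjective f) : f.Flat ↔ (RingHom.ker f).Pure := by
  letI := f.toAlgebra
  let e : (A ⧸ RingHom.ker f) ≃ₗ[A] B :=
    { (RingHom.quotientKerEquivOfSurjective hf).toAddEquiv with
      map_smul' := by
        intro a x
        obtain ⟨x, rfl⟩ := Ideal.Quotient.mk_surjective x
        change RingHom.quotientKerEquivOfSurjective hf (Ideal.Quotient.mk _ (a * x)) =
          f a * RingHom.quotientKerEquivOfSurjective hf (Ideal.Quotient.mk _ x)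
        rw [RingHom.quotientKerEquivOfSurjective_apply_mk,
          RingHom.quotientKerEquivOfSurjective_apply_mk, map_mul] }
  change Module.Flat A B ↔ Module.Flat A (A ⧸ RingHom.ker f)
  exact ⟨fun h => Module.Flat.of_linearEquiv e, fun h => Module.Flat.of_linearEquiv e.symm⟩

end general

variable {R : Type u} [CommRing R] [IsLocalRing R] {Ω : Type u} [Field Ω] [Algebra R Ω]
  [IsLocalHom (algebraMap R Ω)]

theorem Idx.weaklyEtale (i : Idx R Ω) : Algebra.WeaklyEtale R i.Ring := by
  haveI : Algebra.WeaklyEtale (MvPolynomial (Fin i.n) R ⧸ i.I) i.Ring :=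
    weaklyEtale_of_isLocalization (pk i.χ).primeCompl
  exact Algebra.WeaklyEtale.trans R (MvPolynomial (Fin i.n) R ⧸ i.I) i.Ring

theorem lmul'_map {A B : Type*} [CommRing A] [CommRing B] [Algebra R A] [Algebra R B]
    (f : A →ₐ[R] B) (x : A ⊗[R] A) :
    Algebra.TensorProduct.lmul' R (S := B) (Algebra.TensorProduct.map f f x) =
      f (Algebra.TensorProduct.lmul' R (S := A) x) := by
  induction x using TensorProduct.induction_on with
  | zero => simp
  | tmul a b => simp
  | add a b ha hb => rw [map_add, map_add, map_add, map_add, ha, hb]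

variable {S : Type u} [CommRing S] [Algebra R S]

namespace Model

/-- the map on tensor squares induced by a stage -/
noncomputable abbrev φφ (M : Model R Ω S) (i : Idx R Ω) : i.Ring ⊗[R] i.Ring →ₐ[R] S ⊗[R] S :=
  Algebra.TensorProduct.map (M.φ i) (M.φ i)

end Model

/-- the transition map on tensor squares -/
noncomputable abbrev trtr (i j : Idx R Ω) (h : i ≤ j) :
    i.Ring ⊗[R] i.Ring →ₐ[R] j.Ring ⊗[R] j.Ring :=
  Algebra.TensorProduct.map (tr i j h) (tr i j h)

namespace Model

theorem φφ_trtr (M : Model R Ω S) (i j : Idx R Ω) (h : i ≤ j) (x : i.Ring ⊗[R] i.Ring) :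
    M.φφ j (trtr i j h x) = M.φφ i x := by
  induction x using TensorProduct.induction_on with
  | zero => simp
  | tmul a b => simp [M.compat]
  | add a b ha hb => rw [map_add, map_add, map_add, ha, hb]

theorem exists_stage_tensor (M : Model R Ω S) (x : S ⊗[R] S) :
    ∃ i, ∃ x' : i.Ring ⊗[R] i.Ring, M.φφ i x' = x := by
  induction x using TensorProduct.induction_on with
  | zero => exact ⟨Classical.arbitrary _, 0, map_zero _⟩
  | tmul a b =>
    obtain ⟨i, a', rfl⟩ := M.surj a
    obtain ⟨j, b', rfl⟩ := M.surj b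
    obtain ⟨k, hik, hjk⟩ := exists_ge_ge i j
    exact ⟨k, tr i k hik a' ⊗ₜ tr j k hjk b', by simp [M.compat]⟩
  | add x y hx hy =>
    obtain ⟨i, x', rfl⟩ := hx
    obtain ⟨j, y', rfl⟩ := hy
    obtain ⟨k, hik, hjk⟩ := exists_ge_ge i j
    exact ⟨k, trtr i k hik x' + trtr j k hjk y', by rw [map_add, φφ_trtr, φφ_trtr]⟩

theorem lmul'_surjective (B : Type*) [CommRing B] [Algebra R B] :
    Function.Surjective (Algebra.TensorProduct.lmul' R (S := B)).toRingHom :=
  fun a => ⟨a ⊗ₜ 1, by simp⟩

theorem weaklyEtale (M : Model R Ω S) : Algebra.WeaklyEtale R S := by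
  haveI := M.flat
  refine ⟨inferInstance, ?_⟩
  change (Algebra.TensorProduct.lmul' R (S := S)).toRingHom.Flat
  rw [flat_iff_pure_ker _ (lmul'_surjective S)]
  apply pure_of_forall_exists_eq_mul
  intro x hx
  rw [RingHom.mem_ker] at hx
  obtain ⟨i, x', rfl⟩ := M.exists_stage_tensor x
  have h0 : M.φ i (Algebra.TensorProduct.lmul' R (S := i.Ring) x') = 0 := by
    rw [← lmul'_map]; exact hx
  obtain ⟨j, hij, hj⟩ := M.ker i _ h0
  have h1 : Algebra.TensorProduct.lmul' R (S := j.Ring) (trtr i j hij x') = 0 := by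
    rw [lmul'_map]; exact hj
  have hp : (RingHom.ker (Algebra.TensorProduct.lmul' R (S := j.Ring)).toRingHom).Pure :=
    (flat_iff_pure_ker _ (lmul'_surjective j.Ring)).mp
      (Algebra.WeaklyEtale.flat_lmul' (self := j.weaklyEtale))
  obtain ⟨y, hy, e⟩ := Ideal.exists_eq_mul_of_pure (I := RingHom.ker
    (Algebra.TensorProduct.lmul' R (S := j.Ring)).toRingHom) (x := trtr i j hij x')
    (RingHom.mem_ker.mpr h1)
  rw [RingHom.mem_ker] at hy
  refine ⟨M.φφ j y, ?_, ?_⟩
  · rw [RingHom.mem_ker]
    change Algebra.TensorProduct.lmul' R (S := S) (M.φφ j y) = 0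
    rw [lmul'_map]
    change M.φ j (Algebra.TensorProduct.lmul' R (S := j.Ring) y) = 0
    rw [show Algebra.TensorProduct.lmul' R (S := j.Ring) y = 0 from hy, map_zero]
  · rw [← φφ_trtr M i j hij x', ← map_mul, ← e]

end Model

end Groth.Agent.Lib.lead.SH
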