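import Mathlib

set_option autoImplicit false
set_option maxHeartbeats 400000

namespace Groth.Agent.Lib.lead.FlatIdeals
open TensorProduct

/-- If all ideals of `A` are flat then submodules of flat modules are flat. -/
theorem flat_submodule {A : Type*} [CommRing A] (hA : ∀ I : Ideal A, Module.Flat A I)
    {M : Type*} [AddCommGroup M] [Module A M] [Module.Flat A M] (N : Submodule A M) :
    Module.Flat A N := by
  rw [Module.Flat.iff_rTensor_injective']
  intro I
  have := hA I
  have h1 : Function.Injective (LinearMap.lTensor I N.subtype) :=
    Module.Flat.lTensor_preserves_injective_linearMap _ N.injective_subtype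
  have h2 : Function.Injective (LinearMap.rTensor M I.subtype) :=
    Module.Flat.rTensor_preserves_injective_linearMap _ I.injective_subtype
  have h3 : (LinearMap.lTensor A N.subtype) ∘ₗ (LinearMap.rTensor N I.subtype) =
      (LinearMap.rTensor M I.subtype) ∘ₗ (LinearMap.lTensor I N.subtype) := by
    ext; simp
  have h4 : Function.Injective ((LinearMap.lTensor A N.subtype) ∘ₗ (LinearMap.rTensor N I.subtype)) := by
    rw [h3]; exact h2.comp h1
  exact Function.Injective.of_comp h4

/-- Stacks 092T. -/
theorem isIntegrallyClosedIn_of_flat_epi (A B : Type*) [CommRing A] [CommRing B] [Algebra A B]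
    (hA : ∀ I : Ideal A, Module.Flat A I) [Module.Flat A B]
    (hinj : Function.Injective (algebraMap A B)) [Algebra.IsEpi A B] :
    IsIntegrallyClosedIn A B := by
  rw [isIntegrallyClosedIn_iff]
  refine ⟨hinj, fun {x} hx => ?_⟩
  let A' : Subalgebra A B := Algebra.adjoin A {x}
  have hfin : Module.Finite A A' := by
    have : (Subalgebra.toSubmodule A').FG := hx.fg_adjoin_singleton
    exact Module.Finite.iff_fg.mpr this
  have hflat : Module.Flat A A' := flat_submodule hA (Subalgebra.toSubmodule A')
  have hepi : Algebra.IsEpi A A' := by
    rw [Algebra.isEpi_iff_forall_one_tmul_eq]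
    intro a
    have h1 : Function.Injective (LinearMap.lTensor A' A'.val.toLinearMap) :=
      Module.Flat.lTensor_preserves_injective_linearMap _ Subtype.val_injective
    have h2 : Function.Injective (LinearMap.rTensor B A'.val.toLinearMap) :=
      Module.Flat.rTensor_preserves_injective_linearMap _ Subtype.val_injective
    apply (h2.comp h1)
    simp only [Function.comp_apply, LinearMap.lTensor_tmul, LinearMap.rTensor_tmul]
    have := (Algebra.isEpi_iff_forall_one_tmul_eq A B).mp inferInstance (a : B)
    simpa using this
  have hsurj := (Algebra.isEpi_iff_surjective_algebraMap_of_finite (R := A) (A := A')).mp hepi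
  obtain ⟨y, hy⟩ := hsurj ⟨x, Algebra.subset_adjoin (Set.mem_singleton x)⟩
  refine ⟨y, ?_⟩
  have := congrArg (Subtype.val) hy
  simpa using this

end Groth.Agent.Lib.lead.FlatIdeals
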