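import Mathlib
import Groth.Agent.Lib.lead.FlatIdeals

set_option autoImplicit false
set_option maxHeartbeats 400000

namespace Groth.Agent.Lib.lead.FlatIdeals
open TensorProduct

/-- f.g. ideals of a localization come from f.g. ideals. -/
theorem exists_fg_map_eq {A : Type*} [CommRing A] (S : Submonoid A) (R : Type*) [CommRing R]
    [Algebra A R] [IsLocalization S R] (J : Ideal R) (hJ : J.FG) :
    ∃ I : Ideal A, I.FG ∧ I.map (algebraMap A R) = J := by
  classical
  obtain ⟨s, rfl⟩ := hJ
  induction s using Finset.induction_on with
  | empty => exact ⟨⊥, Submodule.fg_bot, by simp⟩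
  | insert x s hx ih =>
    obtain ⟨I, hI, hIs⟩ := ih
    obtain ⟨a, t, rfl⟩ := IsLocalization.exists_mk'_eq S x
    refine ⟨Ideal.span {a} ⊔ I, Submodule.FG.sup (Submodule.fg_span_singleton a) hI, ?_⟩
    rw [Ideal.map_sup, hIs, Ideal.map_span, Set.image_singleton, Finset.coe_insert,
      Ideal.span_insert]
    congr 1
    apply le_antisymm
    · rw [Ideal.span_singleton_le_iff_mem]
      have : algebraMap A R a = algebraMap A R t * IsLocalization.mk' R a t := by
        rw [mul_comm, IsLocalization.mk'_spec]
      rw [this]
      exact Ideal.mul_mem_left _ _ (Ideal.subset_span (Set.mem_singleton _))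
    · rw [Ideal.span_singleton_le_iff_mem]
      obtain ⟨u, hu⟩ := IsLocalization.map_units R t
      have : IsLocalization.mk' R a t = ↑u⁻¹ * algebraMap A R a := by
        rw [Units.eq_inv_mul_iff_mul_eq, hu, mul_comm, IsLocalization.mk'_spec]
      rw [this]
      exact Ideal.mul_mem_left _ _ (Ideal.subset_span (Set.mem_singleton _))

/-- flatness of extended ideals in a localization -/
theorem flat_map_of_flat {A : Type*} [CommRing A] (S : Submonoid A) (R : Type*) [CommRing R]
    [Algebra A R] [IsLocalization S R] (I : Ideal A) [Module.Flat A I] :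
    Module.Flat R (I.map (algebraMap A R)) := by
  have h1 : Submodule.localized' R S (Algebra.linearMap A R) I = I.map (algebraMap A R) := by
    rw [Submodule.localized'_eq_span]
    rfl
  have h2 : Module.Flat R (Submodule.localized' R S (Algebra.linearMap A R) I) :=
    Module.Flat.of_isLocalizedModule R S (I.toLocalized' R S (Algebra.linearMap A R))
  rw [← h1]
  exact h2

end Groth.Agent.Lib.lead.FlatIdeals
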