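import Mathlib
import Groth.Agent.Lib.lead.FlatIdeals2

set_option autoImplicit false
universe u
set_option maxHeartbeats 400000

namespace Groth.Agent.Lib.lead.FlatIdeals
open TensorProduct

theorem eq_zero_of_mul_eq_zero_of_free {R : Type*} [CommRing R] [Nontrivial R] (J : Ideal R)
    [Module.Free R J] (b : R) (hbJ : b ∈ J) (hb : b ≠ 0) (a : R) (ha : ∀ x ∈ J, a * x = 0) :
    a = 0 := by
  classical
  let bas := Module.Free.chooseBasis R J
  by_cases hne : Nonempty (Module.Free.ChooseBasisIndex R J)
  · obtain ⟨i⟩ := hne
    have h1 : a • bas i = 0 := by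
      apply Subtype.ext
      simpa using ha _ (bas i).2
    have h2 := congrArg (fun v => bas.repr v i) h1
    simpa using h2
  · exfalso
    rw [not_nonempty_iff] at hne
    have : Subsingleton J := by
      refine ⟨fun x y => bas.ext_elem (fun i => (hne.false i).elim)⟩
    exact hb (congrArg Subtype.val (Subsingleton.elim (⟨b, hbJ⟩ : J) 0))

theorem isDomain_of_fg_flat (R : Type*) [CommRing R] [IsLocalRing R]
    (h : ∀ J : Ideal R, J.FG → Module.Flat R J) : IsDomain R := by
  have : NoZeroDivisors R := by
    refine ⟨fun {a b} hab => ?_⟩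
    by_cases hb : b = 0
    · exact Or.inr hb
    left
    have hfl := h (Ideal.span {b}) (Submodule.fg_span_singleton b)
    haveI : Module.Finite R (Ideal.span {b} : Ideal R) :=
      Module.Finite.of_fg (Submodule.fg_span_singleton b)
    haveI : Module.Free R (Ideal.span {b} : Ideal R) := Module.free_of_flat_of_isLocalRing
    refine eq_zero_of_mul_eq_zero_of_free (Ideal.span {b}) b
      (Ideal.subset_span (Set.mem_singleton b)) hb a ?_
    intro x hx
    obtain ⟨c, rfl⟩ := Ideal.mem_span_singleton'.mp hx
    rw [mul_comm c b, ← mul_assoc, hab, zero_mul]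
  exact NoZeroDivisors.to_isDomain R

theorem isPrincipal_of_free {R : Type*} [CommRing R] [IsDomain R] (J : Ideal R)
    [Module.Free R J] : J.IsPrincipal := by
  classical
  let bas := Module.Free.chooseBasis R J
  by_cases hne : Nonempty (Module.Free.ChooseBasisIndex R J)
  · obtain ⟨i⟩ := hne
    have hsub : ∀ j, j = i := by
      intro j
      by_contra hji
      have h1 : ((bas j : J) : R) • bas i - ((bas i : J) : R) • bas j = 0 := by
        apply Subtype.ext
        simp [mul_comm]
      have h2 := congrArg (fun v => bas.repr v i) h1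
      simp [Finsupp.single_apply, hji] at h2
      exact bas.ne_zero j h2
    refine ⟨⟨(bas i : J), ?_⟩⟩
    apply le_antisymm
    · intro x hx
      haveI : Unique (Module.Free.ChooseBasisIndex R J) := ⟨⟨i⟩, hsub⟩
      have h3 := bas.sum_repr ⟨x, hx⟩
      rw [Fintype.sum_unique] at h3
      have h4 := congrArg Subtype.val h3
      simp only [Submodule.coe_smul, smul_eq_mul] at h4
      have hd : (default : Module.Free.ChooseBasisIndex R J) = i := hsub _
      rw [hd] at h4
      rw [Submodule.mem_span_singleton]
      exact ⟨bas.repr ⟨x, hx⟩ i, h4⟩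
    · rw [Submodule.span_singleton_le_iff_mem]
      exact (bas i).2
  · rw [not_nonempty_iff] at hne
    have : Subsingleton J := by
      refine ⟨fun x y => bas.ext_elem (fun i => (hne.false i).elim)⟩
    have : J = ⊥ := by
      rw [eq_bot_iff]
      intro x hx
      have := congrArg Subtype.val (Subsingleton.elim (⟨x, hx⟩ : J) 0)
      simpa using this
    rw [this]
    infer_instance

theorem valuationRing_of_fg_flat (R : Type*) [CommRing R] [IsLocalRing R] [IsDomain R]
    (h : ∀ J : Ideal R, J.FG → Module.Flat R J) : ValuationRing R := by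
  rw [ValuationRing.iff_local_bezout_domain]
  refine ⟨inferInstance, ?_⟩
  rw [IsBezout.iff_span_pair_isPrincipal]
  intro x y
  have hfg : (Ideal.span {x, y} : Ideal R).FG := Submodule.fg_span (Set.toFinite _)
  have hfl := h _ hfg
  haveI : Module.Finite R (Ideal.span {x, y} : Ideal R) := Module.Finite.of_fg hfg
  haveI : Module.Free R (Ideal.span {x, y} : Ideal R) := Module.free_of_flat_of_isLocalRing
  exact isPrincipal_of_free _

end Groth.Agent.Lib.lead.FlatIdeals

namespace Groth.Agent.Lib.lead.FlatIdeals

theorem flat_ideal_of_valuationRing_localization {A : Type*} [CommRing A]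
    (h : ∀ (p : Ideal A) [p.IsPrime], ∃ _ : IsDomain (Localization.AtPrime p),
      ValuationRing (Localization.AtPrime p))
    (I : Ideal A) : Module.Flat A I := by
  apply Module.flat_of_isLocalized_maximal (R := A) (S := A) (M := I)
    (fun P _ => Submodule.localized' (Localization.AtPrime P) P.primeCompl
      (Algebra.linearMap A (Localization.AtPrime P)) I)
    (fun P _ => I.toLocalized' (Localization.AtPrime P) P.primeCompl
      (Algebra.linearMap A (Localization.AtPrime P)))
  intro P hP
  obtain ⟨hd, hv⟩ := h P
  rw [← Module.flat_iff_of_isLocalization (Localization.AtPrime P) P.primeCompl]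
  rw [Module.Flat.flat_iff_torsion_eq_bot_of_isBezout]
  rw [← Submodule.isTorsionFree_iff_torsion_eq_bot]
  infer_instance

theorem tfae (A : Type u) [CommRing A] :
    List.TFAE [∀ I : Ideal A, Module.Flat A I,
      ∀ I : Ideal A, I.FG → Module.Flat A I,
      ∀ (M : Type u) [AddCommGroup M] [Module A M], Module.Flat A M → ∀ N : Submodule A M, Module.Flat A N,
      ∀ (p : Ideal A) [p.IsPrime], ∃ _ : IsDomain (Localization.AtPrime p), ValuationRing (Localization.AtPrime p)] := by
  tfae_have 1 → 2 := fun h I _ => h I
  tfae_have 1 → 3 := fun h M _ _ hM N => flat_submodule h N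
  tfae_have 3 → 1 := fun h I => h A inferInstance I
  tfae_have 4 → 1 := fun h I => flat_ideal_of_valuationRing_localization h I
  tfae_have 2 → 4 := by
    intro h p hp
    have key : ∀ J : Ideal (Localization.AtPrime p), J.FG → Module.Flat (Localization.AtPrime p) J := by
      intro J hJ
      obtain ⟨I, hI, rfl⟩ := exists_fg_map_eq p.primeCompl (Localization.AtPrime p) J hJ
      haveI := h I hI
      exact flat_map_of_flat p.primeCompl (Localization.AtPrime p) I
    have hd := isDomain_of_fg_flat (Localization.AtPrime p) key
    exact ⟨hd, valuationRing_of_fg_flat (Localization.AtPrime p) key⟩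
  tfae_finish

end Groth.Agent.Lib.lead.FlatIdeals
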