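import Mathlib
import Groth.Agent.Lib.lead.FlatIdeals3

set_option autoImplicit false
universe u
set_option maxHeartbeats 400000

namespace Groth.Agent.Lib.lead.FlatIdeals
open TensorProduct

section
variable {J : Type*} (A : J → Type*) [∀ j, CommRing (A j)] [∀ j, IsDomain (A j)]

theorem pi_nonZeroDivisors :
    Submonoid.pi Set.univ (fun j => nonZeroDivisors (A j)) = nonZeroDivisors (∀ j, A j) := by
  classical
  ext x
  simp only [Submonoid.mem_pi, Set.mem_univ, forall_true_left, mem_nonZeroDivisors_iff_ne_zero]
  constructor
  · intro h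
    rw [mem_nonZeroDivisors_iff_right]
    intro y hy
    funext j
    have := congrFun hy j
    simp only [Pi.mul_apply, Pi.zero_apply] at this
    rcases mul_eq_zero.mp this with h1 | h1
    · exact h1
    · exact absurd h1 (h j)
  · intro h j hj
    rw [mem_nonZeroDivisors_iff_right] at h
    have h1 := h (Pi.single j 1) (by
      funext i
      by_cases hij : i = j
      · subst hij; simp [hj]
      · simp [Pi.single_apply, hij])
    have := congrFun h1 j
    simp at this

/-- principal ideals of a product of domains are flat -/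
theorem flat_span_singleton (g : ∀ j, A j) : Module.Flat (∀ j, A j) (Ideal.span {g} : Ideal (∀ j, A j)) := by
  classical
  -- e = indicator of support of g
  let e : ∀ j, A j := fun j => if g j = 0 then 0 else 1
  have he : e * e = e := by
    funext j; by_cases h : g j = 0 <;> simp [e, h]
  have heg : e * g = g := by
    funext j; by_cases h : g j = 0 <;> simp [e, h]
  -- Q = span {e}
  let Q : Ideal (∀ j, A j) := Ideal.span {e}
  have hQproj : Module.Projective (∀ j, A j) Q := by
    let s : (∀ j, A j) →ₗ[∀ j, A j] Q :=
      LinearMap.codRestrict Q (LinearMap.mulRight _ e) (fun r => by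
        simp only [LinearMap.mulRight_apply]
        exact Ideal.mul_mem_left _ _ (Ideal.subset_span (Set.mem_singleton e)))
    refine Module.Projective.of_split Q.subtype s ?_
    apply LinearMap.ext
    rintro ⟨q, hq⟩
    obtain ⟨r, rfl⟩ := Ideal.mem_span_singleton'.mp hq
    apply Subtype.ext
    simp [s, mul_assoc, he]
  let φ : Q →ₗ[∀ j, A j] (Ideal.span {g} : Ideal (∀ j, A j)) :=
    LinearMap.codRestrict _ ((LinearMap.mulRight _ g).comp Q.subtype) (fun q => by
      simp only [LinearMap.comp_apply, LinearMap.mulRight_apply]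
      exact Ideal.mul_mem_left _ _ (Ideal.subset_span (Set.mem_singleton g)))
  have hφinj : Function.Injective φ := by
    rw [← LinearMap.ker_eq_bot, LinearMap.ker_eq_bot']
    rintro ⟨q, hq⟩ h
    obtain ⟨r, rfl⟩ := Ideal.mem_span_singleton'.mp hq
    have h1 : r * e * g = 0 := by
      have := congrArg Subtype.val h
      simpa [φ] using this
    apply Subtype.ext
    funext j
    have h2 := congrFun h1 j
    simp only [Pi.mul_apply, Pi.zero_apply] at h2
    by_cases hg : g j = 0
    · simp [e, hg]
    · rcases mul_eq_zero.mp h2 with h3 | h3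
      · simpa using h3
      · exact absurd h3 hg
  have hφsurj : Function.Surjective φ := by
    rintro ⟨x, hx⟩
    obtain ⟨r, rfl⟩ := Ideal.mem_span_singleton'.mp hx
    refine ⟨⟨r * e, Ideal.mul_mem_left _ _ (Ideal.subset_span (Set.mem_singleton e))⟩, ?_⟩
    apply Subtype.ext
    simp [φ, mul_assoc, heg]
  haveI : Module.Flat (∀ j, A j) Q := inferInstance
  exact Module.Flat.of_linearEquiv (LinearEquiv.ofBijective φ ⟨hφinj, hφsurj⟩).symm

end

section
variable {J : Type*} (A : J → Type*) [∀ j, CommRing (A j)] [∀ j, IsDomain (A j)]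
  [∀ j, ValuationRing (A j)]

theorem isBezout_pi : IsBezout (∀ j, A j) := by
  classical
  rw [IsBezout.iff_span_pair_isPrincipal]
  intro x y
  -- S = {j | x j ∣ y j}
  let g : ∀ j, A j := fun j => if x j ∣ y j then x j else y j
  have hyx : ∀ j, ¬ x j ∣ y j → y j ∣ x j := by
    intro j hj
    rcases ValuationRing.dvd_total (x j) (y j) with h | h
    · exact absurd h hj
    · exact h
  refine ⟨⟨g, ?_⟩⟩
  apply le_antisymm
  · rw [Ideal.span_le]
    intro z hz
    rcases hz with rfl | hz
    · -- x = g * u
      rw [Ideal.submodule_span_eq, SetLike.mem_coe, Ideal.mem_span_singleton]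
      have : ∀ j, g j ∣ z j := by
        intro j
        by_cases h : z j ∣ y j
        · simp [g, h]
        · simp only [g, h, if_false]; exact hyx j h
      choose u hu using this
      exact ⟨u, funext hu⟩
    · rw [Set.mem_singleton_iff] at hz
      subst hz
      rw [Ideal.submodule_span_eq, SetLike.mem_coe, Ideal.mem_span_singleton]
      have : ∀ j, g j ∣ z j := by
        intro j
        by_cases h : x j ∣ z j
        · simp [g, h]
        · simp [g, h]
      choose u hu using this
      exact ⟨u, funext hu⟩
  · rw [Ideal.submodule_span_eq, Ideal.span_singleton_le_iff_mem]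
    let e : ∀ j, A j := fun j => if x j ∣ y j then 1 else 0
    have : g = e * x + (1 - e) * y := by
      funext j
      by_cases h : x j ∣ y j <;> simp [g, e, h]
    rw [this]
    have hx : x ∈ Ideal.span {x, y} := Ideal.subset_span (Set.mem_insert _ _)
    have hy : y ∈ Ideal.span {x, y} := Ideal.subset_span (Set.mem_insert_of_mem _ rfl)
    exact Ideal.add_mem _ (Ideal.mul_mem_left _ _ hx) (Ideal.mul_mem_left _ _ hy)

theorem flat_ideal_pi (I : Ideal (∀ j, A j)) : Module.Flat (∀ j, A j) I := by
  have h2 : ∀ I : Ideal (∀ j, A j), I.FG → Module.Flat (∀ j, A j) I := by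
    intro I hI
    haveI := isBezout_pi A
    obtain ⟨⟨g, rfl⟩⟩ := IsBezout.isPrincipal_of_FG I hI
    exact flat_span_singleton A g
  have t : (∀ I : Ideal (∀ j, A j), I.FG → Module.Flat (∀ j, A j) I) ↔
      (∀ I : Ideal (∀ j, A j), Module.Flat (∀ j, A j) I) := (tfae (∀ j, A j)).out 1 0
  exact t.mp h2 I

end

end Groth.Agent.Lib.lead.FlatIdeals
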