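import Mathlib
import Groth.Agent.Lib.lead.FlatIdeals4

set_option autoImplicit false
universe u
set_option maxHeartbeats 400000

open CategoryTheory

namespace Groth.Agent.Lib.lead.FlatIdeals

theorem cartesian_valuation (A K : Type u) [CommRing A] [IsDomain A] [Field K] [Algebra A K]
    [IsFractionRing A K] [IsIntegrallyClosed A] :
    ∃ (V L : Type u) (_ : CommRing V) (_ : CommRing L) (f : A →+* V) (g : V →+* L) (h : K →+* L),
      g.comp f = h.comp (algebraMap A K) ∧
      (∀ I : Ideal V, Module.Flat V I) ∧ g.Flat ∧ Function.Injective g ∧ Epi (CommRingCat.ofHom g) ∧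
      ∀ (v : V) (k : K), g v = h k → ∃! a : A, f a = v ∧ algebraMap A K a = k := by
  classical
  let R₀ : Subring K := (algebraMap A K).range
  let J : Type u := {W : ValuationSubring K // R₀ ≤ W.toSubring}
  let V : Type u := ∀ j : J, (j.1 : Type u)
  let L : Type u := ∀ _ : J, K
  have hmem : ∀ (a : A) (j : J), algebraMap A K a ∈ j.1 := fun a j => j.2 ⟨a, rfl⟩
  let f : A →+* V := Pi.ringHom fun j =>
    (algebraMap A K).codRestrict j.1.toSubring (fun a => hmem a j)
  let g : V →+* L := algebraMap V L
  let h : K →+* L := Pi.ringHom fun _ => RingHom.id K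
  have hloc : IsLocalization (nonZeroDivisors V) L := by
    rw [← pi_nonZeroDivisors (fun j : J => (j.1 : Type u))]
    infer_instance
  have hg : ∀ (v : V) (j : J), g v j = (v j : K) := fun v j => rfl
  refine ⟨V, L, inferInstance, inferInstance, f, g, h, ?_, ?_, ?_, ?_, ?_, ?_⟩
  · ext a j
    rfl
  · intro I
    exact flat_ideal_pi (fun j : J => (j.1 : Type u)) I
  · change Module.Flat V L
    exact IsLocalization.flat L (nonZeroDivisors V)
  · intro v w hvw
    funext j
    have := congrFun hvw j
    rw [hg, hg] at this
    exact Subtype.ext this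
  · exact IsLocalization.epi (nonZeroDivisors V) L
  · intro v k hvk
    have hk : ∀ j : J, k ∈ j.1 := by
      intro j
      have := congrFun hvk j
      rw [hg] at this
      change (v j : K) = k at this
      rw [← this]
      exact (v j).2
    have : IsIntegrallyClosedIn R₀ K := by
      rw [isIntegrallyClosedIn_iff]
      refine ⟨Subtype.val_injective, ?_⟩
      intro x hx
      have hxA : IsIntegral A x := by
        obtain ⟨p, hp, hpx⟩ := hx
        have hp' : p ∈ Polynomial.lifts ((algebraMap A K).rangeRestrict) := by
          rw [Polynomial.lifts_iff_coeff_lifts]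
          intro n
          exact Set.mem_range.mpr ((algebraMap A K).rangeRestrict_surjective _)
        obtain ⟨p', hmap, -, hmonic⟩ := Polynomial.lifts_and_degree_eq_and_monic hp' hp
        refine ⟨p', hmonic, ?_⟩
        rw [← hmap, Polynomial.eval₂_map] at hpx
        exact hpx
      obtain ⟨a, ha⟩ := IsIntegrallyClosed.algebraMap_eq_of_integral hxA
      exact ⟨⟨algebraMap A K a, a, rfl⟩, ha⟩
    have hkR : k ∈ R₀ := by
      rw [Subring.eq_iInf_of_isIntegrallyClosedIn (R := R₀)]
      rw [Subring.mem_iInf]
      intro j
      exact hk j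
    obtain ⟨a, ha⟩ := hkR
    refine ⟨a, ⟨?_, ha⟩, ?_⟩
    · funext j
      apply Subtype.ext
      have := congrFun hvk j
      rw [hg] at this
      change (algebraMap A K a) = (v j : K)
      rw [ha, this]
      rfl
    · rintro a' ⟨-, ha'⟩
      exact IsFractionRing.injective A K (ha'.trans ha.symm)

end Groth.Agent.Lib.lead.FlatIdeals
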