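import Mathlib
import Groth.Agent.Lib.lead.FlatIdeals3
import Groth.Agent.Lib.helper11.FlatDiag

set_option autoImplicit false
universe u
set_option maxHeartbeats 400000

namespace Groth.Agent.Lib.lead.Ded
open Groth.Agent.Lib.lead.FlatIdeals

/-- weak dimension ≤ 1 ascends along weakly étale maps -/
theorem flat_ideals_of_weaklyEtale (A B : Type u) [CommRing A] [CommRing B] [Algebra A B]
    [Algebra.WeaklyEtale A B] (hA : ∀ I : Ideal A, Module.Flat A I) (J : Ideal B) :
    Module.Flat B J := by
  haveI : Module.Flat A (J.restrictScalars A) := flat_submodule hA (J.restrictScalars A)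
  haveI : Module.Flat A J :=
    Module.Flat.of_linearEquiv ((Submodule.restrictScalarsEquiv A B B J).restrictScalars A).symm
  exact Groth.Agent.Lib.helper11.FlatDiag.flat_of_flat_lmul A B
    (Algebra.WeaklyEtale.flat_lmul' A B) J

theorem flat_ideals_dedekind (A : Type u) [CommRing A] [IsDedekindDomain A] (I : Ideal A) :
    Module.Flat A I := inferInstance

/-- local rings of an étale algebra over a Dedekind domain are valuation rings -/
theorem valuationRing_localization (A B : Type u) [CommRing A] [IsDedekindDomain A] [CommRing B]
    [Algebra A B] [Algebra.Etale A B] (q : Ideal B) [q.IsPrime] :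
    ∃ _ : IsDomain (Localization.AtPrime q), ValuationRing (Localization.AtPrime q) := by
  have h1 : ∀ J : Ideal B, Module.Flat B J :=
    flat_ideals_of_weaklyEtale A B (flat_ideals_dedekind A)
  have t : (∀ I : Ideal B, Module.Flat B I) ↔
      ∀ (p : Ideal B) [p.IsPrime], ∃ _ : IsDomain (Localization.AtPrime p),
        ValuationRing (Localization.AtPrime p) := (tfae B).out 0 3
  exact t.mp h1 q

end Groth.Agent.Lib.lead.Ded
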