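import Mathlib
import Groth.Agent.Lib.lead.CartVal
import Groth.Agent.Lib.lead.Ded1

set_option autoImplicit false
universe u
set_option maxHeartbeats 1000000

open CategoryTheory TensorProduct

namespace Groth.Agent.Lib.lead.NormWE

/-- Stacks 092W, abstract form. -/
theorem integral_of_cartesian (A K B V L : Type u) [CommRing A] [CommRing K] [CommRing B]
    [CommRing V] [CommRing L] [Algebra A K] [Algebra A V] [Algebra A L] [Algebra A B]
    [Algebra.WeaklyEtale A B]
    (gA : V →ₐ[A] L) (hA : K →ₐ[A] L)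
    (hflatV : ∀ I : Ideal V, Module.Flat V I) (hgflat : gA.toRingHom.Flat)
    (hginj : Function.Injective gA) (hgepi : Epi (CommRingCat.ofHom gA.toRingHom))
    (hcart : ∀ (v : V) (k : K), gA v = hA k → ∃ a : A, algebraMap A V a = v ∧ algebraMap A K a = k)
    (z : K ⊗[A] B)
    (hz : (Algebra.TensorProduct.includeRight : B →ₐ[A] K ⊗[A] B).toRingHom.IsIntegralElem z) :
    ∃ b : B, (1 : K) ⊗ₜ[A] b = z := by
  classical
  let G : V ⊗[A] B →ₐ[A] L ⊗[A] B := Algebra.TensorProduct.map gA (AlgHom.id A B)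
  let H : K ⊗[A] B →ₐ[A] L ⊗[A] B := Algebra.TensorProduct.map hA (AlgHom.id A B)
  have hGflat : G.toRingHom.Flat :=
    RingHom.Flat.tensorProductMap (S := A) hgflat (RingHom.Flat.of_bijective Function.bijective_id)
  have hGinj : Function.Injective G := by
    have := Module.Flat.rTensor_preserves_injective_linearMap (M := B) gA.toLinearMap hginj
    intro x y hxy
    apply this
    exact hxy
  have hGepi : Epi (CommRingCat.ofHom G.toRingHom) := by
    refine ⟨fun {Z} u v huv => ?_⟩
    have huv' : u.hom.comp G.toRingHom = v.hom.comp G.toRingHom := by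
      have := congrArg CommRingCat.Hom.hom huv
      simpa using this
    have h1 : u.hom.comp (Algebra.TensorProduct.includeLeftRingHom : L →+* L ⊗[A] B) =
        v.hom.comp (Algebra.TensorProduct.includeLeftRingHom : L →+* L ⊗[A] B) := by
      have h2 : (u.hom.comp (Algebra.TensorProduct.includeLeftRingHom : L →+* L ⊗[A] B)).comp
          gA.toRingHom =
          (v.hom.comp (Algebra.TensorProduct.includeLeftRingHom : L →+* L ⊗[A] B)).comp
            gA.toRingHom := by
        ext x
        have := RingHom.congr_fun huv' (x ⊗ₜ[A] (1 : B))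
        simpa [G] using this
      have h3 := (cancel_epi (CommRingCat.ofHom gA.toRingHom)).mp
        (show CommRingCat.ofHom gA.toRingHom ≫ CommRingCat.ofHom
            (u.hom.comp (Algebra.TensorProduct.includeLeftRingHom : L →+* L ⊗[A] B)) =
          CommRingCat.ofHom gA.toRingHom ≫ CommRingCat.ofHom
            (v.hom.comp (Algebra.TensorProduct.includeLeftRingHom : L →+* L ⊗[A] B)) from by
          ext x
          exact RingHom.congr_fun h2 x)
      exact congrArg CommRingCat.Hom.hom h3
    apply CommRingCat.hom_ext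
    refine RingHom.ext fun t => ?_
    induction t using TensorProduct.induction_on with
    | zero => simp
    | tmul l b =>
      have e1 : l ⊗ₜ[A] b = (l ⊗ₜ[A] (1 : B)) * G ((1 : V) ⊗ₜ[A] b) := by
        simp [G]
      rw [e1, map_mul, map_mul]
      congr 1
      · exact RingHom.congr_fun h1 l
      · exact RingHom.congr_fun huv' _
    | add x y hx hy => rw [map_add, map_add, hx, hy]
  letI : Algebra (V ⊗[A] B) (L ⊗[A] B) := G.toRingHom.toAlgebra
  have : Module.Flat (V ⊗[A] B) (L ⊗[A] B) := hGflat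
  have : Algebra.IsEpi (V ⊗[A] B) (L ⊗[A] B) := CommRingCat.epi_iff_epi.mp hGepi
  have hPV : ∀ I : Ideal (V ⊗[A] B), Module.Flat (V ⊗[A] B) I :=
    Groth.Agent.Lib.lead.Ded.flat_ideals_of_weaklyEtale V (V ⊗[A] B) hflatV
  have hIC : IsIntegrallyClosedIn (V ⊗[A] B) (L ⊗[A] B) :=
    Groth.Agent.Lib.lead.FlatIdeals.isIntegrallyClosedIn_of_flat_epi _ _ hPV hGinj
  -- integrality of `H z`
  obtain ⟨p, hp, hpz⟩ := hz
  have hHz : IsIntegral (V ⊗[A] B) (H z) := by
    refine ⟨p.map (Algebra.TensorProduct.includeRight : B →ₐ[A] V ⊗[A] B).toRingHom, hp.map _, ?_⟩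
    rw [Polynomial.eval₂_map]
    have e2 : (algebraMap (V ⊗[A] B) (L ⊗[A] B)).comp
        (Algebra.TensorProduct.includeRight : B →ₐ[A] V ⊗[A] B).toRingHom =
        H.toRingHom.comp (Algebra.TensorProduct.includeRight : B →ₐ[A] K ⊗[A] B).toRingHom := by
      ext b
      change G ((1 : V) ⊗ₜ[A] b) = H ((1 : K) ⊗ₜ[A] b)
      simp [G, H]
    rw [e2]
    have : H (Polynomial.eval₂
        (Algebra.TensorProduct.includeRight : B →ₐ[A] K ⊗[A] B).toRingHom z p) =
        Polynomial.eval₂ (H.toRingHom.comp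
          (Algebra.TensorProduct.includeRight : B →ₐ[A] K ⊗[A] B).toRingHom) (H z) p :=
      Polynomial.hom_eval₂ p
        (Algebra.TensorProduct.includeRight : B →ₐ[A] K ⊗[A] B).toRingHom H.toRingHom z
    rw [← this, hpz, map_zero]
  obtain ⟨w, hw⟩ := (isIntegrallyClosedIn_iff.mp hIC).2 hHz
  have hw' : G w = H z := hw
  -- the exact sequence
  let φ : A →ₗ[A] V × K := (Algebra.linearMap A V).prod (Algebra.linearMap A K)
  let ψ : V × K →ₗ[A] L := gA.toLinearMap.coprod (-hA.toLinearMap)
  have hex : Function.Exact φ ψ := by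
    intro x
    constructor
    · intro hx
      have hx' : gA x.1 + -(hA x.2) = 0 := hx
      obtain ⟨a, ha1, ha2⟩ := hcart x.1 x.2 (by rwa [add_neg_eq_zero] at hx')
      exact ⟨a, Prod.ext ha1 ha2⟩
    · rintro ⟨a, rfl⟩
      change gA (algebraMap A V a) + -(hA (algebraMap A K a)) = 0
      rw [AlgHom.commutes, AlgHom.commutes, add_neg_cancel]
  have hexB := Module.Flat.rTensor_exact B hex
  let t : (V × K) ⊗[A] B := (LinearMap.inl A V K).rTensor B w + (LinearMap.inr A V K).rTensor B z
  have ht : ψ.rTensor B t = 0 := by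
    change ψ.rTensor B ((LinearMap.inl A V K).rTensor B w + (LinearMap.inr A V K).rTensor B z) = 0
    rw [map_add, ← LinearMap.comp_apply, ← LinearMap.comp_apply, ← LinearMap.rTensor_comp,
      ← LinearMap.rTensor_comp]
    have e3 : ψ.comp (LinearMap.inl A V K) = gA.toLinearMap := by
      ext v; simp [ψ]
    have e4 : ψ.comp (LinearMap.inr A V K) = -hA.toLinearMap := by
      ext k; simp [ψ]
    rw [e3, e4, LinearMap.rTensor_neg, LinearMap.neg_apply]
    have e5 : gA.toLinearMap.rTensor B w = G w := by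
      rfl
    have e6 : hA.toLinearMap.rTensor B z = H z := by
      rfl
    rw [e5, e6, hw', add_neg_cancel]
  obtain ⟨s, hs⟩ := (hexB t).mp ht
  refine ⟨TensorProduct.lid A B s, ?_⟩
  have e7 : (LinearMap.snd A V K).rTensor B t = z := by
    change (LinearMap.snd A V K).rTensor B
      ((LinearMap.inl A V K).rTensor B w + (LinearMap.inr A V K).rTensor B z) = z
    rw [map_add, ← LinearMap.comp_apply, ← LinearMap.comp_apply, ← LinearMap.rTensor_comp,
      ← LinearMap.rTensor_comp]
    have e8 : (LinearMap.snd A V K).comp (LinearMap.inl A V K) = 0 := by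
      ext v; simp
    have e9 : (LinearMap.snd A V K).comp (LinearMap.inr A V K) = LinearMap.id := by
      ext k; simp
    rw [e8, e9, LinearMap.rTensor_zero, LinearMap.rTensor_id]
    simp
  rw [← e7, ← hs, ← LinearMap.comp_apply, ← LinearMap.rTensor_comp]
  have e10 : (LinearMap.snd A V K).comp φ = Algebra.linearMap A K := by
    ext; simp [φ]
  rw [e10]
  obtain ⟨b, rfl⟩ : ∃ b : B, s = (1 : A) ⊗ₜ[A] b :=
    ⟨TensorProduct.lid A B s, by rw [← TensorProduct.lid_symm_apply, LinearEquiv.symm_apply_apply]⟩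
  simp

/-- Stacks 092W: weakly étale over a normal domain is integrally closed in the generic fibre. -/
theorem isIntegrallyClosedIn_tensor (A : Type u) [CommRing A] [IsDomain A] [IsIntegrallyClosed A]
    (K : Type u) [Field K] [Algebra A K] [IsFractionRing A K] (B : Type u) [CommRing B]
    [Algebra A B] [Algebra.WeaklyEtale A B] : IsIntegrallyClosedIn B (B ⊗[A] K) := by
  obtain ⟨V, L, _, _, f, g, h, hcomm, hflatV, hgflat, hginj, hgepi, hcart⟩ :=
    Groth.Agent.Lib.lead.FlatIdeals.cartesian_valuation A K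
  letI : Algebra A V := f.toAlgebra
  letI : Algebra A L := (g.comp f).toAlgebra
  let gA : V →ₐ[A] L := { g with commutes' := fun a => rfl }
  let hA : K →ₐ[A] L := { h with commutes' := fun a => (RingHom.congr_fun hcomm a).symm }
  have key : ∀ z : K ⊗[A] B,
      (Algebra.TensorProduct.includeRight : B →ₐ[A] K ⊗[A] B).toRingHom.IsIntegralElem z →
      ∃ b : B, (1 : K) ⊗ₜ[A] b = z := fun z hz =>
    integral_of_cartesian A K B V L gA hA hflatV hgflat hginj hgepi (fun v k hvk => by
      obtain ⟨a, ⟨ha1, ha2⟩, -⟩ := hcart v k hvk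
      exact ⟨a, ha1, ha2⟩) z hz
  rw [isIntegrallyClosedIn_iff]
  refine ⟨?_, ?_⟩
  · have hinj := Module.Flat.lTensor_preserves_injective_linearMap (M := B) (Algebra.linearMap A K)
      (IsFractionRing.injective A K)
    intro x y hxy
    have h1 : ∀ b : B, algebraMap B (B ⊗[A] K) b =
        (Algebra.linearMap A K).lTensor B ((TensorProduct.rid A B).symm b) := by
      intro b
      simp [Algebra.TensorProduct.algebraMap_apply]
    rw [h1, h1] at hxy
    exact (TensorProduct.rid A B).symm.injective (hinj hxy)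
  · intro x hx
    obtain ⟨p, hp, hpx⟩ := hx
    let e : B ⊗[A] K ≃ₐ[A] K ⊗[A] B := Algebra.TensorProduct.comm A B K
    have e2 : (e : B ⊗[A] K →+* K ⊗[A] B).comp (algebraMap B (B ⊗[A] K)) =
        (Algebra.TensorProduct.includeRight : B →ₐ[A] K ⊗[A] B).toRingHom := by
      ext b
      simp [e, Algebra.TensorProduct.algebraMap_apply]
    have hz : (Algebra.TensorProduct.includeRight : B →ₐ[A] K ⊗[A] B).toRingHom.IsIntegralElem
        (e x) := by
      refine ⟨p, hp, ?_⟩
      have : (e : B ⊗[A] K →+* K ⊗[A] B) (Polynomial.eval₂ (algebraMap B (B ⊗[A] K)) x p) =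
          Polynomial.eval₂ ((e : B ⊗[A] K →+* K ⊗[A] B).comp (algebraMap B (B ⊗[A] K)))
            ((e : B ⊗[A] K →+* K ⊗[A] B) x) p :=
        Polynomial.hom_eval₂ p (algebraMap B (B ⊗[A] K)) (e : B ⊗[A] K →+* K ⊗[A] B) x
      rw [← e2]
      change Polynomial.eval₂ _ ((e : B ⊗[A] K →+* K ⊗[A] B) x) p = 0
      rw [← this, hpx, map_zero]
    obtain ⟨b, hb⟩ := key (e x) hz
    refine ⟨b, ?_⟩
    apply e.injective
    rw [← hb]
    simp [e, Algebra.TensorProduct.algebraMap_apply]

end Groth.Agent.Lib.lead.NormWE
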