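import Mathlib

/-! Shared lemmas on Henselian pairs (lead). -/

namespace Groth.Agent.Lib.lead.Hensel

open Polynomial

variable {A : Type*} [CommRing A]

/-- If `r` is a root of `f`, `f'(r)` is a unit, `a₀ - r` lies in the Jacobson radical and `f(a₀) ∈ I`
then `a₀ - r ∈ I`. -/
theorem sub_mem_of_root (I : Ideal A) (f : A[X]) (r a₀ : A) (hr : f.eval r = 0)
    (hu : IsUnit (f.derivative.eval r)) (hj : a₀ - r ∈ Ideal.jacobson (⊥ : Ideal A))
    (h : f.eval a₀ ∈ I) : a₀ - r ∈ I := by
  obtain ⟨k, hk⟩ := binomExpansion f r (a₀ - r)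
  rw [add_sub_cancel, hr, zero_add] at hk
  have hunit : IsUnit (f.derivative.eval r + k * (a₀ - r)) := by
    obtain ⟨u, hu'⟩ := hu
    have h1 : IsUnit (1 + (k * ↑u⁻¹) * (a₀ - r)) := by
      have := (Ideal.mem_jacobson_bot.mp hj) (k * ↑u⁻¹)
      rw [mul_comm] at this
      convert this using 1
      ring
    have : f.derivative.eval r + k * (a₀ - r) = u * (1 + (k * ↑u⁻¹) * (a₀ - r)) := by
      rw [← hu']
      have : (u : A) * ↑u⁻¹ = 1 := u.mul_inv
      linear_combination (-(k * (a₀ - r))) * this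
    rw [this]
    exact u.isUnit.mul h1
  have hfact : f.eval a₀ = (a₀ - r) * (f.derivative.eval r + k * (a₀ - r)) := by
    rw [hk]; ring
  obtain ⟨v, hv⟩ := hunit
  have : a₀ - r = f.eval a₀ * ↑v⁻¹ := by
    rw [hfact, ← hv, mul_assoc, v.mul_inv, mul_one]
  rw [this]
  exact I.mul_mem_right _ h

/-- Elements of a locally nilpotent ideal lie in the Jacobson radical. -/
theorem le_jacobson_of_nil (I : Ideal A) (hI : ∀ x ∈ I, IsNilpotent x) :
    I ≤ Ideal.jacobson ⊥ := by
  intro x hx
  have : x ∈ nilradical A := mem_nilradical.mpr (hI x hx)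
  exact Ideal.radical_le_jacobson this

theorem nilpotent_mem_jacobson {x : A} (hx : IsNilpotent x) : x ∈ Ideal.jacobson (⊥ : Ideal A) :=
  Ideal.radical_le_jacobson (mem_nilradical.mpr hx)

/-- A ring is Henselian at any locally nilpotent ideal. -/
theorem henselian_of_nil (I : Ideal A) (hI : ∀ x ∈ I, IsNilpotent x) : HenselianRing A I where
  jac := le_jacobson_of_nil I hI
  is_henselian := by
    intro f _ a₀ h₁ h₂
    have hloc := isLocalHom_of_le_jacobson_bot I (le_jacobson_of_nil I hI)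
    have hu : IsUnit (f.derivative.eval a₀) := hloc.map_nonunit _ h₂
    have hn : IsNilpotent (aeval a₀ f) := by simpa using hI _ h₁
    have hu' : IsUnit (aeval a₀ (derivative f)) := by simpa using hu
    obtain ⟨r, ⟨hr1, hr2⟩, -⟩ := existsUnique_nilpotent_sub_and_aeval_eq_zero hn hu'
    have hr2' : f.eval r = 0 := by simpa using hr2
    have hur : IsUnit (f.derivative.eval r) := by
      have hr1' : IsNilpotent (r - a₀) := by rw [← neg_sub]; exact hr1.neg
      have := isUnit_aeval_of_isUnit_aeval_of_isNilpotent_sub (P := derivative f) hu' hr1'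
      simpa using this
    have := sub_mem_of_root I f r a₀ hr2' hur (nilpotent_mem_jacobson hr1) h₁
    refine ⟨r, hr2', ?_⟩
    rw [← neg_sub]
    exact I.neg_mem this

end Groth.Agent.Lib.lead.Hensel

namespace Groth.Agent.Lib.lead.Hensel

open Polynomial

variable {A : Type*} [CommRing A]

theorem isUnit_add_of_mem_jacobson {u j : A} (hu : IsUnit u) (hj : j ∈ Ideal.jacobson (⊥ : Ideal A)) :
    IsUnit (u + j) := by
  obtain ⟨v, rfl⟩ := hu
  have h1 : IsUnit (j * ↑v⁻¹ + 1) := (Ideal.mem_jacobson_bot.mp hj) ↑v⁻¹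
  have : (v : A) + j = v * (j * ↑v⁻¹ + 1) := by
    have : (v : A) * ↑v⁻¹ = 1 := v.mul_inv
    linear_combination (-j) * this
  rw [this]
  exact v.isUnit.mul h1

/-- If `x - y ∈ jac` and `p(y)` is a unit then `p(x)` is a unit. -/
theorem isUnit_eval_of_sub_mem_jacobson (p : A[X]) {x y : A}
    (h : x - y ∈ Ideal.jacobson (⊥ : Ideal A)) (hu : IsUnit (p.eval y)) : IsUnit (p.eval x) := by
  have hd : x - y ∣ p.eval x - p.eval y := sub_dvd_eval_sub x y p
  obtain ⟨c, hc⟩ := hd
  have : p.eval x = p.eval y + (x - y) * c := by rw [← hc]; ring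
  rw [this]
  exact isUnit_add_of_mem_jacobson hu (Ideal.mul_mem_right _ _ h)

theorem isUnit_of_isUnit_mk (I : Ideal A) (hI : I ≤ Ideal.jacobson ⊥) {x : A}
    (h : IsUnit (Ideal.Quotient.mk I x)) : IsUnit x :=
  (isLocalHom_of_le_jacobson_bot I hI).map_nonunit _ h

/-- Henselian at `J` and `I ≤ J` implies Henselian at `I`. -/
theorem henselian_of_le {I J : Ideal A} (hIJ : I ≤ J) (hJ : HenselianRing A J) :
    HenselianRing A I where
  jac := hIJ.trans hJ.jac
  is_henselian := by
    intro f hf a₀ h₁ h₂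
    have hu : IsUnit (f.derivative.eval a₀) := isUnit_of_isUnit_mk I (hIJ.trans hJ.jac) h₂
    obtain ⟨a, ha, haJ⟩ := hJ.is_henselian f hf a₀ (hIJ h₁) (hu.map _)
    have hua : IsUnit (f.derivative.eval a) :=
      isUnit_eval_of_sub_mem_jacobson _ (hJ.jac haJ) hu
    have hj : a₀ - a ∈ Ideal.jacobson (⊥ : Ideal A) := by
      rw [← neg_sub]; exact neg_mem (hJ.jac haJ)
    have := sub_mem_of_root I f a a₀ ha hua hj h₁
    refine ⟨a, ha, ?_⟩
    rw [← neg_sub]; exact I.neg_mem this

theorem radical_le_jacobson_bot {I : Ideal A} (hI : I ≤ Ideal.jacobson ⊥) :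
    I.radical ≤ Ideal.jacobson ⊥ := by
  calc I.radical ≤ I.jacobson := Ideal.radical_le_jacobson
    _ ≤ (Ideal.jacobson ⊥).jacobson := Ideal.jacobson_mono hI
    _ = Ideal.jacobson ⊥ := Ideal.jacobson_idem

/-- Henselian at `I` implies Henselian at `I.radical`. -/
theorem henselian_radical {I : Ideal A} (hI : HenselianRing A I) : HenselianRing A I.radical where
  jac := radical_le_jacobson_bot hI.jac
  is_henselian := by
    intro f hf a₀ h₁ h₂
    have hjac := radical_le_jacobson_bot hI.jac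
    have hu : IsUnit (f.derivative.eval a₀) := isUnit_of_isUnit_mk _ hjac h₂
    -- work in A ⧸ I
    let π := Ideal.Quotient.mk I
    have hn : IsNilpotent (aeval (π a₀) (f.map π)) := by
      obtain ⟨n, hn⟩ := h₁
      refine ⟨n, ?_⟩
      have : aeval (π a₀) (f.map π) = π (f.eval a₀) := by
        simp [aeval_def, eval₂_map]
      rw [this, ← map_pow]
      exact Ideal.Quotient.eq_zero_iff_mem.mpr hn
    have hu' : IsUnit (aeval (π a₀) (derivative (f.map π))) := by
      have : aeval (π a₀) (derivative (f.map π)) = π (f.derivative.eval a₀) := by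
        rw [derivative_map]
        simp [aeval_def, eval₂_map]
      rw [this]; exact hu.map _
    obtain ⟨rbar, ⟨hr1, hr2⟩, -⟩ := existsUnique_nilpotent_sub_and_aeval_eq_zero hn hu'
    obtain ⟨b, rfl⟩ := Ideal.Quotient.mk_surjective rbar
    have hb1 : a₀ - b ∈ I.radical := by
      obtain ⟨n, hn⟩ := hr1
      refine ⟨n, ?_⟩
      rw [← Ideal.Quotient.eq_zero_iff_mem, map_pow, map_sub]; exact hn
    have hb2 : f.eval b ∈ I := by
      rw [← Ideal.Quotient.eq_zero_iff_mem]
      have : aeval (π b) (f.map π) = π (f.eval b) := by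
        simp [aeval_def, eval₂_map]
      rw [← this]; exact hr2
    have hub : IsUnit (f.derivative.eval b) := by
      refine isUnit_eval_of_sub_mem_jacobson _ ?_ hu
      rw [← neg_sub]; exact neg_mem (hjac hb1)
    obtain ⟨a, ha, haI⟩ := hI.is_henselian f hf b hb2 (hub.map _)
    refine ⟨a, ha, ?_⟩
    have : a - a₀ = (a - b) - (a₀ - b) := by ring
    rw [this]
    exact Ideal.sub_mem _ (Ideal.le_radical haI) hb1

theorem henselian_iff_of_radical_eq {I J : Ideal A} (h : I.radical = J.radical) :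
    HenselianRing A I ↔ HenselianRing A J := by
  constructor
  · intro hI
    refine henselian_of_le (J := J.radical) Ideal.le_radical ?_
    rw [← h]; exact henselian_radical hI
  · intro hJ
    refine henselian_of_le (J := I.radical) Ideal.le_radical ?_
    rw [h]; exact henselian_radical hJ

end Groth.Agent.Lib.lead.Hensel

namespace Groth.Agent.Lib.lead.Hensel

open Polynomial

variable {A : Type*} [CommRing A]

theorem map_mem_jacobson_of_surjective {B : Type*} [CommRing B] (φ : A →+* B)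
    (hφ : Function.Surjective φ) {x : A} (hx : x ∈ Ideal.jacobson (⊥ : Ideal A)) :
    φ x ∈ Ideal.jacobson (⊥ : Ideal B) := by
  rw [Ideal.mem_jacobson_bot]
  intro y
  obtain ⟨y, rfl⟩ := hφ y
  have := (Ideal.mem_jacobson_bot.mp hx) y
  have h2 := this.map φ
  simpa using h2

theorem eval_map_mk (I : Ideal A) (f : A[X]) (a : A) :
    (f.map (Ideal.Quotient.mk I)).eval (Ideal.Quotient.mk I a) = Ideal.Quotient.mk I (f.eval a) := by
  rw [eval_map, eval₂_at_apply]

theorem mem_of_mk_mem_map {I J : Ideal A} (hIJ : I ≤ J) {x : A}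
    (h : Ideal.Quotient.mk I x ∈ Ideal.map (Ideal.Quotient.mk I) J) : x ∈ J := by
  have : x ∈ Ideal.comap (Ideal.Quotient.mk I) (Ideal.map (Ideal.Quotient.mk I) J) := h
  rw [Ideal.comap_map_of_surjective _ Ideal.Quotient.mk_surjective] at this
  have hk : Ideal.comap (Ideal.Quotient.mk I) ⊥ = I := by
    rw [← RingHom.ker_eq_comap_bot, Ideal.mk_ker]
  rw [hk, sup_eq_left.mpr hIJ] at this
  exact this

/-- Quotient of a Henselian pair: if `A` is Henselian at `J` and `I ≤ J` then `A ⧸ I` is Henselian at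
the image of `J`. -/
theorem henselian_quotient_of_le {I J : Ideal A} (hIJ : I ≤ J) (hJ : HenselianRing A J) :
    HenselianRing (A ⧸ I) (Ideal.map (Ideal.Quotient.mk I) J) := by
  have hjac : Ideal.map (Ideal.Quotient.mk I) J ≤ Ideal.jacobson ⊥ := by
    rw [Ideal.map_le_iff_le_comap]
    intro x hx
    exact map_mem_jacobson_of_surjective _ Ideal.Quotient.mk_surjective (hJ.jac hx)
  refine ⟨hjac, ?_⟩
  intro fbar hfbar abar h₁ h₂
  obtain ⟨a₀, rfl⟩ := Ideal.Quotient.mk_surjective abar
  obtain ⟨f, hf1, -, hf3⟩ := lifts_and_natDegree_eq_and_monic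
    ((mem_lifts _).mpr (map_surjective _ Ideal.Quotient.mk_surjective fbar)) hfbar
  subst hf1
  rw [eval_map_mk] at h₁
  have h₁' : f.eval a₀ ∈ J := mem_of_mk_mem_map hIJ h₁
  have hu : IsUnit ((f.map (Ideal.Quotient.mk I)).derivative.eval (Ideal.Quotient.mk I a₀)) :=
    isUnit_of_isUnit_mk _ hjac h₂
  rw [derivative_map, eval_map_mk] at hu
  have hu' : IsUnit (f.derivative.eval a₀) := isUnit_of_isUnit_mk I (hIJ.trans hJ.jac) hu
  obtain ⟨a, ha, haJ⟩ := hJ.is_henselian f hf3 a₀ h₁' (hu'.map _)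
  refine ⟨Ideal.Quotient.mk I a, ?_, ?_⟩
  · rw [IsRoot, eval_map_mk, ha.eq_zero, map_zero]
  · rw [← map_sub]; exact Ideal.mem_map_of_mem _ haJ

/-- If `A` is Henselian at `I ≤ J` and `A ⧸ I` is Henselian at the image of `J`, then `A` is Henselian
at `J`. -/
theorem henselian_of_quotient {I J : Ideal A} (hIJ : I ≤ J) (hI : HenselianRing A I)
    (hJ : HenselianRing (A ⧸ I) (Ideal.map (Ideal.Quotient.mk I) J)) : HenselianRing A J := by
  have hjac : J ≤ Ideal.jacobson ⊥ := by
    intro x hx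
    rw [Ideal.mem_jacobson_bot]
    intro y
    apply isUnit_of_isUnit_mk I hI.jac
    have h1 : Ideal.Quotient.mk I x ∈ Ideal.jacobson (⊥ : Ideal (A ⧸ I)) :=
      hJ.jac (Ideal.mem_map_of_mem _ hx)
    have := (Ideal.mem_jacobson_bot.mp h1) (Ideal.Quotient.mk I y)
    simpa using this
  refine ⟨hjac, ?_⟩
  intro f hf a₀ h₁ h₂
  have hu : IsUnit (f.derivative.eval a₀) := isUnit_of_isUnit_mk J hjac h₂
  have hfm : (f.map (Ideal.Quotient.mk I)).Monic := hf.map _
  obtain ⟨bbar, hb, hbJ⟩ := hJ.is_henselian (f.map (Ideal.Quotient.mk I)) hfm (Ideal.Quotient.mk I a₀)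
    (by rw [eval_map_mk]; exact Ideal.mem_map_of_mem _ h₁)
    (by rw [derivative_map, eval_map_mk]; exact (hu.map _).map _)
  obtain ⟨b, rfl⟩ := Ideal.Quotient.mk_surjective bbar
  rw [← map_sub] at hbJ
  have hbJ' : b - a₀ ∈ J := mem_of_mk_mem_map hIJ hbJ
  rw [IsRoot, eval_map_mk, Ideal.Quotient.eq_zero_iff_mem] at hb
  have hub : IsUnit (f.derivative.eval b) := isUnit_eval_of_sub_mem_jacobson _ (hjac hbJ') hu
  obtain ⟨a, ha, haI⟩ := hI.is_henselian f hf b hb (hub.map _)
  refine ⟨a, ha, ?_⟩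
  have : a - a₀ = (a - b) + (b - a₀) := by ring
  rw [this]
  exact J.add_mem (hIJ haI) hbJ'

theorem henselian_iff_of_le {I J : Ideal A} (hIJ : I ≤ J) :
    HenselianRing A J ↔
      (HenselianRing A I ∧ HenselianRing (A ⧸ I) (Ideal.map (Ideal.Quotient.mk I) J)) :=
  ⟨fun h => ⟨henselian_of_le hIJ h, henselian_quotient_of_le hIJ h⟩,
   fun h => henselian_of_quotient hIJ h.1 h.2⟩

/-- Henselian at `I` and at `J` implies Henselian at `I ⊔ J`. -/
theorem henselian_sup {I J : Ideal A} (hI : HenselianRing A I) (hJ : HenselianRing A J) :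
    HenselianRing A (I ⊔ J) := by
  have hjac : I ⊔ J ≤ Ideal.jacobson ⊥ := sup_le hI.jac hJ.jac
  refine ⟨hjac, ?_⟩
  intro f hf a₀ h₁ h₂
  have hu : IsUnit (f.derivative.eval a₀) := isUnit_of_isUnit_mk _ hjac h₂
  rcases subsingleton_or_nontrivial A with hs | hn
  · exact ⟨0, Subsingleton.elim _ _, by rw [Subsingleton.elim (0 - a₀) 0]; exact Ideal.zero_mem _⟩
  by_cases hdeg : f.natDegree = 0
  · have hf1 : f = 1 := by
      rw [← hf.natDegree_eq_zero]; exact hdeg
    subst hf1
    simp only [eval_one] at h₁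
    have h1 : (1 : A) ∈ Ideal.jacobson (⊥ : Ideal A) := hjac h₁
    have h0 := (Ideal.mem_jacobson_bot.mp h1) (-1)
    have hsub : Subsingleton A := by
      apply subsingleton_of_zero_eq_one
      have : IsUnit (0 : A) := by simpa using h0
      exact (isUnit_zero_iff.mp this)
    exact ⟨0, Subsingleton.elim _ _, by rw [Subsingleton.elim (0 - a₀) 0]; exact Ideal.zero_mem _⟩
  · obtain ⟨i, hi, j, hj, hij⟩ := Submodule.mem_sup.mp h₁
    let g : A[X] := f - C i
    have hgm : g.Monic := by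
      apply Monic.sub_of_left hf
      refine degree_C_le.trans_lt ?_
      rw [degree_eq_natDegree hf.ne_zero]
      exact_mod_cast Nat.pos_of_ne_zero hdeg
    have hg1 : g.eval a₀ ∈ J := by
      simp only [g, eval_sub, eval_C]
      rw [← hij]; simpa using hj
    have hgd : g.derivative = f.derivative := by simp [g]
    obtain ⟨b, hb, hbJ⟩ := hJ.is_henselian g hgm a₀ hg1 (by rw [hgd]; exact hu.map _)
    have hfb : f.eval b = i := by
      have : g.eval b = 0 := hb
      simp only [g, eval_sub, eval_C] at this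
      exact sub_eq_zero.mp this
    have hub : IsUnit (f.derivative.eval b) :=
      isUnit_eval_of_sub_mem_jacobson _ (hJ.jac hbJ) hu
    obtain ⟨a, ha, haI⟩ := hI.is_henselian f hf b (by rw [hfb]; exact hi) (hub.map _)
    refine ⟨a, ha, ?_⟩
    have : a - a₀ = (a - b) + (b - a₀) := by ring
    rw [this]
    exact Ideal.add_mem _ (Ideal.mem_sup_left haI) (Ideal.mem_sup_right hbJ)

end Groth.Agent.Lib.lead.Hensel

namespace Groth.Agent.Lib.lead.Hensel

open Polynomial

variable {A : Type*} [CommRing A]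

theorem henselian_bot : HenselianRing A (⊥ : Ideal A) :=
  henselian_of_nil ⊥ (fun x hx => by rw [Ideal.mem_bot] at hx; subst hx; exact IsNilpotent.zero)

/-- Every ring has a largest ideal at which it is Henselian. -/
theorem exists_largest_henselian (A : Type*) [CommRing A] :
    ∃ I : Ideal A, HenselianRing A I ∧ ∀ J : Ideal A, HenselianRing A J → J ≤ I := by
  let S : Set (Ideal A) := {J | HenselianRing A J}
  have hne : S.Nonempty := ⟨⊥, henselian_bot⟩
  have hdir : DirectedOn (· ≤ ·) S := by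
    intro I hI J hJ
    exact ⟨I ⊔ J, henselian_sup hI hJ, le_sup_left, le_sup_right⟩
  refine ⟨sSup S, ?_, fun J hJ => le_sSup hJ⟩
  have hjac : sSup S ≤ Ideal.jacobson ⊥ := sSup_le (fun J hJ => (show HenselianRing A J from hJ).jac)
  refine ⟨hjac, ?_⟩
  intro f hf a₀ h₁ h₂
  have hu : IsUnit (f.derivative.eval a₀) := isUnit_of_isUnit_mk _ hjac h₂
  obtain ⟨J, hJ, hJ1⟩ := (Submodule.mem_sSup_of_directed hne hdir).mp h₁
  obtain ⟨a, ha, haJ⟩ := (show HenselianRing A J from hJ).is_henselian f hf a₀ hJ1 (hu.map _)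
  exact ⟨a, ha, (le_sSup hJ : J ≤ sSup S) haJ⟩

end Groth.Agent.Lib.lead.Hensel
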