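import Mathlib
import Groth.Agent.Lib.lead.Hensel

namespace Groth.Agent.Lib.lead.Gabber

open Polynomial

/-- Gabber-type reduction: if all polynomials `Xⁿ(X-1)+p` (`p` with coefficients in `I`) have a root
congruent to `1`, then any polynomial `F` with `F(0) ∈ I` and `F'(0)` a unit has a root in `I`. -/
theorem exists_root_mem_of_gabber {A : Type*} [CommRing A] (I : Ideal A) (hI : I ≤ Ideal.jacobson ⊥)
    (H : ∀ (n : ℕ), 0 < n → ∀ p : A[X], p.natDegree ≤ n → (∀ i, p.coeff i ∈ I) →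
      ∃ α : A, α - 1 ∈ I ∧ IsRoot (X ^ n * (X - 1) + p) α)
    (F : A[X]) (h0 : F.coeff 0 ∈ I) (h1 : IsUnit (F.coeff 1)) :
    ∃ y ∈ I, F.IsRoot y := by
  classical
  set M := F.natDegree with hM
  set c₀ := F.coeff 0 with hc₀
  obtain ⟨u, hu⟩ : ∃ u : A, F.coeff 1 * u = -1 := by
    obtain ⟨v, hv⟩ := h1.exists_right_inv
    exact ⟨-v, by rw [mul_neg, hv]⟩
  let p : A[X] := ∑ j ∈ Finset.range (M + 1),
    C (F.coeff (j + 2) * c₀ ^ (j + 1) * u ^ (j + 2)) * X ^ (M - j)
  have hpdeg : p.natDegree ≤ M + 1 := by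
    refine (natDegree_sum_le_of_forall_le _ _ (n := M) fun j _ => ?_).trans (Nat.le_succ M)
    exact (natDegree_C_mul_X_pow_le _ _).trans (Nat.sub_le _ _)
  have hpcoeff : ∀ i, p.coeff i ∈ I := by
    intro i
    simp only [p, finsetSum_coeff, coeff_C_mul_X_pow]
    refine Ideal.sum_mem _ fun j _ => ?_
    split_ifs
    · refine Ideal.mul_mem_right _ _ (Ideal.mul_mem_left _ _ ?_)
      exact Ideal.pow_mem_of_mem _ h0 _ (Nat.succ_pos _)
    · exact I.zero_mem
  obtain ⟨w, hw1, hwroot⟩ := H (M + 1) (Nat.succ_pos _) p hpdeg hpcoeff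
  have hwunit : IsUnit w := by
    have : w = 1 + (w - 1) := by ring
    rw [this]
    have hj : w - 1 ∈ Ideal.jacobson (⊥ : Ideal A) := hI hw1
    rw [Ideal.mem_jacobson_bot] at hj
    have := hj 1
    simpa [add_comm, mul_one] using this
  obtain ⟨w', hw'⟩ := hwunit.exists_right_inv
  refine ⟨c₀ * u * w', Ideal.mul_mem_right _ _ (Ideal.mul_mem_right _ _ h0), ?_⟩
  set y := c₀ * u * w' with hy
  -- key identity
  have hyk : ∀ k l : ℕ, w ^ (k + l) * y ^ k = c₀ ^ k * u ^ k * w ^ l := by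
    intro k l
    have : w ^ k * w' ^ k = 1 := by rw [← mul_pow, hw', one_pow]
    rw [hy, mul_pow, mul_pow, pow_add]
    linear_combination (c₀ ^ k * u ^ k * w ^ l) * this
  have hQ : w ^ (M + 1) * (w - 1) + eval w p = 0 := by
    have := hwroot
    simpa [IsRoot, eval_add, eval_mul, eval_pow, eval_sub] using this
  have hpw : eval w p = ∑ j ∈ Finset.range (M + 1),
      F.coeff (j + 2) * c₀ ^ (j + 1) * u ^ (j + 2) * w ^ (M - j) := by
    simp [p, eval_finsetSum]
  have hF : eval y F = ∑ i ∈ Finset.range (M + 3), F.coeff i * y ^ i :=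
    eval_eq_sum_range' (by omega) y
  have key : w ^ (M + 2) * eval y F = c₀ * (w ^ (M + 1) * (w - 1) + eval w p) := by
    rw [hF, Finset.sum_range_succ', Finset.sum_range_succ', hpw, mul_add, mul_add,
      Finset.mul_sum, mul_add c₀, Finset.mul_sum]
    have t0 : w ^ (M + 2) * (F.coeff 0 * y ^ 0) = c₀ * w ^ (M + 2) := by
      rw [pow_zero, mul_one, mul_comm]
    have t1 : w ^ (M + 2) * (F.coeff (0 + 1) * y ^ (0 + 1)) = - (c₀ * w ^ (M + 1)) := by
      have := hyk 1 (M + 1)
      rw [show 1 + (M + 1) = M + 2 by ring] at this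
      simp only [zero_add, pow_one] at this ⊢
      linear_combination (F.coeff 1) * this + (c₀ * w ^ (M + 1)) * hu
    have t2 : ∀ j ∈ Finset.range (M + 1), w ^ (M + 2) * (F.coeff (j + 1 + 1) * y ^ (j + 1 + 1)) =
        c₀ * (F.coeff (j + 2) * c₀ ^ (j + 1) * u ^ (j + 2) * w ^ (M - j)) := by
      intro j hj
      have hjM : j ≤ M := Nat.lt_succ_iff.mp (Finset.mem_range.mp hj)
      have := hyk (j + 2) (M - j)
      rw [show j + 2 + (M - j) = M + 2 by omega] at this
      rw [show j + 1 + 1 = j + 2 by ring]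
      linear_combination (F.coeff (j + 2)) * this
    rw [Finset.sum_congr rfl t2, t0, t1]
    ring
  rw [hQ, mul_zero] at key
  exact (hwunit.pow (M + 2)).mul_right_eq_zero.mp key

/-- The polynomial `Xⁿ(X-1)+p` is monic if `deg p ≤ n`. -/
theorem gabber_monic {A : Type*} [CommRing A] (n : ℕ) (p : A[X]) (hp : p.natDegree ≤ n) :
    (X ^ n * (X - 1) + p).Monic := by
  nontriviality A
  have h3 : (X - 1 : A[X]) = X - C 1 := by simp
  rw [h3]
  have h1 : (X ^ n * (X - C 1 : A[X])).Monic := (monic_X_pow n).mul (monic_X_sub_C (1 : A))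
  have h2 : (X ^ n * (X - C 1 : A[X])).natDegree = n + 1 := by
    rw [((monic_X_pow n).natDegree_mul (monic_X_sub_C (1 : A))), natDegree_X_pow, natDegree_X_sub_C]
  exact h1.add_of_left (by
    rw [degree_eq_natDegree h1.ne_zero, h2]
    exact (degree_le_natDegree).trans_lt (by exact_mod_cast Nat.lt_succ_of_le hp))

/-- Reduction of `Xⁿ(X-1)+p` mod `I` when `p` has coefficients in `I`. -/
theorem gabber_map {A : Type*} [CommRing A] (I : Ideal A) (n : ℕ) (p : A[X])
    (hp : ∀ i, p.coeff i ∈ I) :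
    (X ^ n * (X - 1) + p).map (Ideal.Quotient.mk I) = X ^ n * (X - 1) := by
  have : p.map (Ideal.Quotient.mk I) = 0 := by
    ext i
    rw [coeff_map, coeff_zero, Ideal.Quotient.eq_zero_iff_mem]
    exact hp i
  simp [this]

theorem mk_eval_eq {A : Type*} [CommRing A] (I : Ideal A) (q : A[X]) (a : A) :
    Ideal.Quotient.mk I (q.eval a) = (q.map (Ideal.Quotient.mk I)).eval (Ideal.Quotient.mk I a) := by
  rw [eval_map, eval₂_at_apply]

/-- value and derivative of `Xⁿ(X-1)+p` at a point congruent to `1`. -/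
theorem gabber_eval_mem {A : Type*} [CommRing A] (I : Ideal A) (n : ℕ) (p : A[X])
    (hp : ∀ i, p.coeff i ∈ I) (b : A) (hb : b - 1 ∈ I) :
    (X ^ n * (X - 1) + p).eval b ∈ I ∧
      Ideal.Quotient.mk I ((derivative (X ^ n * (X - 1) + p)).eval b) = 1 := by
  have hb' : Ideal.Quotient.mk I b = 1 := by
    rw [← sub_eq_zero, ← map_one (Ideal.Quotient.mk I), ← map_sub, Ideal.Quotient.eq_zero_iff_mem]
    exact hb
  constructor
  · rw [← Ideal.Quotient.eq_zero_iff_mem, mk_eval_eq, gabber_map I n p hp, hb']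
    simp
  · rw [mk_eval_eq, ← derivative_map, gabber_map I n p hp, hb']
    simp

/-- A Henselian pair satisfies Gabber's criterion (existence). -/
theorem gabber_of_henselian {A : Type*} [CommRing A] (I : Ideal A) [HenselianRing A I]
    (n : ℕ) (_hn : 0 < n) (p : A[X]) (hpd : p.natDegree ≤ n) (hp : ∀ i, p.coeff i ∈ I) :
    ∃ α : A, α - 1 ∈ I ∧ IsRoot (X ^ n * (X - 1) + p) α := by
  obtain ⟨h1, h2⟩ := gabber_eval_mem I n p hp 1 (by simp)
  obtain ⟨a, ha, ha1⟩ := HenselianRing.is_henselian (X ^ n * (X - 1) + p) (gabber_monic n p hpd) 1 h1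
    (by rw [h2]; exact isUnit_one)
  exact ⟨a, ha1, ha⟩

/-- Gabber's criterion implies root lifting for arbitrary (not necessarily monic) polynomials. -/
theorem exists_root_of_gabber {A : Type*} [CommRing A] (I : Ideal A) (hI : I ≤ Ideal.jacobson ⊥)
    (H : ∀ (n : ℕ), 0 < n → ∀ p : A[X], p.natDegree ≤ n → (∀ i, p.coeff i ∈ I) →
      ∃ α : A, α - 1 ∈ I ∧ IsRoot (X ^ n * (X - 1) + p) α)
    (f : A[X]) (a₀ : A) (h₁ : f.eval a₀ ∈ I)
    (h₂ : IsUnit (Ideal.Quotient.mk I (f.derivative.eval a₀))) :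
    ∃ a : A, f.IsRoot a ∧ a - a₀ ∈ I := by
  obtain ⟨y, hyI, hy⟩ := exists_root_mem_of_gabber I hI H (taylor a₀ f)
    (by rw [taylor_coeff_zero]; exact h₁)
    (by rw [taylor_coeff_one]; exact Groth.Agent.Lib.lead.Hensel.isUnit_of_isUnit_mk I hI h₂)
  refine ⟨y + a₀, ?_, by simpa using hyI⟩
  rw [IsRoot, ← taylor_eval]; exact hy

/-- Root lifting for arbitrary polynomials over a Henselian pair. -/
theorem HenselianRing.exists_root_of_any {A : Type*} [CommRing A] (I : Ideal A) [HenselianRing A I]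
    (f : A[X]) (a₀ : A) (h₁ : f.eval a₀ ∈ I)
    (h₂ : IsUnit (Ideal.Quotient.mk I (f.derivative.eval a₀))) :
    ∃ a : A, f.IsRoot a ∧ a - a₀ ∈ I :=
  exists_root_of_gabber I HenselianRing.jac (gabber_of_henselian I) f a₀ h₁ h₂

/-- Uniqueness of roots congruent to a given simple root modulo an ideal in the Jacobson radical. -/
theorem root_unique_of_le_jacobson {A : Type*} [CommRing A] (I : Ideal A) (hI : I ≤ Ideal.jacobson ⊥)
    (f : A[X]) (a b : A) (ha : f.IsRoot a) (hb : f.IsRoot b) (hab : a - b ∈ I)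
    (hu : IsUnit (Ideal.Quotient.mk I (f.derivative.eval b))) : a = b := by
  obtain ⟨k, hk⟩ := f.binomExpansion b (a - b)
  rw [show b + (a - b) = a by ring, ha, hb] at hk
  have hunit : IsUnit (f.derivative.eval b + k * (a - b)) := by
    apply Groth.Agent.Lib.lead.Hensel.isUnit_of_isUnit_mk I hI
    have : Ideal.Quotient.mk I (k * (a - b)) = 0 :=
      Ideal.Quotient.eq_zero_iff_mem.mpr (Ideal.mul_mem_left _ _ hab)
    rw [map_add, this, add_zero]; exact hu
  have h0 : (a - b) * (f.derivative.eval b + k * (a - b)) = 0 := by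
    linear_combination -hk
  exact sub_eq_zero.mp (hunit.mul_left_eq_zero.mp h0)

end Groth.Agent.Lib.lead.Gabber
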