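import Mathlib
import Groth.Agent.Lib.lead.Gabber

/-!
# From lifting of idempotents in monogenic algebras to Gabber's criterion
-/

open Polynomial

namespace Groth.Agent.Lib.lead.Gabber

/-- A linear functional sends `I • ⊤` into `I`. -/
theorem linearMap_mem_of_mem_smul_top {A B : Type*} [CommRing A] [AddCommGroup B] [Module A B]
    (I : Ideal A) (φ : B →ₗ[A] A) {x : B} (hx : x ∈ I • (⊤ : Submodule A B)) : φ x ∈ I := by
  refine Submodule.smul_induction_on hx (fun r hr m _ => ?_) (fun x y hx hy => ?_)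
  · rw [map_smul, smul_eq_mul]
    exact I.mul_mem_right _ hr
  · rw [map_add]
    exact I.add_mem hx hy

/-- Core: an idempotent of `A[T]/(Tⁿ(T-1)+p)` congruent to `Tⁿ` modulo `I` produces a root
congruent to `1`. -/
theorem root_of_idempotent {A : Type*} [CommRing A] (I : Ideal A) (hI : I ≤ Ideal.jacobson ⊥)
    (n : ℕ) (p : A[X]) (hpd : p.natDegree ≤ n) (hp : ∀ i, p.coeff i ∈ I)
    (f : A[X]) (hf : f = X ^ n * (X - 1) + p)
    (e : AdjoinRoot f) (he : IsIdempotentElem e)
    (hmod : e - AdjoinRoot.root f ^ n ∈ I.map (algebraMap A (AdjoinRoot f))) :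
    ∃ α : A, α - 1 ∈ I ∧ IsRoot f α := by
  classical
  nontriviality A
  have hfm : f.Monic := hf ▸ gabber_monic n p hpd
  set t : AdjoinRoot f := AdjoinRoot.root f with ht
  set IB : Ideal (AdjoinRoot f) := I.map (algebraMap A (AdjoinRoot f)) with hIB
  have hIBtop : ∀ x, x ∈ IB → x ∈ I • (⊤ : Submodule A (AdjoinRoot f)) := by
    intro x hx
    rw [Ideal.smul_top_eq_map]
    exact hx
  have htopIB : ∀ x, x ∈ I • (⊤ : Submodule A (AdjoinRoot f)) → x ∈ IB := by
    intro x hx
    rw [Ideal.smul_top_eq_map] at hx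
    exact hx
  -- p(t) ∈ IB
  have hpt : aeval t p ∈ IB := by
    rw [aeval_eq_sum_range]
    refine sum_mem fun i _ => ?_
    rw [Algebra.smul_def]
    exact IB.mul_mem_right _ (Ideal.mem_map_of_mem _ (hp i))
  have hft : t ^ n * (t - 1) + aeval t p = 0 := by
    have h0 : aeval t f = 0 := by rw [AdjoinRoot.aeval_eq, AdjoinRoot.mk_self]
    have h0' : aeval t f = aeval t (X ^ n * (X - 1) + p) := congrArg (aeval t) hf
    rw [h0] at h0'
    simpa using h0'.symm
  have h1 : t ^ n * (t - 1) ∈ IB := by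
    rw [eq_neg_of_add_eq_zero_left hft]
    exact IB.neg_mem hpt
  have h2 : (t - 1) * e ∈ IB := by
    have : (t - 1) * e = (t - 1) * (e - t ^ n) + t ^ n * (t - 1) := by ring
    rw [this]
    exact IB.add_mem (IB.mul_mem_left _ hmod) h1
  -- coordinate functional
  let φ : AdjoinRoot f →ₗ[A] A := (Polynomial.lcoeff A n) ∘ₗ (AdjoinRoot.modByMonicHom hfm)
  have hdeg : (X ^ n : A[X]).degree < f.degree := by
    have hfd : f.natDegree = n + 1 := by
      have h3 : (X - 1 : A[X]) = X - C 1 := by simp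
      have hd : (X ^ n * (X - 1) : A[X]).natDegree = n + 1 := by
        rw [h3, (monic_X_pow n).natDegree_mul (monic_X_sub_C (1 : A)), natDegree_X_pow,
          natDegree_X_sub_C]
      rw [hf, natDegree_add_eq_left_of_natDegree_lt (by rw [hd]; omega), hd]
    rw [degree_X_pow, degree_eq_natDegree hfm.ne_zero, hfd]
    exact_mod_cast Nat.lt_succ_self n
  have hφt : φ (t ^ n) = 1 := by
    have : t ^ n = AdjoinRoot.mk f (X ^ n) := by rw [map_pow, AdjoinRoot.mk_X]
    simp only [φ, LinearMap.comp_apply, this, AdjoinRoot.modByMonicHom_mk]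
    rw [(modByMonic_eq_self_iff hfm).mpr hdeg]
    simp
  have hφI : ∀ x ∈ IB, φ x ∈ I := fun x hx => linearMap_mem_of_mem_smul_top I φ (hIBtop x hx)
  -- injectivity of a ↦ a • e
  have hinj : ∀ a : A, a • e = 0 → a = 0 := by
    intro a ha
    have h3 : a • t ^ n = a • (t ^ n - e) := by rw [smul_sub, ha, sub_zero]
    have h4 := congrArg φ h3
    rw [map_smul, map_smul, hφt, smul_eq_mul, mul_one, smul_eq_mul] at h4
    have h5 : φ (t ^ n - e) ∈ I := hφI _ (by
      have : t ^ n - e = -(e - t ^ n) := by ring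
      rw [this]; exact IB.neg_mem hmod)
    have h6 : IsUnit (1 - φ (t ^ n - e)) := by
      have := Ideal.mem_jacobson_bot.mp (hI (I.neg_mem h5)) 1
      simpa [sub_eq_neg_add, mul_one] using this
    have h7 : a * (1 - φ (t ^ n - e)) = 0 := by rw [mul_sub, mul_one, ← h4, sub_self]
    exact h6.mul_left_eq_zero.mp h7
  -- the submodule `B e`
  let μ : AdjoinRoot f →ₗ[A] AdjoinRoot f := LinearMap.mulRight A e
  have hμ : ∀ x, μ x = x * e := fun x => rfl
  let N : Submodule A (AdjoinRoot f) := LinearMap.range μ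
  have hfin : Module.Finite A (AdjoinRoot f) := (AdjoinRoot.powerBasis' hfm).finite
  have hNfg : N.FG := by
    have : N = (⊤ : Submodule A (AdjoinRoot f)).map μ := (Submodule.map_top μ).symm
    rw [this]
    exact (Module.Finite.fg_top).map μ
  have hkey : ∀ b : AdjoinRoot f, ∃ a : A, b * e - a • e ∈ IB := by
    intro b
    obtain ⟨g, rfl⟩ := AdjoinRoot.mk_surjective b
    refine ⟨g.eval 1, ?_⟩
    obtain ⟨q, hq⟩ := Polynomial.X_sub_C_dvd_sub_C_eval (a := (1 : A)) (p := g)
    have h3 : AdjoinRoot.mk f g - algebraMap A _ (g.eval 1) = (t - 1) * AdjoinRoot.mk f q := by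
      have := congrArg (AdjoinRoot.mk f) hq
      rw [map_sub, map_mul, map_sub, AdjoinRoot.mk_X, AdjoinRoot.mk_C, AdjoinRoot.mk_C] at this
      rw [AdjoinRoot.algebraMap_eq]
      simpa using this
    rw [Algebra.smul_def, ← sub_mul, h3]
    have : (t - 1) * AdjoinRoot.mk f q * e = AdjoinRoot.mk f q * ((t - 1) * e) := by ring
    rw [this]
    exact IB.mul_mem_left _ h2
  have hle : N ≤ Submodule.span A {e} ⊔ I • N := by
    rintro _ ⟨b, rfl⟩
    obtain ⟨a, ha⟩ := hkey b
    have hbe : μ b = a • e + μ (b * e - a • e) := by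
      simp only [hμ]
      rw [sub_mul, mul_assoc, he.eq, smul_mul_assoc, he.eq]
      ring
    rw [hbe]
    refine Submodule.add_mem_sup (Submodule.smul_mem _ _ (Submodule.mem_span_singleton_self e)) ?_
    have hx := hIBtop _ ha
    have h4 : μ (b * e - a • e) ∈ (I • (⊤ : Submodule A (AdjoinRoot f))).map μ :=
      Submodule.mem_map_of_mem hx
    rw [Submodule.map_smul'', Submodule.map_top] at h4
    exact h4
  have hN : N ≤ Submodule.span A {e} := Submodule.le_of_le_smul_of_le_jacobson_bot hNfg hI hle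
  obtain ⟨α, hα⟩ := Submodule.mem_span_singleton.mp (hN ⟨t, rfl⟩)
  have hα' : α • e = t * e := hα
  refine ⟨α, ?_, ?_⟩
  · have h8 : (α - 1) • e ∈ IB := by
      rw [sub_smul, one_smul, hα']
      have : t * e - e = (t - 1) * e := by ring
      rw [this]
      exact h2
    have h9 := hφI _ h8
    rw [map_smul, smul_eq_mul] at h9
    have h10 : φ e - 1 ∈ I := by
      have : φ e - 1 = φ (e - t ^ n) := by rw [map_sub, hφt]
      rw [this]
      exact hφI _ hmod
    have : α - 1 = (α - 1) * φ e - (α - 1) * (φ e - 1) := by ring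
    rw [this]
    exact I.sub_mem h9 (I.mul_mem_left _ h10)
  · have hpow : ∀ k : ℕ, t ^ k * e = α ^ k • e := by
      intro k
      induction k with
      | zero => simp
      | succ k ih =>
        rw [pow_succ, mul_assoc, ← hα', mul_smul_comm, ih, smul_smul, pow_succ, mul_comm]
    have hg : ∀ g : A[X], aeval t g * e = (g.eval α) • e := by
      intro g
      induction g using Polynomial.induction_on' with
      | add p q hp hq => rw [map_add, add_mul, hp, hq, eval_add, add_smul]
      | monomial k a =>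
        rw [aeval_monomial, eval_monomial, mul_assoc, hpow, ← Algebra.smul_def, smul_smul]
    have h11 := hg f
    rw [AdjoinRoot.aeval_eq, AdjoinRoot.mk_self, zero_mul] at h11
    exact hinj _ h11.symm

theorem map_algebraMap_adjoinRoot {A : Type*} [CommRing A] (I : Ideal A) (f : A[X]) :
    I.map (algebraMap A (AdjoinRoot f)) = (I.map (C : A →+* A[X])).map (AdjoinRoot.mk f) := by
  rw [Ideal.map_map]
  rfl

theorem coeff_mem_map_C {A : Type*} [CommRing A] (I : Ideal A) (p : A[X])
    (hp : ∀ i, p.coeff i ∈ I) : p ∈ I.map (C : A →+* A[X]) :=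
  Ideal.mem_map_C_iff.mpr hp

/-- The hypothesis of lifting idempotents for monic polynomials congruent to `(T²-T)^m` produces
the idempotent needed in `root_of_idempotent`. -/
theorem exists_idempotent_of_lift {A : Type*} [CommRing A] (I : Ideal A)
    (h : ∀ (m : ℕ) (p : A[X]), p.Monic →
      Polynomial.map (Ideal.Quotient.mk I) p = Polynomial.map (Ideal.Quotient.mk I) ((X ^ 2 - X) ^ m) →
      Set.SurjOn (Ideal.Quotient.mk (Ideal.map (algebraMap A (AdjoinRoot p)) I))
        {e : AdjoinRoot p | IsIdempotentElem e} {e | IsIdempotentElem e})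
    (k : ℕ) (p : A[X]) (hpd : p.natDegree ≤ k + 1) (hp : ∀ i, p.coeff i ∈ I)
    (f : A[X]) (hf : f = X ^ (k + 1) * (X - 1) + p) :
    ∃ e : AdjoinRoot f, IsIdempotentElem e ∧
      e - AdjoinRoot.root f ^ (k + 1) ∈ I.map (algebraMap A (AdjoinRoot f)) := by
  classical
  have hfm : f.Monic := hf ▸ gabber_monic (k + 1) p hpd
  set J : Ideal A[X] := I.map (C : A →+* A[X]) with hJ
  have hpJ : p ∈ J := coeff_mem_map_C I p hp
  set P : A[X] := f * (X - 1) ^ k with hP
  have h31 : (X - 1 : A[X]) = X - C 1 := by simp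
  have hPm : P.Monic := hfm.mul ((h31 ▸ monic_X_sub_C (1 : A)).pow k)
  have hPmap : Polynomial.map (Ideal.Quotient.mk I) P = Polynomial.map (Ideal.Quotient.mk I) ((X ^ 2 - X) ^ (k + 1)) := by
    rw [hP, Polynomial.map_mul, hf, gabber_map I (k + 1) p hp]
    simp only [Polynomial.map_pow, Polynomial.map_sub, Polynomial.map_X, Polynomial.map_one]
    have h4 : (X ^ 2 - X : (A ⧸ I)[X]) = X * (X - 1) := by ring
    rw [h4, mul_pow]
    ring
  have H := h (k + 1) P hPm hPmap
  set t : AdjoinRoot f := AdjoinRoot.root f with ht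
  set IB : Ideal (AdjoinRoot f) := I.map (algebraMap A (AdjoinRoot f)) with hIB
  set IP : Ideal (AdjoinRoot P) := I.map (algebraMap A (AdjoinRoot P)) with hIP
  have hroot : P.eval₂ (Algebra.ofId A (AdjoinRoot f) : A →+* AdjoinRoot f) t = 0 := by
    have : P.eval₂ (Algebra.ofId A (AdjoinRoot f) : A →+* AdjoinRoot f) t = aeval t P := rfl
    rw [this, AdjoinRoot.aeval_eq, AdjoinRoot.mk_eq_zero]
    exact Dvd.intro _ rfl
  let π : AdjoinRoot P →ₐ[A] AdjoinRoot f :=
    AdjoinRoot.liftAlgHom P (Algebra.ofId A (AdjoinRoot f)) t hroot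
  have hπmk : ∀ g : A[X], π (AdjoinRoot.mk P g) = AdjoinRoot.mk f g := by
    intro g
    rw [AdjoinRoot.liftAlgHom_mk]
    have : g.eval₂ (Algebra.ofId A (AdjoinRoot f) : A →+* AdjoinRoot f) t = aeval t g := rfl
    rw [this, AdjoinRoot.aeval_eq]
  have hπI : IP ≤ IB.comap π.toRingHom := by
    rw [hIP, Ideal.map_le_iff_le_comap]
    intro a ha
    rw [Ideal.mem_comap, Ideal.mem_comap]
    have : π.toRingHom (algebraMap A (AdjoinRoot P) a) = algebraMap A (AdjoinRoot f) a :=
      π.commutes a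
    rw [this]
    exact Ideal.mem_map_of_mem _ ha
  let πbar : AdjoinRoot P ⧸ IP →+* AdjoinRoot f ⧸ IB := Ideal.quotientMap IB π.toRingHom hπI
  -- t^(k+1) (t - 1) ∈ IB
  have hpt : aeval t p ∈ IB := by
    rw [aeval_eq_sum_range]
    refine sum_mem fun i _ => ?_
    rw [Algebra.smul_def]
    exact IB.mul_mem_right _ (Ideal.mem_map_of_mem _ (hp i))
  have hft : t ^ (k + 1) * (t - 1) + aeval t p = 0 := by
    have h0 : aeval t f = 0 := by rw [AdjoinRoot.aeval_eq, AdjoinRoot.mk_self]
    have h0' : aeval t f = aeval t (X ^ (k + 1) * (X - 1) + p) := congrArg (aeval t) hf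
    rw [h0] at h0'
    simpa using h0'.symm
  have h1 : t ^ (k + 1) * (t - 1) ∈ IB := by
    rw [eq_neg_of_add_eq_zero_left hft]
    exact IB.neg_mem hpt
  have hidem : IsIdempotentElem (Ideal.Quotient.mk IB (t ^ (k + 1))) := by
    rw [IsIdempotentElem, ← map_mul, Ideal.Quotient.eq]
    have : t ^ (k + 1) * t ^ (k + 1) - t ^ (k + 1) =
        t ^ (k + 1) * (t - 1) * ∑ i ∈ Finset.range (k + 1), t ^ i := by
      rw [mul_assoc, mul_geom_sum]
      ring
    rw [this]
    exact IB.mul_mem_right _ h1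
  have hrange : Ideal.Quotient.mk IB (t ^ (k + 1)) ∈ πbar.range := by
    refine ⟨Ideal.Quotient.mk IP (AdjoinRoot.root P ^ (k + 1)), ?_⟩
    simp only [πbar, Ideal.quotientMap_mk]
    congr 1
    change π (AdjoinRoot.root P ^ (k + 1)) = t ^ (k + 1)
    rw [map_pow]
    congr 1
    exact AdjoinRoot.liftAlgHom_root _ _ _ _
  have hnil : ∀ x ∈ RingHom.ker πbar, IsNilpotent x := by
    intro x hx
    obtain ⟨b, rfl⟩ := Ideal.Quotient.mk_surjective x
    obtain ⟨g, rfl⟩ := AdjoinRoot.mk_surjective b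
    rw [RingHom.mem_ker] at hx
    simp only [πbar, Ideal.quotientMap_mk] at hx
    have hx' : AdjoinRoot.mk f g ∈ IB := by
      rw [← Ideal.Quotient.eq_zero_iff_mem, ← hπmk]
      exact hx
    rw [hIB, map_algebraMap_adjoinRoot] at hx'
    obtain ⟨h₀, hh₀, hh₀g⟩ :=
      (Ideal.mem_map_iff_of_surjective _ AdjoinRoot.mk_surjective).mp hx'
    obtain ⟨a, ha⟩ : f ∣ g - h₀ := by
      rw [← AdjoinRoot.mk_eq_zero, map_sub, hh₀g, sub_self]
    refine ⟨k + 1, ?_⟩
    rw [← map_pow, ← map_pow, Ideal.Quotient.eq_zero_iff_mem, hIP, map_algebraMap_adjoinRoot]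
    -- g^(k+1) - P * c ∈ J
    have e1 : Ideal.Quotient.mk J g =
        Ideal.Quotient.mk J (X ^ (k + 1) * (X - 1)) * Ideal.Quotient.mk J a := by
      have hg : g = h₀ + f * a := by rw [← ha]; ring
      rw [← map_mul, Ideal.Quotient.eq, hg, hf]
      have : h₀ + (X ^ (k + 1) * (X - 1) + p) * a - X ^ (k + 1) * (X - 1) * a = h₀ + p * a := by
        ring
      rw [this]
      exact J.add_mem hh₀ (J.mul_mem_right _ hpJ)
    have e2 : Ideal.Quotient.mk J P =
        Ideal.Quotient.mk J (X ^ (k + 1) * (X - 1)) * Ideal.Quotient.mk J ((X - 1) ^ k) := by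
      rw [← map_mul, Ideal.Quotient.eq, hP, hf]
      have : (X ^ (k + 1) * (X - 1) + p) * (X - 1) ^ k - X ^ (k + 1) * (X - 1) * (X - 1) ^ k =
          p * (X - 1) ^ k := by ring
      rw [this]
      exact J.mul_mem_right _ hpJ
    have e3 : g ^ (k + 1) - P * (X ^ ((k + 1) * k) * a ^ (k + 1)) ∈ J := by
      rw [← Ideal.Quotient.eq, map_pow, map_mul, e1, e2]
      simp only [map_mul, map_pow]
      generalize Ideal.Quotient.mk J X = u
      generalize Ideal.Quotient.mk J (X - 1) = v
      generalize Ideal.Quotient.mk J a = w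
      rw [mul_pow, mul_pow]
      ring
    have e4 : AdjoinRoot.mk P (g ^ (k + 1)) =
        AdjoinRoot.mk P (g ^ (k + 1) - P * (X ^ ((k + 1) * k) * a ^ (k + 1))) := by
      rw [map_sub, map_mul, AdjoinRoot.mk_self, zero_mul, sub_zero]
    rw [e4]
    exact Ideal.mem_map_of_mem _ e3
  obtain ⟨e₀, he₀, he₀'⟩ := exists_isIdempotentElem_eq_of_ker_isNilpotent πbar hnil _ hrange hidem
  obtain ⟨e', he', he'e₀⟩ := H he₀
  refine ⟨π e', he'.map π, ?_⟩
  rw [← Ideal.Quotient.eq, ← he₀', ← he'e₀]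
  simp only [πbar, Ideal.quotientMap_mk]
  rfl

end Groth.Agent.Lib.lead.Gabber
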