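import Mathlib
import Groth.Agent.Lib.lead.HenselFinite

/-!
# Algebra version of the decomposition of finite algebras over henselian local rings
-/

universe u

open IsLocalRing

namespace Groth.Agent.Lib.lead.HenselLocal

/-- A finite algebra over a henselian local ring is, as an algebra, a finite product of local
algebras. -/
theorem finite_exists_pi_isLocalRing_alg {R : Type u} [CommRing R] [HenselianLocalRing R]
    (S : Type u) [CommRing S] [Algebra R S] [Module.Finite R S] :
    ∃ (ι : Type u) (_ : Fintype ι) (A : ι → Type u) (_ : ∀ i, CommRing (A i))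
      (_ : ∀ i, Algebra R (A i)),
      (∀ i, IsLocalRing (A i)) ∧ Nonempty (S ≃ₐ[R] (∀ i, A i)) := by
  obtain ⟨ι, hι, A, hA, hloc, ⟨φ⟩⟩ := finite_exists_pi_isLocalRing (R := R) S
  letI alg : ∀ i, Algebra R (A i) := fun i =>
    ((Pi.evalRingHom A i).comp (φ.toRingHom.comp (algebraMap R S))).toAlgebra
  refine ⟨ι, hι, A, hA, alg, hloc, ⟨AlgEquiv.ofRingEquiv (f := φ) ?_⟩⟩
  intro r
  funext i
  rfl

/-- A local algebra which is finite and formally unramified over a local ring with separably closed
residue field is a quotient of the base. -/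
theorem surjective_algebraMap_of_finite_unramified_sepClosed {R : Type*} [CommRing R]
    [IsLocalRing R] [IsSepClosed (ResidueField R)] (A : Type*) [CommRing A] [IsLocalRing A]
    [Algebra R A] [Module.Finite R A] [Algebra.FormallyUnramified R A] :
    Function.Surjective (algebraMap R A) := by
  have hcomap : (maximalIdeal A).comap (algebraMap R A) = maximalIdeal R :=
    IsLocalRing.eq_maximalIdeal (Ideal.isMaximal_comap_of_isIntegral_of_isMaximal (maximalIdeal A))
  have : IsLocalHom (algebraMap R A) :=
    ((IsLocalRing.local_hom_TFAE (algebraMap R A)).out 0 4).mpr hcomap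
  have hm : (maximalIdeal R).map (algebraMap R A) = maximalIdeal A :=
    Algebra.FormallyUnramified.map_maximalIdeal
  have hres : Function.Surjective (algebraMap (ResidueField R) (ResidueField A)) :=
    IsSepClosed.algebraMap_surjective _ _
  -- Nakayama
  have hle : (⊤ : Submodule R A) ≤ LinearMap.range (Algebra.linearMap R A) := by
    apply Submodule.le_of_le_smul_of_le_jacobson_bot (I := maximalIdeal R) Module.Finite.fg_top
      (IsLocalRing.maximalIdeal_le_jacobson _)
    intro a _
    obtain ⟨r, hr⟩ := hres (residue A a)
    obtain ⟨r, rfl⟩ := IsLocalRing.residue_surjective r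
    have h1 : a - algebraMap R A r ∈ maximalIdeal A := by
      rw [← IsLocalRing.residue_eq_zero_iff, map_sub, ← hr, sub_eq_zero]
      rfl
    rw [← hm] at h1
    have h3 : a - algebraMap R A r ∈ (maximalIdeal R) • (⊤ : Submodule R A) := by
      rw [Ideal.smul_top_eq_map]; exact h1
    have h2 : a = algebraMap R A r + (a - algebraMap R A r) := by ring
    rw [h2]
    refine Submodule.add_mem_sup ⟨r, rfl⟩ ?_
    exact h3
  intro a
  obtain ⟨r, hr⟩ := hle (Submodule.mem_top (x := a))
  exact ⟨r, hr⟩

end Groth.Agent.Lib.lead.HenselLocal
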