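import Mathlib
import Groth.Agent.Lib.lead.HenselSplit
import Groth.Agent.S0505

/-!
# Lifting maps out of étale algebras along surjections from finite algebras over henselian local rings
-/

universe u

open IsLocalRing TensorProduct

namespace Groth.Agent.Lib.lead.HenselLocal

/-- Two algebra maps from an unramified algebra that agree modulo an ideal contained in the Jacobson
radical are equal. -/
theorem unramified_algHom_ext_of_le_jacobson {R A S : Type*} [CommRing R] [CommRing A] [CommRing S]
    [Algebra R A] [Algebra R S] [Algebra.FormallyUnramified R A] [Algebra.EssFiniteType R A]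
    (J : Ideal S) (hJ : J ≤ Ideal.jacobson ⊥)
    (f₁ f₂ : A →ₐ[R] S) (h : ∀ a, f₁ a - f₂ a ∈ J) : f₁ = f₂ := by
  let Φ : A ⊗[R] A →ₐ[R] S := Algebra.TensorProduct.productMap f₁ f₂
  let e : S := Φ (Algebra.FormallyUnramified.elem R A)
  have he : IsUnit e := by
    have key : ∀ t : A ⊗[R] A, Φ t - f₁ (Algebra.TensorProduct.lmul' R t) ∈ J := by
      intro t
      induction t using TensorProduct.induction_on with
      | zero => simp
      | tmul a b =>
        simp only [Φ, Algebra.TensorProduct.productMap_apply_tmul,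
          Algebra.TensorProduct.lmul'_apply_tmul, map_mul]
        have : f₁ a * f₂ b - f₁ a * f₁ b = -(f₁ a * (f₁ b - f₂ b)) := by ring
        rw [this]
        exact J.neg_mem (J.mul_mem_left _ (h b))
      | add x y hx hy =>
        simp only [map_add]
        have : Φ x + Φ y - (f₁ (Algebra.TensorProduct.lmul' R x) + f₁ (Algebra.TensorProduct.lmul' R y))
          = (Φ x - f₁ (Algebra.TensorProduct.lmul' R x)) + (Φ y - f₁ (Algebra.TensorProduct.lmul' R y)) := by
          ring
        rw [this]
        exact J.add_mem hx hy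
    have h1 := key (Algebra.FormallyUnramified.elem R A)
    rw [Algebra.FormallyUnramified.lmul_elem, map_one] at h1
    have h2 : e - 1 ∈ Ideal.jacobson (⊥ : Ideal S) := hJ h1
    have := (Ideal.mem_jacobson_bot.mp h2) 1
    simpa [mul_one] using this
  ext a
  have h0 : (f₂ a - f₁ a) * e = 0 := by
    have := congrArg Φ (Algebra.FormallyUnramified.one_tmul_sub_tmul_one_mul_elem (R := R) a)
    simpa [Φ, e, map_mul, map_sub] using this
  have := he.mul_left_eq_zero.mp h0
  exact (sub_eq_zero.mp this).symm

/-- Local case of étale lifting: maps from an étale algebra into a quotient of a henselian local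
ring by a proper ideal lift. -/
theorem etale_lift_local {A : Type u} [CommRing A] {C : Type u} [CommRing C] [HenselianLocalRing C]
    [Algebra A C] {E : Type u} [CommRing E] [Algebra A E] [Algebra.Etale A E] (K : Ideal C)
    (hK : K ≤ maximalIdeal C) (g : E →ₐ[A] C ⧸ K) :
    ∃ f : E →ₐ[A] C, (Ideal.Quotient.mkₐ A K).comp f = g := by
  let ρ : C ⧸ K →ₐ[C] ResidueField C := Ideal.Quotient.factorₐ C hK
  let ψ : C ⊗[A] E →ₐ[C] ResidueField C :=
    Algebra.TensorProduct.lift (Algebra.ofId C _) ((ρ.restrictScalars A).comp g)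
      (fun _ _ => Commute.all _ _)
  obtain ⟨σ, hσ⟩ := etale_exists_section (C ⊗[A] E) ψ
  let f : E →ₐ[A] C := (σ.restrictScalars A).comp Algebra.TensorProduct.includeRight
  refine ⟨f, ?_⟩
  have hne : K ≠ ⊤ := fun h => (maximalIdeal.isMaximal C).ne_top (top_le_iff.mp (h ▸ hK))
  have : Nontrivial (C ⧸ K) := Ideal.Quotient.nontrivial_iff.mpr hne
  have : IsLocalRing (C ⧸ K) := IsLocalRing.of_surjective' (Ideal.Quotient.mk K)
    Ideal.Quotient.mk_surjective
  have hloc : IsLocalHom (Ideal.Quotient.mk K) :=
    IsLocalHom.of_surjective _ Ideal.Quotient.mk_surjective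
  apply unramified_algHom_ext
  intro a
  have h1 : ρ (Ideal.Quotient.mk K (f a)) = ρ (g a) := by
    have := AlgHom.congr_fun hσ ((1 : C) ⊗ₜ[A] a)
    simp only [AlgHom.comp_apply, ψ, Algebra.TensorProduct.lift_tmul, map_one, one_mul] at this
    exact this
  obtain ⟨c, hc⟩ := Ideal.Quotient.mk_surjective (g a)
  rw [← hc] at h1 ⊢
  change residue (C ⧸ K) (Ideal.Quotient.mk K (f a)) = residue (C ⧸ K) (Ideal.Quotient.mk K c)
  have h2 : f a - c ∈ maximalIdeal C := by
    have : residue C (f a) = residue C c := h1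
    rw [← sub_eq_zero, ← map_sub] at this
    exact (residue_eq_zero_iff _).mp this
  rw [← sub_eq_zero, ← map_sub, ← map_sub, residue_eq_zero_iff]
  have h3 : (Ideal.Quotient.mk K) '' (maximalIdeal C).1 ⊆ maximalIdeal (C ⧸ K) :=
    ((IsLocalRing.local_hom_TFAE (Ideal.Quotient.mk K)).out 0 1).mp hloc
  exact h3 ⟨_, h2, rfl⟩

/-- Étale lifting over a finite algebra over a henselian local ring: maps from an étale algebra
into the quotient by an ideal contained in the Jacobson radical lift. -/
theorem etale_lift_finite {A : Type u} [CommRing A] [HenselianLocalRing A] {C : Type u}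
    [CommRing C] [Algebra A C] [Module.Finite A C] {E : Type u} [CommRing E] [Algebra A E]
    [Algebra.Etale A E] (K : Ideal C) (hK : K ≤ Ideal.jacobson ⊥) (g : E →ₐ[A] C ⧸ K) :
    ∃ f : E →ₐ[A] C, (Ideal.Quotient.mkₐ A K).comp f = g := by
  classical
  obtain ⟨ι, hι, B, hB, halg, hloc, ⟨φ⟩⟩ := finite_exists_pi_isLocalRing_alg (R := A) C
  let π : ∀ i, C →ₐ[A] B i := fun i => (Pi.evalAlgHom A B i).comp φ.toAlgHom
  have hπ : ∀ i x, π i x = φ x i := fun i x => rfl
  have hπsurj : ∀ i, Function.Surjective (π i) := by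
    intro i b
    refine ⟨φ.symm (Pi.single i b), ?_⟩
    rw [hπ, AlgEquiv.apply_symm_apply, Pi.single_eq_same]
  have hfin : ∀ i, Module.Finite A (B i) := fun i =>
    Module.Finite.of_surjective (π i).toLinearMap (hπsurj i)
  have hhens : ∀ i, HenselianLocalRing (B i) := fun i => Groth.Agent.S0505.result A (B i)
  let Ki : ∀ i, Ideal (B i) := fun i => K.map (π i)
  have hKi : ∀ i, Ki i ≤ maximalIdeal (B i) := by
    intro i
    rw [Ideal.map_le_iff_le_comap]
    have hmax : ((maximalIdeal (B i)).comap (π i)).IsMaximal :=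
      Ideal.comap_isMaximal_of_surjective _ (hπsurj i)
    exact hK.trans (sInf_le ⟨bot_le, hmax⟩)
  let gi : ∀ i, E →ₐ[A] B i ⧸ Ki i := fun i =>
    (Ideal.quotientMapₐ (Ki i) (π i) Ideal.le_comap_map).comp g
  have hex : ∀ i, ∃ f : E →ₐ[A] B i, (Ideal.Quotient.mkₐ A (Ki i)).comp f = gi i := by
    intro i
    haveI := hhens i
    exact etale_lift_local (Ki i) (hKi i) (gi i)
  choose fi hfi using hex
  let f : E →ₐ[A] C := φ.symm.toAlgHom.comp (AlgHom.pi fi)
  have hfπ : ∀ i a, π i (f a) = fi i a := by
    intro i a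
    rw [hπ]
    simp [f]
  refine ⟨f, ?_⟩
  ext a
  obtain ⟨d, hd⟩ := Ideal.Quotient.mk_surjective (g a)
  change Ideal.Quotient.mk K (f a) = g a
  rw [← hd, Ideal.Quotient.eq]
  -- idempotents
  let e : ι → C := fun i => φ.symm (Pi.single i 1)
  have hsum : ∑ i, e i = 1 := by
    simp only [e]
    rw [← map_sum, Finset.univ_sum_single]
    exact map_one φ.symm
  have hmul : ∀ i x, π i x = 0 → e i * x = 0 := by
    intro i x hx
    apply φ.injective
    rw [map_mul, map_zero, AlgEquiv.apply_symm_apply]
    funext j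
    by_cases hj : j = i
    · subst hj
      rw [Pi.mul_apply, ← hπ, hx, mul_zero, Pi.zero_apply]
    · rw [Pi.mul_apply, Pi.single_eq_of_ne hj, zero_mul, Pi.zero_apply]
  have hmem : ∀ i, e i * (f a - d) ∈ K := by
    intro i
    have h1 : Ideal.Quotient.mk (Ki i) (π i (f a)) = Ideal.Quotient.mk (Ki i) (π i d) := by
      rw [hfπ]
      have := AlgHom.congr_fun (hfi i) a
      simp only [AlgHom.comp_apply, gi] at this
      rw [← hd] at this
      exact this
    rw [Ideal.Quotient.eq, ← map_sub] at h1
    obtain ⟨k, hkK, hk⟩ := (Ideal.mem_map_iff_of_surjective (π i) (hπsurj i)).mp h1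
    have h2 : e i * (f a - d - k) = 0 := hmul i _ (by rw [map_sub, hk, sub_self])
    have h3 : e i * (f a - d) = e i * k := by
      rw [mul_sub] at h2
      exact sub_eq_zero.mp h2
    rw [h3]
    exact K.mul_mem_left _ hkK
  have : f a - d = ∑ i, e i * (f a - d) := by
    rw [← Finset.sum_mul, hsum, one_mul]
  rw [this]
  exact K.sum_mem (fun i _ => hmem i)

/-- For an integral algebra over a local ring the extension of the maximal ideal lies in the
Jacobson radical. -/
theorem map_maximalIdeal_le_jacobson_of_isIntegral {A : Type*} [CommRing A] [IsLocalRing A]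
    {C : Type*} [CommRing C] [Algebra A C] [Algebra.IsIntegral A C] :
    (maximalIdeal A).map (algebraMap A C) ≤ Ideal.jacobson ⊥ := by
  refine le_sInf ?_
  rintro M ⟨-, hM⟩
  rw [Ideal.map_le_iff_le_comap]
  have : (M.comap (algebraMap A C)).IsMaximal :=
    Ideal.isMaximal_comap_of_isIntegral_of_isMaximal M
  exact (IsLocalRing.eq_maximalIdeal this).ge

/-- Étale lifting along a surjection from a finite algebra over a henselian local ring whose kernel
lies in the Jacobson radical. -/
theorem etale_lift_finite_of_surjective {A : Type u} [CommRing A] [HenselianLocalRing A]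
    {C : Type u} [CommRing C] [Algebra A C] [Module.Finite A C] {T : Type u} [CommRing T]
    [Algebra A T] (p : C →ₐ[A] T) (hp : Function.Surjective p)
    (hker : RingHom.ker p ≤ Ideal.jacobson ⊥) {E : Type u} [CommRing E] [Algebra A E]
    [Algebra.Etale A E] (g : E →ₐ[A] T) : ∃! f : E →ₐ[A] C, p.comp f = g := by
  let iso := Ideal.quotientKerAlgEquivOfSurjective hp
  obtain ⟨f, hf⟩ := etale_lift_finite (RingHom.ker p) hker (iso.symm.toAlgHom.comp g)
  have hpf : p.comp f = g := by
    ext a
    have := AlgHom.congr_fun hf a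
    simp only [AlgHom.comp_apply] at this
    have h2 := congrArg iso this
    simp only [AlgEquiv.coe_algHom, AlgEquiv.apply_symm_apply] at h2
    rw [← h2]
    rfl
  refine ⟨f, hpf, fun f' hf' => ?_⟩
  apply unramified_algHom_ext_of_le_jacobson (RingHom.ker p) hker
  intro a
  rw [RingHom.mem_ker, map_sub, sub_eq_zero]
  have h1 := AlgHom.congr_fun hf' a
  have h2 := AlgHom.congr_fun hpf a
  simp only [AlgHom.comp_apply] at h1 h2
  exact h1.trans h2.symm

end Groth.Agent.Lib.lead.HenselLocal
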