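import Mathlib
import Groth.Agent.Lib.lead.Hensel
import Groth.Agent.Lib.lead.HenselLift
import Groth.Agent.Lib.lead.GabberIdem

/-!
# Lifting finite separable residue field extensions to finite étale algebras
-/

universe u

open IsLocalRing Polynomial TensorProduct

namespace Groth.Agent.Lib.lead.HenselLocal

/-- `A[X]/(Q)` is étale when `Q` is monic and `Q'` is invertible in the quotient. -/
theorem etale_adjoinRoot_of_isUnit_derivative {A : Type*} [CommRing A] (Q : A[X]) (hQ : Q.Monic)
    (hu : IsUnit (AdjoinRoot.mk Q (derivative Q))) : Algebra.Etale A (AdjoinRoot Q) := by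
  let P : StandardEtalePair A := ⟨Q, hQ, derivative Q, ⟨1, 0, 1, by simp⟩⟩
  let e1 : P.Ring ≃ₐ[A] Localization.Away (AdjoinRoot.mk Q (derivative Q)) := P.equivAwayAdjoinRoot
  let e2 : AdjoinRoot Q ≃ₐ[AdjoinRoot Q] Localization.Away (AdjoinRoot.mk Q (derivative Q)) :=
    IsLocalization.atUnits _ (Submonoid.powers (AdjoinRoot.mk Q (derivative Q))) (by
      rw [Submonoid.powers_le]
      exact hu)
  exact Algebra.Etale.of_equiv (e1.trans (e2.restrictScalars A).symm)

/-- Core construction: a finite separable extension `l` of the residue field of a local ring `R`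
is the reduction of a monogenic finite étale `R`-algebra. -/
theorem exists_monic_lift_of_finite_separable (R : Type u) [CommRing R] [IsLocalRing R]
    (l : Type u) [Field l] [Algebra (ResidueField R) l] [FiniteDimensional (ResidueField R) l]
    [Algebra.IsSeparable (ResidueField R) l] [Algebra R l] [IsScalarTower R (ResidueField R) l] :
    ∃ Q : R[X], Q.Monic ∧ IsUnit (AdjoinRoot.mk Q (derivative Q)) ∧
      ∃ φ : AdjoinRoot Q →ₐ[R] l, Function.Surjective φ ∧
        RingHom.ker φ = (maximalIdeal R).map (algebraMap R (AdjoinRoot Q)) := by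
  classical
  obtain ⟨θ, hθ⟩ := Field.exists_primitive_element (ResidueField R) l
  have hθint : IsIntegral (ResidueField R) θ := Algebra.IsIntegral.isIntegral θ
  set q := minpoly (ResidueField R) θ with hq
  have hqm : q.Monic := minpoly.monic hθint
  have hlift : q ∈ Polynomial.lifts (residue R) := by
    obtain ⟨P, hP⟩ := Polynomial.map_surjective (residue R) residue_surjective q
    exact (Polynomial.mem_lifts q).mpr ⟨P, hP⟩
  obtain ⟨Q, hQmap, -, hQm⟩ := Polynomial.lifts_and_natDegree_eq_and_monic hlift hqm
  have hev : ∀ G : R[X], G.eval₂ (algebraMap R l) θ = aeval θ (G.map (residue R)) := by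
    intro G
    rw [IsScalarTower.algebraMap_eq R (ResidueField R) l, ← Polynomial.eval₂_map]
    rfl
  have hθroot : Q.eval₂ (Algebra.ofId R l : R →+* l) θ = 0 := by
    change Q.eval₂ (algebraMap R l) θ = 0
    rw [hev, hQmap]
    exact minpoly.aeval _ θ
  let φ : AdjoinRoot Q →ₐ[R] l := AdjoinRoot.liftAlgHom Q (Algebra.ofId R l) θ hθroot
  have hφmk : ∀ G : R[X], φ (AdjoinRoot.mk Q G) = aeval θ (G.map (residue R)) := by
    intro G
    rw [AdjoinRoot.liftAlgHom_mk]
    exact hev G
  have hsurj : Function.Surjective φ := by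
    intro y
    have hy : y ∈ (⊤ : Subalgebra (ResidueField R) l) := Algebra.mem_top
    have htop : Algebra.adjoin (ResidueField R) {θ} = ⊤ := by
      rw [← IntermediateField.adjoin_simple_toSubalgebra_of_isAlgebraic
        (Algebra.IsAlgebraic.isAlgebraic θ), hθ, IntermediateField.top_toSubalgebra]
    rw [← htop, Algebra.adjoin_singleton_eq_range_aeval] at hy
    obtain ⟨g, rfl⟩ := hy
    obtain ⟨G, rfl⟩ := Polynomial.map_surjective (residue R) residue_surjective g
    exact ⟨AdjoinRoot.mk Q G, hφmk G⟩
  have hker : RingHom.ker φ = (maximalIdeal R).map (algebraMap R (AdjoinRoot Q)) := by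
    apply le_antisymm
    · intro x hx
      obtain ⟨G, rfl⟩ := AdjoinRoot.mk_surjective x
      rw [RingHom.mem_ker] at hx
      have hx' : aeval θ (G.map (residue R)) = 0 := by rw [← hφmk]; exact hx
      obtain ⟨h, hh⟩ := minpoly.dvd _ θ hx'
      obtain ⟨H, rfl⟩ := Polynomial.map_surjective (residue R) residue_surjective h
      have h0 : (G - Q * H).map (residue R) = 0 := by
        rw [Polynomial.map_sub, Polynomial.map_mul, hQmap, hh, sub_self]
      have h1 : G - Q * H ∈ (maximalIdeal R).map (C : R →+* R[X]) := by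
        rw [Ideal.mem_map_C_iff]
        intro n
        have := congrArg (fun p => p.coeff n) h0
        simp only [Polynomial.coeff_map, Polynomial.coeff_zero] at this
        exact (residue_eq_zero_iff _).mp this
      have h2 : AdjoinRoot.mk Q G = AdjoinRoot.mk Q (G - Q * H) := by
        rw [map_sub, map_mul, AdjoinRoot.mk_self, zero_mul, sub_zero]
      rw [h2, Groth.Agent.Lib.lead.Gabber.map_algebraMap_adjoinRoot]
      exact Ideal.mem_map_of_mem _ h1
    · rw [Ideal.map_le_iff_le_comap]
      intro a ha
      rw [Ideal.mem_comap, RingHom.mem_ker]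
      have : φ (algebraMap R (AdjoinRoot Q) a) = algebraMap R l a := φ.commutes a
      rw [this, IsScalarTower.algebraMap_apply R (ResidueField R) l]
      have : algebraMap R (ResidueField R) a = 0 := (residue_eq_zero_iff a).mpr ha
      rw [this, map_zero]
  refine ⟨Q, hQm, ?_, φ, hsurj, hker⟩
  -- the derivative is a unit
  have hfin : Module.Finite R (AdjoinRoot Q) := (AdjoinRoot.powerBasis' hQm).finite
  have hjac : (maximalIdeal R).map (algebraMap R (AdjoinRoot Q)) ≤ Ideal.jacobson ⊥ :=
    map_maximalIdeal_le_jacobson_of_isIntegral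
  apply Groth.Agent.Lib.lead.Hensel.isUnit_of_isUnit_mk _ hjac
  -- E / mE ≃ l is a field
  let iso := Ideal.quotientKerAlgEquivOfSurjective hsurj
  have hne : φ (AdjoinRoot.mk Q (derivative Q)) ≠ 0 := by
    rw [hφmk, ← Polynomial.derivative_map, hQmap]
    exact (Algebra.IsSeparable.isSeparable (ResidueField R) θ).aeval_derivative_ne_zero
      (minpoly.aeval _ θ)
  rw [← hker]
  have hu : IsUnit (iso (Ideal.Quotient.mk _ (AdjoinRoot.mk Q (derivative Q)))) := by
    rw [Ideal.quotientKerAlgEquivOfSurjective_mk]
    exact isUnit_iff_ne_zero.mpr hne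
  have := hu.map iso.symm
  rwa [AlgEquiv.symm_apply_apply] at this

end Groth.Agent.Lib.lead.HenselLocal
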