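import Mathlib
import Groth.Prelude.Def_PBC

/-!
# `EtPBC.IsIndEtale` as `ObjectProperty.ind` of étale objects of `Under A`
-/

universe u

set_option maxHeartbeats 400000
set_option linter.unusedSectionVars false
set_option linter.style.haveILetI false

open CategoryTheory Limits

namespace Groth.Agent.Lib.lead.IndEtCat

variable (A : Type u) [CommRing A]

/-- étale objects of `Under A` -/
def EtObj : ObjectProperty (Under (CommRingCat.of A)) :=
  fun X => letI := X.hom.hom.toAlgebra; Algebra.Etale A X.right

theorem isIndEtale_iff (B : Type u) [CommRing B] [Algebra A B] :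
    EtPBC.IsIndEtale A B ↔
      ObjectProperty.ind.{u} (EtObj A) (Under.mk (CommRingCat.ofHom (algebraMap A B))) := by
  constructor
  · rintro ⟨J, _, _, D, c, hc, hD, ⟨e⟩⟩
    refine ⟨J, inferInstance, inferInstance,
      (⟨D, c.ι, hc⟩ : ColimitPresentation J c.pt).ofIso e, fun j => hD j⟩
  · rintro ⟨J, _, _, pres, h⟩
    exact ⟨J, inferInstance, inferInstance, pres.diag, pres.cocone, pres.isColimit,
      fun j => h j, ⟨Iso.refl _⟩⟩

theorem isIndEtale_iff' (X : Under (CommRingCat.of A)) :
    (letI := X.hom.hom.toAlgebra; EtPBC.IsIndEtale A X.right) ↔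
      ObjectProperty.ind.{u} (EtObj A) X := by
  letI := X.hom.hom.toAlgebra
  exact isIndEtale_iff A X.right

theorem etObj_le : EtObj A ≤ ObjectProperty.isFinitelyPresentable.{u} (Under (CommRingCat.of A)) := by
  intro X hX
  apply CommRingCat.isFinitelyPresentable_under
  letI := X.hom.hom.toAlgebra
  haveI : Algebra.Etale A X.right := hX
  have : Algebra.FinitePresentation A X.right := inferInstance
  exact this

theorem ind_ind : ObjectProperty.ind.{u} (ObjectProperty.ind.{u} (EtObj A)) =
    ObjectProperty.ind.{u} (EtObj A) :=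
  ObjectProperty.ind_ind (etObj_le A)

end Groth.Agent.Lib.lead.IndEtCat
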