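import Mathlib
import Groth.Agent.Lib.lead.SH16

/-!
# Abstract filtered systems of algebras (element-level) and permanence of flatness / weak étaleness
-/

universe u v w

set_option maxHeartbeats 400000
set_option linter.unusedSectionVars false
set_option linter.style.haveILetI false

open TensorProduct

namespace Groth.Agent.Lib.lead

/-- `B` is an (element-level) filtered colimit of the `A`-algebras `St j`. -/
structure IndSys (A : Type u) (B : Type v) [CommRing A] [CommRing B] [Algebra A B] where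
  J : Type w
  ne : Nonempty J
  St : J → Type v
  [ring : ∀ j, CommRing (St j)]
  [alg : ∀ j, Algebra A (St j)]
  φ : ∀ j, St j →ₐ[A] B
  surj : ∀ b : B, ∃ j, ∃ x : St j, φ j x = b
  dir : ∀ i j, ∃ k, ∃ (s : St i →ₐ[A] St k) (t : St j →ₐ[A] St k),
    (φ k).comp s = φ i ∧ (φ k).comp t = φ j
  ker : ∀ i (x : St i), φ i x = 0 → ∃ k, ∃ s : St i →ₐ[A] St k, (φ k).comp s = φ i ∧ s x = 0

namespace IndSys

attribute [instance] IndSys.ring IndSys.alg

variable {A : Type u} {B : Type v} [CommRing A] [CommRing B] [Algebra A B] (M : IndSys.{u, v, w} A B)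

/-- finite families lift to a common stage -/
theorem exists_fin {l : ℕ} (x : Fin l → B) :
    ∃ i, ∃ x' : Fin l → M.St i, ∀ k, M.φ i (x' k) = x k := by
  induction l with
  | zero => exact ⟨M.ne.some, Fin.elim0, fun k => k.elim0⟩
  | succ l ih =>
    obtain ⟨i, x', hx'⟩ := ih (fun k => x k.succ)
    obtain ⟨j, y, hy⟩ := M.surj (x 0)
    obtain ⟨k, s, t, hs, ht⟩ := M.dir i j
    refine ⟨k, Fin.cons (t y) (fun r => s (x' r)), ?_⟩
    intro r
    refine Fin.cases ?_ (fun r => ?_) r
    · rw [Fin.cons_zero]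
      have := AlgHom.congr_fun ht y
      rw [AlgHom.comp_apply] at this
      rw [this, hy]
    · rw [Fin.cons_succ]
      have := AlgHom.congr_fun hs (x' r)
      rw [AlgHom.comp_apply] at this
      rw [this, hx']

theorem flat (h : ∀ j, Module.Flat A (M.St j)) : Module.Flat A B := by
  rw [Module.Flat.iff_forall_isTrivialRelation]
  intro l f x hfx
  obtain ⟨m, x', hx'⟩ := M.exists_fin x
  have h0 : M.φ m (∑ t, f t • x' t) = 0 := by
    rw [map_sum, ← hfx]
    refine Finset.sum_congr rfl fun t _ => ?_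
    rw [map_smul, hx']
  obtain ⟨j, s, hs, hj⟩ := M.ker m _ h0
  rw [map_sum] at hj
  have hj' : ∑ t, f t • s (x' t) = 0 := by
    rw [← hj]
    refine Finset.sum_congr rfl fun t _ => ?_
    rw [map_smul]
  obtain ⟨k, a, y, hxy, hfa⟩ := (Module.Flat.iff_forall_isTrivialRelation.mp (h j)) hj'
  refine ⟨k, a, fun t => M.φ j (y t), ?_, hfa⟩
  intro t
  have hxy' : s (x' t) = ∑ r, a t r • y r := hxy t
  have hc := AlgHom.congr_fun hs (x' t)
  rw [AlgHom.comp_apply] at hc
  rw [← hx' t, ← hc, hxy', map_sum]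
  refine Finset.sum_congr rfl fun r _ => ?_
  rw [map_smul]

/-- the map on tensor squares induced by a stage -/
noncomputable abbrev φφ (i : M.J) : M.St i ⊗[A] M.St i →ₐ[A] B ⊗[A] B :=
  Algebra.TensorProduct.map (M.φ i) (M.φ i)

theorem φφ_map (i k : M.J) (s : M.St i →ₐ[A] M.St k) (hs : (M.φ k).comp s = M.φ i)
    (x : M.St i ⊗[A] M.St i) :
    M.φφ k (Algebra.TensorProduct.map s s x) = M.φφ i x := by
  have hc : ∀ a, M.φ k (s a) = M.φ i a := fun a => AlgHom.congr_fun hs a
  induction x using TensorProduct.induction_on with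
  | zero => simp
  | tmul a b => simp [hc]
  | add a b ha hb => rw [map_add, map_add, map_add, ha, hb]

theorem exists_stage_tensor (x : B ⊗[A] B) :
    ∃ i, ∃ x' : M.St i ⊗[A] M.St i, M.φφ i x' = x := by
  induction x using TensorProduct.induction_on with
  | zero => exact ⟨M.ne.some, 0, map_zero _⟩
  | tmul a b =>
    obtain ⟨i, a', rfl⟩ := M.surj a
    obtain ⟨j, b', rfl⟩ := M.surj b
    obtain ⟨k, s, t, hs, ht⟩ := M.dir i j
    refine ⟨k, s a' ⊗ₜ t b', ?_⟩
    have h1 := AlgHom.congr_fun hs a'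
    have h2 := AlgHom.congr_fun ht b'
    rw [AlgHom.comp_apply] at h1 h2
    simp [h1, h2]
  | add x y hx hy =>
    obtain ⟨i, x', rfl⟩ := hx
    obtain ⟨j, y', rfl⟩ := hy
    obtain ⟨k, s, t, hs, ht⟩ := M.dir i j
    exact ⟨k, Algebra.TensorProduct.map s s x' + Algebra.TensorProduct.map t t y', by
      rw [map_add, M.φφ_map i k s hs, M.φφ_map j k t ht]⟩

theorem lmul'_map' {R : Type*} [CommRing R] {C D : Type*} [CommRing C] [CommRing D] [Algebra R C]
    [Algebra R D] (f : C →ₐ[R] D) (x : C ⊗[R] C) :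
    Algebra.TensorProduct.lmul' R (S := D) (Algebra.TensorProduct.map f f x) =
      f (Algebra.TensorProduct.lmul' R (S := C) x) := by
  induction x using TensorProduct.induction_on with
  | zero => simp
  | tmul a b => simp
  | add a b ha hb => rw [map_add, map_add, map_add, map_add, ha, hb]

theorem lmul'_surjective' {R : Type*} [CommRing R] (C : Type*) [CommRing C] [Algebra R C] :
    Function.Surjective (Algebra.TensorProduct.lmul' R (S := C)).toRingHom :=
  fun a => ⟨a ⊗ₜ 1, by simp⟩

theorem weaklyEtale (h : ∀ j, Algebra.WeaklyEtale A (M.St j)) : Algebra.WeaklyEtale A B := by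
  haveI := M.flat (fun j => (h j).flat)
  refine ⟨inferInstance, ?_⟩
  change (Algebra.TensorProduct.lmul' A (S := B)).toRingHom.Flat
  rw [SH.flat_iff_pure_ker _ (lmul'_surjective' B)]
  apply SH.pure_of_forall_exists_eq_mul
  intro x hx
  rw [RingHom.mem_ker] at hx
  obtain ⟨i, x', rfl⟩ := M.exists_stage_tensor x
  have h0 : M.φ i (Algebra.TensorProduct.lmul' A (S := M.St i) x') = 0 := by
    rw [← lmul'_map']; exact hx
  obtain ⟨j, s, hs, hj⟩ := M.ker i _ h0
  have h1 : Algebra.TensorProduct.lmul' A (S := M.St j) (Algebra.TensorProduct.map s s x') = 0 := by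
    rw [lmul'_map']; exact hj
  have hp : (RingHom.ker (Algebra.TensorProduct.lmul' A (S := M.St j)).toRingHom).Pure :=
    (SH.flat_iff_pure_ker _ (lmul'_surjective' (M.St j))).mp
      (Algebra.WeaklyEtale.flat_lmul' (self := h j))
  obtain ⟨y, hy, e⟩ := Ideal.exists_eq_mul_of_pure (I := RingHom.ker
    (Algebra.TensorProduct.lmul' A (S := M.St j)).toRingHom)
    (x := Algebra.TensorProduct.map s s x') (RingHom.mem_ker.mpr h1)
  rw [RingHom.mem_ker] at hy
  refine ⟨M.φφ j y, ?_, ?_⟩
  · rw [RingHom.mem_ker]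
    change Algebra.TensorProduct.lmul' A (S := B) (M.φφ j y) = 0
    rw [lmul'_map']
    change M.φ j (Algebra.TensorProduct.lmul' A (S := M.St j) y) = 0
    rw [show Algebra.TensorProduct.lmul' A (S := M.St j) y = 0 from hy, map_zero]
  · rw [← M.φφ_map i j s hs x', ← map_mul, ← e]

end IndSys

end Groth.Agent.Lib.lead
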