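import Mathlib
import Groth.Agent.Lib.lead.IndSys

/-!
# Descending compatible families along an element-level filtered system
-/

universe u v w

set_option maxHeartbeats 400000
set_option linter.unusedSectionVars false
set_option linter.style.haveILetI false

namespace Groth.Agent.Lib.lead

namespace IndSys

variable {A : Type u} {B : Type v} [CommRing A] [CommRing B] [Algebra A B] (M : IndSys.{u, v, w} A B)

/-- two representatives of the same element become equal at a later stage -/
theorem exists_eq_of_map_eq (i j : M.J) (x : M.St i) (y : M.St j) (h : M.φ i x = M.φ j y) :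
    ∃ k, ∃ (s : M.St i →ₐ[A] M.St k) (t : M.St j →ₐ[A] M.St k),
      (M.φ k).comp s = M.φ i ∧ (M.φ k).comp t = M.φ j ∧ s x = t y := by
  obtain ⟨k, s, t, hs, ht⟩ := M.dir i j
  have h0 : M.φ k (s x - t y) = 0 := by
    have h1 := AlgHom.congr_fun hs x
    have h2 := AlgHom.congr_fun ht y
    rw [AlgHom.comp_apply] at h1 h2
    rw [map_sub, h1, h2, h, sub_self]
  obtain ⟨k', s', hs', hk'⟩ := M.ker k _ h0
  refine ⟨k', s'.comp s, s'.comp t, ?_, ?_, ?_⟩
  · rw [← AlgHom.comp_assoc, hs', hs]
  · rw [← AlgHom.comp_assoc, hs', ht]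
  · rw [map_sub, sub_eq_zero] at hk'
    exact hk'

section desc

variable {T : Type*} [CommRing T] [Algebra A T] (ψ : ∀ j, M.St j →ₐ[A] T)
  (hψ : ∀ i k (s : M.St i →ₐ[A] M.St k), (M.φ k).comp s = M.φ i → (ψ k).comp s = ψ i)

/-- the underlying function of the descended map -/
noncomputable def descFun (b : B) : T :=
  ψ (M.surj b).choose (M.surj b).choose_spec.choose

include hψ in
theorem descFun_φ (j : M.J) (x : M.St j) : M.descFun ψ (M.φ j x) = ψ j x := by
  unfold descFun
  have hspec := (M.surj (M.φ j x)).choose_spec.choose_spec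
  obtain ⟨k, s, t, hs, ht, hst⟩ := M.exists_eq_of_map_eq _ _ _ _ hspec
  have h1 := AlgHom.congr_fun (hψ _ _ s hs) ((M.surj (M.φ j x)).choose_spec.choose)
  have h2 := AlgHom.congr_fun (hψ _ _ t ht) x
  rw [AlgHom.comp_apply] at h1 h2
  rw [← h1, ← h2, hst]

include hψ in
/-- descend a compatible family of algebra maps -/
theorem exists_desc : ∃ F : B →ₐ[A] T, ∀ j, F.comp (M.φ j) = ψ j := by
  have key := M.descFun_φ ψ hψ
  have hadd : ∀ a b, M.descFun ψ (a + b) = M.descFun ψ a + M.descFun ψ b := by
    intro a b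
    obtain ⟨i, x, rfl⟩ := M.surj a
    obtain ⟨j, y, rfl⟩ := M.surj b
    obtain ⟨k, s, t, hs, ht⟩ := M.dir i j
    have h1 := AlgHom.congr_fun hs x
    have h2 := AlgHom.congr_fun ht y
    rw [AlgHom.comp_apply] at h1 h2
    rw [← h1, ← h2, ← map_add, key, key, key, map_add]
  have hmul : ∀ a b, M.descFun ψ (a * b) = M.descFun ψ a * M.descFun ψ b := by
    intro a b
    obtain ⟨i, x, rfl⟩ := M.surj a
    obtain ⟨j, y, rfl⟩ := M.surj b
    obtain ⟨k, s, t, hs, ht⟩ := M.dir i j
    have h1 := AlgHom.congr_fun hs x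
    have h2 := AlgHom.congr_fun ht y
    rw [AlgHom.comp_apply] at h1 h2
    rw [← h1, ← h2, ← map_mul, key, key, key, map_mul]
  have halg : ∀ a : A, M.descFun ψ (algebraMap A B a) = algebraMap A T a := by
    intro a
    have : algebraMap A B a = M.φ M.ne.some (algebraMap A _ a) := by rw [AlgHom.commutes]
    rw [this, key, AlgHom.commutes]
  refine ⟨{ toFun := M.descFun ψ
            map_one' := by rw [← map_one (algebraMap A B), halg, map_one]
            map_mul' := hmul
            map_zero' := by rw [← map_zero (algebraMap A B), halg, map_zero]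
            map_add' := hadd
            commutes' := halg }, fun j => ?_⟩
  apply AlgHom.ext
  intro x
  exact key j x

end desc

/-- maps out of the colimit are determined on stages -/
theorem algHom_ext {T : Type*} [CommRing T] [Algebra A T] (F G : B →ₐ[A] T)
    (h : ∀ j, F.comp (M.φ j) = G.comp (M.φ j)) : F = G := by
  apply AlgHom.ext
  intro b
  obtain ⟨j, x, rfl⟩ := M.surj b
  exact AlgHom.congr_fun (h j) x

end IndSys

end Groth.Agent.Lib.lead
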