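import Mathlib
import Groth.Agent.Lib.lead.IndSysDesc
import Groth.Agent.Lib.lead.IndEtCat

/-!
# Directed systems of algebras with functorial transitions, and the colimit presentation in `Under A`
-/

universe u

set_option maxHeartbeats 400000
set_option linter.unusedSectionVars false
set_option linter.style.haveILetI false

open CategoryTheory Limits

namespace Groth.Agent.Lib.lead

/-- a directed system of `A`-algebras with colimit `B` (element-level) -/
structure DirSys (A : Type u) (B : Type u) [CommRing A] [CommRing B] [Algebra A B]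
    (ι : Type u) [Preorder ι] where
  St : ι → Type u
  [ring : ∀ i, CommRing (St i)]
  [alg : ∀ i, Algebra A (St i)]
  tr : ∀ i j, i ≤ j → (St i →ₐ[A] St j)
  tr_refl : ∀ i, tr i i le_rfl = AlgHom.id A _
  tr_trans : ∀ i j k (h : i ≤ j) (h' : j ≤ k), (tr j k h').comp (tr i j h) = tr i k (h.trans h')
  φ : ∀ i, St i →ₐ[A] B
  compat : ∀ i j h, (φ j).comp (tr i j h) = φ i
  surj : ∀ b, ∃ i, ∃ x : St i, φ i x = b
  ker : ∀ i (x : St i), φ i x = 0 → ∃ j, ∃ h : i ≤ j, tr i j h x = 0

namespace DirSys

attribute [instance] DirSys.ring DirSys.alg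

variable {A B : Type u} [CommRing A] [CommRing B] [Algebra A B] {ι : Type u} [Preorder ι]
  [IsDirectedOrder ι] [Nonempty ι] (M : DirSys A B ι)

/-- the underlying element-level system -/
def toIndSys : IndSys.{u, u, u} A B where
  J := ι
  ne := inferInstance
  St := M.St
  φ := M.φ
  surj := M.surj
  dir := fun i j => by
    obtain ⟨k, hik, hjk⟩ := exists_ge_ge i j
    exact ⟨k, M.tr i k hik, M.tr j k hjk, M.compat i k hik, M.compat j k hjk⟩
  ker := fun i x hx => by
    obtain ⟨j, h, hj⟩ := M.ker i x hx
    exact ⟨j, M.tr i j h, M.compat i j h, hj⟩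

/-- the diagram in `Under A` -/
noncomputable def diag : ι ⥤ Under (CommRingCat.of A) where
  obj i := Under.mk (CommRingCat.ofHom (algebraMap A (M.St i)))
  map {i j} f := Under.homMk (CommRingCat.ofHom (M.tr i j (leOfHom f)).toRingHom) (by
    ext a
    exact (M.tr i j (leOfHom f)).commutes a)
  map_id i := by
    ext x
    change M.tr i i _ x = x
    rw [M.tr_refl]; rfl
  map_comp {i j k} f g := by
    ext x
    change M.tr i k _ x = M.tr j k _ (M.tr i j _ x)
    rw [← M.tr_trans i j k (leOfHom f) (leOfHom g)]; rfl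

/-- the cocone -/
noncomputable def cocone : Cocone M.diag where
  pt := Under.mk (CommRingCat.ofHom (algebraMap A B))
  ι :=
    { app := fun i => Under.homMk (CommRingCat.ofHom (M.φ i).toRingHom) (by
        ext a
        exact (M.φ i).commutes a)
      naturality := fun i j f => by
        ext x
        change M.φ j (M.tr i j _ x) = M.φ i x
        exact AlgHom.congr_fun (M.compat i j (leOfHom f)) x }

theorem isColimit : Nonempty (IsColimit M.cocone) := by
  refine ⟨IsColimit.ofExistsUnique fun s => ?_⟩
  letI : Algebra A s.pt.right := s.pt.hom.hom.toAlgebra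
  let ψ : ∀ i, M.St i →ₐ[A] s.pt.right := fun i =>
    { toRingHom := (s.ι.app i).right.hom
      commutes' := fun a => by
        have := Under.w (s.ι.app i)
        exact congrArg (fun g => g.hom a) this }
  have hψtr : ∀ i j (h : i ≤ j) x, ψ j (M.tr i j h x) = ψ i x := by
    intro i j h x
    have := s.w (homOfLE h)
    exact congrArg (fun g => g.right.hom x) this
  have hψ : ∀ i k (σ : M.St i →ₐ[A] M.St k),
      (M.toIndSys.φ k).comp σ = M.toIndSys.φ i → (ψ k).comp σ = ψ i := by
    intro i k σ hσ
    apply AlgHom.ext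
    intro x
    obtain ⟨l, hil, hkl⟩ := exists_ge_ge i k
    have h0 : M.φ l (M.tr k l hkl (σ x) - M.tr i l hil x) = 0 := by
      have h1 := AlgHom.congr_fun (M.compat k l hkl) (σ x)
      have h2 := AlgHom.congr_fun (M.compat i l hil) x
      have h3 := AlgHom.congr_fun hσ x
      rw [AlgHom.comp_apply] at h1 h2 h3
      rw [map_sub, h1, h2]
      exact sub_eq_zero.mpr h3
    obtain ⟨m, hlm, hm⟩ := M.ker l _ h0
    rw [map_sub, sub_eq_zero] at hm
    change ψ k (σ x) = ψ i x
    rw [← hψtr k l hkl (σ x), ← hψtr l m hlm, hm, hψtr l m hlm, hψtr i l hil]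
  obtain ⟨F, hF⟩ := M.toIndSys.exists_desc ψ hψ
  refine ⟨Under.homMk (CommRingCat.ofHom F.toRingHom) ?_, ?_, ?_⟩
  · ext a
    exact F.commutes a
  · intro i
    ext x
    exact AlgHom.congr_fun (hF i) x
  · intro G hG
    ext b
    obtain ⟨i, x, rfl⟩ := M.surj b
    have h1 := AlgHom.congr_fun (hF i) x
    have h2 := congrArg (fun g => g.right.hom x) (hG i)
    change G.right.hom (M.φ i x) = F (M.φ i x)
    rw [AlgHom.comp_apply] at h1
    change F (M.φ i x) = ψ i x at h1
    rw [h1]
    exact h2

/-- the colimit presentation -/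
noncomputable def presentation :
    ColimitPresentation ι (Under.mk (CommRingCat.ofHom (algebraMap A B))) where
  diag := M.diag
  ι := M.cocone.ι
  isColimit := M.isColimit.some

/-- a directed system with ind-étale stages has ind-étale colimit -/
theorem isIndEtale (h : ∀ i, EtPBC.IsIndEtale A (M.St i)) : EtPBC.IsIndEtale A B := by
  rw [IndEtCat.isIndEtale_iff, ← IndEtCat.ind_ind]
  refine ⟨ι, inferInstance, inferInstance, M.presentation, fun i => ?_⟩
  exact (IndEtCat.isIndEtale_iff A (M.St i)).mp (h i)

/-- a directed system with étale stages has ind-étale colimit -/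
theorem isIndEtale_of_etale (h : ∀ i, Algebra.Etale A (M.St i)) : EtPBC.IsIndEtale A B := by
  rw [IndEtCat.isIndEtale_iff]
  refine ⟨ι, inferInstance, inferInstance, M.presentation, fun i => ?_⟩
  change (letI := (algebraMap A (M.St i)).toAlgebra; Algebra.Etale A (M.St i))
  have : (algebraMap A (M.St i)).toAlgebra = M.alg i := Algebra.algebra_ext _ _ (fun r => rfl)
  rw [this]
  exact h i

end DirSys

end Groth.Agent.Lib.lead
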