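import Mathlib
import Groth.Agent.Lib.lead.SH16

/-!
# Weakly étale algebras are formally unramified; weakly étale field extensions are separable
-/

universe u

set_option maxHeartbeats 400000
set_option linter.unusedSectionVars false
set_option linter.style.haveILetI false

open TensorProduct

namespace Groth.Agent.Lib.lead.WEField

/-- flatness descends: `A → B → C` with `C` flat over `A` and faithfully flat over `B` -/
theorem flat_of_flat_of_faithfullyFlat (A B C : Type*) [CommRing A] [CommRing B] [CommRing C]
    [Algebra A B] [Algebra B C] [Algebra A C] [IsScalarTower A B C] [Module.Flat A C]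
    [Module.FaithfullyFlat B C] : Module.Flat A B := by
  rw [Module.Flat.iff_lTensor_preserves_injective_linearMap]
  intro N P _ _ _ _ f hf
  have hinj : Function.Injective (f.baseChange B) := by
    rw [← Module.FaithfullyFlat.lTensor_injective_iff_injective B C]
    have key : ∀ z, (TensorProduct.AlgebraTensorModule.cancelBaseChange A B C C P)
        (LinearMap.lTensor C (f.baseChange B) z) =
        LinearMap.lTensor C f ((TensorProduct.AlgebraTensorModule.cancelBaseChange A B C C N) z) := by
      intro z
      induction z using TensorProduct.induction_on with
      | zero => simp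
      | tmul c y =>
        induction y using TensorProduct.induction_on with
        | zero => simp
        | tmul b n => simp
        | add y y' h h' => simp only [TensorProduct.tmul_add, map_add, h, h']
      | add z z' h h' => simp only [map_add, h, h']
    intro z z' hzz'
    apply (TensorProduct.AlgebraTensorModule.cancelBaseChange A B C C N).injective
    apply Module.Flat.lTensor_preserves_injective_linearMap f hf
    rw [← key, ← key, hzz']
  exact hinj

/-- weakly étale algebras are formally unramified -/
theorem formallyUnramified_of_weaklyEtale (R S : Type*) [CommRing R] [CommRing S] [Algebra R S]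
    [Algebra.WeaklyEtale R S] : Algebra.FormallyUnramified R S := by
  constructor
  change Subsingleton (KaehlerDifferential.ideal R S).Cotangent
  rw [Ideal.cotangent_subsingleton_iff]
  have hp : (RingHom.ker (Algebra.TensorProduct.lmul' R (S := S)).toRingHom).Pure :=
    (SH.flat_iff_pure_ker _ (fun a => ⟨a ⊗ₜ 1, by simp⟩)).mp (Algebra.WeaklyEtale.flat_lmul' R S)
  apply le_antisymm Ideal.mul_le_right
  intro x hx
  obtain ⟨y, hy, e⟩ := Ideal.exists_eq_mul_of_pure (I := RingHom.ker
    (Algebra.TensorProduct.lmul' R (S := S)).toRingHom) (x := x) hx
  rw [e]
  exact Ideal.mul_mem_mul hx hy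

/-- weak étaleness descends to intermediate fields -/
theorem weaklyEtale_intermediateField {K L : Type u} [Field K] [Field L] [Algebra K L]
    [Algebra.WeaklyEtale K L] (F : IntermediateField K L) : Algebra.WeaklyEtale K F := by
  refine { flat := inferInstance, flat_lmul' := ?_ }
  letI : Algebra (F ⊗[K] F) F := (Algebra.TensorProduct.lmul' K (S := F)).toRingHom.toAlgebra
  letI : Algebra (F ⊗[K] F) L :=
    ((Algebra.TensorProduct.lmul' K (S := L)).toRingHom.comp
      (Algebra.TensorProduct.map F.val F.val).toRingHom).toAlgebra
  haveI : IsScalarTower (F ⊗[K] F) F L := IsScalarTower.of_algebraMap_eq (fun z => by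
    change Algebra.TensorProduct.lmul' K (S := L) (Algebra.TensorProduct.map F.val F.val z) =
      algebraMap F L (Algebra.TensorProduct.lmul' K (S := F) z)
    induction z using TensorProduct.induction_on with
    | zero => simp
    | tmul a b => simp
    | add a b ha hb => rw [map_add, map_add, map_add, map_add, ha, hb])
  haveI : Module.Flat (F ⊗[K] F) L := by
    have hval : (F.val : F →ₐ[K] L).toRingHom.Flat :=
      RingHom.Flat.of_isField (Field.toIsField F) _
    exact RingHom.Flat.comp (RingHom.Flat.tensorProductMap hval hval)
      (Algebra.WeaklyEtale.flat_lmul' K L)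
  haveI : Module.FaithfullyFlat F L := inferInstance
  exact flat_of_flat_of_faithfullyFlat (F ⊗[K] F) F L

/-- a weakly étale field extension is separable algebraic -/
theorem isSeparable_of_weaklyEtale {K L : Type u} [Field K] [Field L] [Algebra K L]
    [Algebra.WeaklyEtale K L] : Algebra.IsSeparable K L := by
  refine ⟨fun x => ?_⟩
  haveI : Algebra.WeaklyEtale K (IntermediateField.adjoin K {x}) :=
    weaklyEtale_intermediateField _
  haveI : Algebra.FormallyUnramified K (IntermediateField.adjoin K {x}) :=
    formallyUnramified_of_weaklyEtale _ _
  haveI : Algebra.EssFiniteType K (IntermediateField.adjoin K {x}) :=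
    IntermediateField.essFiniteType_iff.mpr ⟨{x}, by simp⟩
  haveI : Algebra.IsSeparable K (IntermediateField.adjoin K {x}) :=
    Algebra.FormallyUnramified.isSeparable K _
  have hx : IsSeparable K (⟨x, IntermediateField.mem_adjoin_simple_self K x⟩ :
      IntermediateField.adjoin K {x}) := Algebra.IsSeparable.isSeparable K _
  have h2 := minpoly.algebraMap_eq (A := K)
    (algebraMap (IntermediateField.adjoin K {x}) L).injective
    (⟨x, IntermediateField.mem_adjoin_simple_self K x⟩ : IntermediateField.adjoin K {x})
  unfold IsSeparable at hx ⊢
  rw [← h2] at hx
  exact hx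

end Groth.Agent.Lib.lead.WEField
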