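import Mathlib

/-!
# Weakly étale `A → B`: a `B`-algebra flat over `A` is flat over `B`
-/

universe u

set_option maxHeartbeats 400000

namespace Groth.Agent.Lib.lead.WEFlat

open TensorProduct

section

variable (A B D : Type*) [CommRing A] [CommRing B] [CommRing D] [Algebra A B] [Algebra A D]
  [Algebra B D] [IsScalarTower A B D]

/-- multiplication `D ⊗[A] B → D` -/
noncomputable def μD : D ⊗[A] B →ₐ[D] D :=
  Algebra.TensorProduct.lift (AlgHom.id D D) (IsScalarTower.toAlgHom A B D)
    (fun _ _ => Commute.all _ _)

@[simp] theorem μD_tmul (d : D) (b : B) : μD A B D (d ⊗ₜ[A] b) = d * algebraMap B D b := by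
  simp [μD]

/-- `D ⊗[B] (B ⊗[A] B) → D`, the base change of the multiplication of `B` -/
noncomputable def ψ : D ⊗[B] (B ⊗[A] B) →ₐ[D] D :=
  (Algebra.TensorProduct.rid B D D).toAlgHom.comp
    (Algebra.TensorProduct.map (AlgHom.id D D) (Algebra.TensorProduct.lmul'' A (S := B)))

theorem μD_comp :
    (μD A B D).comp (Algebra.TensorProduct.cancelBaseChange A B D D B).toAlgHom = ψ A B D := by
  ext x
  simp [ψ, μD, Algebra.smul_def, Algebra.TensorProduct.lmul'']

end

theorem flat_of_weaklyEtale (A B D : Type*) [CommRing A] [CommRing B] [CommRing D] [Algebra A B]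
    [Algebra A D] [Algebra B D] [IsScalarTower A B D] [Algebra.WeaklyEtale A B]
    [Module.Flat A D] : Module.Flat B D := by
  rw [← RingHom.flat_algebraMap_iff]
  have h1 : algebraMap B D = (μD A B D).toRingHom.comp
      (Algebra.TensorProduct.includeRight : B →ₐ[A] D ⊗[A] B).toRingHom := by
    ext b; simp
  rw [h1]
  refine RingHom.Flat.comp ?_ ?_
  · have h2 : (Algebra.TensorProduct.includeRight : B →ₐ[A] D ⊗[A] B).toRingHom =
        (Algebra.TensorProduct.comm A B D).toAlgHom.toRingHom.comp (algebraMap B (B ⊗[A] D)) := by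
      ext b; simp
    rw [h2]
    exact RingHom.Flat.comp (RingHom.flat_algebraMap_iff.mpr inferInstance)
      (.of_bijective (AlgEquiv.bijective _))
  · have h3 : μD A B D = (ψ A B D).comp
        (Algebra.TensorProduct.cancelBaseChange A B D D B).symm.toAlgHom := by
      rw [← μD_comp]
      ext x
      simp
    rw [h3]
    refine RingHom.Flat.comp (.of_bijective (AlgEquiv.bijective _)) ?_
    unfold ψ
    refine RingHom.Flat.comp ?_ (.of_bijective (AlgEquiv.bijective _))
    refine RingHom.Flat.tensorProductMap ?_ ?_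
    · exact .of_bijective Function.bijective_id
    · exact Algebra.WeaklyEtale.flat_lmul' A B

end Groth.Agent.Lib.lead.WEFlat
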