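import Mathlib
import Groth.Agent.Lib.lead.WEFlat
import Groth.Agent.Lib.lead.WEField
import Groth.Agent.Lib.helper11.AbsFlat

/-!
# Weakly étale algebras over a field
-/

universe u

set_option maxHeartbeats 400000
set_option linter.unusedSectionVars false
set_option linter.style.haveILetI false

open TensorProduct Polynomial

namespace Groth.Agent.Lib.lead.WEFieldAlg

/-- flat surjections are weakly étale -/
theorem weaklyEtale_of_surjective_of_flat (B D : Type*) [CommRing B] [CommRing D] [Algebra B D]
    (hs : Function.Surjective (algebraMap B D)) [Module.Flat B D] : Algebra.WeaklyEtale B D := by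
  haveI : Algebra.IsEpi B D := Algebra.isEpi_of_surjective_algebraMap B D hs
  exact
    { flat := inferInstance
      flat_lmul' := .of_bijective (SH.lmul'_bijective_of_isEpi B D) }

section field

variable (K : Type u) [Field K] (B : Type u) [CommRing B] [Algebra K B] [Algebra.WeaklyEtale K B]

include K in
/-- quotients of weakly étale algebras over a field are weakly étale over the algebra -/
theorem weaklyEtale_quotient_self (I : Ideal B) : Algebra.WeaklyEtale B (B ⧸ I) := by
  haveI : Module.Flat B (B ⧸ I) := WEFlat.flat_of_weaklyEtale K B (B ⧸ I)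
  exact weaklyEtale_of_surjective_of_flat B (B ⧸ I) Ideal.Quotient.mk_surjective

/-- quotients of weakly étale algebras over a field are weakly étale -/
theorem weaklyEtale_quotient (I : Ideal B) : Algebra.WeaklyEtale K (B ⧸ I) := by
  haveI := weaklyEtale_quotient_self K B I
  exact Algebra.WeaklyEtale.trans K B (B ⧸ I)

/-- the fraction field of a residue domain is separable algebraic over `K` -/
theorem isSeparable_fractionRing_quotient (p : Ideal B) [p.IsPrime] :
    Algebra.IsSeparable K (FractionRing (B ⧸ p)) := by
  haveI := weaklyEtale_quotient K B p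
  haveI : Algebra.WeaklyEtale (B ⧸ p) (FractionRing (B ⧸ p)) :=
    SH.weaklyEtale_of_isLocalization (nonZeroDivisors (B ⧸ p))
  haveI : Algebra.WeaklyEtale K (FractionRing (B ⧸ p)) :=
    Algebra.WeaklyEtale.trans K (B ⧸ p) (FractionRing (B ⧸ p))
  exact WEField.isSeparable_of_weaklyEtale

/-- a weakly étale algebra over a field is integral -/
theorem isIntegral : Algebra.IsIntegral K B := by
  refine ⟨fun b => ?_⟩
  rw [← isAlgebraic_iff_isIntegral]
  by_contra hb
  have hinj : Function.Injective (aeval b : K[X] →ₐ[K] B) := by
    rw [injective_iff_map_eq_zero]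
    intro g hg
    by_contra hg0
    exact hb ⟨g, hg0, hg⟩
  have hmin : (⊥ : Ideal K[X]) ∈ minimalPrimes K[X] := by
    rw [IsDomain.minimalPrimes_eq_singleton_bot]
    exact Set.mem_singleton _
  obtain ⟨p, hp, hpc⟩ := Ideal.exists_comap_eq_of_mem_minimalPrimes_of_injective
    (f := (aeval b : K[X] →ₐ[K] B).toRingHom) hinj ⊥ hmin
  haveI := hp
  haveI := isSeparable_fractionRing_quotient K B p
  have hi : IsIntegral K (algebraMap (B ⧸ p) (FractionRing (B ⧸ p)) (Ideal.Quotient.mk p b)) :=
    Algebra.IsIntegral.isIntegral _
  obtain ⟨g, hgm, hg⟩ := hi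
  have h1 : aeval b g ∈ p := by
    rw [← Ideal.Quotient.eq_zero_iff_mem]
    apply IsFractionRing.injective (B ⧸ p) (FractionRing (B ⧸ p))
    rw [map_zero, ← hg]
    rw [← Polynomial.aeval_def]
    have : (algebraMap (B ⧸ p) (FractionRing (B ⧸ p))) ((Ideal.Quotient.mk p) b) =
        (IsScalarTower.toAlgHom K B (FractionRing (B ⧸ p))) b := rfl
    rw [this, Polynomial.aeval_algHom_apply]
    rfl
  have h2 : g ∈ p.comap (aeval b : K[X] →ₐ[K] B).toRingHom := h1
  rw [hpc, Ideal.mem_bot] at h2
  exact hgm.ne_zero h2

include K in
/-- a weakly étale algebra over a field is reduced -/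
theorem isReduced : IsReduced B :=
  Groth.Agent.Lib.helper11.AbsFlat.isReduced_of_weaklyEtale K B

attribute [local instance] Ideal.Quotient.field in
/-- residue fields of subalgebras are separable -/
theorem isSeparable_quotient_subalgebra (S : Subalgebra K B) (I : Ideal S) [I.IsMaximal] :
    Algebra.IsSeparable K (S ⧸ I) := by
  haveI : Algebra.IsIntegral K B := isIntegral K B
  haveI : Algebra.IsIntegral S B := Algebra.IsIntegral.tower_top (R := K)
  have hker : (⊥ : Ideal B).comap (algebraMap S B) ≤ I := by
    intro x hx
    rw [Ideal.mem_comap, Ideal.mem_bot] at hx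
    have : x = 0 := Subtype.val_injective (by simpa using hx)
    rw [this]; exact I.zero_mem
  obtain ⟨p, -, hp, hpc⟩ := Ideal.exists_ideal_over_prime_of_isIntegral I (⊥ : Ideal B) hker
  haveI := hp
  haveI := isSeparable_fractionRing_quotient K B p
  let f₁ : S ⧸ I →ₐ[K] B ⧸ p := Ideal.quotientMapₐ p S.val (le_of_eq hpc.symm)
  let f : S ⧸ I →ₐ[K] FractionRing (B ⧸ p) :=
    (IsScalarTower.toAlgHom K (B ⧸ p) (FractionRing (B ⧸ p))).comp f₁
  have hf : Function.Injective f := f.toRingHom.injective
  refine ⟨fun x => ?_⟩
  have hx : IsSeparable K (f x) := Algebra.IsSeparable.isSeparable K _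
  unfold IsSeparable at hx ⊢
  rwa [minpoly.algHom_eq f hf] at hx

/-- finitely generated subalgebras of a weakly étale algebra over a field are étale -/
theorem etale_of_fg (S : Subalgebra K B) (hS : S.FG) : Algebra.Etale K S := by
  haveI : Algebra.IsIntegral K B := isIntegral K B
  haveI : Algebra.FiniteType K S := (Subalgebra.fg_iff_finiteType S).mp hS
  haveI : Algebra.IsIntegral K S := ⟨fun x => by
    have := Algebra.IsIntegral.isIntegral (R := K) (x : B)
    exact (isIntegral_algHom_iff S.val Subtype.val_injective).mp this⟩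
  haveI : Module.Finite K S := Algebra.IsIntegral.finite
  haveI : IsArtinianRing S := .of_finite K S
  haveI : IsReduced B := isReduced K B
  haveI : IsReduced S := isReduced_of_injective S.val Subtype.val_injective
  letI : ∀ I : MaximalSpectrum S, Field (S ⧸ I.asIdeal) := fun I => Ideal.Quotient.field _
  have hI : ∀ I : MaximalSpectrum S, Algebra.FormallyEtale K (S ⧸ I.asIdeal) := by
    intro I
    haveI := isSeparable_quotient_subalgebra K B S I.asIdeal
    exact Algebra.FormallyEtale.of_isSeparable K (S ⧸ I.asIdeal)
  haveI : Algebra.FormallyEtale K S :=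
    .of_equiv ((IsArtinianRing.equivPi S).restrictScalars K).symm
  exact ⟨inferInstance, Algebra.FinitePresentation.of_finiteType.mp inferInstance⟩

end field

end Groth.Agent.Lib.lead.WEFieldAlg
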