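import Mathlib
import Groth.Agent.Lib.lead.WEFieldAlg
import Groth.Agent.Lib.lead.DirSys

/-!
# Weakly étale algebras over a field are ind-étale
-/

universe u

set_option maxHeartbeats 400000
set_option linter.unusedSectionVars false
set_option linter.style.haveILetI false

namespace Groth.Agent.Lib.lead.WEFieldInd

variable (K : Type u) [Field K] (B : Type u) [CommRing B] [Algebra K B]

/-- finitely generated subalgebras -/
abbrev FGSub : Type u := {S : Subalgebra K B // S.FG}

instance : Nonempty (FGSub K B) := ⟨⟨⊥, Subalgebra.fg_bot⟩⟩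

instance : IsDirectedOrder (FGSub K B) :=
  ⟨fun a b => ⟨⟨a.1 ⊔ b.1, a.2.sup b.2⟩,
    (show a.1 ≤ a.1 ⊔ b.1 from le_sup_left), (show b.1 ≤ a.1 ⊔ b.1 from le_sup_right)⟩⟩

/-- the directed system of finitely generated subalgebras -/
def fgSys : DirSys K B (FGSub K B) where
  St := fun i => i.1
  tr := fun i j h => Subalgebra.inclusion h
  tr_refl := fun i => by ext x; rfl
  tr_trans := fun i j k h h' => by ext x; rfl
  φ := fun i => i.1.val
  compat := fun i j h => by ext x; rfl
  surj := fun b => ⟨⟨Algebra.adjoin K {b}, ⟨{b}, by simp⟩⟩,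
    ⟨b, Algebra.subset_adjoin (Set.mem_singleton b)⟩, rfl⟩
  ker := fun i x hx => ⟨i, le_rfl, by
    have : x = 0 := Subtype.val_injective (by simpa using hx)
    rw [this, map_zero]⟩

/-- a directed system of subalgebras covering a subalgebra `S` -/
def fgSysSub (S : Subalgebra K B) : DirSys K S (FGSub K S) := fgSys K S

theorem isIndEtale_of_weaklyEtale [Algebra.WeaklyEtale K B] : EtPBC.IsIndEtale K B :=
  (fgSys K B).isIndEtale_of_etale (fun i => WEFieldAlg.etale_of_fg K B i.1 i.2)

/-- subalgebras of weakly étale algebras over a field are ind-étale -/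
theorem isIndEtale_subalgebra [Algebra.WeaklyEtale K B] (S : Subalgebra K B) :
    EtPBC.IsIndEtale K S := by
  refine (fgSys K S).isIndEtale_of_etale (fun i => ?_)
  -- `i.1` is a finitely generated subalgebra of `S`; its image in `B` is finitely generated
  have hfg : (i.1.map S.val).FG := i.2.map S.val
  haveI := WEFieldAlg.etale_of_fg K B (i.1.map S.val) hfg
  let e : i.1 ≃ₐ[K] i.1.map S.val := Subalgebra.equivMapOfInjective i.1 S.val Subtype.val_injective
  exact Algebra.Etale.of_equiv e.symm

end Groth.Agent.Lib.lead.WEFieldInd
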