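import Mathlib
import Groth.Agent.Lib.lead.WEFieldInd
import Groth.Prelude.Def_EtAlgD

/-!
# The maximal weakly étale subalgebra of an algebra over a field
-/

universe u

set_option maxHeartbeats 400000
set_option linter.unusedSectionVars false
set_option linter.style.haveILetI false

open TensorProduct

namespace Groth.Agent.Lib.lead.WEMax

variable (K : Type u) [Field K]

/-- surjective images of weakly étale algebras over a field are weakly étale -/
theorem weaklyEtale_of_surjective {B D : Type u} [CommRing B] [CommRing D] [Algebra K B]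
    [Algebra K D] [Algebra.WeaklyEtale K B] (f : B →ₐ[K] D) (hf : Function.Surjective f) :
    Algebra.WeaklyEtale K D := by
  letI : Algebra B D := f.toRingHom.toAlgebra
  haveI : IsScalarTower K B D := IsScalarTower.of_algebraMap_eq fun x => (f.commutes x).symm
  haveI : Module.Flat B D := WEFlat.flat_of_weaklyEtale K B D
  haveI : Algebra.WeaklyEtale B D := WEFieldAlg.weaklyEtale_of_surjective_of_flat B D hf
  exact Algebra.WeaklyEtale.trans K B D

/-- criterion: all finitely generated subalgebras étale -/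
theorem weaklyEtale_of_forall_fg {B : Type u} [CommRing B] [Algebra K B]
    (h : ∀ T : Subalgebra K B, T.FG → Algebra.Etale K T) : Algebra.WeaklyEtale K B :=
  (WEFieldInd.fgSys K B).toIndSys.weaklyEtale (fun j => by
    haveI : Algebra.Etale K j.1 := h j.1 j.2
    exact (inferInstance : Algebra.WeaklyEtale K j.1))

/-- a finitely generated algebra embedding into a weakly étale algebra is étale -/
theorem etale_of_injective {T S : Type u} [CommRing T] [CommRing S] [Algebra K T] [Algebra K S]
    [Algebra.FiniteType K T] [Algebra.WeaklyEtale K S] (g : T →ₐ[K] S)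
    (hg : Function.Injective g) : Algebra.Etale K T := by
  have hfg : g.range.FG := by
    rw [← Algebra.map_top]
    exact (Algebra.FiniteType.out : (⊤ : Subalgebra K T).FG).map g
  haveI := WEFieldAlg.etale_of_fg K S g.range hfg
  exact Algebra.Etale.of_equiv (AlgEquiv.ofInjective g hg).symm

variable (A : Type u) [CommRing A] [Algebra K A]

/-- the supremum of two weakly étale subalgebras is weakly étale -/
theorem weaklyEtale_sup (S₁ S₂ : Subalgebra K A) [Algebra.WeaklyEtale K S₁]
    [Algebra.WeaklyEtale K S₂] : Algebra.WeaklyEtale K (S₁ ⊔ S₂ : Subalgebra K A) := by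
  haveI : Algebra.WeaklyEtale K (S₁ ⊗[K] S₂) := Algebra.WeaklyEtale.trans K S₁ (S₁ ⊗[K] S₂)
  let f : S₁ ⊗[K] S₂ →ₐ[K] A := Algebra.TensorProduct.productMap S₁.val S₂.val
  have hr : f.range = S₁ ⊔ S₂ := by
    rw [Algebra.TensorProduct.productMap_range, Subalgebra.range_val, Subalgebra.range_val]
  haveI : Algebra.WeaklyEtale K f.range :=
    weaklyEtale_of_surjective K f.rangeRestrict f.rangeRestrict_surjective
  exact weaklyEtale_of_surjective K (Subalgebra.equivOfEq _ _ hr).toAlgHom
    (Subalgebra.equivOfEq _ _ hr).surjective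

/-- `⊥` is weakly étale -/
theorem weaklyEtale_bot : Algebra.WeaklyEtale K (⊥ : Subalgebra K A) :=
  weaklyEtale_of_surjective K (Algebra.ofId K (⊥ : Subalgebra K A)) (by
    rintro ⟨x, hx⟩
    obtain ⟨y, rfl⟩ := Algebra.mem_bot.mp hx
    exact ⟨y, rfl⟩)

/-- the maximal weakly étale subalgebra is weakly étale -/
theorem weaklyEtale_max : Algebra.WeaklyEtale K (EtAlgD.maxWeaklyEtale K A) := by
  classical
  apply weaklyEtale_of_forall_fg
  intro T hT
  -- index type of weakly étale subalgebras
  let 𝒮 : Set (Subalgebra K A) := {S | Algebra.WeaklyEtale K S}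
  haveI : Nonempty 𝒮 := ⟨⟨⊥, weaklyEtale_bot K A⟩⟩
  have hdir : Directed (· ≤ ·) (fun S : 𝒮 => (S.1 : Subalgebra K A)) := by
    intro S₁ S₂
    haveI : Algebra.WeaklyEtale K S₁.1 := S₁.2
    haveI : Algebra.WeaklyEtale K S₂.1 := S₂.2
    exact ⟨⟨S₁.1 ⊔ S₂.1, weaklyEtale_sup K A S₁.1 S₂.1⟩, le_sup_left, le_sup_right⟩
  have hM : (EtAlgD.maxWeaklyEtale K A : Set A) = ⋃ S : 𝒮, (S.1 : Set A) := by
    unfold EtAlgD.maxWeaklyEtale
    rw [sSup_eq_iSup']
    exact Subalgebra.coe_iSup_of_directed hdir
  obtain ⟨s, hs⟩ := hT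
  -- each generator lies in some member
  have hmem : ∀ t : EtAlgD.maxWeaklyEtale K A, ∃ S : 𝒮, (t : A) ∈ S.1 := by
    intro t
    have : (t : A) ∈ (EtAlgD.maxWeaklyEtale K A : Set A) := t.2
    rw [hM, Set.mem_iUnion] at this
    exact this
  choose c hc using hmem
  obtain ⟨S, hS⟩ := hdir.finset_le (s.image c)
  haveI : Algebra.WeaklyEtale K S.1 := S.2
  have hsub : ∀ x : T, ((x : EtAlgD.maxWeaklyEtale K A) : A) ∈ S.1 := by
    have hle : T.map (EtAlgD.maxWeaklyEtale K A).val ≤ S.1 := by
      rw [← hs, AlgHom.map_adjoin, Algebra.adjoin_le_iff]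
      rintro _ ⟨t, ht, rfl⟩
      exact hS (c t) (Finset.mem_image_of_mem c ht) (hc t)
    intro x
    exact hle ⟨x.1, x.2, rfl⟩
  haveI : Algebra.FiniteType K T := (Subalgebra.fg_iff_finiteType T).mp ⟨s, hs⟩
  let g : T →ₐ[K] S.1 :=
    ((EtAlgD.maxWeaklyEtale K A).val.comp T.val).codRestrict S.1 hsub
  have hg : Function.Injective g := by
    intro x y hxy
    have := congrArg (fun z : S.1 => (z : A)) hxy
    exact Subtype.val_injective (Subtype.val_injective this)
  exact etale_of_injective K g hg

end Groth.Agent.Lib.lead.WEMax
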