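import Mathlib
import Groth.Agent.Lib.lead.WEMax
import Groth.Agent.Lib.lead.FiniteEtaleLift

/-!
# More on the maximal weakly étale subalgebra: separable polynomials, lifting along nilpotents
-/

universe u

set_option maxHeartbeats 400000
set_option linter.unusedSectionVars false
set_option linter.style.haveILetI false

open TensorProduct Polynomial

namespace Groth.Agent.Lib.lead.WEMax

variable (K : Type u) [Field K]

/-- an algebra embedding into a weakly étale algebra over a field is weakly étale -/
theorem weaklyEtale_of_injective {T S : Type u} [CommRing T] [CommRing S] [Algebra K T]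
    [Algebra K S] [Algebra.WeaklyEtale K S] (g : T →ₐ[K] S) (hg : Function.Injective g) :
    Algebra.WeaklyEtale K T := by
  apply weaklyEtale_of_forall_fg
  intro U hU
  haveI : Algebra.FiniteType K U := (Subalgebra.fg_iff_finiteType U).mp hU
  exact etale_of_injective K (g.comp U.val) (hg.comp Subtype.val_injective)

variable (A : Type u) [CommRing A] [Algebra K A]

theorem le_max (S : Subalgebra K A) [h : Algebra.WeaklyEtale K S] :
    S ≤ EtAlgD.maxWeaklyEtale K A :=
  le_sSup (show S ∈ {S : Subalgebra K A | Algebra.WeaklyEtale K S} from h)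

/-- the range of an algebra map from a weakly étale algebra lies in the maximal one -/
theorem range_le_max {B : Type u} [CommRing B] [Algebra K B] [Algebra.WeaklyEtale K B]
    (f : B →ₐ[K] A) : f.range ≤ EtAlgD.maxWeaklyEtale K A := by
  haveI : Algebra.WeaklyEtale K f.range :=
    weaklyEtale_of_surjective K f.rangeRestrict f.rangeRestrict_surjective
  exact le_max K A f.range

/-- a subalgebra of the maximal one is weakly étale -/
theorem weaklyEtale_of_le_max (S : Subalgebra K A) (h : S ≤ EtAlgD.maxWeaklyEtale K A) :
    Algebra.WeaklyEtale K S := by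
  haveI := weaklyEtale_max K A
  exact weaklyEtale_of_injective K (Subalgebra.inclusion h) (Subalgebra.inclusion_injective h)

/-- weakly étale algebras over a field are von Neumann regular -/
theorem exists_eq_mul_mul (B : Type u) [CommRing B] [Algebra K B] [Algebra.WeaklyEtale K B]
    (x : B) : ∃ z : B, x = x * x * z := by
  have hflat : ∀ (M : Type u) [AddCommGroup M] [Module B M], Module.Flat B M := by
    intro M _ _
    letI : Module K M := Module.compHom M (algebraMap K B)
    haveI : IsScalarTower K B M := ⟨fun a c m => by
      have h1 : a • c = algebraMap K B a * c := Algebra.smul_def a c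
      rw [h1, mul_smul]; rfl⟩
    exact Groth.Agent.Lib.helper11.FlatDiag.flat_of_flat_lmul K B
      (Algebra.WeaklyEtale.flat_lmul' K B) M
  exact Groth.Agent.Lib.helper11.AbsFlat.vnr_of_flat B hflat x

/-- elements of étale algebras over a field are roots of monic separable polynomials -/
theorem exists_separable_of_etale (E : Type u) [CommRing E] [Algebra K E] [Algebra.Etale K E]
    (t : E) : ∃ g : K[X], g.Monic ∧ g.Separable ∧ aeval t g = 0 := by
  classical
  haveI : Module.Finite K E := Algebra.FormallyUnramified.finite_of_free K E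
  haveI : IsArtinianRing E := .of_finite K E
  haveI : IsReduced E := Algebra.FormallyUnramified.isReduced_of_field K E
  letI : ∀ m : MaximalSpectrum E, Field (E ⧸ m.asIdeal) := fun m => Ideal.Quotient.field _
  haveI : Fintype (MaximalSpectrum E) := Fintype.ofFinite _
  have hsep : ∀ m : MaximalSpectrum E, Algebra.IsSeparable K (E ⧸ m.asIdeal) := by
    intro m
    haveI : Algebra.FormallyUnramified K (E ⧸ m.asIdeal) :=
      Algebra.FormallyUnramified.of_surjective (Ideal.Quotient.mkₐ K m.asIdeal)
        (Ideal.Quotient.mkₐ_surjective K m.asIdeal)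
    exact Algebra.FormallyUnramified.isSeparable K _
  let q : MaximalSpectrum E → K[X] := fun m => minpoly K (Ideal.Quotient.mk m.asIdeal t)
  have hint : ∀ m : MaximalSpectrum E, IsIntegral K (Ideal.Quotient.mk m.asIdeal t) :=
    fun m => Algebra.IsIntegral.isIntegral _
  let P : Finset K[X] := Finset.univ.image q
  refine ⟨∏ p ∈ P, p, ?_, ?_, ?_⟩
  · apply Polynomial.monic_prod_of_monic
    intro p hp
    obtain ⟨m, -, rfl⟩ := Finset.mem_image.mp hp
    exact minpoly.monic (hint m)
  · have := Polynomial.separable_prod' (f := fun p : K[X] => p) (s := P) ?_ ?_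
    · exact this
    · intro p hp p' hp' hne
      obtain ⟨m, -, rfl⟩ := Finset.mem_image.mp hp
      obtain ⟨m', -, rfl⟩ := Finset.mem_image.mp hp'
      have h1 : Irreducible (q m) := minpoly.irreducible (hint m)
      have h2 : Irreducible (q m') := minpoly.irreducible (hint m')
      rw [h1.coprime_iff_not_dvd]
      intro hdvd
      apply hne
      exact eq_of_monic_of_associated (minpoly.monic (hint m)) (minpoly.monic (hint m'))
        (h1.associated_of_dvd h2 hdvd)
    · intro p hp
      obtain ⟨m, -, rfl⟩ := Finset.mem_image.mp hp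
      exact Algebra.IsSeparable.isSeparable K (Ideal.Quotient.mk m.asIdeal t)
  · apply (IsArtinianRing.equivPi E).injective
    rw [map_zero]
    funext m
    rw [IsArtinianRing.equivPi_apply, Pi.zero_apply]
    have h1 : (Ideal.Quotient.mk m.asIdeal) (aeval t (∏ p ∈ P, p)) =
        aeval (Ideal.Quotient.mk m.asIdeal t) (∏ p ∈ P, p) := by
      have := Polynomial.aeval_algHom_apply (Ideal.Quotient.mkₐ K m.asIdeal) t (∏ p ∈ P, p)
      exact this.symm
    change (Ideal.Quotient.mk m.asIdeal) (aeval t (∏ p ∈ P, p)) = 0
    rw [h1]
    have hmem : q m ∈ P := Finset.mem_image_of_mem q (Finset.mem_univ m)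
    have hdvd : q m ∣ ∏ p ∈ P, p := Finset.dvd_prod_of_mem (fun p => p) hmem
    obtain ⟨c, hc⟩ := hdvd
    rw [hc, map_mul, minpoly.aeval, zero_mul]

/-- roots of monic separable polynomials lie in the maximal weakly étale subalgebra -/
theorem mem_max_of_separable_root (y : A) (g : K[X]) (hgm : g.Monic) (hgs : g.Separable)
    (hy : aeval y g = 0) : y ∈ EtAlgD.maxWeaklyEtale K A := by
  have hu : IsUnit (AdjoinRoot.mk g (derivative g)) := by
    obtain ⟨a, b, hab⟩ := hgs
    have h1 := congrArg (AdjoinRoot.mk g) hab
    rw [map_add, map_mul, map_mul, map_one, AdjoinRoot.mk_self, mul_zero, zero_add] at h1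
    exact IsUnit.of_mul_eq_one _ (by rw [mul_comm]; exact h1)
  haveI : Algebra.Etale K (AdjoinRoot g) :=
    Groth.Agent.Lib.lead.HenselLocal.etale_adjoinRoot_of_isUnit_derivative g hgm hu
  let f : AdjoinRoot g →ₐ[K] A := AdjoinRoot.liftAlgHom g (Algebra.ofId K A) y hy
  have : y ∈ f.range := ⟨AdjoinRoot.root g, by simp [f]⟩
  exact range_le_max K A f this

end Groth.Agent.Lib.lead.WEMax
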