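import Mathlib
import Groth.Agent.Lib.lead.NormWE
import Groth.Agent.Lib.lead.WEMax2

set_option autoImplicit false
universe u
set_option maxHeartbeats 1000000

open TensorProduct

namespace Groth.Agent.Lib.lead.NormWE

/-- `K ⊗ B` orientation of `isIntegrallyClosedIn_tensor`. -/
theorem exists_of_isIntegralElem (A : Type u) [CommRing A] [IsDomain A] [IsIntegrallyClosed A]
    (K : Type u) [Field K] [Algebra A K] [IsFractionRing A K] (B : Type u) [CommRing B]
    [Algebra A B] [Algebra.WeaklyEtale A B] (z : K ⊗[A] B)
    (hz : (Algebra.TensorProduct.includeRight : B →ₐ[A] K ⊗[A] B).toRingHom.IsIntegralElem z) :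
    ∃ b : B, (1 : K) ⊗ₜ[A] b = z := by
  have hIC := isIntegrallyClosedIn_tensor A K B
  rw [isIntegrallyClosedIn_iff] at hIC
  obtain ⟨p, hp, hpz⟩ := hz
  let e : B ⊗[A] K ≃ₐ[A] K ⊗[A] B := Algebra.TensorProduct.comm A B K
  have e2 : (e.symm : K ⊗[A] B →+* B ⊗[A] K).comp
      (Algebra.TensorProduct.includeRight : B →ₐ[A] K ⊗[A] B).toRingHom =
      algebraMap B (B ⊗[A] K) := by
    ext b
    simp [e, Algebra.TensorProduct.algebraMap_apply]
  have hint : IsIntegral B (e.symm z) := by
    refine ⟨p, hp, ?_⟩
    have : (e.symm : K ⊗[A] B →+* B ⊗[A] K) (Polynomial.eval₂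
        (Algebra.TensorProduct.includeRight : B →ₐ[A] K ⊗[A] B).toRingHom z p) =
        Polynomial.eval₂ ((e.symm : K ⊗[A] B →+* B ⊗[A] K).comp
          (Algebra.TensorProduct.includeRight : B →ₐ[A] K ⊗[A] B).toRingHom)
          ((e.symm : K ⊗[A] B →+* B ⊗[A] K) z) p :=
      Polynomial.hom_eval₂ p _ (e.symm : K ⊗[A] B →+* B ⊗[A] K) z
    rw [← e2]
    change Polynomial.eval₂ _ ((e.symm : K ⊗[A] B →+* B ⊗[A] K) z) p = 0
    rw [← this, hpz, map_zero]
  obtain ⟨b, hb⟩ := hIC.2 hint
  refine ⟨b, ?_⟩
  apply e.symm.injective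
  rw [← hb]
  simp [e, Algebra.TensorProduct.algebraMap_apply]

theorem includeRight_injective (A : Type u) [CommRing A] [IsDomain A]
    (K : Type u) [Field K] [Algebra A K] [IsFractionRing A K] (B : Type u) [CommRing B]
    [Algebra A B] [Module.Flat A B] :
    Function.Injective (Algebra.TensorProduct.includeRight : B →ₐ[A] K ⊗[A] B) := by
  have hinj := Module.Flat.rTensor_preserves_injective_linearMap (M := B) (Algebra.linearMap A K)
    (IsFractionRing.injective A K)
  intro x y hxy
  have h1 : ∀ b : B, (Algebra.TensorProduct.includeRight : B →ₐ[A] K ⊗[A] B) b =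
      (Algebra.linearMap A K).rTensor B ((TensorProduct.lid A B).symm b) := by
    intro b
    simp
  rw [h1, h1] at hxy
  exact (TensorProduct.lid A B).symm.injective (hinj hxy)

/-- A local ring weakly étale over a normal domain is a normal domain. -/
theorem normal_of_weaklyEtale_local (R : Type u) [CommRing R] [IsDomain R] [IsIntegrallyClosed R]
    (S : Type u) [CommRing S] [IsLocalRing S] [Algebra R S] [Algebra.WeaklyEtale R S] :
    IsDomain S ∧ IsIntegrallyClosed S := by
  classical
  let K := FractionRing R
  let T := K ⊗[R] S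
  let ι : S →ₐ[R] T := Algebra.TensorProduct.includeRight
  have hι : Function.Injective ι := includeRight_injective R K S
  haveI : Nontrivial T := ⟨⟨ι 0, ι 1, fun h => zero_ne_one (hι h)⟩⟩
  -- idempotents of `T` are trivial
  have hidem : ∀ e : T, IsIdempotentElem e → e = 0 ∨ e = 1 := by
    intro e he
    have hint : ι.toRingHom.IsIntegralElem e := by
      refine ⟨Polynomial.X ^ 2 - Polynomial.X, ?_, ?_⟩
      · exact Polynomial.monic_X_pow_sub (by simp)
      · simp only [Polynomial.eval₂_sub, Polynomial.eval₂_pow, Polynomial.eval₂_X]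
        rw [sq, he.eq, sub_self]
    obtain ⟨b, hb⟩ := exists_of_isIntegralElem R K S e hint
    have hb' : ι b = e := hb
    have hbid : IsIdempotentElem b := by
      apply hι
      rw [map_mul, hb', he.eq]
    have h01 : b = 0 ∨ b = 1 := by
      have hmul : b * (1 - b) = 0 := by
        rw [mul_sub, mul_one, hbid.eq, sub_self]
      rcases IsLocalRing.isUnit_or_isUnit_one_sub_self b with hu | hu
      · right
        have : 1 - b = 0 := hu.mul_right_eq_zero.mp hmul
        exact (sub_eq_zero.mp this).symm
      · left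
        exact hu.mul_left_eq_zero.mp hmul
    rcases h01 with h | h
    · left; rw [← hb', h, map_zero]
    · right; rw [← hb', h, map_one]
  -- `T` is a field
  have hfield : IsField T := by
    refine ⟨⟨0, 1, zero_ne_one⟩, mul_comm, ?_⟩
    intro x hx
    obtain ⟨z, hz⟩ := Groth.Agent.Lib.lead.WEMax.exists_eq_mul_mul K T x
    have hidem' : IsIdempotentElem (x * z) := by
      unfold IsIdempotentElem
      calc x * z * (x * z) = (x * x * z) * z := by ring
        _ = x * z := by rw [← hz]
    rcases hidem _ hidem' with h0 | h1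
    · exfalso
      apply hx
      calc x = x * x * z := hz
        _ = x * (x * z) := by ring
        _ = 0 := by rw [h0, mul_zero]
    · exact ⟨z, h1⟩
  letI : Field T := hfield.toField
  haveI : IsDomain S := hι.isDomain ι.toRingHom
  refine ⟨inferInstance, ?_⟩
  -- integrally closed
  letI : Algebra S T := ι.toRingHom.toAlgebra
  have hST : Function.Injective (algebraMap S T) := hι
  let F := FractionRing S
  let j : F →ₐ[S] T :=
    { IsFractionRing.lift hST with commutes' := fun s => IsFractionRing.lift_algebraMap hST s }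
  rw [isIntegrallyClosed_iff F]
  intro x hx
  have hjx : IsIntegral S (j x) := hx.map j
  have hjx' : ι.toRingHom.IsIntegralElem (j x) := hjx
  obtain ⟨b, hb⟩ := exists_of_isIntegralElem R K S (j x) hjx'
  refine ⟨b, ?_⟩
  apply j.toRingHom.injective
  change j (algebraMap S F b) = j x
  rw [AlgHom.commutes]
  exact hb

/-- Normality descends along faithfully flat maps. -/
theorem normal_of_faithfullyFlat (R S : Type u) [CommRing R] [CommRing S] [Algebra R S]
    [Module.FaithfullyFlat R S] [IsDomain S] [IsIntegrallyClosed S] :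
    IsDomain R ∧ IsIntegrallyClosed R := by
  have hinj : Function.Injective (algebraMap R S) := FaithfulSMul.algebraMap_injective R S
  haveI : IsDomain R := hinj.isDomain (algebraMap R S)
  refine ⟨inferInstance, ?_⟩
  let K := FractionRing R
  let F := FractionRing S
  have hRF : Function.Injective (algebraMap R F) := by
    rw [IsScalarTower.algebraMap_eq R S F]
    exact (IsFractionRing.injective S F).comp hinj
  let j : K →ₐ[R] F :=
    { IsFractionRing.lift hRF with commutes' := fun s => IsFractionRing.lift_algebraMap hRF s }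
  rw [isIntegrallyClosed_iff K]
  intro x hx
  obtain ⟨a, b, hb, rfl⟩ := IsFractionRing.div_surjective (A := R) x
  have hb0 : b ≠ 0 := nonZeroDivisors.ne_zero hb
  have hjx : IsIntegral R (j (algebraMap R K a / algebraMap R K b)) := hx.map j
  have hjx' : IsIntegral S (j (algebraMap R K a / algebraMap R K b)) := hjx.tower_top
  obtain ⟨s, hs⟩ := (isIntegrallyClosed_iff F).mp inferInstance hjx'
  rw [map_div₀, AlgHom.commutes, AlgHom.commutes] at hs
  have hbF : algebraMap R F b ≠ 0 := fun h => hb0 (hRF (by rw [h, map_zero]))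
  have h1 : algebraMap S F (algebraMap R S b * s) = algebraMap S F (algebraMap R S a) := by
    rw [map_mul, hs, ← IsScalarTower.algebraMap_apply, ← IsScalarTower.algebraMap_apply,
      mul_div_cancel₀ _ hbF]
  have h2 : algebraMap R S b * s = algebraMap R S a := IsFractionRing.injective S F h1
  have h3 : a ∈ (Ideal.span {b} : Ideal R) := by
    rw [← Ideal.comap_map_eq_self_of_faithfullyFlat (B := S) (Ideal.span {b}), Ideal.mem_comap,
      Ideal.map_span, Set.image_singleton, Ideal.mem_span_singleton']
    exact ⟨s, by rw [mul_comm]; exact h2⟩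
  obtain ⟨r, hr⟩ := Ideal.mem_span_singleton'.mp h3
  refine ⟨r, ?_⟩
  rw [← hr, map_mul]
  have hbK : algebraMap R K b ≠ 0 := fun h => hb0 (IsFractionRing.injective R K (by rw [h, map_zero]))
  rw [mul_div_cancel_right₀ _ hbK]

end Groth.Agent.Lib.lead.NormWE
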