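import Mathlib

/-!
# Tensor products of local rings with purely inseparable residue extension
-/

universe u
set_option maxHeartbeats 400000
set_option linter.unusedSectionVars false
set_option linter.style.haveILetI false

open IsLocalRing TensorProduct

namespace Groth.Agent.Lib.lead.PITensor

section

variable (A B C : Type u) [CommRing A] [IsLocalRing A] [CommRing B] [IsLocalRing B] [Algebra A B]
  [IsLocalHom (algebraMap A B)] [CommRing C] [IsLocalRing C] [Algebra A C]
  [IsLocalHom (algebraMap A C)]

/-- the canonical map to the tensor product of the residue fields -/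
noncomputable def π : B ⊗[A] C →ₐ[A] ResidueField B ⊗[ResidueField A] ResidueField C :=
  Algebra.TensorProduct.productMap
    (((Algebra.TensorProduct.includeLeft : ResidueField B →ₐ[ResidueField A]
        ResidueField B ⊗[ResidueField A] ResidueField C).restrictScalars A).comp
      (IsScalarTower.toAlgHom A B (ResidueField B)))
    (((Algebra.TensorProduct.includeRight : ResidueField C →ₐ[ResidueField A]
        ResidueField B ⊗[ResidueField A] ResidueField C).restrictScalars A).comp
      (IsScalarTower.toAlgHom A C (ResidueField C)))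

theorem π_tmul (b : B) (c : C) : π A B C (b ⊗ₜ[A] c) = residue B b ⊗ₜ[ResidueField A] residue C c := by
  rw [π, Algebra.TensorProduct.productMap_apply_tmul]
  simp only [AlgHom.comp_apply, AlgHom.restrictScalars_apply, IsScalarTower.coe_toAlgHom',
    Algebra.TensorProduct.includeLeft_apply, Algebra.TensorProduct.includeRight_apply,
    Algebra.TensorProduct.tmul_mul_tmul, mul_one, one_mul]
  rfl

instance : Nontrivial (ResidueField B ⊗[ResidueField A] ResidueField C) :=
  Module.FaithfullyFlat.lTensor_nontrivial _ _ _

theorem nontrivial_tensor : Nontrivial (B ⊗[A] C) :=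
  (π A B C).toRingHom.domain_nontrivial

/-- two primes of `B ⊗ C` lying over both maximal ideals coincide, if the tensor product of the
residue fields has at most one prime. -/
theorem eq_of_comap_eq (hX : Subsingleton (PrimeSpectrum
      (ResidueField B ⊗[ResidueField A] ResidueField C)))
    (M M' : Ideal (B ⊗[A] C)) [M.IsPrime] [M'.IsPrime]
    (hMB : M.comap (Algebra.TensorProduct.includeLeft : B →ₐ[A] B ⊗[A] C).toRingHom =
      maximalIdeal B)
    (hMC : M.comap (Algebra.TensorProduct.includeRight : C →ₐ[A] B ⊗[A] C).toRingHom =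
      maximalIdeal C)
    (hMB' : M'.comap (Algebra.TensorProduct.includeLeft : B →ₐ[A] B ⊗[A] C).toRingHom =
      maximalIdeal B)
    (hMC' : M'.comap (Algebra.TensorProduct.includeRight : C →ₐ[A] B ⊗[A] C).toRingHom =
      maximalIdeal C) : M = M' := by
  -- key: every such prime is the preimage of a prime of `X`
  have key : ∀ (N : Ideal (B ⊗[A] C)) [N.IsPrime],
      N.comap (Algebra.TensorProduct.includeLeft : B →ₐ[A] B ⊗[A] C).toRingHom = maximalIdeal B →
      N.comap (Algebra.TensorProduct.includeRight : C →ₐ[A] B ⊗[A] C).toRingHom = maximalIdeal C →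
      ∃ P : PrimeSpectrum (ResidueField B ⊗[ResidueField A] ResidueField C),
        N = P.asIdeal.comap (π A B C).toRingHom := by
    intro N hN hNB hNC
    let F := (B ⊗[A] C) ⧸ N
    let φ : B ⊗[A] C →+* F := Ideal.Quotient.mk N
    let β₀ : ResidueField B →+* F := Ideal.Quotient.lift (maximalIdeal B)
      (φ.comp (Algebra.TensorProduct.includeLeft : B →ₐ[A] B ⊗[A] C).toRingHom) (by
        intro b hb
        rw [← hNB] at hb
        exact Ideal.Quotient.eq_zero_iff_mem.mpr hb)
    let γ₀ : ResidueField C →+* F := Ideal.Quotient.lift (maximalIdeal C)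
      (φ.comp (Algebra.TensorProduct.includeRight : C →ₐ[A] B ⊗[A] C).toRingHom) (by
        intro c hc
        rw [← hNC] at hc
        exact Ideal.Quotient.eq_zero_iff_mem.mpr hc)
    have hβ : ∀ b : B, β₀ (residue B b) = φ (b ⊗ₜ[A] (1 : C)) := fun b => rfl
    have hγ : ∀ c : C, γ₀ (residue C c) = φ ((1 : B) ⊗ₜ[A] c) := fun c => rfl
    letI : Algebra (ResidueField A) F := (β₀.comp (algebraMap (ResidueField A) (ResidueField B))).toAlgebra
    let β : ResidueField B →ₐ[ResidueField A] F := { β₀ with commutes' := fun r => rfl }
    let γ : ResidueField C →ₐ[ResidueField A] F := { γ₀ with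
      commutes' := by
        intro r
        obtain ⟨a, rfl⟩ := residue_surjective r
        change γ₀ (algebraMap (ResidueField A) (ResidueField C) (residue A a)) =
          β₀ (algebraMap (ResidueField A) (ResidueField B) (residue A a))
        have h1 : algebraMap (ResidueField A) (ResidueField C) (residue A a) =
            residue C (algebraMap A C a) := rfl
        have h2 : algebraMap (ResidueField A) (ResidueField B) (residue A a) =
            residue B (algebraMap A B a) := rfl
        rw [h1, h2, hβ, hγ]
        congr 1
        rw [Algebra.algebraMap_eq_smul_one, Algebra.algebraMap_eq_smul_one, TensorProduct.smul_tmul] }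
    let ψ : ResidueField B ⊗[ResidueField A] ResidueField C →ₐ[ResidueField A] F :=
      Algebra.TensorProduct.productMap β γ
    have hψπ : ∀ t : B ⊗[A] C, ψ (π A B C t) = φ t := by
      intro t
      induction t using TensorProduct.induction_on with
      | zero => simp
      | tmul b c =>
        rw [π_tmul, Algebra.TensorProduct.productMap_apply_tmul]
        change β₀ (residue B b) * γ₀ (residue C c) = _
        rw [hβ, hγ, ← map_mul, Algebra.TensorProduct.tmul_mul_tmul, mul_one, one_mul]
      | add x y hx hy => rw [map_add, map_add, hx, hy, map_add]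
    haveI : (RingHom.ker ψ.toRingHom).IsPrime := RingHom.ker_isPrime _
    refine ⟨⟨RingHom.ker ψ.toRingHom, inferInstance⟩, ?_⟩
    ext t
    rw [Ideal.mem_comap, RingHom.mem_ker]
    change _ ↔ ψ (π A B C t) = 0
    rw [hψπ]
    exact (Ideal.Quotient.eq_zero_iff_mem).symm
  obtain ⟨P, hP⟩ := key M hMB hMC
  obtain ⟨P', hP'⟩ := key M' hMB' hMC'
  rw [hP, hP', Subsingleton.elim P P']

variable [Algebra.IsIntegral A C]

theorem comap_includeLeft (M : Ideal (B ⊗[A] C)) [M.IsMaximal] :
    M.comap (Algebra.TensorProduct.includeLeft : B →ₐ[A] B ⊗[A] C).toRingHom = maximalIdeal B := by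
  have : (M.comap (algebraMap B (B ⊗[A] C))).IsMaximal :=
    Ideal.isMaximal_comap_of_isIntegral_of_isMaximal M
  exact IsLocalRing.eq_maximalIdeal this

theorem comap_includeRight (M : Ideal (B ⊗[A] C)) [M.IsMaximal] :
    M.comap (Algebra.TensorProduct.includeRight : C →ₐ[A] B ⊗[A] C).toRingHom = maximalIdeal C := by
  set P := M.comap (Algebra.TensorProduct.includeRight : C →ₐ[A] B ⊗[A] C).toRingHom with hP
  haveI : P.IsPrime := Ideal.comap_isPrime _ _
  have hPA : P.comap (algebraMap A C) = maximalIdeal A := by
    have h1 : P.comap (algebraMap A C) =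
        (M.comap (Algebra.TensorProduct.includeLeft : B →ₐ[A] B ⊗[A] C).toRingHom).comap
          (algebraMap A B) := by
      ext a
      simp only [hP, Ideal.mem_comap]
      have : (Algebra.TensorProduct.includeRight : C →ₐ[A] B ⊗[A] C).toRingHom (algebraMap A C a) =
          (Algebra.TensorProduct.includeLeft : B →ₐ[A] B ⊗[A] C).toRingHom (algebraMap A B a) := by
        change (1 : B) ⊗ₜ[A] (algebraMap A C a) = (algebraMap A B a) ⊗ₜ[A] (1 : C)
        rw [Algebra.algebraMap_eq_smul_one, Algebra.algebraMap_eq_smul_one, TensorProduct.smul_tmul]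
      rw [this]
    rw [h1, comap_includeLeft A B C M, maximalIdeal_comap]
  have hmax : P.IsMaximal := by
    apply Ideal.isMaximal_of_isIntegral_of_isMaximal_comap (R := A) P
    rw [hPA]
    infer_instance
  exact IsLocalRing.eq_maximalIdeal hmax

theorem isLocalRing_tensor (hX : Subsingleton (PrimeSpectrum
      (ResidueField B ⊗[ResidueField A] ResidueField C))) : IsLocalRing (B ⊗[A] C) := by
  haveI := nontrivial_tensor A B C
  obtain ⟨M, hM⟩ := Ideal.exists_maximal (B ⊗[A] C)
  refine IsLocalRing.of_unique_max_ideal ⟨M, hM, fun M' hM' => ?_⟩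
  haveI := hM
  haveI := hM'
  haveI := hM.isPrime
  haveI := hM'.isPrime
  exact eq_of_comap_eq A B C hX M' M (comap_includeLeft A B C M') (comap_includeRight A B C M')
    (comap_includeLeft A B C M) (comap_includeRight A B C M)

theorem isLocalHom_includeLeft [IsLocalRing (B ⊗[A] C)] :
    IsLocalHom (Algebra.TensorProduct.includeLeft : B →ₐ[A] B ⊗[A] C).toRingHom := by
  refine ⟨fun b hb => ?_⟩
  by_contra hnu
  have hb' : b ∈ maximalIdeal B := (mem_maximalIdeal b).mpr hnu
  rw [← comap_includeLeft A B C (maximalIdeal (B ⊗[A] C)), Ideal.mem_comap] at hb'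
  exact (mem_maximalIdeal _).mp hb' hb

theorem isLocalHom_includeRight [IsLocalRing (B ⊗[A] C)] :
    IsLocalHom (Algebra.TensorProduct.includeRight : C →ₐ[A] B ⊗[A] C).toRingHom := by
  refine ⟨fun c hc => ?_⟩
  by_contra hnu
  have hc' : c ∈ maximalIdeal C := (mem_maximalIdeal c).mpr hnu
  rw [← comap_includeRight A B C (maximalIdeal (B ⊗[A] C)), Ideal.mem_comap] at hc'
  exact (mem_maximalIdeal _).mp hc' hc

theorem subsingleton_of_right [IsPurelyInseparable (ResidueField A) (ResidueField C)] :
    Subsingleton (PrimeSpectrum (ResidueField B ⊗[ResidueField A] ResidueField C)) := by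
  have h := PrimeSpectrum.isHomeomorph_comap_of_isPurelyInseparable (ResidueField A) (ResidueField C)
    (ResidueField B)
  exact h.injective.subsingleton

theorem subsingleton_of_left [IsPurelyInseparable (ResidueField A) (ResidueField B)] :
    Subsingleton (PrimeSpectrum (ResidueField B ⊗[ResidueField A] ResidueField C)) := by
  have h := PrimeSpectrum.isHomeomorph_comap_of_isPurelyInseparable (ResidueField A) (ResidueField B)
    (ResidueField C)
  haveI : Subsingleton (PrimeSpectrum (ResidueField C ⊗[ResidueField A] ResidueField B)) :=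
    h.injective.subsingleton
  let e : ResidueField B ⊗[ResidueField A] ResidueField C ≃+*
      ResidueField C ⊗[ResidueField A] ResidueField B :=
    (Algebra.TensorProduct.comm (ResidueField A) (ResidueField B) (ResidueField C)).toRingEquiv
  exact (PrimeSpectrum.comapEquiv e).injective.subsingleton

theorem main (h : IsPurelyInseparable (ResidueField A) (ResidueField C) ∨
      IsPurelyInseparable (ResidueField A) (ResidueField B)) :
    IsLocalRing (B ⊗[A] C) ∧
      IsLocalHom (Algebra.TensorProduct.includeLeft : B →ₐ[A] B ⊗[A] C).toRingHom ∧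
      IsLocalHom (Algebra.TensorProduct.includeRight : C →ₐ[A] B ⊗[A] C).toRingHom := by
  have hX : Subsingleton (PrimeSpectrum (ResidueField B ⊗[ResidueField A] ResidueField C)) := by
    rcases h with h | h
    · exact subsingleton_of_right A B C
    · exact subsingleton_of_left A B C
  haveI := isLocalRing_tensor A B C hX
  exact ⟨this, isLocalHom_includeLeft A B C, isLocalHom_includeRight A B C⟩

end

end Groth.Agent.Lib.lead.PITensor
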