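import Mathlib
import Groth.Agent.Lib.lead.PITensor
import Groth.Agent.Lib.lead.HenselIntegral2

universe u
set_option maxHeartbeats 400000
set_option linter.style.haveILetI false

open IsLocalRing TensorProduct

namespace Groth.Agent.Lib.lead.PITensor

theorem isLocalHom_of_isIntegral (A A' : Type u) [CommRing A] [IsLocalRing A] [CommRing A']
    [IsLocalRing A'] [Algebra A A'] [Algebra.IsIntegral A A'] : IsLocalHom (algebraMap A A') := by
  refine ⟨fun a ha => ?_⟩
  by_contra hnu
  have ha' : a ∈ maximalIdeal A := (mem_maximalIdeal a).mpr hnu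
  have hmax : ((maximalIdeal A').comap (algebraMap A A')).IsMaximal :=
    Ideal.isMaximal_comap_of_isIntegral_of_isMaximal _
  rw [← IsLocalRing.eq_maximalIdeal hmax, Ideal.mem_comap] at ha'
  exact (mem_maximalIdeal _).mp ha' ha

theorem henselian_tensor {A B A' : Type u} [CommRing A] [CommRing B] [CommRing A']
    [IsLocalRing A] [HenselianLocalRing B] [Algebra A B] [IsLocalHom (algebraMap A B)]
    (hins : IsPurelyInseparable (ResidueField A) (ResidueField B))
    [Algebra A A'] [Algebra.IsIntegral A A'] [IsLocalRing A'] :
    HenselianLocalRing (B ⊗[A] A') := by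
  haveI := isLocalHom_of_isIntegral A A'
  haveI : IsLocalRing (B ⊗[A] A') := (main A B A' (Or.inr hins)).1
  exact Groth.Agent.Lib.lead.HenselLocal.henselian_of_integral_local B (B ⊗[A] A')

end Groth.Agent.Lib.lead.PITensor
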