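import Mathlib
import Groth.Agent.Lib.lead.HenselFinite
import Groth.Agent.Lib.lead.PITensor2
import Groth.Agent.Lib.lead.NormLocal

/-!
# Olivier's theorem, part 1: base change to algebraic field extensions of residue fields of primes
-/

universe u

set_option maxHeartbeats 400000
set_option linter.style.haveILetI false

open IsLocalRing TensorProduct

namespace Groth.Agent.Lib.lead.Olivier

/-- a domain finite over a henselian local ring is local -/
theorem isLocalRing_of_isDomain_of_finite {R : Type u} [CommRing R] [HenselianLocalRing R]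
    (S : Type u) [CommRing S] [IsDomain S] [Algebra R S] [Module.Finite R S] : IsLocalRing S := by
  obtain ⟨n, e, he, huniq⟩ := HenselLocal.finite_exists_idempotents (R := R) S
  have h01 : ∀ i, e i = 0 ∨ e i = 1 := fun i =>
    IsIdempotentElem.iff_eq_zero_or_one.mp (he.idem i)
  have hex : ∃ i, e i = 1 := by
    by_contra hne
    push_neg at hne
    have h0 : ∀ i, e i = 0 := fun i => (h01 i).resolve_right (hne i)
    have := he.complete
    simp only [h0, Finset.sum_const_zero] at this
    exact zero_ne_one this
  obtain ⟨i, hi⟩ := hex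
  obtain ⟨M, hM⟩ := Ideal.exists_maximal S
  refine IsLocalRing.of_unique_max_ideal ⟨M, hM, fun M' hM' => ?_⟩
  apply huniq i M' M hM' hM
  · rw [hi]; exact fun h => hM'.ne_top ((Ideal.eq_top_iff_one _).mpr h)
  · rw [hi]; exact fun h => hM.ne_top ((Ideal.eq_top_iff_one _).mpr h)

/-- a domain integral over a henselian local ring is local -/
theorem isLocalRing_of_isDomain_of_isIntegral {R : Type u} [CommRing R] [HenselianLocalRing R]
    (S : Type u) [CommRing S] [IsDomain S] [Algebra R S] [Algebra.IsIntegral R S] :
    IsLocalRing S := by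
  refine IsLocalRing.of_isUnit_or_isUnit_one_sub_self fun x => ?_
  haveI : Module.Finite R (Algebra.adjoin R {x}) :=
    Module.Finite.iff_fg.mpr (Algebra.IsIntegral.isIntegral x).fg_adjoin_singleton
  haveI := isLocalRing_of_isDomain_of_finite (R := R) (Algebra.adjoin R {x})
  let x' : Algebra.adjoin R {x} := ⟨x, Algebra.subset_adjoin rfl⟩
  rcases IsLocalRing.isUnit_or_isUnit_one_sub_self x' with h | h
  · left
    exact h.map (Algebra.adjoin R {x}).val
  · right
    exact h.map (Algebra.adjoin R {x}).val

section K

variable (A B : Type u) [CommRing A] [CommRing B] [HenselianLocalRing A]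
  [IsSepClosed (ResidueField A)] [IsLocalRing B] [Algebra A B] [IsLocalHom (algebraMap A B)]
  [Algebra.WeaklyEtale A B]

/-- residue fields of integral local extensions are algebraic -/
theorem isAlgebraic_residueField (C : Type u) [CommRing C] [IsLocalRing C] [Algebra A C]
    [IsLocalHom (algebraMap A C)] [Algebra.IsIntegral A C] :
    Algebra.IsAlgebraic (ResidueField A) (ResidueField C) := by
  refine ⟨fun r => ?_⟩
  obtain ⟨c, rfl⟩ := residue_surjective r
  have h1 : IsIntegral A (IsScalarTower.toAlgHom A C (ResidueField C) c) :=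
    (Algebra.IsIntegral.isIntegral c).map _
  have h2 : IsIntegral (ResidueField A) (residue C c) := h1.tower_top
  exact h2.isAlgebraic

theorem isDomain_tensor (A₀ : Type u) [CommRing A₀] [IsDomain A₀] [Algebra A A₀]
    (hsurj : Function.Surjective (algebraMap A A₀))
    (L : Type u) [Field L] [Algebra A₀ L] [Algebra A L] [IsScalarTower A A₀ L]
    [FaithfulSMul A₀ L] [Algebra.IsAlgebraic A₀ L] : IsDomain (L ⊗[A] B) := by
  -- the integral closure
  let C := integralClosure A₀ L
  haveI : IsFractionRing C L := IsIntegralClosure.isFractionRing_of_algebraic A₀ C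
    (fun x hx => FaithfulSMul.algebraMap_injective A₀ L (hx.trans (map_zero _).symm))
  haveI : IsIntegrallyClosed C :=
    (IsIntegrallyClosed.integralClosure_eq_bot_iff L).mp integralClosure_idem
  haveI : Algebra.IsIntegral A A₀ :=
    Algebra.IsIntegral.of_surjective (Algebra.ofId A A₀) hsurj
  haveI : Algebra.IsIntegral A C := Algebra.IsIntegral.trans A₀
  haveI : IsLocalRing C := isLocalRing_of_isDomain_of_isIntegral (R := A) C
  haveI : IsLocalHom (algebraMap A C) := PITensor.isLocalHom_of_isIntegral A C
  haveI : Algebra.IsAlgebraic (ResidueField A) (ResidueField C) := isAlgebraic_residueField A C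
  have hpi : IsPurelyInseparable (ResidueField A) (ResidueField C) := inferInstance
  haveI : IsLocalRing (B ⊗[A] C) := (PITensor.main A B C (Or.inl hpi)).1
  haveI : IsLocalRing (C ⊗[A] B) :=
    (Algebra.TensorProduct.comm A B C).toRingEquiv.isLocalRing
  haveI : IsDomain (C ⊗[A] B) := (NormWE.normal_of_weaklyEtale_local C (C ⊗[A] B)).1
  -- localization
  haveI : Module.FaithfullyFlat A B := Module.FaithfullyFlat.of_flat_of_isLocalHom
  have hinj : Function.Injective (algebraMap C (C ⊗[A] B)) :=
    FaithfulSMul.algebraMap_injective C (C ⊗[A] B)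
  haveI : IsDomain (L ⊗[C] (C ⊗[A] B)) := by
    letI : Algebra (C ⊗[A] B) (L ⊗[C] (C ⊗[A] B)) := Algebra.TensorProduct.rightAlgebra
    haveI : IsLocalization (Algebra.algebraMapSubmonoid (C ⊗[A] B) (nonZeroDivisors C))
        (L ⊗[C] (C ⊗[A] B)) := IsLocalization.tensorRight L (nonZeroDivisors C)
    apply IsLocalization.isDomain_of_le_nonZeroDivisors (L ⊗[C] (C ⊗[A] B))
      (M := Algebra.algebraMapSubmonoid (C ⊗[A] B) (nonZeroDivisors C))
    rintro _ ⟨c, hc, rfl⟩
    apply mem_nonZeroDivisors_of_ne_zero
    intro h0
    exact (nonZeroDivisors.ne_zero hc) (hinj (h0.trans (map_zero _).symm))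
  exact MulEquiv.isDomain (L ⊗[C] (C ⊗[A] B))
    (Algebra.TensorProduct.cancelBaseChange A C C L B).symm.toRingEquiv.toMulEquiv

end K

end Groth.Agent.Lib.lead.Olivier
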