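import Mathlib
import Groth.Agent.Lib.lead.Olivier1
import Groth.Agent.Lib.lead.WEMax2

/-!
# Olivier's theorem, part 2: the fibres are trivial
-/

universe u

set_option maxHeartbeats 400000
set_option linter.style.haveILetI false

open IsLocalRing TensorProduct Polynomial

namespace Groth.Agent.Lib.lead.Olivier

/-- elements of weakly étale algebras over a field are algebraic -/
theorem isAlgebraic_of_weaklyEtale (K : Type u) [Field K] (F : Type u) [CommRing F] [Algebra K F]
    [Algebra.WeaklyEtale K F] : Algebra.IsAlgebraic K F := by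
  refine ⟨fun x => ?_⟩
  haveI : Algebra.WeaklyEtale K (Algebra.adjoin K {x}) :=
    WEMax.weaklyEtale_of_injective K (Algebra.adjoin K {x}).val Subtype.val_injective
  let x' : Algebra.adjoin K {x} := ⟨x, Algebra.subset_adjoin rfl⟩
  obtain ⟨z, hz⟩ := WEMax.exists_eq_mul_mul K (Algebra.adjoin K {x}) x'
  have hzmem : (z : F) ∈ (Polynomial.aeval x : K[X] →ₐ[K] F).range := by
    rw [← Algebra.adjoin_singleton_eq_range_aeval]
    exact z.2
  obtain ⟨g, hg⟩ := hzmem
  refine ⟨X - X ^ 2 * g, ?_, ?_⟩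
  · intro h0
    have h1 := congrArg (fun p => p.coeff 1) h0
    simp only [coeff_sub, coeff_X_one, coeff_zero] at h1
    rw [coeff_X_pow_mul', if_neg (by norm_num), sub_zero] at h1
    exact one_ne_zero h1
  · have h2 : (x : F) = x * x * (z : F) := congrArg Subtype.val hz
    have hg' : (aeval x) g = (z : F) := hg
    rw [map_sub, map_mul, map_pow, aeval_X, hg', pow_two]
    exact sub_eq_zero.mpr h2

/-- faithfully flat descent for elements -/
theorem mem_range_of_tmul_eq {R S : Type u} [CommRing R] [CommRing S] [Algebra R S]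
    [Module.FaithfullyFlat R S] (s : S) (h : s ⊗ₜ[R] (1 : S) = 1 ⊗ₜ[R] s) :
    ∃ r, algebraMap R S r = s := by
  have := (Algebra.IsEffective.of_faithfullyFlat R S s).mp (by
    rw [Algebra.TensorProduct.includeLeftSubRight_apply, h, sub_self])
  exact this

/-- a weakly étale domain over a field `κ` whose base change to its fraction field is a domain
is trivial -/
theorem eq_algebraMap_of_isDomain_tensor (κ F L : Type u) [Field κ] [CommRing F] [IsDomain F]
    [Field L] [Algebra κ F] [Algebra F L] [Algebra κ L] [IsScalarTower κ F L]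
    [Algebra.WeaklyEtale κ F] (hinj : Function.Injective (algebraMap F L))
    [IsDomain (L ⊗[κ] F)] (x : F) : ∃ l : κ, algebraMap κ F l = x := by
  haveI : Module.FaithfullyFlat κ F := inferInstance
  apply mem_range_of_tmul_eq
  -- the element of `L ⊗ F`
  obtain ⟨z, hz⟩ := WEMax.exists_eq_mul_mul L (L ⊗[κ] F)
    ((algebraMap F L x) ⊗ₜ[κ] (1 : F) - (1 : L) ⊗ₜ[κ] x)
  have hm : Algebra.TensorProduct.productMap (AlgHom.id κ L) (IsScalarTower.toAlgHom κ F L)
      ((algebraMap F L x) ⊗ₜ[κ] (1 : F) - (1 : L) ⊗ₜ[κ] x) = 0 := by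
    rw [map_sub, Algebra.TensorProduct.productMap_apply_tmul,
      Algebra.TensorProduct.productMap_apply_tmul]
    simp
  have hc : (algebraMap F L x) ⊗ₜ[κ] (1 : F) - (1 : L) ⊗ₜ[κ] x = 0 := by
    by_contra hne
    have h1 : ((algebraMap F L x) ⊗ₜ[κ] (1 : F) - (1 : L) ⊗ₜ[κ] x) * z = 1 := by
      have h2 : ((algebraMap F L x) ⊗ₜ[κ] (1 : F) - (1 : L) ⊗ₜ[κ] x) *
          (((algebraMap F L x) ⊗ₜ[κ] (1 : F) - (1 : L) ⊗ₜ[κ] x) * z) =
          ((algebraMap F L x) ⊗ₜ[κ] (1 : F) - (1 : L) ⊗ₜ[κ] x) * 1 := by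
        rw [mul_one, ← mul_assoc]; exact hz.symm
      exact mul_left_cancel₀ hne h2
    have h3 := congrArg
      (Algebra.TensorProduct.productMap (AlgHom.id κ L) (IsScalarTower.toAlgHom κ F L)) h1
    rw [map_mul, hm, zero_mul, map_one] at h3
    exact zero_ne_one h3
  -- pull back
  have hinj2 : Function.Injective
      (LinearMap.rTensor F ((IsScalarTower.toAlgHom κ F L).toLinearMap)) :=
    Module.Flat.rTensor_preserves_injective_linearMap _ hinj
  apply hinj2
  rw [LinearMap.rTensor_tmul, LinearMap.rTensor_tmul]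
  simp only [AlgHom.toLinearMap_apply, IsScalarTower.coe_toAlgHom', map_one]
  exact sub_eq_zero.mp hc


section F

variable (A B : Type u) [CommRing A] [CommRing B] [HenselianLocalRing A]
  [IsSepClosed (ResidueField A)] [IsLocalRing B] [Algebra A B] [IsLocalHom (algebraMap A B)]
  [Algebra.WeaklyEtale A B]
  (A₀ : Type u) [CommRing A₀] [IsDomain A₀] [Algebra A A₀]
  (hsurj : Function.Surjective (algebraMap A A₀))

include hsurj in
theorem fibre_surjective (x : FractionRing A₀ ⊗[A] B) :
    ∃ l : FractionRing A₀, l ⊗ₜ[A] (1 : B) = x := by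
  -- notation
  haveI : Algebra.IsAlgebraic A₀ (FractionRing A₀) :=
    (IsFractionRing.comap_isAlgebraic_iff (A := A₀) (K := FractionRing A₀)
      (C := FractionRing A₀)).mpr inferInstance
  haveI hdom : IsDomain (FractionRing A₀ ⊗[A] B) :=
    isDomain_tensor A B A₀ hsurj (FractionRing A₀)
  haveI halg : Algebra.IsAlgebraic (FractionRing A₀) (FractionRing A₀ ⊗[A] B) :=
    isAlgebraic_of_weaklyEtale _ _
  -- the fraction field of the fibre
  have hinjκF : Function.Injective (algebraMap (FractionRing A₀) (FractionRing A₀ ⊗[A] B)) :=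
    (algebraMap (FractionRing A₀) (FractionRing A₀ ⊗[A] B)).injective
  haveI : FaithfulSMul A₀ (FractionRing (FractionRing A₀ ⊗[A] B)) := by
    rw [faithfulSMul_iff_algebraMap_injective]
    rw [IsScalarTower.algebraMap_eq A₀ (FractionRing A₀ ⊗[A] B)
      (FractionRing (FractionRing A₀ ⊗[A] B)),
      IsScalarTower.algebraMap_eq A₀ (FractionRing A₀) (FractionRing A₀ ⊗[A] B)]
    exact (IsFractionRing.injective (FractionRing A₀ ⊗[A] B) _).comp
      (hinjκF.comp (IsFractionRing.injective A₀ (FractionRing A₀)))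
  haveI : Algebra.IsAlgebraic (FractionRing A₀ ⊗[A] B)
      (FractionRing (FractionRing A₀ ⊗[A] B)) :=
    (IsFractionRing.comap_isAlgebraic_iff (A := FractionRing A₀ ⊗[A] B)
      (K := FractionRing (FractionRing A₀ ⊗[A] B))
      (C := FractionRing (FractionRing A₀ ⊗[A] B))).mpr inferInstance
  haveI : Algebra.IsAlgebraic (FractionRing A₀) (FractionRing (FractionRing A₀ ⊗[A] B)) :=
    Algebra.IsAlgebraic.trans (FractionRing A₀) (FractionRing A₀ ⊗[A] B) _
  haveI : Algebra.IsAlgebraic A₀ (FractionRing (FractionRing A₀ ⊗[A] B)) :=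
    (IsFractionRing.comap_isAlgebraic_iff (A := A₀) (K := FractionRing A₀)
      (C := FractionRing (FractionRing A₀ ⊗[A] B))).mpr inferInstance
  haveI hE : IsDomain (FractionRing (FractionRing A₀ ⊗[A] B) ⊗[FractionRing A₀]
      (FractionRing A₀ ⊗[A] B)) := by
    haveI := isDomain_tensor A B A₀ hsurj (FractionRing (FractionRing A₀ ⊗[A] B))
    exact MulEquiv.isDomain (FractionRing (FractionRing A₀ ⊗[A] B) ⊗[A] B)
      (Algebra.TensorProduct.cancelBaseChange A (FractionRing A₀) (FractionRing A₀)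
        (FractionRing (FractionRing A₀ ⊗[A] B)) B).toRingEquiv.toMulEquiv
  obtain ⟨l, hl⟩ := eq_algebraMap_of_isDomain_tensor (FractionRing A₀) (FractionRing A₀ ⊗[A] B)
    (FractionRing (FractionRing A₀ ⊗[A] B))
    (IsFractionRing.injective (FractionRing A₀ ⊗[A] B) _) x
  refine ⟨l, ?_⟩
  rw [← hl, Algebra.TensorProduct.algebraMap_apply]
  rfl

end F

end Groth.Agent.Lib.lead.Olivier
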