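import Mathlib
import Groth.Agent.Lib.lead.Olivier2
import Groth.Agent.Lib.lead.SH16

/-!
# Olivier's theorem, part 3: the endgame
-/

universe u

set_option maxHeartbeats 400000
set_option linter.style.haveILetI false

open IsLocalRing TensorProduct Polynomial

namespace Groth.Agent.Lib.lead.Olivier

section G

variable (A B : Type u) [CommRing A] [CommRing B] [HenselianLocalRing A]
  [IsSepClosed (ResidueField A)] [IsLocalRing B] [Algebra A B] [IsLocalHom (algebraMap A B)]
  [Algebra.WeaklyEtale A B]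

/-- the diagonal differences lie in every prime of `B ⊗ B` -/
theorem sub_mem_prime (P : Ideal (B ⊗[A] B)) [hP : P.IsPrime] (b : B) :
    b ⊗ₜ[A] (1 : B) - (1 : B) ⊗ₜ[A] b ∈ P := by
  -- the prime of `A`
  haveI hp : (P.comap (algebraMap A (B ⊗[A] B))).IsPrime := Ideal.comap_isPrime _ _
  obtain ⟨l, hl⟩ := fibre_surjective A B (A ⧸ P.comap (algebraMap A (B ⊗[A] B)))
    Ideal.Quotient.mk_surjective ((1 : FractionRing (A ⧸ P.comap (algebraMap A (B ⊗[A] B)))) ⊗ₜ[A] b)
  -- the residue field at `P`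
  have hker : ∀ a ∈ P.comap (algebraMap A (B ⊗[A] B)),
      algebraMap A (FractionRing ((B ⊗[A] B) ⧸ P)) a = 0 := by
    intro a ha
    rw [IsScalarTower.algebraMap_apply A (B ⊗[A] B) (FractionRing ((B ⊗[A] B) ⧸ P)),
      IsScalarTower.algebraMap_apply (B ⊗[A] B) ((B ⊗[A] B) ⧸ P)
        (FractionRing ((B ⊗[A] B) ⧸ P))]
    rw [Ideal.Quotient.algebraMap_eq, Ideal.Quotient.eq_zero_iff_mem.mpr (Ideal.mem_comap.mp ha),
      map_zero]
  have hg : Function.Injective (Ideal.Quotient.lift (P.comap (algebraMap A (B ⊗[A] B)))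
      (algebraMap A (FractionRing ((B ⊗[A] B) ⧸ P))) hker) := by
    rw [injective_iff_map_eq_zero]
    intro x hx
    obtain ⟨a, rfl⟩ := Ideal.Quotient.mk_surjective x
    rw [Ideal.Quotient.lift_mk] at hx
    rw [IsScalarTower.algebraMap_apply A (B ⊗[A] B) (FractionRing ((B ⊗[A] B) ⧸ P)),
      IsScalarTower.algebraMap_apply (B ⊗[A] B) ((B ⊗[A] B) ⧸ P)
        (FractionRing ((B ⊗[A] B) ⧸ P))] at hx
    have h1 := (IsFractionRing.injective ((B ⊗[A] B) ⧸ P) (FractionRing ((B ⊗[A] B) ⧸ P)))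
      (hx.trans (map_zero _).symm)
    rw [Ideal.Quotient.algebraMap_eq, Ideal.Quotient.eq_zero_iff_mem] at h1
    exact Ideal.Quotient.eq_zero_iff_mem.mpr (Ideal.mem_comap.mpr h1)
  let φ : FractionRing (A ⧸ P.comap (algebraMap A (B ⊗[A] B))) →ₐ[A]
      FractionRing ((B ⊗[A] B) ⧸ P) :=
    { IsFractionRing.lift hg with
      commutes' := by
        intro a
        change IsFractionRing.lift hg (algebraMap A _ a) = _
        rw [IsScalarTower.algebraMap_apply A (A ⧸ P.comap (algebraMap A (B ⊗[A] B)))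
          (FractionRing (A ⧸ P.comap (algebraMap A (B ⊗[A] B)))), IsFractionRing.lift_algebraMap,
          Ideal.Quotient.algebraMap_eq, Ideal.Quotient.lift_mk] }
  have key : ∀ j : B →ₐ[A] FractionRing ((B ⊗[A] B) ⧸ P), j b = φ l := by
    intro j
    have h2 := congrArg (Algebra.TensorProduct.productMap φ j) hl
    rw [Algebra.TensorProduct.productMap_apply_tmul,
      Algebra.TensorProduct.productMap_apply_tmul, map_one, map_one, mul_one, one_mul] at h2
    exact h2.symm
  have h3 := (key ((IsScalarTower.toAlgHom A (B ⊗[A] B) (FractionRing ((B ⊗[A] B) ⧸ P))).comp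
    Algebra.TensorProduct.includeLeft)).trans
    (key ((IsScalarTower.toAlgHom A (B ⊗[A] B) (FractionRing ((B ⊗[A] B) ⧸ P))).comp
    Algebra.TensorProduct.includeRight)).symm
  simp only [AlgHom.comp_apply, Algebra.TensorProduct.includeLeft_apply,
    Algebra.TensorProduct.includeRight_apply, IsScalarTower.coe_toAlgHom'] at h3
  rw [IsScalarTower.algebraMap_apply (B ⊗[A] B) ((B ⊗[A] B) ⧸ P)
      (FractionRing ((B ⊗[A] B) ⧸ P)),
    IsScalarTower.algebraMap_apply (B ⊗[A] B) ((B ⊗[A] B) ⧸ P)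
      (FractionRing ((B ⊗[A] B) ⧸ P))] at h3
  have h4 := (IsFractionRing.injective ((B ⊗[A] B) ⧸ P) (FractionRing ((B ⊗[A] B) ⧸ P))) h3
  rw [Ideal.Quotient.algebraMap_eq, Ideal.Quotient.eq] at h4
  exact h4

theorem lmul'_injective :
    Function.Injective (Algebra.TensorProduct.lmul' A (S := B)) := by
  rw [injective_iff_map_eq_zero]
  intro c hc
  have hp : (RingHom.ker (Algebra.TensorProduct.lmul' A (S := B)).toRingHom).Pure :=
    (SH.flat_iff_pure_ker _ (fun a => ⟨a ⊗ₜ 1, by simp⟩)).mp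
      (Algebra.WeaklyEtale.flat_lmul' A B)
  obtain ⟨y, hy, e⟩ := Ideal.exists_eq_mul_of_pure (I := RingHom.ker
    (Algebra.TensorProduct.lmul' A (S := B)).toRingHom) (x := c) (RingHom.mem_ker.mpr hc)
  -- `y` is nilpotent
  have hle : RingHom.ker (Algebra.TensorProduct.lmul' A (S := B)).toRingHom ≤
      nilradical (B ⊗[A] B) := by
    have h1 : RingHom.ker (Algebra.TensorProduct.lmul' A (S := B)).toRingHom =
        KaehlerDifferential.ideal A B := rfl
    rw [h1, ← KaehlerDifferential.span_range_eq_ideal, Ideal.span_le, nilradical_eq_sInf]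
    rintro _ ⟨b, rfl⟩
    rw [SetLike.mem_coe, Ideal.mem_sInf]
    intro P hP
    haveI : P.IsPrime := hP
    have := sub_mem_prime A B P b
    show (1 : B) ⊗ₜ[A] b - b ⊗ₜ[A] (1 : B) ∈ P
    rw [← neg_sub]
    exact P.neg_mem this
  have hnil : IsNilpotent y := hle hy
  have hu : IsUnit (1 - y) := hnil.isUnit_one_sub
  have h0 : (1 - y) * c = 0 := by
    rw [sub_mul, one_mul, mul_comm y c, ← e, sub_self]
  exact (hu.mul_right_eq_zero).mp h0

end G

theorem main {A B : Type u} [CommRing A] [CommRing B] [HenselianLocalRing A] [IsLocalRing B]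
    [IsSepClosed (IsLocalRing.ResidueField A)] [Algebra A B] [IsLocalHom (algebraMap A B)]
    [Algebra.WeaklyEtale A B] : Function.Bijective (algebraMap A B) := by
  haveI : Module.FaithfullyFlat A B := Module.FaithfullyFlat.of_flat_of_isLocalHom
  refine ⟨FaithfulSMul.algebraMap_injective A B, fun b => ?_⟩
  apply mem_range_of_tmul_eq
  apply lmul'_injective A B
  simp

end Groth.Agent.Lib.lead.Olivier
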