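import Mathlib
import Groth.Agent.Lib.lead.SH9
import Groth.Agent.Lib.lead.HenselIntegral2

/-!
# Henselization commutes with integral local base change
-/

universe u

set_option maxHeartbeats 400000
set_option linter.unusedSectionVars false
set_option linter.style.haveILetI false

open IsLocalRing TensorProduct

namespace Groth.Agent.Lib.lead.SH

section

variable (A B S : Type u) [CommRing A] [IsLocalRing A]
    [CommRing B] [IsLocalRing B] [Algebra A B] [IsLocalHom (algebraMap A B)] [Algebra.IsIntegral A B]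
    [CommRing S] [IsLocalRing S] [Algebra A S] [IsLocalHom (algebraMap A S)]
    [Hensel.IsHenselization A S]

/-- the point of a henselization -/
theorem exists_point : ∃ ρ : S →ₐ[A] ResidueField A, ∀ s, ρ s = 0 ↔ s ∈ maximalIdeal S := by
  obtain ⟨e⟩ := hens_unique (R := A) S
  refine ⟨(ptS (R := A) (Ω := ResidueField A)).comp e.symm.toAlgHom, fun s => ?_⟩
  change ptS (e.symm s) = 0 ↔ _
  rw [ptS_eq_zero_iff]
  constructor
  · intro h hu
    exact h ((hu.map e.symm.toAlgHom))
  · intro h hu
    apply h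
    have := hu.map e.toAlgHom
    simpa using this

theorem includeRight_isIntegral :
    (Algebra.TensorProduct.includeRight : S →ₐ[A] B ⊗[A] S).toRingHom.IsIntegral := by
  intro t
  induction t using TensorProduct.induction_on with
  | zero => exact RingHom.isIntegralElem_zero _
  | tmul b s =>
    have h1 : (b ⊗ₜ[A] s : B ⊗[A] S) = (b ⊗ₜ 1) * (1 ⊗ₜ s) := by simp
    rw [h1]
    apply RingHom.IsIntegralElem.mul
    · have hb : IsIntegral A b := Algebra.IsIntegral.isIntegral b
      obtain ⟨p, hp, hpb⟩ := hb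
      refine ⟨p.map (algebraMap A S), hp.map _, ?_⟩
      rw [Polynomial.eval₂_map]
      have : (Algebra.TensorProduct.includeRight : S →ₐ[A] B ⊗[A] S).toRingHom.comp
          (algebraMap A S) = (Algebra.TensorProduct.includeLeft : B →ₐ[A] B ⊗[A] S).toRingHom.comp
          (algebraMap A B) := by
        ext a
        change (1 : B) ⊗ₜ[A] (algebraMap A S a) = (algebraMap A B a) ⊗ₜ[A] (1 : S)
        rw [Algebra.algebraMap_eq_smul_one, Algebra.algebraMap_eq_smul_one, TensorProduct.smul_tmul]
      rw [this]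
      have h2 : Polynomial.eval₂ ((Algebra.TensorProduct.includeLeft :
          B →ₐ[A] B ⊗[A] S).toRingHom.comp (algebraMap A B)) (b ⊗ₜ[A] (1 : S)) p =
          (Algebra.TensorProduct.includeLeft : B →ₐ[A] B ⊗[A] S).toRingHom
            (Polynomial.eval₂ (algebraMap A B) b p) :=
        (Polynomial.hom_eval₂ p (algebraMap A B)
          (Algebra.TensorProduct.includeLeft : B →ₐ[A] B ⊗[A] S).toRingHom b).symm
      rw [h2, hpb, map_zero]
    · exact RingHom.isIntegralElem_map _
  | add x y hx hy => exact RingHom.IsIntegralElem.add _ hx hy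


/-- residue surjectivity for a henselization -/
theorem exists_sub_mem_maximalIdeal (s : S) :
    ∃ a : A, s - algebraMap A S a ∈ maximalIdeal S := by
  obtain ⟨ρ, hρ⟩ := exists_point A S
  obtain ⟨a, ha⟩ := IsLocalRing.residue_surjective (ρ s)
  refine ⟨a, ?_⟩
  rw [← hρ, map_sub, AlgHom.commutes, ← ha]
  exact sub_self _

theorem tensor_congr (t : B ⊗[A] S) : ∃ b : B, t - b ⊗ₜ[A] (1 : S) ∈
    Ideal.map (Algebra.TensorProduct.includeRight : S →ₐ[A] B ⊗[A] S) (maximalIdeal S) := by
  induction t using TensorProduct.induction_on with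
  | zero => exact ⟨0, by simp⟩
  | tmul b s =>
    obtain ⟨a, ha⟩ := exists_sub_mem_maximalIdeal A S s
    refine ⟨a • b, ?_⟩
    have : b ⊗ₜ[A] s - (a • b) ⊗ₜ[A] (1 : S) =
        (b ⊗ₜ[A] (1 : S)) * ((1 : B) ⊗ₜ[A] (s - algebraMap A S a)) := by
      rw [Algebra.TensorProduct.tmul_mul_tmul, mul_one, one_mul, TensorProduct.tmul_sub,
        TensorProduct.smul_tmul, Algebra.algebraMap_eq_smul_one]
    rw [this]
    exact Ideal.mul_mem_left _ _ (Ideal.mem_map_of_mem _ ha)
  | add x y hx hy =>
    obtain ⟨b, hb⟩ := hx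
    obtain ⟨c, hc⟩ := hy
    refine ⟨b + c, ?_⟩
    have : x + y - (b + c) ⊗ₜ[A] (1 : S) = (x - b ⊗ₜ[A] (1 : S)) + (y - c ⊗ₜ[A] (1 : S)) := by
      rw [TensorProduct.add_tmul]; ring
    rw [this]; exact Ideal.add_mem _ hb hc

theorem exists_pi : ∃ π : B ⊗[A] S →ₐ[A] ResidueField B,
    (∀ b : B, π (b ⊗ₜ[A] (1 : S)) = residue B b) ∧
    (∀ s : S, s ∈ maximalIdeal S → π ((1 : B) ⊗ₜ[A] s) = 0) := by
  obtain ⟨ρ, hρ⟩ := exists_point A S
  let κ : ResidueField A →ₐ[A] ResidueField B := IsScalarTower.toAlgHom A _ _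
  refine ⟨Algebra.TensorProduct.productMap (IsScalarTower.toAlgHom A B (ResidueField B))
    (κ.comp ρ), ?_, ?_⟩
  · intro b
    rw [Algebra.TensorProduct.productMap_apply_tmul, map_one, mul_one]
    rfl
  · intro s hs
    rw [Algebra.TensorProduct.productMap_apply_tmul, map_one, one_mul]
    change κ (ρ s) = 0
    rw [(hρ s).mpr hs, map_zero]

theorem maximal_eq_ker (π : B ⊗[A] S →ₐ[A] ResidueField B)
    (hπ1 : ∀ b : B, π (b ⊗ₜ[A] (1 : S)) = residue B b)
    (hπ2 : ∀ s : S, s ∈ maximalIdeal S → π ((1 : B) ⊗ₜ[A] s) = 0)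
    (n : Ideal (B ⊗[A] S)) [hn : n.IsMaximal] : n = RingHom.ker π.toRingHom := by
  have hS : n.comap (Algebra.TensorProduct.includeRight : S →ₐ[A] B ⊗[A] S).toRingHom =
      maximalIdeal S :=
    IsLocalRing.eq_maximalIdeal (Ideal.isMaximal_comap_of_isIntegral_of_isMaximal' _
      (includeRight_isIntegral A B S) n)
  have hA : (n.comap (Algebra.TensorProduct.includeLeft : B →ₐ[A] B ⊗[A] S).toRingHom).comap
      (algebraMap A B) = maximalIdeal A := by
    have h1 : (n.comap (Algebra.TensorProduct.includeLeft : B →ₐ[A] B ⊗[A] S).toRingHom).comap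
      (algebraMap A B) = (n.comap (Algebra.TensorProduct.includeRight :
        S →ₐ[A] B ⊗[A] S).toRingHom).comap (algebraMap A S) := by
      rw [Ideal.comap_comap, Ideal.comap_comap]
      congr 1
      ext a
      change (algebraMap A B a) ⊗ₜ[A] (1 : S) = (1 : B) ⊗ₜ[A] (algebraMap A S a)
      rw [Algebra.algebraMap_eq_smul_one, Algebra.algebraMap_eq_smul_one, TensorProduct.smul_tmul]
    rw [h1, hS]
    exact ((IsLocalRing.local_hom_TFAE (algebraMap A S)).out 0 4 rfl rfl).mp inferInstance
  haveI : (n.comap (Algebra.TensorProduct.includeLeft : B →ₐ[A] B ⊗[A] S).toRingHom).IsPrime :=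
    Ideal.comap_isPrime _ _
  have hB : n.comap (Algebra.TensorProduct.includeLeft : B →ₐ[A] B ⊗[A] S).toRingHom =
      maximalIdeal B := by
    apply IsLocalRing.eq_maximalIdeal
    apply Ideal.isMaximal_of_isIntegral_of_isMaximal_comap (R := A)
    rw [hA]
    exact IsLocalRing.maximalIdeal.isMaximal A
  have hker : (RingHom.ker π.toRingHom).IsMaximal :=
    RingHom.ker_isMaximal_of_surjective _ (fun x => by
      obtain ⟨b, rfl⟩ := IsLocalRing.residue_surjective x
      exact ⟨b ⊗ₜ[A] (1 : S), hπ1 b⟩)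
  have hle : RingHom.ker π.toRingHom ≤ n := by
    intro t ht
    obtain ⟨b, hb⟩ := tensor_congr A B S t
    have hmapn : Ideal.map (Algebra.TensorProduct.includeRight : S →ₐ[A] B ⊗[A] S)
        (maximalIdeal S) ≤ n := by
      rw [Ideal.map_le_iff_le_comap, ← hS]
      exact le_rfl
    have hmapk : Ideal.map (Algebra.TensorProduct.includeRight : S →ₐ[A] B ⊗[A] S)
        (maximalIdeal S) ≤ RingHom.ker π.toRingHom := by
      rw [Ideal.map_le_iff_le_comap]
      intro s hs
      exact hπ2 s hs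
    have h1 : b ⊗ₜ[A] (1 : S) ∈ RingHom.ker π.toRingHom := by
      have := Ideal.sub_mem _ ht (hmapk hb)
      simpa using this
    have h2 : b ∈ maximalIdeal B := by
      have : π (b ⊗ₜ[A] (1 : S)) = 0 := h1
      rw [hπ1] at this
      exact (IsLocalRing.residue_eq_zero_iff b).mp this
    have h3 : b ⊗ₜ[A] (1 : S) ∈ n := by
      rw [← hB] at h2
      exact h2
    have := Ideal.add_mem _ (hmapn hb) h3
    simpa using this
  exact (hker.eq_of_le hn.ne_top hle).symm


theorem isHenselization_tensor :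
    ∃ (_ : IsLocalRing (B ⊗[A] S)) (_ : IsLocalHom (algebraMap B (B ⊗[A] S))),
      Hensel.IsHenselization B (B ⊗[A] S) := by
  obtain ⟨π, hπ1, hπ2⟩ := exists_pi A B S
  have hker : (RingHom.ker π.toRingHom).IsMaximal :=
    RingHom.ker_isMaximal_of_surjective _ (fun x => by
      obtain ⟨b, rfl⟩ := IsLocalRing.residue_surjective x
      exact ⟨b ⊗ₜ[A] (1 : S), hπ1 b⟩)
  have hloc : IsLocalRing (B ⊗[A] S) :=
    IsLocalRing.of_unique_max_ideal ⟨RingHom.ker π.toRingHom, hker, fun n hn => by
      haveI := hn; exact maximal_eq_ker A B S π hπ1 hπ2 n⟩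
  have halg : ∀ b : B, algebraMap B (B ⊗[A] S) b = b ⊗ₜ[A] (1 : S) := fun b => by
    rw [Algebra.TensorProduct.algebraMap_apply]; rfl
  have hlh : IsLocalHom (algebraMap B (B ⊗[A] S)) := by
    constructor
    intro b hb
    rw [halg] at hb
    have h2 : IsUnit (π (b ⊗ₜ[A] (1 : S))) := hb.map π
    rw [hπ1] at h2
    by_contra hnu
    have : residue B b = 0 := (IsLocalRing.residue_eq_zero_iff b).mpr hnu
    rw [this] at h2
    exact not_isUnit_zero h2
  refine ⟨hloc, hlh, ?_⟩
  letI : Algebra S (B ⊗[A] S) :=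
    (Algebra.TensorProduct.includeRight : S →ₐ[A] B ⊗[A] S).toRingHom.toAlgebra
  haveI : Algebra.IsIntegral S (B ⊗[A] S) := ⟨includeRight_isIntegral A B S⟩
  haveI hSh : HenselianLocalRing S := Hensel.IsHenselization.henselian (R := A)
  have hT : HenselianLocalRing (B ⊗[A] S) :=
    HenselLocal.henselian_of_integral_local S (B ⊗[A] S)
  refine { henselian := hT, universal := ?_ }
  intro D _ _ f hf
  have hfA : IsLocalHom (f.comp (algebraMap A B)) := by
    haveI := hf; exact RingHom.isLocalHom_comp _ _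
  obtain ⟨g₀, hg₀, hg₀u⟩ := Hensel.IsHenselization.universal (R := A) (S := S) D
    (f.comp (algebraMap A B)) hfA
  letI : Algebra A D := (f.comp (algebraMap A B)).toAlgebra
  let fa : B →ₐ[A] D := { f with commutes' := fun a => rfl }
  let ga : S →ₐ[A] D := { g₀ with commutes' := fun a => RingHom.congr_fun hg₀ a }
  let G : B ⊗[A] S →ₐ[A] D := Algebra.TensorProduct.productMap fa ga
  have hG1 : ∀ b : B, G (b ⊗ₜ[A] (1 : S)) = f b := fun b => by
    change Algebra.TensorProduct.productMap fa ga _ = _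
    rw [Algebra.TensorProduct.productMap_apply_tmul, map_one, mul_one]
    rfl
  have hG2 : ∀ s : S, G ((1 : B) ⊗ₜ[A] s) = g₀ s := fun s => by
    change Algebra.TensorProduct.productMap fa ga _ = _
    rw [Algebra.TensorProduct.productMap_apply_tmul, map_one, one_mul]
    rfl
  refine ⟨G.toRingHom, ?_, ?_⟩
  · ext b
    change G (algebraMap B (B ⊗[A] S) b) = f b
    rw [halg, hG1]
  · intro G' hG'
    have hG'1 : ∀ b : B, G' (b ⊗ₜ[A] (1 : S)) = f b := fun b => by
      rw [← halg]; exact RingHom.congr_fun hG' b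
    have hr : G'.comp (Algebra.TensorProduct.includeRight : S →ₐ[A] B ⊗[A] S).toRingHom = g₀ :=
      hg₀u _ (by
        ext a
        change G' ((1 : B) ⊗ₜ[A] (algebraMap A S a)) = f (algebraMap A B a)
        rw [← hG'1]
        congr 1
        rw [Algebra.algebraMap_eq_smul_one, Algebra.algebraMap_eq_smul_one,
          TensorProduct.smul_tmul])
    have hG'2 : ∀ s : S, G' ((1 : B) ⊗ₜ[A] s) = g₀ s := fun s => RingHom.congr_fun hr s
    apply RingHom.ext
    intro t
    induction t using TensorProduct.induction_on with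
    | zero => simp
    | tmul b s =>
      have : (b ⊗ₜ[A] s : B ⊗[A] S) = (b ⊗ₜ 1) * (1 ⊗ₜ s) := by simp
      rw [this, map_mul, map_mul]
      change _ = G _ * G _
      rw [hG'1, hG'2, hG1, hG2]
    | add x y hx hy => rw [map_add, map_add, hx, hy]

end

end Groth.Agent.Lib.lead.SH
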