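import Mathlib
import Groth.Prelude.Def_CAlg2
import Groth.Prelude.Def_CAlgX
import Groth.Agent.Lib.lead.Olivier1
import Groth.Agent.Lib.helper11.AbsFlat

/-!
# Unibranch local rings and henselizations: the generic core
-/

universe u

set_option maxHeartbeats 400000
set_option linter.style.haveILetI false
set_option linter.unusedSectionVars false

open IsLocalRing TensorProduct

namespace Groth.Agent.Lib.lead.Unibr

/-- a ring has a unique minimal prime iff its nilradical is prime -/
theorem hasUniqueMinimalPrime_iff (B : Type u) [CommRing B] :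
    CAlgX.HasUniqueMinimalPrime B ↔ (nilradical B).IsPrime := by
  constructor
  · rintro ⟨p, hp, huniq⟩
    have h1 : nilradical B = p := by
      rw [nilradical, ← Ideal.sInf_minimalPrimes]
      apply le_antisymm
      · exact sInf_le hp
      · refine le_sInf fun q hq => ?_
        rw [huniq q hq]
    rw [h1]
    exact hp.1.1
  · intro h
    refine ⟨nilradical B, ?_, ?_⟩
    · refine ⟨⟨h, bot_le⟩, fun q hq _ => ?_⟩
      haveI := hq.1
      exact nilradical_le_prime q
    · intro q hq
      haveI := hq.1.1
      have h2 : nilradical B ≤ q := nilradical_le_prime q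
      exact le_antisymm (hq.2 ⟨h, bot_le⟩ h2) h2

section core

variable (A S : Type u) [CommRing A] [IsLocalRing A] [CommRing S] [IsLocalRing S] [Algebra A S]
  [IsLocalHom (algebraMap A S)] [Algebra.WeaklyEtale A S]

instance : Algebra.IsIntegral A (CAlg2.red A) :=
  Algebra.IsIntegral.of_surjective (Algebra.ofId A (CAlg2.red A)) Ideal.Quotient.mk_surjective

instance : Algebra.IsIntegral A (CAlg2.normRed A) := Algebra.IsIntegral.trans (CAlg2.red A)

/-- elements of `S` dying in `red A ⊗ S` are nilpotent -/
theorem isNilpotent_of_tmul_eq_zero (s : S) (h : (1 : CAlg2.red A) ⊗ₜ[A] s = 0) :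
    IsNilpotent s := by
  change s ∈ nilradical S
  rw [nilradical_eq_sInf, Ideal.mem_sInf]
  intro Q hQ
  haveI : Q.IsPrime := hQ
  -- the map `red A → S ⧸ Q`
  have hker : ∀ a ∈ nilradical A, algebraMap A (S ⧸ Q) a = 0 := by
    intro a ha
    rw [IsScalarTower.algebraMap_apply A S (S ⧸ Q), Ideal.Quotient.algebraMap_eq,
      Ideal.Quotient.eq_zero_iff_mem]
    have : IsNilpotent (algebraMap A S a) := (show IsNilpotent a from ha).map _
    exact nilradical_le_prime Q this
  let φ : CAlg2.red A →ₐ[A] S ⧸ Q :=
    Ideal.Quotient.liftₐ (nilradical A) (Algebra.ofId A (S ⧸ Q)) hker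
  have h2 := congrArg (Algebra.TensorProduct.productMap φ (IsScalarTower.toAlgHom A S (S ⧸ Q))) h
  rw [Algebra.TensorProduct.productMap_apply_tmul, map_one, one_mul, map_zero] at h2
  exact Ideal.Quotient.eq_zero_iff_mem.mp h2

/-- the map `red A ⊗ S → normRed A ⊗ S` is injective -/
theorem rTensor_injective :
    Function.Injective (LinearMap.rTensor S
      (IsScalarTower.toAlgHom A (CAlg2.red A) (CAlg2.normRed A)).toLinearMap) := by
  apply Module.Flat.rTensor_preserves_injective_linearMap
  intro x y hxy
  have h1 := congrArg Subtype.val hxy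
  exact IsFractionRing.injective (CAlg2.red A) (FractionRing (CAlg2.red A)) h1

/-- the normalization of a domain is integrally closed -/
theorem isFractionRing_normRed [IsDomain (CAlg2.red A)] :
    IsFractionRing (CAlg2.normRed A) (FractionRing (CAlg2.red A)) := by
  haveI : Algebra.IsAlgebraic (CAlg2.red A) (FractionRing (CAlg2.red A)) :=
    (IsFractionRing.comap_isAlgebraic_iff (A := CAlg2.red A) (K := FractionRing (CAlg2.red A))
      (C := FractionRing (CAlg2.red A))).mpr inferInstance
  exact IsIntegralClosure.isFractionRing_of_algebraic (CAlg2.red A) (CAlg2.normRed A)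
    (fun x hx => IsFractionRing.injective (CAlg2.red A) (FractionRing (CAlg2.red A))
      (hx.trans (map_zero _).symm))

theorem isIntegrallyClosed_normRed [IsDomain (CAlg2.red A)] :
    IsIntegrallyClosed (CAlg2.normRed A) := by
  haveI := isFractionRing_normRed A
  exact (IsIntegrallyClosed.integralClosure_eq_bot_iff (FractionRing (CAlg2.red A))).mp
    integralClosure_idem

/-- if `normRed A ⊗ S` is local, then `S` has a unique minimal prime -/
theorem hasUniqueMinimalPrime_of_isLocalRing [IsDomain (CAlg2.red A)]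
    [IsLocalRing (CAlg2.normRed A ⊗[A] S)] : CAlgX.HasUniqueMinimalPrime S := by
  rw [hasUniqueMinimalPrime_iff]
  haveI := isFractionRing_normRed A
  haveI := isIntegrallyClosed_normRed A
  haveI : IsDomain (CAlg2.normRed A ⊗[A] S) :=
    (NormWE.normal_of_weaklyEtale_local (CAlg2.normRed A) (CAlg2.normRed A ⊗[A] S)).1
  have hker : RingHom.ker (Algebra.TensorProduct.includeRight :
      S →ₐ[A] CAlg2.normRed A ⊗[A] S).toRingHom = nilradical S := by
    apply le_antisymm
    · intro s hs
      rw [RingHom.mem_ker] at hs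
      have h1 : LinearMap.rTensor S
          (IsScalarTower.toAlgHom A (CAlg2.red A) (CAlg2.normRed A)).toLinearMap
          ((1 : CAlg2.red A) ⊗ₜ[A] s) = (1 : CAlg2.normRed A) ⊗ₜ[A] s := by
        rw [LinearMap.rTensor_tmul, AlgHom.toLinearMap_apply, map_one]
      have h2 : (1 : CAlg2.red A) ⊗ₜ[A] s = 0 := by
        apply rTensor_injective A S
        rw [h1, map_zero]
        exact hs
      exact isNilpotent_of_tmul_eq_zero A S s h2
    · intro s hs
      rw [RingHom.mem_ker]
      have h3 : IsNilpotent ((Algebra.TensorProduct.includeRight :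
          S →ₐ[A] CAlg2.normRed A ⊗[A] S).toRingHom s) := (show IsNilpotent s from hs).map _
      exact h3.eq_zero
  rw [← hker]
  exact RingHom.ker_isPrime _

/-- if `S` has a unique minimal prime then `red A` is a domain -/
theorem isDomain_red_of_hasUniqueMinimalPrime (h : CAlgX.HasUniqueMinimalPrime S) :
    IsDomain (CAlg2.red A) := by
  rw [hasUniqueMinimalPrime_iff] at h
  haveI : Module.FaithfullyFlat A S := Module.FaithfullyFlat.of_flat_of_isLocalHom
  have hinj := FaithfulSMul.algebraMap_injective A S
  have h1 : nilradical A = (nilradical S).comap (algebraMap A S) := by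
    ext a
    rw [Ideal.mem_comap]
    change IsNilpotent a ↔ IsNilpotent (algebraMap A S a)
    exact (IsNilpotent.map_iff hinj).symm
  haveI : (nilradical A).IsPrime := by rw [h1]; exact Ideal.comap_isPrime _ _
  exact Ideal.Quotient.isDomain _

theorem exists_one_tmul_eq (x : CAlg2.red A ⊗[A] S) : ∃ s : S, (1 : CAlg2.red A) ⊗ₜ[A] s = x := by
  induction x using TensorProduct.induction_on with
  | zero => exact ⟨0, by simp⟩
  | tmul r s =>
    obtain ⟨a, rfl⟩ := Ideal.Quotient.mk_surjective r
    refine ⟨a • s, ?_⟩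
    rw [TensorProduct.tmul_smul, TensorProduct.smul_tmul']
    congr 1
    rw [Algebra.smul_def, mul_one]
    rfl
  | add x y hx hy =>
    obtain ⟨s, rfl⟩ := hx
    obtain ⟨t, rfl⟩ := hy
    exact ⟨s + t, TensorProduct.tmul_add _ _ _⟩

/-- if `S` has a unique minimal prime then `red A ⊗ S` is a domain -/
theorem isDomain_red_tensor [IsDomain (CAlg2.red A)] (h : CAlgX.HasUniqueMinimalPrime S) :
    IsDomain (CAlg2.red A ⊗[A] S) := by
  rw [hasUniqueMinimalPrime_iff] at h
  haveI : IsReduced (CAlg2.red A ⊗[A] S) :=
    Groth.Agent.Lib.helper11.AbsFlat.isReduced_of_weaklyEtale (CAlg2.red A) _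
  haveI : Nontrivial (CAlg2.red A ⊗[A] S) := by
    refine ⟨⟨0, 1, fun h01 => ?_⟩⟩
    have h1 : (1 : CAlg2.red A) ⊗ₜ[A] (1 : S) = 0 := h01.symm
    have h2 := isNilpotent_of_tmul_eq_zero A S 1 h1
    exact h.ne_top ((Ideal.eq_top_iff_one _).mpr h2)
  haveI : NoZeroDivisors (CAlg2.red A ⊗[A] S) := by
    refine ⟨fun {x y} hxy => ?_⟩
    obtain ⟨s, rfl⟩ := exists_one_tmul_eq A S x
    obtain ⟨t, rfl⟩ := exists_one_tmul_eq A S y
    rw [Algebra.TensorProduct.tmul_mul_tmul, one_mul] at hxy
    have h2 : s * t ∈ nilradical S := isNilpotent_of_tmul_eq_zero A S _ hxy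
    rcases h.mem_or_mem h2 with h3 | h3
    · left
      have h4 : IsNilpotent ((Algebra.TensorProduct.includeRight :
          S →ₐ[A] CAlg2.red A ⊗[A] S) s) := (show IsNilpotent s from h3).map _
      exact h4.eq_zero
    · right
      have h4 : IsNilpotent ((Algebra.TensorProduct.includeRight :
          S →ₐ[A] CAlg2.red A ⊗[A] S) t) := (show IsNilpotent t from h3).map _
      exact h4.eq_zero
  exact NoZeroDivisors.to_isDomain _

/-- if `S` has a unique minimal prime then `Frac (red A) ⊗ S` is a domain -/
theorem isDomain_frac_tensor [IsDomain (CAlg2.red A)] (h : CAlgX.HasUniqueMinimalPrime S) :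
    IsDomain (FractionRing (CAlg2.red A) ⊗[A] S) := by
  haveI := isDomain_red_tensor A S h
  haveI : Module.FaithfullyFlat A S := Module.FaithfullyFlat.of_flat_of_isLocalHom
  have hinj : Function.Injective (algebraMap (CAlg2.red A) (CAlg2.red A ⊗[A] S)) :=
    FaithfulSMul.algebraMap_injective _ _
  haveI : IsDomain (FractionRing (CAlg2.red A) ⊗[CAlg2.red A] (CAlg2.red A ⊗[A] S)) := by
    letI : Algebra (CAlg2.red A ⊗[A] S)
        (FractionRing (CAlg2.red A) ⊗[CAlg2.red A] (CAlg2.red A ⊗[A] S)) :=
      Algebra.TensorProduct.rightAlgebra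
    haveI : IsLocalization (Algebra.algebraMapSubmonoid (CAlg2.red A ⊗[A] S)
        (nonZeroDivisors (CAlg2.red A)))
        (FractionRing (CAlg2.red A) ⊗[CAlg2.red A] (CAlg2.red A ⊗[A] S)) :=
      IsLocalization.tensorRight (FractionRing (CAlg2.red A)) (nonZeroDivisors (CAlg2.red A))
    apply IsLocalization.isDomain_of_le_nonZeroDivisors
      (FractionRing (CAlg2.red A) ⊗[CAlg2.red A] (CAlg2.red A ⊗[A] S))
      (M := Algebra.algebraMapSubmonoid (CAlg2.red A ⊗[A] S) (nonZeroDivisors (CAlg2.red A)))
    rintro _ ⟨c, hc, rfl⟩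
    apply mem_nonZeroDivisors_of_ne_zero
    intro h0
    exact (nonZeroDivisors.ne_zero hc) (hinj (h0.trans (map_zero _).symm))
  exact MulEquiv.isDomain (FractionRing (CAlg2.red A) ⊗[CAlg2.red A] (CAlg2.red A ⊗[A] S))
    (Algebra.TensorProduct.cancelBaseChange A (CAlg2.red A) (CAlg2.red A)
      (FractionRing (CAlg2.red A)) S).symm.toRingEquiv.toMulEquiv

/-- if `S` has a unique minimal prime then `normRed A ⊗ S` is a domain -/
theorem isDomain_normRed_tensor [IsDomain (CAlg2.red A)] (h : CAlgX.HasUniqueMinimalPrime S) :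
    IsDomain (CAlg2.normRed A ⊗[A] S) := by
  haveI := isDomain_frac_tensor A S h
  have hinj : Function.Injective (Algebra.TensorProduct.map
      (IsScalarTower.toAlgHom A (CAlg2.normRed A) (FractionRing (CAlg2.red A)))
      (AlgHom.id A S)) := by
    have h1 : ⇑(Algebra.TensorProduct.map
        (IsScalarTower.toAlgHom A (CAlg2.normRed A) (FractionRing (CAlg2.red A)))
        (AlgHom.id A S)) = ⇑(LinearMap.rTensor S
        (IsScalarTower.toAlgHom A (CAlg2.normRed A)
          (FractionRing (CAlg2.red A))).toLinearMap) := by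
      ext x
      induction x using TensorProduct.induction_on with
      | zero => simp
      | tmul a b => simp
      | add a b ha hb => rw [map_add, map_add, ha, hb]
    rw [h1]
    apply Module.Flat.rTensor_preserves_injective_linearMap
    exact Subtype.val_injective
  exact hinj.isDomain _

/-- a domain of the form `normRed A ⊗ S` with `S` henselian is local -/
theorem isLocalRing_normRed_tensor (hS : HenselianLocalRing S)
    [IsDomain (CAlg2.normRed A ⊗[A] S)] : IsLocalRing (CAlg2.normRed A ⊗[A] S) := by
  haveI : IsDomain (S ⊗[A] CAlg2.normRed A) :=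
    MulEquiv.isDomain (CAlg2.normRed A ⊗[A] S)
      (Algebra.TensorProduct.comm A S (CAlg2.normRed A)).toRingEquiv.toMulEquiv
  haveI : IsLocalRing (S ⊗[A] CAlg2.normRed A) :=
    Olivier.isLocalRing_of_isDomain_of_isIntegral (R := S) (S ⊗[A] CAlg2.normRed A)
  exact (Algebra.TensorProduct.comm A S (CAlg2.normRed A)).toRingEquiv.isLocalRing

/-- if `normRed A ⊗ S` is local so is `normRed A` -/
theorem isLocalRing_normRed [IsLocalRing (CAlg2.normRed A ⊗[A] S)] :
    IsLocalRing (CAlg2.normRed A) := by
  haveI : Module.FaithfullyFlat A S := Module.FaithfullyFlat.of_flat_of_isLocalHom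
  exact Module.FaithfullyFlat.isLocalRing (CAlg2.normRed A) (CAlg2.normRed A ⊗[A] S)

end core

end Groth.Agent.Lib.lead.Unibr
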