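import Mathlib
import Groth.Agent.Lib.lead.Unibr1
import Groth.Agent.Lib.lead.HensIntBC
import Groth.Agent.Lib.lead.SH16

/-!
# Unibranch local rings and henselizations: the henselization
-/

universe u

set_option maxHeartbeats 400000
set_option linter.style.haveILetI false
set_option linter.unusedSectionVars false

open IsLocalRing TensorProduct

namespace Groth.Agent.Lib.lead.Unibr

theorem main2052 {A Ah : Type u} [CommRing A] [IsLocalRing A]
    [CommRing Ah] [IsLocalRing Ah] [Algebra A Ah] [IsLocalHom (algebraMap A Ah)]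
    [Hensel.IsHenselization A Ah] :
    CAlg2.IsUnibranch A ↔ CAlgX.HasUniqueMinimalPrime Ah := by
  obtain ⟨M⟩ := SH.exists_model_of_hens (R := A) Ah
  haveI : Algebra.WeaklyEtale A Ah := M.weaklyEtale
  constructor
  · rintro ⟨hdom, hloc⟩
    haveI := hdom
    haveI := hloc
    haveI : IsLocalHom (algebraMap A (CAlg2.normRed A)) :=
      PITensor.isLocalHom_of_isIntegral A _
    obtain ⟨h1, -, -⟩ := SH.isHenselization_tensor A (CAlg2.normRed A) Ah
    haveI := h1
    exact hasUniqueMinimalPrime_of_isLocalRing A Ah
  · intro h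
    haveI hdom := isDomain_red_of_hasUniqueMinimalPrime A Ah h
    haveI := isDomain_normRed_tensor A Ah h
    haveI := isLocalRing_normRed_tensor A Ah (Hensel.IsHenselization.henselian (R := A))
    exact ⟨hdom, isLocalRing_normRed A Ah⟩

/-- a reduced ring with a unique minimal prime is a domain -/
theorem isDomain_of_isReduced_of_hasUniqueMinimalPrime (B : Type u) [CommRing B] [IsReduced B]
    (h : CAlgX.HasUniqueMinimalPrime B) : IsDomain B := by
  rw [hasUniqueMinimalPrime_iff, nilradical_eq_zero] at h
  haveI : (⊥ : Ideal B).IsPrime := h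
  exact IsDomain.of_bot_isPrime B

theorem hasUniqueMinimalPrime_of_isDomain (B : Type u) [CommRing B] [IsDomain B] :
    CAlgX.HasUniqueMinimalPrime B := by
  rw [hasUniqueMinimalPrime_iff, nilradical_eq_zero]
  exact Ideal.isPrime_bot

theorem main2749 (R S : Type u) [CommRing R] [IsLocalRing R]
    [CommRing S] [IsLocalRing S] [Algebra R S] [IsLocalHom (algebraMap R S)]
    [Hensel.IsHenselization R S] :
    (IsReduced R ∧ CAlg2.IsUnibranch R) ↔ IsDomain S := by
  obtain ⟨M⟩ := SH.exists_model_of_hens (R := R) S
  haveI : Algebra.WeaklyEtale R S := M.weaklyEtale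
  constructor
  · rintro ⟨hred, hU⟩
    haveI := hred
    haveI : IsReduced S := Groth.Agent.Lib.helper11.AbsFlat.isReduced_of_weaklyEtale R S
    exact isDomain_of_isReduced_of_hasUniqueMinimalPrime S (main2052.mp hU)
  · intro hdom
    haveI := hdom
    haveI : Module.FaithfullyFlat R S := Module.FaithfullyFlat.of_flat_of_isLocalHom
    have hinj := FaithfulSMul.algebraMap_injective R S
    refine ⟨isReduced_of_injective (algebraMap R S) hinj, ?_⟩
    exact main2052.mpr (hasUniqueMinimalPrime_of_isDomain S)

end Groth.Agent.Lib.lead.Unibr
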