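import Mathlib
import Groth.Agent.Lib.lead.Unibr2

/-!
# Unibranch local rings and henselizations: purely inseparable residue fields
-/

universe u

set_option maxHeartbeats 400000
set_option linter.style.haveILetI false
set_option linter.unusedSectionVars false

open IsLocalRing TensorProduct Polynomial

namespace Groth.Agent.Lib.lead.Unibr

/-- if `L ⊗ κ'` is local with `L` separably closed, separable elements of `κ'` lie in `κ` -/
theorem mem_range_of_isSeparable (κ L κ' : Type u) [Field κ] [Field L] [Field κ'] [Algebra κ L]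
    [Algebra κ κ'] [IsSepClosed L] [IsLocalRing (L ⊗[κ] κ')] (x : κ') (hx : IsSeparable κ x) :
    x ∈ (algebraMap κ κ').range := by
  classical
  have hint : IsIntegral κ x := hx.isIntegral
  have hsep : (minpoly κ x).Separable := hx
  have hsplit : ((minpoly κ x).map (algebraMap κ L)).Splits :=
    IsSepClosed.splits_of_separable _ hsep.map
  have hcard := Polynomial.card_rootSet_eq_natDegree hsep hsplit
  have hy : Polynomial.aeval ((1 : L) ⊗ₜ[κ] x) ((minpoly κ x).map (algebraMap κ L)) = 0 := by
    rw [Polynomial.aeval_map_algebraMap]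
    have : (1 : L) ⊗ₜ[κ] x = (Algebra.TensorProduct.includeRight : κ' →ₐ[κ] L ⊗[κ] κ') x := rfl
    rw [this, Polynomial.aeval_algHom_apply, minpoly.aeval, map_zero]
  have hli : LinearIndependent L
      (fun i : Fin (minpoly κ x).natDegree => ((1 : L) ⊗ₜ[κ] x) ^ (i : ℕ)) := by
    have h1 := Module.Flat.linearIndependent_one_tmul (S := L) (linearIndependent_pow (K := κ) x)
    convert h1 using 2 with i
    rw [Algebra.TensorProduct.tmul_pow, one_pow]
  have hnz : ∀ g : L[X], g.natDegree < (minpoly κ x).natDegree →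
      Polynomial.aeval ((1 : L) ⊗ₜ[κ] x) g = 0 → g = 0 := by
    intro g hg h0
    rw [Polynomial.aeval_eq_sum_range' hg,
      ← Fin.sum_univ_eq_sum_range (fun i => g.coeff i • ((1 : L) ⊗ₜ[κ] x) ^ i)] at h0
    have h2 := Fintype.linearIndependent_iff.mp hli (fun i => g.coeff i) h0
    ext i
    by_cases hi : i < (minpoly κ x).natDegree
    · exact h2 ⟨i, hi⟩
    · rw [Polynomial.coeff_zero]
      exact Polynomial.coeff_eq_zero_of_natDegree_lt (by omega)
  have hmonic : ((minpoly κ x).map (algebraMap κ L)).Monic := (minpoly.monic hint).map _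
  have hnonunit : ∀ a : L, ((minpoly κ x).map (algebraMap κ L)).IsRoot a →
      (1 : L) ⊗ₜ[κ] x - algebraMap L (L ⊗[κ] κ') a ∈ maximalIdeal (L ⊗[κ] κ') := by
    intro a ha
    rw [mem_maximalIdeal, mem_nonunits_iff]
    intro hu
    have h1 : (X - C a) * ((minpoly κ x).map (algebraMap κ L) /ₘ (X - C a)) =
        (minpoly κ x).map (algebraMap κ L) := Polynomial.mul_divByMonic_eq_iff_isRoot.mpr ha
    have h2 := congrArg (Polynomial.aeval ((1 : L) ⊗ₜ[κ] x)) h1
    rw [map_mul, hy, map_sub, aeval_X, aeval_C] at h2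
    have h3 : Polynomial.aeval ((1 : L) ⊗ₜ[κ] x)
        ((minpoly κ x).map (algebraMap κ L) /ₘ (X - C a)) = 0 := (hu.mul_right_eq_zero).mp h2
    have hdeg : ((minpoly κ x).map (algebraMap κ L) /ₘ (X - C a)).natDegree <
        (minpoly κ x).natDegree := by
      rw [Polynomial.natDegree_divByMonic _ (monic_X_sub_C a), natDegree_X_sub_C,
        Polynomial.natDegree_map]
      have := minpoly.natDegree_pos hint
      omega
    have h4 := hnz _ hdeg h3
    rw [h4, mul_zero] at h1
    exact hmonic.ne_zero h1.symm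
  by_contra hnot
  have hd : 2 ≤ (minpoly κ x).natDegree := by
    have h1 := minpoly.natDegree_pos hint
    have h2 : (minpoly κ x).natDegree ≠ 1 := fun h => hnot (minpoly.natDegree_eq_one_iff.mp h)
    omega
  rw [← hcard] at hd
  obtain ⟨a, b, hab⟩ := Fintype.one_lt_card_iff.mp hd
  have ha := hnonunit a ((Polynomial.mem_rootSet.mp a.2).2 |> fun h => by
    rwa [Polynomial.IsRoot.def, Polynomial.eval_map_algebraMap])
  have hb := hnonunit b ((Polynomial.mem_rootSet.mp b.2).2 |> fun h => by
    rwa [Polynomial.IsRoot.def, Polynomial.eval_map_algebraMap])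
  have h5 : algebraMap L (L ⊗[κ] κ') ((b : L) - a) ∈ maximalIdeal (L ⊗[κ] κ') := by
    have := Ideal.sub_mem _ ha hb
    rw [map_sub]
    convert this using 1
    ring
  have h6 : IsUnit (algebraMap L (L ⊗[κ] κ') ((b : L) - a)) := by
    apply IsUnit.map
    rw [isUnit_iff_ne_zero, sub_ne_zero]
    exact fun h => hab (Subtype.ext h.symm)
  exact (mem_maximalIdeal _).mp h5 h6

theorem isPurelyInseparable_of_isLocalRing (κ L κ' : Type u) [Field κ] [Field L] [Field κ']
    [Algebra κ L] [Algebra κ κ'] [IsSepClosed L] [Algebra.IsAlgebraic κ κ']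
    [IsLocalRing (L ⊗[κ] κ')] : IsPurelyInseparable κ κ' :=
  isPurelyInseparable_iff.mpr fun x =>
    ⟨Algebra.IsIntegral.isIntegral x, fun hs => mem_range_of_isSeparable κ L κ' x hs⟩

end Groth.Agent.Lib.lead.Unibr
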