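import Mathlib
import Groth.Agent.Lib.lead.Unibr3
import Groth.Agent.Lib.lead.PITensor2

/-!
# Unibranch local rings and henselizations: the strict henselization
-/

universe u

set_option maxHeartbeats 400000
set_option linter.style.haveILetI false
set_option linter.unusedSectionVars false

open IsLocalRing TensorProduct Polynomial

namespace Groth.Agent.Lib.lead.Unibr

section cond

variable (A : Type u) [CommRing A] [IsLocalRing A] [IsLocalRing (CAlg2.normRed A)]
  [IsLocalHom (algebraMap A (CAlg2.normRed A))]

/-- the purely inseparable condition in the definition of geometrically unibranch -/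
theorem pi_iff_cond :
    IsPurelyInseparable (ResidueField A) (ResidueField (CAlg2.normRed A)) ↔
      ∀ x : CAlg2.normRed A ⧸ maximalIdeal (CAlg2.normRed A),
        ∃ n : ℕ, x ^ (ringExpChar (CAlg2.normRed A ⧸ maximalIdeal (CAlg2.normRed A))) ^ n ∈
          ((Ideal.Quotient.mk (maximalIdeal (CAlg2.normRed A))).comp
            ((algebraMap (CAlg2.red A) (CAlg2.normRed A)).comp
              (Ideal.Quotient.mk (nilradical A)))).range := by
  haveI : ExpChar (ResidueField (CAlg2.normRed A))
      (ringExpChar (ResidueField (CAlg2.normRed A))) := ringExpChar.expChar _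
  haveI : ExpChar (ResidueField A) (ringExpChar (ResidueField (CAlg2.normRed A))) := by
    haveI h1 : ExpChar (ResidueField (CAlg2.normRed A)) (ringExpChar (ResidueField A)) :=
      expChar_of_injective_algebraMap
        (algebraMap (ResidueField A) (ResidueField (CAlg2.normRed A))).injective _
    have h2 : ringExpChar (ResidueField (CAlg2.normRed A)) = ringExpChar (ResidueField A) :=
      ringExpChar.eq (ResidueField (CAlg2.normRed A)) _
    rw [h2]
    exact ringExpChar.expChar _
  rw [isPurelyInseparable_iff_pow_mem (ResidueField A)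
    (ringExpChar (ResidueField (CAlg2.normRed A)))]
  have hrange : ∀ y : ResidueField (CAlg2.normRed A),
      y ∈ (algebraMap (ResidueField A) (ResidueField (CAlg2.normRed A))).range ↔
      y ∈ ((Ideal.Quotient.mk (maximalIdeal (CAlg2.normRed A))).comp
            ((algebraMap (CAlg2.red A) (CAlg2.normRed A)).comp
              (Ideal.Quotient.mk (nilradical A)))).range := by
    intro y
    constructor
    · rintro ⟨r, rfl⟩
      obtain ⟨a, rfl⟩ := residue_surjective r
      exact ⟨a, rfl⟩
    · rintro ⟨a, rfl⟩
      exact ⟨residue A a, rfl⟩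
  constructor
  · intro h x
    obtain ⟨n, hn⟩ := h x
    exact ⟨n, (hrange _).mp hn⟩
  · intro h x
    obtain ⟨n, hn⟩ := h x
    exact ⟨n, (hrange _).mpr hn⟩

end cond

section strict

variable (A S : Type u) [CommRing A] [IsLocalRing A] [CommRing S] [IsLocalRing S] [Algebra A S]
  [IsLocalHom (algebraMap A S)]

theorem pi_surjective (C : Type u) [CommRing C] [IsLocalRing C] [Algebra A C]
    [IsLocalHom (algebraMap A C)] : Function.Surjective (PITensor.π A S C) := by
  intro x
  induction x using TensorProduct.induction_on with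
  | zero => exact ⟨0, map_zero _⟩
  | tmul s c =>
    obtain ⟨s, rfl⟩ := residue_surjective s
    obtain ⟨c, rfl⟩ := residue_surjective c
    exact ⟨s ⊗ₜ[A] c, PITensor.π_tmul A S C s c⟩
  | add x y hx hy =>
    obtain ⟨x', rfl⟩ := hx
    obtain ⟨y', rfl⟩ := hy
    exact ⟨x' + y', map_add _ _ _⟩

theorem isAlgebraic_residueField (C : Type u) [CommRing C] [IsLocalRing C] [Algebra A C]
    [IsLocalHom (algebraMap A C)] [Algebra.IsIntegral A C] :
    Algebra.IsAlgebraic (ResidueField A) (ResidueField C) := by
  refine ⟨fun r => ?_⟩
  obtain ⟨c, rfl⟩ := residue_surjective r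
  have h1 : IsIntegral A (IsScalarTower.toAlgHom A C (ResidueField C) c) :=
    (Algebra.IsIntegral.isIntegral c).map _
  have h2 : IsIntegral (ResidueField A) (residue C c) := h1.tower_top
  exact h2.isAlgebraic

theorem main2135 {A Ash : Type u} [CommRing A] [IsLocalRing A]
    [CommRing Ash] [IsLocalRing Ash] [Algebra A Ash] [IsLocalHom (algebraMap A Ash)]
    [hS : Hensel.IsStrictHenselization A Ash] :
    CAlg2.IsGeomUnibranch A ↔ CAlgX.HasUniqueMinimalPrime Ash := by
  obtain ⟨M⟩ := SH.exists_model_of_strict (R := A) Ash
  haveI : Algebra.WeaklyEtale A Ash := M.weaklyEtale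
  constructor
  · rintro ⟨⟨hdom, hloc⟩, hpi⟩
    haveI := hdom
    haveI := hloc
    haveI : IsLocalHom (algebraMap A (CAlg2.normRed A)) :=
      PITensor.isLocalHom_of_isIntegral A _
    have hPI : IsPurelyInseparable (ResidueField A) (ResidueField (CAlg2.normRed A)) :=
      (pi_iff_cond A).mpr (hpi (maximalIdeal (CAlg2.normRed A)))
    haveI : IsLocalRing (Ash ⊗[A] CAlg2.normRed A) :=
      (PITensor.main A Ash (CAlg2.normRed A) (Or.inl hPI)).1
    haveI : IsLocalRing (CAlg2.normRed A ⊗[A] Ash) :=
      (Algebra.TensorProduct.comm A Ash (CAlg2.normRed A)).toRingEquiv.isLocalRing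
    exact hasUniqueMinimalPrime_of_isLocalRing A Ash
  · intro h
    haveI hdom := isDomain_red_of_hasUniqueMinimalPrime A Ash h
    haveI := isDomain_normRed_tensor A Ash h
    haveI hT := isLocalRing_normRed_tensor A Ash hS.henselian
    haveI hloc := isLocalRing_normRed A Ash
    refine ⟨⟨hdom, hloc⟩, ?_⟩
    intro m' hm'
    obtain rfl := IsLocalRing.eq_maximalIdeal hm'
    haveI : IsLocalHom (algebraMap A (CAlg2.normRed A)) :=
      PITensor.isLocalHom_of_isIntegral A _
    have hPI : IsPurelyInseparable (ResidueField A) (ResidueField (CAlg2.normRed A)) := by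
      haveI : IsSepClosure (ResidueField A) (ResidueField Ash) := hS.isSepClosure
      haveI : IsSepClosed (ResidueField Ash) := IsSepClosure.sep_closed (ResidueField A)
      haveI : Algebra.IsAlgebraic (ResidueField A) (ResidueField (CAlg2.normRed A)) :=
        isAlgebraic_residueField A (CAlg2.normRed A)
      haveI : IsLocalRing (Ash ⊗[A] CAlg2.normRed A) :=
        (Algebra.TensorProduct.comm A (CAlg2.normRed A) Ash).toRingEquiv.isLocalRing
      haveI : IsLocalRing (ResidueField Ash ⊗[ResidueField A]
          ResidueField (CAlg2.normRed A)) :=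
        IsLocalRing.of_surjective' (PITensor.π A Ash (CAlg2.normRed A)).toRingHom
          (pi_surjective A Ash (CAlg2.normRed A))
      exact isPurelyInseparable_of_isLocalRing (ResidueField A) (ResidueField Ash)
        (ResidueField (CAlg2.normRed A))
    exact (pi_iff_cond A).mp hPI

theorem main2750 (R S : Type u) [CommRing R] [IsLocalRing R]
    [CommRing S] [IsLocalRing S] [Algebra R S] [IsLocalHom (algebraMap R S)]
    [Hensel.IsStrictHenselization R S] :
    (IsReduced R ∧ CAlg2.IsGeomUnibranch R) ↔ IsDomain S := by
  obtain ⟨M⟩ := SH.exists_model_of_strict (R := R) S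
  haveI : Algebra.WeaklyEtale R S := M.weaklyEtale
  constructor
  · rintro ⟨hred, hU⟩
    haveI := hred
    haveI : IsReduced S := Groth.Agent.Lib.helper11.AbsFlat.isReduced_of_weaklyEtale R S
    exact isDomain_of_isReduced_of_hasUniqueMinimalPrime S (main2135.mp hU)
  · intro hdom
    haveI := hdom
    haveI : Module.FaithfullyFlat R S := Module.FaithfullyFlat.of_flat_of_isLocalHom
    have hinj := FaithfulSMul.algebraMap_injective R S
    refine ⟨isReduced_of_injective (algebraMap R S) hinj, ?_⟩
    exact main2135.mpr (hasUniqueMinimalPrime_of_isDomain S)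

end strict

end Groth.Agent.Lib.lead.Unibr
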