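import Mathlib
import Groth.Agent.Lib.lead.StrictRecog2
import Groth.Agent.Lib.lead.SpecStalkWE
import Groth.Agent.Lib.helper11.WEtSch
import Groth.Agent.Lib.lead.SH16

/-!
# Recognition of strict henselizations, III: cancellation for weakly étale algebras and
strict henselizations of localizations
-/

universe u

set_option maxHeartbeats 400000
set_option linter.style.haveILetI false
set_option linter.unusedSectionVars false
set_option linter.overlappingInstances false

open IsLocalRing TensorProduct AlgebraicGeometry CategoryTheory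

namespace Groth.Agent.Lib.lead.StrictRecog

/-- cancellation: if `R → S` and `R → T` are weakly étale then so is any `R`-map `S → T` -/
theorem weaklyEtale_of_comp (R S T : Type u) [CommRing R] [CommRing S] [CommRing T] [Algebra R S]
    [Algebra R T] [Algebra S T] [IsScalarTower R S T] [Algebra.WeaklyEtale R S]
    [Algebra.WeaklyEtale R T] : Algebra.WeaklyEtale S T := by
  haveI h1 : WeaklyEtale (Spec.map (CommRingCat.ofHom (algebraMap R S))) :=
    SpecStalkWE.weaklyEtale_SpecMap
  haveI h2 : WeaklyEtale (Spec.map (CommRingCat.ofHom (algebraMap R T))) :=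
    SpecStalkWE.weaklyEtale_SpecMap
  haveI h3 : WeaklyEtale (Spec.map (CommRingCat.ofHom (algebraMap S T)) ≫
      Spec.map (CommRingCat.ofHom (algebraMap R S))) := by
    rw [← Spec.map_comp, ← CommRingCat.ofHom_comp, ← IsScalarTower.algebraMap_eq]
    exact h2
  haveI h4 : WeaklyEtale (Spec.map (CommRingCat.ofHom (algebraMap S T))) :=
    WeaklyEtale.of_comp _ (Spec.map (CommRingCat.ofHom (algebraMap R S)))
  have := (Groth.Agent.Lib.helper11.WEtSch.weaklyEtale_SpecMap_iff
    (CommRingCat.ofHom (algebraMap S T))).mp h4
  have heq : (algebraMap S T).toAlgebra = (inferInstance : Algebra S T) :=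
    Algebra.algebra_ext _ _ (fun _ => rfl)
  change @Algebra.WeaklyEtale S T _ _ (algebraMap S T).toAlgebra at this
  rwa [heq] at this

/-- a strictly henselian local ring `Sh`, weakly étale over `T` via `φ`, is the strict
henselization of `T` localized at the preimage of the maximal ideal -/
theorem recog_localization {R₀ T Sh : Type u} [CommRing R₀] [CommRing T] [Algebra R₀ T]
    [CommRing Sh] [Algebra R₀ Sh] [HenselianLocalRing Sh] [IsSepClosed (ResidueField Sh)]
    (φ : T →ₐ[R₀] Sh)
    (hφ : letI := φ.toRingHom.toAlgebra; Algebra.WeaklyEtale T Sh)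
    (E : Type u) [CommRing E] [IsLocalRing E]
    [Algebra (Localization.AtPrime (Ideal.comap φ (maximalIdeal Sh))) E]
    [IsLocalHom (algebraMap (Localization.AtPrime (Ideal.comap φ (maximalIdeal Sh))) E)]
    [hE : Hensel.IsStrictHenselization (Localization.AtPrime (Ideal.comap φ (maximalIdeal Sh))) E] :
    ∃ e : E ≃+* Sh, ∀ d : T,
      e (algebraMap (Localization.AtPrime (Ideal.comap φ (maximalIdeal Sh))) E
        (algebraMap T _ d)) = φ d := by
  letI : Algebra T Sh := φ.toRingHom.toAlgebra
  haveI : Algebra.WeaklyEtale T Sh := hφ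
  have hunit : ∀ y : (Ideal.comap φ (maximalIdeal Sh)).primeCompl, IsUnit (φ.toRingHom y) := by
    intro y
    have h1 : (y : T) ∉ Ideal.comap φ (maximalIdeal Sh) := y.2
    rw [Ideal.mem_comap, mem_maximalIdeal, mem_nonunits_iff, not_not] at h1
    exact h1
  letI : Algebra (Localization.AtPrime (Ideal.comap φ (maximalIdeal Sh))) Sh :=
    (IsLocalization.lift (S := Localization.AtPrime (Ideal.comap φ (maximalIdeal Sh)))
      hunit).toAlgebra
  haveI : IsScalarTower T (Localization.AtPrime (Ideal.comap φ (maximalIdeal Sh))) Sh :=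
    IsScalarTower.of_algebraMap_eq' (IsLocalization.lift_comp hunit).symm
  haveI : Algebra.WeaklyEtale T (Localization.AtPrime (Ideal.comap φ (maximalIdeal Sh))) :=
    SH.weaklyEtale_of_isLocalization (Ideal.comap φ (maximalIdeal Sh)).primeCompl
  haveI : Algebra.WeaklyEtale (Localization.AtPrime (Ideal.comap φ (maximalIdeal Sh))) Sh :=
    weaklyEtale_of_comp T _ _
  haveI : IsLocalHom (algebraMap (Localization.AtPrime (Ideal.comap φ (maximalIdeal Sh))) Sh) := by
    refine ⟨fun x hx => ?_⟩
    obtain ⟨a, s, rfl⟩ := IsLocalization.exists_mk'_eq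
      (Ideal.comap φ (maximalIdeal Sh)).primeCompl x
    rw [IsLocalization.AtPrime.isUnit_mk'_iff]
    have h0 : IsLocalization.mk' (Localization.AtPrime (Ideal.comap φ (maximalIdeal Sh))) a s *
        algebraMap T _ (s : T) = algebraMap T _ a := IsLocalization.mk'_spec _ _ _
    have h1 := congrArg
      (algebraMap (Localization.AtPrime (Ideal.comap φ (maximalIdeal Sh))) Sh) h0
    rw [map_mul, ← IsScalarTower.algebraMap_apply, ← IsScalarTower.algebraMap_apply] at h1
    have h2 : IsUnit (algebraMap T Sh a) := by
      rw [← h1]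
      exact hx.mul (hunit s)
    intro hmem
    have hmem' : a ∈ Ideal.comap φ (maximalIdeal Sh) := hmem
    rw [Ideal.mem_comap, mem_maximalIdeal, mem_nonunits_iff] at hmem'
    exact hmem' h2
  obtain ⟨M⟩ := SH.exists_model_of_strict
    (R := Localization.AtPrime (Ideal.comap φ (maximalIdeal Sh))) E
  haveI := M.weaklyEtale
  haveI : HenselianLocalRing E := hE.henselian
  haveI : IsSepClosed (ResidueField E) := by
    haveI := hE.isSepClosure
    exact IsSepClosure.sep_closed
      (ResidueField (Localization.AtPrime (Ideal.comap φ (maximalIdeal Sh))))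
  obtain ⟨e⟩ := nonempty_algEquiv (Localization.AtPrime (Ideal.comap φ (maximalIdeal Sh))) E Sh
  refine ⟨e.toRingEquiv, fun d => ?_⟩
  have h1 := e.commutes (algebraMap T _ d)
  have h2 : algebraMap (Localization.AtPrime (Ideal.comap φ (maximalIdeal Sh))) Sh
      (algebraMap T _ d) = φ d := by
    rw [← IsScalarTower.algebraMap_apply]
    rfl
  exact h1.trans h2

end Groth.Agent.Lib.lead.StrictRecog
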