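import Mathlib
import Groth.Agent.Lib.lead.StrictRecog3

/-!
# Strict henselization of a tensor product at a prime
-/

universe u

set_option maxHeartbeats 400000
set_option linter.style.haveILetI false
set_option linter.unusedSectionVars false
set_option linter.overlappingInstances false

open IsLocalRing TensorProduct

namespace Groth.Agent.Lib.lead.StrictRecog

/-- the structure map of a strict henselization of a localization at a prime is weakly étale -/
theorem weaklyEtale_strict_of_localization (R : Type u) [CommRing R] (p : Ideal R) [p.IsPrime]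
    (Rh : Type u) [CommRing Rh] [IsLocalRing Rh] [Algebra (Localization.AtPrime p) Rh]
    [IsLocalHom (algebraMap (Localization.AtPrime p) Rh)]
    [Hensel.IsStrictHenselization (Localization.AtPrime p) Rh] [Algebra R Rh]
    [IsScalarTower R (Localization.AtPrime p) Rh] : Algebra.WeaklyEtale R Rh := by
  haveI : Algebra.WeaklyEtale R (Localization.AtPrime p) :=
    SH.weaklyEtale_of_isLocalization p.primeCompl
  obtain ⟨M⟩ := SH.exists_model_of_strict (R := Localization.AtPrime p) Rh
  haveI := M.weaklyEtale
  exact Algebra.WeaklyEtale.trans R (Localization.AtPrime p) Rh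

attribute [local instance] Algebra.TensorProduct.rightAlgebra in
/-- base change on the right is weakly étale -/
theorem weaklyEtale_right (R S Rh : Type u) [CommRing R] [CommRing S] [CommRing Rh] [Algebra R S]
    [Algebra R Rh] [Algebra.WeaklyEtale R Rh] : Algebra.WeaklyEtale S (Rh ⊗[R] S) := by
  let e : S ⊗[R] Rh ≃ₐ[S] Rh ⊗[R] S :=
    AlgEquiv.ofRingEquiv (f := (Algebra.TensorProduct.comm R S Rh).toRingEquiv) (fun s => by
      change (Algebra.TensorProduct.comm R S Rh) (s ⊗ₜ[R] (1 : Rh)) = (1 : Rh) ⊗ₜ[R] s
      rfl)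
  exact weaklyEtale_of_algEquiv e

attribute [local instance] Algebra.TensorProduct.rightAlgebra in
/-- the canonical map `Rh ⊗[R] S → Sh` between strict henselizations is weakly étale -/
theorem weaklyEtale_lift (R : Type u) [CommRing R]
    (S : Type u) [CommRing S] [Algebra R S] (p : Ideal R) [p.IsPrime] (q : Ideal S) [q.IsPrime]
    (Rh : Type u) [CommRing Rh] [IsLocalRing Rh] [Algebra (Localization.AtPrime p) Rh]
    [IsLocalHom (algebraMap (Localization.AtPrime p) Rh)]
    [Hensel.IsStrictHenselization (Localization.AtPrime p) Rh] [Algebra R Rh]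
    [IsScalarTower R (Localization.AtPrime p) Rh]
    (Sh : Type u) [CommRing Sh] [IsLocalRing Sh] [Algebra (Localization.AtPrime q) Sh]
    [IsLocalHom (algebraMap (Localization.AtPrime q) Sh)]
    [Hensel.IsStrictHenselization (Localization.AtPrime q) Sh] [Algebra S Sh]
    [IsScalarTower S (Localization.AtPrime q) Sh] [Algebra R Sh] [IsScalarTower R S Sh]
    [Algebra Rh Sh] [IsScalarTower R Rh Sh] :
    letI := (Algebra.TensorProduct.lift (IsScalarTower.toAlgHom R Rh Sh)
      (IsScalarTower.toAlgHom R S Sh) (fun _ _ => Commute.all _ _)).toRingHom.toAlgebra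
    Algebra.WeaklyEtale (Rh ⊗[R] S) Sh := by
  letI := (Algebra.TensorProduct.lift (IsScalarTower.toAlgHom R Rh Sh)
      (IsScalarTower.toAlgHom R S Sh) (fun _ _ => Commute.all _ _)).toRingHom.toAlgebra
  haveI : Algebra.WeaklyEtale R Rh := weaklyEtale_strict_of_localization R p Rh
  haveI : Algebra.WeaklyEtale S Sh := weaklyEtale_strict_of_localization S q Sh
  haveI : Algebra.WeaklyEtale S (Rh ⊗[R] S) := weaklyEtale_right R S Rh
  haveI : IsScalarTower S (Rh ⊗[R] S) Sh := by
    refine IsScalarTower.of_algebraMap_eq' ?_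
    ext s
    change algebraMap S Sh s = (Algebra.TensorProduct.lift (IsScalarTower.toAlgHom R Rh Sh)
      (IsScalarTower.toAlgHom R S Sh) (fun _ _ => Commute.all _ _)) ((1 : Rh) ⊗ₜ[R] s)
    rw [Algebra.TensorProduct.lift_tmul, map_one, one_mul]
    rfl
  exact weaklyEtale_of_comp S (Rh ⊗[R] S) Sh

theorem main9460 (R : Type u) [CommRing R]
    (S : Type u) [CommRing S] [Algebra R S] (p : Ideal R) [p.IsPrime] (q : Ideal S) [q.IsPrime]
    [q.LiesOver p]
    (Rh : Type u) [CommRing Rh] [IsLocalRing Rh] [Algebra (Localization.AtPrime p) Rh]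
    [IsLocalHom (algebraMap (Localization.AtPrime p) Rh)]
    [Hensel.IsStrictHenselization (Localization.AtPrime p) Rh] [Algebra R Rh]
    [IsScalarTower R (Localization.AtPrime p) Rh]
    (Sh : Type u) [CommRing Sh] [IsLocalRing Sh] [Algebra (Localization.AtPrime q) Sh]
    [IsLocalHom (algebraMap (Localization.AtPrime q) Sh)]
    [hSh : Hensel.IsStrictHenselization (Localization.AtPrime q) Sh] [Algebra S Sh]
    [IsScalarTower S (Localization.AtPrime q) Sh] [Algebra R Sh] [IsScalarTower R S Sh]
    [Algebra Rh Sh] [IsScalarTower R Rh Sh]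
    (E : Type u) [CommRing E] [IsLocalRing E]
    [Algebra (Localization.AtPrime (Ideal.comap (Algebra.TensorProduct.lift (IsScalarTower.toAlgHom R Rh Sh) (IsScalarTower.toAlgHom R S Sh)
          (fun _ _ => Commute.all _ _)) (IsLocalRing.maximalIdeal Sh))) E]
    [IsLocalHom (algebraMap (Localization.AtPrime
      (Ideal.comap (Algebra.TensorProduct.lift (IsScalarTower.toAlgHom R Rh Sh) (IsScalarTower.toAlgHom R S Sh)
          (fun _ _ => Commute.all _ _)) (IsLocalRing.maximalIdeal Sh))) E)]
    [Hensel.IsStrictHenselization (Localization.AtPrime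
      (Ideal.comap (Algebra.TensorProduct.lift (IsScalarTower.toAlgHom R Rh Sh) (IsScalarTower.toAlgHom R S Sh)
          (fun _ _ => Commute.all _ _)) (IsLocalRing.maximalIdeal Sh))) E] :
    ∃ e : E ≃+* Sh, ∀ d : Rh ⊗[R] S,
      e (algebraMap (Localization.AtPrime
        (Ideal.comap (Algebra.TensorProduct.lift (IsScalarTower.toAlgHom R Rh Sh) (IsScalarTower.toAlgHom R S Sh)
          (fun _ _ => Commute.all _ _)) (IsLocalRing.maximalIdeal Sh))) E
        (algebraMap (Rh ⊗[R] S) _ d)) = (Algebra.TensorProduct.lift (IsScalarTower.toAlgHom R Rh Sh) (IsScalarTower.toAlgHom R S Sh)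
          (fun _ _ => Commute.all _ _)) d := by
  letI hH : HenselianLocalRing Sh := hSh.henselian
  haveI : IsSepClosed (ResidueField Sh) := by
    haveI := hSh.isSepClosure
    exact IsSepClosure.sep_closed (ResidueField (Localization.AtPrime q))
  exact recog_localization (R₀ := R) (Algebra.TensorProduct.lift (IsScalarTower.toAlgHom R Rh Sh)
    (IsScalarTower.toAlgHom R S Sh) (fun _ _ => Commute.all _ _))
    (weaklyEtale_lift R S p q Rh Sh) E

end Groth.Agent.Lib.lead.StrictRecog
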