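import Mathlib
import Groth.Agent.Lib.lead.Hzn7

/-!
# Henselization, part 8: infinitesimal neighbourhoods
-/

universe u

open IsLocalRing TensorProduct Polynomial

namespace Groth.Agent.Lib.lead.Hzn

variable {R : Type u} [CommRing R] [IsLocalRing R]

namespace Model

variable {S : Type u} [CommRing S] [Algebra R S] [IsLocalRing S] [IsLocalHom (algebraMap R S)]

/-- `S = R + m_R S` -/
theorem exists_sub_mem_map (M : Model (R := R) S) (s : S) :
    ∃ a : R, s - algebraMap R S a ∈ (maximalIdeal R).map (algebraMap R S) := by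
  obtain ⟨y, hy⟩ := M.residue_bijective.2 (residue S s)
  obtain ⟨a, rfl⟩ := residue_surjective y
  refine ⟨a, ?_⟩
  rw [M.map_maximalIdeal, ← residue_eq_zero_iff, map_sub, sub_eq_zero, ← hy]
  rfl

/-- `m^n S ⊆ m^n + m^(n+1) S` -/
theorem exists_mem_pow_sub_mem_map (M : Model (R := R) S) (n : ℕ) (t : S)
    (ht : t ∈ (maximalIdeal R ^ n).map (algebraMap R S)) :
    ∃ b ∈ maximalIdeal R ^ n, t - algebraMap R S b ∈ (maximalIdeal R ^ (n + 1)).map (algebraMap R S) := by
  induction ht using Submodule.span_induction with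
  | mem x hx =>
    obtain ⟨b, hb, rfl⟩ := hx
    exact ⟨b, hb, by simp⟩
  | zero => exact ⟨0, Ideal.zero_mem _, by simp⟩
  | add x y _ _ hx hy =>
    obtain ⟨b, hb, hxb⟩ := hx
    obtain ⟨c, hc, hyc⟩ := hy
    refine ⟨b + c, Ideal.add_mem _ hb hc, ?_⟩
    have : x + y - algebraMap R S (b + c) = (x - algebraMap R S b) + (y - algebraMap R S c) := by
      rw [map_add]; ring
    rw [this]
    exact Ideal.add_mem _ hxb hyc
  | smul c x _ hx =>
    obtain ⟨b, hb, hxb⟩ := hx
    obtain ⟨a, ha⟩ := M.exists_sub_mem_map c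
    refine ⟨a * b, Ideal.mul_mem_left _ _ hb, ?_⟩
    have h1 : c • x - algebraMap R S (a * b) =
        c * (x - algebraMap R S b) + (c - algebraMap R S a) * algebraMap R S b := by
      rw [map_mul, smul_eq_mul]; ring
    rw [h1]
    refine Ideal.add_mem _ (Ideal.mul_mem_left _ _ hxb) ?_
    rw [pow_succ', Ideal.map_mul]
    exact Ideal.mul_mem_mul ha (Ideal.mem_map_of_mem _ hb)

/-- `S = R + m^n S` -/
theorem exists_sub_mem_map_pow (M : Model (R := R) S) (n : ℕ) (s : S) :
    ∃ a : R, s - algebraMap R S a ∈ (maximalIdeal R ^ n).map (algebraMap R S) := by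
  induction n with
  | zero => exact ⟨0, by simp [Ideal.one_eq_top, Ideal.map_top]⟩
  | succ n ih =>
    obtain ⟨a, ha⟩ := ih
    obtain ⟨b, -, hb⟩ := M.exists_mem_pow_sub_mem_map n _ ha
    refine ⟨a + b, ?_⟩
    have : s - algebraMap R S (a + b) = s - algebraMap R S a - algebraMap R S b := by
      rw [map_add]; ring
    rw [this]
    exact hb

theorem quotientMap_bijective (M : Model (R := R) S) (n : ℕ) :
    Function.Bijective (Ideal.quotientMap
      (Ideal.map (algebraMap R S) (IsLocalRing.maximalIdeal R ^ n)) (algebraMap R S)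
      Ideal.le_comap_map) := by
  haveI := M.faithfullyFlat
  constructor
  · apply Ideal.quotientMap_injective'
    rw [Ideal.comap_map_eq_self_of_faithfullyFlat]
  · intro y
    obtain ⟨s, rfl⟩ := Ideal.Quotient.mk_surjective y
    obtain ⟨a, ha⟩ := M.exists_sub_mem_map_pow n s
    refine ⟨Ideal.Quotient.mk _ a, ?_⟩
    rw [Ideal.quotientMap_mk]
    symm
    rw [Ideal.Quotient.eq]
    exact ha

end Model

end Groth.Agent.Lib.lead.Hzn
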