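import Mathlib
import Groth.Agent.Lib.lead.SH9

/-!
# (Strict) henselization, part 11: Krull dimension
-/

universe u

set_option maxHeartbeats 400000

open IsLocalRing TensorProduct Polynomial

namespace Groth.Agent.Lib.lead.SH

variable {R : Type u} [CommRing R] [IsLocalRing R] {Ω : Type u} [Field Ω] [Algebra R Ω]
  [IsLocalHom (algebraMap R Ω)]

/-- the dimension does not drop along a faithfully flat ring map -/
theorem ringKrullDim_le_of_faithfullyFlat (A B : Type*) [CommRing A] [CommRing B] [Algebra A B]
    [Module.FaithfullyFlat A B] : ringKrullDim A ≤ ringKrullDim B := by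
  unfold ringKrullDim Order.krullDim
  refine iSup_le fun l => ?_
  obtain ⟨Q, hQ⟩ := PrimeSpectrum.comap_surjective_of_faithfullyFlat (A := A) (B := B) l.last
  haveI : Q.asIdeal.LiesOver l.last.asIdeal := ⟨by rw [← hQ]; rfl⟩
  obtain ⟨L, hL, -, -⟩ := Ideal.exists_ltSeries_of_hasGoingDown l Q.asIdeal
  rw [← hL]
  exact le_iSup (fun p : LTSeries (PrimeSpectrum B) => (p.length : WithBot ℕ∞)) L

namespace Model

variable {S : Type u} [CommRing S] [Algebra R S]

/-- there are no strict inclusions between primes of `S` over the same prime of `R` -/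
theorem eq_of_le_of_comap_eq (M : Model R Ω S) (P P' : Ideal S) [P.IsPrime] [P'.IsPrime]
    (hle : P ≤ P') (h : P.comap (algebraMap R S) = P'.comap (algebraMap R S)) : P = P' := by
  refine le_antisymm hle fun x hx => ?_
  obtain ⟨i, x', rfl⟩ := M.surj x
  have hcomp : (M.φ i).toRingHom.comp (algebraMap R i.Ring) = algebraMap R S := by
    ext a
    exact (M.φ i).commutes a
  have hQ : (P.comap (M.φ i).toRingHom).under R = (P'.comap (M.φ i).toRingHom).under R := by
    rw [Ideal.under_def, Ideal.under_def, Ideal.comap_comap, Ideal.comap_comap, hcomp]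
    exact h
  have := Algebra.QuasiFinite.eq_of_le_of_under_eq (R := R) (P.comap (M.φ i).toRingHom)
    (P'.comap (M.φ i).toRingHom) (Ideal.comap_mono hle) hQ
  have hx' : x' ∈ P'.comap (M.φ i).toRingHom := hx
  rw [← this] at hx'
  exact hx'

theorem ringKrullDim_le (M : Model R Ω S) : ringKrullDim S ≤ ringKrullDim R := by
  apply Order.krullDim_le_of_strictMono (PrimeSpectrum.comap (algebraMap R S))
  intro P P' hlt
  have hle : PrimeSpectrum.comap (algebraMap R S) P ≤ PrimeSpectrum.comap (algebraMap R S) P' := by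
    rw [← PrimeSpectrum.asIdeal_le_asIdeal]
    exact Ideal.comap_mono ((PrimeSpectrum.asIdeal_le_asIdeal _ _).mpr hlt.le)
  refine lt_of_le_of_ne hle fun heq => ?_
  have h1 : P.asIdeal.comap (algebraMap R S) = P'.asIdeal.comap (algebraMap R S) :=
    congrArg PrimeSpectrum.asIdeal heq
  have h2 := M.eq_of_le_of_comap_eq P.asIdeal P'.asIdeal
    ((PrimeSpectrum.asIdeal_le_asIdeal _ _).mpr hlt.le) h1
  exact hlt.ne (PrimeSpectrum.ext h2)

theorem ringKrullDim_eq [IsLocalRing S] [IsLocalHom (algebraMap R S)] (M : Model R Ω S) :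
    ringKrullDim S = ringKrullDim R := by
  haveI := M.faithfullyFlat
  exact le_antisymm M.ringKrullDim_le (ringKrullDim_le_of_faithfullyFlat R S)

end Model

end Groth.Agent.Lib.lead.SH
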