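import Mathlib
import Groth.Prelude.Def_EtBase

/-!
# Vanishing of sheaf cohomology when the terminal object has only the trivial covering sieve
-/

universe w v u

set_option maxHeartbeats 400000

open CategoryTheory CategoryTheory.Limits Opposite

namespace Groth.Agent.Lib.lead.EtHens

section generic

variable {C : Type u} [Category.{v} C] (J : GrothendieckTopology C)
  [HasSheafify J AddCommGrpCat.{w}] [J.HasSheafCompose (forget AddCommGrpCat.{w})]
  [Balanced (Sheaf J AddCommGrpCat.{w})] [J.WEqualsLocallyBijective AddCommGrpCat.{w}]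
  {T : C} (hJ : ∀ S ∈ J T, S = ⊤)

include hJ in
theorem surjective_app_of_epi {F G : Sheaf J AddCommGrpCat.{w}} (φ : F ⟶ G) [Epi φ] :
    Function.Surjective (φ.hom.app (op T)) := by
  have : Sheaf.IsLocallySurjective φ := (Sheaf.isLocallySurjective_iff_epi' AddCommGrpCat.{w} φ).mpr inferInstance
  intro s
  have h1 := Presheaf.imageSieve_mem J φ.hom (U := op T) s
  have h2 := hJ _ h1
  have h3 : (Presheaf.imageSieve φ.hom s).arrows (𝟙 T) := by
    rw [h2]; trivial
  obtain ⟨t, ht⟩ := h3
  refine ⟨t, ?_⟩
  rw [ht]
  simp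

/-- `ULift ℤ` is a projective abelian group -/
theorem projective_ulift_int : Projective (AddCommGrpCat.of (ULift.{w} ℤ)) where
  factors {X Y} f e _ := by
    have hsurj : Function.Surjective e := (AddCommGrpCat.epi_iff_surjective e).mp inferInstance
    obtain ⟨x, hx⟩ := hsurj (f (ULift.up 1))
    let g : ULift.{w} ℤ →+ X := (zmultiplesHom X x).comp AddEquiv.ulift.toAddMonoidHom
    refine ⟨AddCommGrpCat.ofHom g, ?_⟩
    ext ⟨n⟩
    change e (n • x) = f (ULift.up n)
    rw [map_zsmul, hx, ← map_zsmul]
    congr 1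
    ext
    simp

include hJ in
theorem projective_constantSheaf (hT : IsTerminal T) :
    Projective ((constantSheaf J AddCommGrpCat.{w}).obj (AddCommGrpCat.of (ULift.{w} ℤ))) := by
  haveI : ((sheafSections J AddCommGrpCat.{w}).obj (op T)).PreservesEpimorphisms := by
    refine ⟨fun {F G} φ hφ => ?_⟩
    rw [AddCommGrpCat.epi_iff_surjective]
    exact surjective_app_of_epi J hJ φ
  exact (constantSheafAdj J AddCommGrpCat.{w} hT).map_projective _ projective_ulift_int

include hJ in
theorem subsingleton_H [HasExt.{w} (Sheaf J AddCommGrpCat.{w})] (hT : IsTerminal T)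
    (F : Sheaf J AddCommGrpCat.{w}) (n : ℕ) : Subsingleton (Sheaf.H F (n + 1)) := by
  haveI := projective_constantSheaf J hJ hT
  exact subsingleton_of_forall_eq 0 fun x => Abelian.Ext.eq_zero_of_projective x

end generic

end Groth.Agent.Lib.lead.EtHens
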