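import Mathlib
import Groth.Agent.Lib.lead.EtHens1
import Groth.Agent.Lib.lead.Olivier3
import Groth.Agent.Lib.lead.SH16
import Groth.Prelude.Def_EtCore

/-!
# Étale cohomology of strictly henselian local rings vanishes
-/

universe u

set_option maxHeartbeats 400000
set_option linter.style.haveILetI false
set_option linter.overlappingInstances false

open CategoryTheory CategoryTheory.Limits Opposite AlgebraicGeometry IsLocalRing

namespace Groth.Agent.Lib.lead.EtHens

/-- over a strictly henselian local ring, a weakly étale algebra with a prime over the maximal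
ideal has a section through that prime -/
theorem exists_section_of_prime (R : Type u) [CommRing R] [HenselianLocalRing R]
    [IsSepClosed (ResidueField R)] (R' : Type u) [CommRing R'] [Algebra R R']
    [Algebra.WeaklyEtale R R'] (P : Ideal R') [P.IsPrime]
    (hP : P.comap (algebraMap R R') = maximalIdeal R) :
    ∃ σ : R' →ₐ[R] R, ∀ x, σ x ∈ maximalIdeal R ↔ x ∈ P := by
  haveI : Algebra.WeaklyEtale R' (Localization.AtPrime P) :=
    SH.weaklyEtale_of_isLocalization P.primeCompl
  haveI : Algebra.WeaklyEtale R (Localization.AtPrime P) :=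
    Algebra.WeaklyEtale.trans R R' _
  haveI : IsLocalHom (algebraMap R (Localization.AtPrime P)) := by
    refine ⟨fun r hr => ?_⟩
    rw [IsScalarTower.algebraMap_apply R R' (Localization.AtPrime P),
      IsLocalization.AtPrime.isUnit_to_map_iff (Localization.AtPrime P) P] at hr
    by_contra hnu
    apply hr
    have : r ∈ P.comap (algebraMap R R') := by rw [hP]; exact (mem_maximalIdeal r).mpr hnu
    exact this
  have hbij : Function.Bijective (algebraMap R (Localization.AtPrime P)) := Olivier.main
  let e : R ≃ₐ[R] Localization.AtPrime P :=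
    AlgEquiv.ofBijective (Algebra.ofId R (Localization.AtPrime P)) hbij
  refine ⟨e.symm.toAlgHom.comp (IsScalarTower.toAlgHom R R' (Localization.AtPrime P)), fun x => ?_⟩
  change e.symm (algebraMap R' (Localization.AtPrime P) x) ∈ maximalIdeal R ↔ _
  rw [mem_maximalIdeal, mem_nonunits_iff]
  have h1 : IsUnit (e.symm (algebraMap R' (Localization.AtPrime P) x)) ↔
      IsUnit (algebraMap R' (Localization.AtPrime P) x) := by
    constructor
    · intro h
      have := h.map e
      rwa [e.apply_symm_apply] at this
    · intro h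
      exact h.map e.symm
  rw [h1, IsLocalization.AtPrime.isUnit_to_map_iff (Localization.AtPrime P) P]
  exact not_not

/-- étale morphisms to the spectrum of a strictly henselian local ring have sections through
points over the closed point -/
theorem exists_section (R : Type u) [CommRing R] [HenselianLocalRing R]
    [IsSepClosed (ResidueField R)]
    {Y : Scheme.{u}} (g : Y ⟶ Spec (CommRingCat.of R)) [Etale g] (y : Y)
    (hy : g.base y = IsLocalRing.closedPoint R) :
    ∃ s : Spec (CommRingCat.of R) ⟶ Y, s ≫ g = 𝟙 _ := by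
  obtain ⟨y', hy'⟩ := Y.affineOpenCover.covers y
  obtain ⟨φ, hφ⟩ : ∃ φ : CommRingCat.of R ⟶ Y.affineOpenCover.X (Y.affineOpenCover.idx y),
      Spec.map φ = Y.affineOpenCover.f (Y.affineOpenCover.idx y) ≫ g :=
    ⟨Spec.preimage _, Spec.map_preimage _⟩
  have het : Etale (Spec.map φ) := by rw [hφ]; infer_instance
  have het' : φ.hom.Etale := (HasRingHomProperty.Spec_iff (P := @Etale)).mp het
  letI := φ.hom.toAlgebra
  haveI : Algebra.Etale R (Y.affineOpenCover.X (Y.affineOpenCover.idx y)) := het'
  have hP : (PrimeSpectrum.asIdeal y').comap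
      (algebraMap R (Y.affineOpenCover.X (Y.affineOpenCover.idx y))) = maximalIdeal R := by
    have h1 : (Spec.map φ).base y' = IsLocalRing.closedPoint R := by
      rw [hφ, Scheme.Hom.comp_apply, hy']; exact hy
    exact congrArg PrimeSpectrum.asIdeal h1
  obtain ⟨σ, -⟩ := exists_section_of_prime R _ (PrimeSpectrum.asIdeal y') hP
  refine ⟨Spec.map (CommRingCat.ofHom σ.toRingHom) ≫
    Y.affineOpenCover.f (Y.affineOpenCover.idx y), ?_⟩
  rw [Category.assoc, ← hφ, ← Spec.map_comp]
  have h2 : φ ≫ CommRingCat.ofHom σ.toRingHom = 𝟙 _ := by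
    ext r
    exact σ.commutes r
  exact (congrArg Spec.map h2).trans (Spec.map_id _)

set_option backward.isDefEq.respectTransparency false in
/-- the only covering sieve of the terminal object of the small étale site of a strictly henselian
local ring is the maximal sieve -/
theorem eq_top_of_mem (R : Type u) [CommRing R] [HenselianLocalRing R]
    [IsSepClosed (ResidueField R)]
    (S : Sieve (EtCoh.top (Spec (CommRingCat.of R))))
    (hS : S ∈ (Spec (CommRingCat.of R)).smallEtaleTopology (EtCoh.top (Spec (CommRingCat.of R)))) :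
    S = ⊤ := by
  obtain ⟨U, hUo, hUp, hU⟩ := (Scheme.mem_smallGrothendieckTopology _ _).1 hS
  obtain ⟨i, y, hy⟩ := U.exists_eq (IsLocalRing.closedPoint R)
  haveI : Etale (U.f i) := U.map_prop i
  obtain ⟨s, hs⟩ := exists_section R (U.f i) y hy
  rw [← Sieve.id_mem_iff_eq_top]
  have harr : S.arrows ((U.f i).asOverProp (Spec (CommRingCat.of R)) (hX := hUp i)) :=
    hU _ _ ⟨i⟩
  have hw : s ≫ ((U.X i) ↘ (Spec (CommRingCat.of R))) = 𝟙 _ := by
    rw [← CategoryTheory.comp_over (U.f i) (Spec (CommRingCat.of R)), ← Category.assoc, hs,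
      Category.id_comp]
    rfl
  let σ : EtCoh.top (Spec (CommRingCat.of R)) ⟶
      (U.X i).asOverProp (Spec (CommRingCat.of R)) (hUp i) :=
    MorphismProperty.Over.homMk s hw
  have h1 := S.downward_closed harr σ
  rwa [(EtCore.topIsTerminal (Spec (CommRingCat.of R))).hom_ext (σ ≫ _) (𝟙 _)] at h1

theorem main0073 (R : Type u) [CommRing R] [HenselianLocalRing R]
    [IsSepClosed (IsLocalRing.ResidueField R)] (F : EtCoh.Ab (Spec (CommRingCat.of R)))
    (p : ℕ) (hp : 1 ≤ p) : Subsingleton (EtCoh.H (Spec (CommRingCat.of R)) F p) := by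
  obtain ⟨n, rfl⟩ : ∃ n, p = n + 1 := ⟨p - 1, by omega⟩
  exact subsingleton_H (Spec (CommRingCat.of R)).smallEtaleTopology
    (fun S hS => eq_top_of_mem R S hS) (EtCore.topIsTerminal _) F n

end Groth.Agent.Lib.lead.EtHens
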