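import Mathlib
import Groth.Agent.Lib.lead.EtHens2
import Groth.Agent.Lib.lead.HenselLocal

/-!
# Sections and the stalk at the closed geometric point of a strictly henselian local ring
-/

universe u

set_option maxHeartbeats 400000
set_option linter.style.haveILetI false
set_option linter.overlappingInstances false

open CategoryTheory CategoryTheory.Limits Opposite AlgebraicGeometry IsLocalRing

namespace Groth.Agent.Lib.lead.EtHens

/-- sections through a given residue-field-valued point -/
theorem exists_section_through (R : Type u) [CommRing R] [HenselianLocalRing R]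
    {Y : Scheme.{u}} (g : Y ⟶ Spec (CommRingCat.of R)) [Etale g]
    (v : Spec (CommRingCat.of (ResidueField R)) ⟶ Y)
    (hv : v ≫ g = Spec.map (CommRingCat.ofHom (residue R))) :
    ∃ s : Spec (CommRingCat.of R) ⟶ Y, s ≫ g = 𝟙 _ ∧
      Spec.map (CommRingCat.ofHom (residue R)) ≫ s = v := by
  obtain ⟨y', hy'⟩ := Y.affineOpenCover.covers (v default)
  have hrange : Set.range v ⊆ Set.range (Y.affineOpenCover.f (Y.affineOpenCover.idx (v default))) := by
    rintro _ ⟨a, rfl⟩
    rw [Subsingleton.elim a default]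
    exact ⟨y', hy'⟩
  obtain ⟨v', hv'⟩ : ∃ v' : Spec (CommRingCat.of (ResidueField R)) ⟶
      Spec (Y.affineOpenCover.X (Y.affineOpenCover.idx (v default))),
      v' ≫ Y.affineOpenCover.f (Y.affineOpenCover.idx (v default)) = v :=
    ⟨IsOpenImmersion.lift _ v hrange, IsOpenImmersion.lift_fac _ _ _⟩
  obtain ⟨φ, hφ⟩ : ∃ φ : CommRingCat.of R ⟶ Y.affineOpenCover.X (Y.affineOpenCover.idx (v default)),
      Spec.map φ = Y.affineOpenCover.f (Y.affineOpenCover.idx (v default)) ≫ g :=
    ⟨Spec.preimage _, Spec.map_preimage _⟩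
  obtain ⟨ψ₀, hψ₀⟩ : ∃ ψ₀ : Y.affineOpenCover.X (Y.affineOpenCover.idx (v default)) ⟶
      CommRingCat.of (ResidueField R), Spec.map ψ₀ = v' :=
    ⟨Spec.preimage _, Spec.map_preimage _⟩
  have het : Etale (Spec.map φ) := by rw [hφ]; infer_instance
  have het' : φ.hom.Etale := (HasRingHomProperty.Spec_iff (P := @Etale)).mp het
  letI := φ.hom.toAlgebra
  haveI : Algebra.Etale R (Y.affineOpenCover.X (Y.affineOpenCover.idx (v default))) := het'
  have hcomp : φ ≫ ψ₀ = CommRingCat.ofHom (residue R) := by
    apply Spec.map_injective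
    rw [Spec.map_comp, hψ₀, hφ, ← Category.assoc, hv', hv]
  let ψ : Y.affineOpenCover.X (Y.affineOpenCover.idx (v default)) →ₐ[R] ResidueField R :=
    { ψ₀.hom with
      commutes' := fun r => by
        have := congrArg (fun f => f.hom r) hcomp
        exact this }
  obtain ⟨s₀, hs₀⟩ := HenselLocal.etale_exists_section _ ψ
  refine ⟨Spec.map (CommRingCat.ofHom s₀.toRingHom) ≫
    Y.affineOpenCover.f (Y.affineOpenCover.idx (v default)), ?_, ?_⟩
  · rw [Category.assoc, ← hφ, ← Spec.map_comp]
    have h2 : φ ≫ CommRingCat.ofHom s₀.toRingHom = 𝟙 _ := by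
      ext r
      exact s₀.commutes r
    exact (congrArg Spec.map h2).trans (Spec.map_id _)
  · rw [← Category.assoc, ← Spec.map_comp]
    have h3 : CommRingCat.ofHom s₀.toRingHom ≫ CommRingCat.ofHom (residue R) = ψ₀ := by
      ext b
      exact AlgHom.congr_fun hs₀ b
    rw [h3, hψ₀, hv']

end Groth.Agent.Lib.lead.EtHens
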