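import Mathlib
import Groth.Agent.Lib.lead.EtHens3

/-!
# Sections and the stalk at the closed geometric point of a strictly henselian local ring, II
-/

universe u

set_option maxHeartbeats 400000
set_option linter.style.haveILetI false
set_option linter.overlappingInstances false

open CategoryTheory CategoryTheory.Limits Opposite AlgebraicGeometry IsLocalRing

namespace Groth.Agent.Lib.lead.EtHens

set_option backward.isDefEq.respectTransparency false in
theorem exists_lift_point (R : Type u) [CommRing R] [HenselianLocalRing R]
    [IsSepClosed (ResidueField R)]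
    (V : (Spec (CommRingCat.of R)).Etale)
    (v : (Scheme.pointSmallEtale
      (Spec.map (CommRingCat.ofHom (residue R)))).fiber.obj V) :
    ∃ σ : EtCoh.top (Spec (CommRingCat.of R)) ⟶ V,
      (Scheme.pointSmallEtale (Spec.map (CommRingCat.ofHom (residue R)))).fiber.map σ
        (Over.homMk (Spec.map (CommRingCat.ofHom (residue R))) (Category.comp_id _)) = v := by
  obtain ⟨v₀, hv₀, rfl⟩ := Over.homMk_surjective v
  dsimp at v₀ hv₀
  haveI : Etale V.hom := V.prop
  obtain ⟨s, hs, hsv⟩ := exists_section_through R V.hom v₀ hv₀
  refine ⟨MorphismProperty.Over.homMk s hs, ?_⟩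
  apply Over.OverMorphism.ext
  exact hsv

end Groth.Agent.Lib.lead.EtHens
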