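import Mathlib
import Groth.Agent.Lib.lead.EtHens4

/-!
# Sections and the stalk at the closed geometric point of a strictly henselian local ring, III
-/

universe u

set_option maxHeartbeats 400000
set_option linter.style.haveILetI false
set_option linter.overlappingInstances false

open CategoryTheory CategoryTheory.Limits Opposite AlgebraicGeometry IsLocalRing

namespace Groth.Agent.Lib.lead.EtHens

theorem preservesFiltered_forget_addCommGrp :
    PreservesFilteredColimitsOfSize.{u, u} (forget AddCommGrpCat.{u + 1}) :=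
  preservesFilteredColimitsOfSize_shrink.{u, u + 1, u, u + 1} _

theorem bijective_of_lift {C : Type (u + 1)} [Category.{u} C] {J : GrothendieckTopology C}
    (Φ : GrothendieckTopology.Point.{u} J) (T : C) (hT : IsTerminal T) (x₀ : Φ.fiber.obj T)
    (hlift : ∀ (V : C) (v : Φ.fiber.obj V), ∃ σ : T ⟶ V, Φ.fiber.map σ x₀ = v)
    (P : Cᵒᵖ ⥤ AddCommGrpCat.{u + 1}) :
    Function.Bijective (Φ.toPresheafFiber T x₀ P) := by
  haveI := preservesFiltered_forget_addCommGrp.{u}
  haveI : LocallySmall.{u} C := inferInstance
  constructor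
  · intro z₁ z₂ h
    rw [GrothendieckTopology.Point.toPresheafFiber_eq_iff'.{u + 1, u} Φ] at h
    obtain ⟨Y, f, y, hf, heq⟩ := h
    obtain ⟨σ, hσ⟩ := hlift Y y
    have hσf : σ ≫ f = 𝟙 _ := hT.hom_ext _ _
    have h2 := congrArg (P.map σ.op) heq
    have h3 : ∀ z, P.map σ.op (P.map f.op z) = z := by
      intro z
      rw [← ConcreteCategory.comp_apply, ← P.map_comp, ← op_comp, hσf, op_id, P.map_id]
      rfl
    rwa [h3, h3] at h2
  · intro p
    obtain ⟨V, v, z, rfl⟩ :=
      GrothendieckTopology.Point.toPresheafFiber_jointly_surjective.{u + 1, u} Φ p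
    obtain ⟨σ, hσ⟩ := hlift V v
    refine ⟨P.map σ.op z, ?_⟩
    have := GrothendieckTopology.Point.toPresheafFiber_w Φ σ x₀ P
    rw [← ConcreteCategory.comp_apply, this, hσ]

theorem main0074 (R : Type u) [CommRing R] [HenselianLocalRing R]
    [IsSepClosed (IsLocalRing.ResidueField R)] (F : EtCoh.Ab (Spec (CommRingCat.of R))) :
    Function.Bijective ((Scheme.pointSmallEtale
      (Spec.map (CommRingCat.ofHom (IsLocalRing.residue R)))).toPresheafFiber
        (EtCoh.top (Spec (CommRingCat.of R)))
        (Over.homMk (Spec.map (CommRingCat.ofHom (IsLocalRing.residue R))) (Category.comp_id _))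
        F.obj) :=
  bijective_of_lift _ _ (EtCore.topIsTerminal _) _ (fun V v => exists_lift_point R V v) F.obj

end Groth.Agent.Lib.lead.EtHens
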