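import Mathlib
import Groth.Prelude.Def_EtBase
import Groth.Prelude.Def_EtCore
import Groth.Agent.Lib.lead.EtHens5

/-!
# Geometric points of the small étale site are conservative (for sheaves in a bigger universe)
-/

universe u

set_option maxHeartbeats 400000
set_option linter.style.haveILetI false

open CategoryTheory CategoryTheory.Limits Opposite AlgebraicGeometry

namespace Groth.Agent.Lib.lead.EtCons

set_option backward.isDefEq.respectTransparency false in
/-- covering criterion: a sieve hit by every geometric point is covering -/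
theorem mem_of_forall_geomPoint {X : Scheme.{u}} (U : X.Etale) (S : Sieve U)
    (h : ∀ (Ω : Type u) [Field Ω] [IsSepClosed Ω] (ξ : Spec (CommRingCat.of Ω) ⟶ X)
      (v : (Scheme.pointSmallEtale ξ).fiber.obj U),
      ∃ (V : X.Etale) (g : V ⟶ U) (_ : S g) (y : (Scheme.pointSmallEtale ξ).fiber.obj V),
        (Scheme.pointSmallEtale ξ).fiber.map g y = v) :
    S ∈ X.smallEtaleTopology U := by
  have key : ∀ y₀ : U.left, ∃ (V : X.Etale) (g : V ⟶ U) (_ : S g), y₀ ∈ Set.range g.left := by
    intro y₀
    let v₀ : Spec (CommRingCat.of (SeparableClosure (U.left.residueField y₀))) ⟶ U.left :=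
      Spec.map (CommRingCat.ofHom (algebraMap (U.left.residueField y₀)
        (SeparableClosure (U.left.residueField y₀)))) ≫ U.left.fromSpecResidueField y₀
    obtain ⟨V, g, hg, y, hy⟩ := h (SeparableClosure (U.left.residueField y₀)) (v₀ ≫ U.hom)
      (Over.homMk v₀ rfl)
    refine ⟨V, g, hg, ?_⟩
    have h1 : y.left ≫ g.left = v₀ := congrArg CommaMorphism.left hy
    obtain ⟨pt⟩ : Nonempty (Spec (CommRingCat.of (SeparableClosure (U.left.residueField y₀)))) :=
      inferInstance
    refine ⟨y.left pt, ?_⟩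
    have h2 : g.left (y.left pt) = v₀ pt := by
      have := congrArg (fun f => f pt) h1
      exact this
    rw [h2]
    change (U.left.fromSpecResidueField y₀) _ = y₀
    exact Scheme.fromSpecResidueField_apply _ _
  choose V g hg hy using key
  refine X.smallEtaleTopology.superset_covering (S := Sieve.ofArrows V g) ?_ ?_
  · rw [Sieve.generate_le_iff, Presieve.ofArrows_le_iff]
    exact fun y₀ => hg y₀
  · rw [Scheme.ofArrows_mem_smallEtaleTopology_iff]
    ext y₀
    simp only [Set.mem_iUnion, Set.mem_univ, iff_true]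
    exact ⟨y₀, hy y₀⟩

section generic

variable {X : Scheme.{u}} {A : Type*} [Category A] [HasColimitsOfSize.{u, u} A]
  {FC : A → A → Type*} {CC : A → Type (u + 1)}
  [∀ X Y : A, FunLike (FC X Y) (CC X) (CC Y)] [ConcreteCategory.{u + 1} A FC]
  [PreservesFilteredColimitsOfSize.{u, u} (forget A)]
  [hJ : X.smallEtaleTopology.HasSheafCompose (forget A)]

/-- separation: a section is determined by its germs at geometric points -/
theorem ext_of_germs (F : Sheaf X.smallEtaleTopology A) (U : X.Etale)
    (s t : ToType (F.obj.obj (op U)))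
    (h : ∀ (Ω : Type u) [Field Ω] [IsSepClosed Ω] (ξ : Spec (CommRingCat.of Ω) ⟶ X)
      (v : (Scheme.pointSmallEtale ξ).fiber.obj U),
      (Scheme.pointSmallEtale ξ).toPresheafFiber U v F.obj s =
        (Scheme.pointSmallEtale ξ).toPresheafFiber U v F.obj t) : s = t := by
  haveI : LocallySmall.{u} X.Etale := inferInstance
  let S : Sieve U :=
    { arrows := fun V g => F.obj.map g.op s = F.obj.map g.op t
      downward_closed := by
        intro V W g hg k
        change F.obj.map (k ≫ g).op s = F.obj.map (k ≫ g).op t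
        rw [op_comp, F.obj.map_comp, ConcreteCategory.comp_apply, ConcreteCategory.comp_apply,
          hg] }
  have hS : S ∈ X.smallEtaleTopology U := by
    apply mem_of_forall_geomPoint
    intro Ω _ _ ξ v
    have h1 := h Ω ξ v
    rw [GrothendieckTopology.Point.toPresheafFiber_eq_iff'.{u + 1, u}] at h1
    obtain ⟨V, g, y, hy, heq⟩ := h1
    exact ⟨V, g, heq, y, hy⟩
  have hP : Presieve.IsSheaf X.smallEtaleTopology (F.obj ⋙ forget A) :=
    (isSheaf_iff_isSheaf_of_type _ _).1 (hJ.isSheaf F.obj F.property)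
  exact (hP S hS).isSeparatedFor.ext (fun V g hg => hg)

omit hJ in
/-- local surjectivity can be tested on geometric stalks -/
theorem isLocallySurjective_of_stalks {P Q : X.Etaleᵒᵖ ⥤ A} (f : P ⟶ Q)
    (h : ∀ (Ω : Type u) [Field Ω] [IsSepClosed Ω] (ξ : Spec (CommRingCat.of Ω) ⟶ X),
      Function.Surjective ((Scheme.pointSmallEtale ξ).presheafFiber.map f)) :
    Presheaf.IsLocallySurjective X.smallEtaleTopology f := by
  haveI : LocallySmall.{u} X.Etale := inferInstance
  refine ⟨fun {U} s => mem_of_forall_geomPoint U _ ?_⟩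
  intro Ω _ _ ξ v
  obtain ⟨q, hq⟩ := h Ω ξ ((Scheme.pointSmallEtale ξ).toPresheafFiber U v Q s)
  obtain ⟨V, y, t, rfl⟩ :=
    GrothendieckTopology.Point.toPresheafFiber_jointly_surjective.{u + 1, u}
      (Scheme.pointSmallEtale ξ) q
  rw [GrothendieckTopology.Point.toPresheafFiber_naturality_apply] at hq
  -- common refinement
  let E₁ : (Scheme.pointSmallEtale ξ).fiber.Elements := ⟨U, v⟩
  let E₂ : (Scheme.pointSmallEtale ξ).fiber.Elements := ⟨V, y⟩
  let E := IsCofiltered.min E₁ E₂
  let k₁ : E ⟶ E₁ := IsCofiltered.minToLeft E₁ E₂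
  let k₂ : E ⟶ E₂ := IsCofiltered.minToRight E₁ E₂
  have hk₁ : (Scheme.pointSmallEtale ξ).fiber.map k₁.1 E.2 = v := k₁.2
  have hk₂ : (Scheme.pointSmallEtale ξ).fiber.map k₂.1 E.2 = y := k₂.2
  have e1 := GrothendieckTopology.Point.toPresheafFiber_w_apply (Scheme.pointSmallEtale ξ)
    k₁.1 E.2 Q s
  have e2 := GrothendieckTopology.Point.toPresheafFiber_w_apply (Scheme.pointSmallEtale ξ)
    k₂.1 E.2 Q (f.app _ t)
  rw [hk₁] at e1
  rw [hk₂] at e2
  rw [← e1, ← e2, GrothendieckTopology.Point.toPresheafFiber_eq_iff'.{u + 1, u}] at hq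
  obtain ⟨W', k, w', hw', heq⟩ := hq
  refine ⟨W', k ≫ k₁.1, ⟨P.map (k ≫ k₂.1).op t, ?_⟩, w', ?_⟩
  · rw [NatTrans.naturality_apply, op_comp, Q.map_comp, ConcreteCategory.comp_apply, heq,
      op_comp, Q.map_comp, ConcreteCategory.comp_apply]
  · rw [Functor.map_comp]
    change (Scheme.pointSmallEtale ξ).fiber.map k₁.1 ((Scheme.pointSmallEtale ξ).fiber.map k w') = v
    rw [hw', hk₁]

end generic

end Groth.Agent.Lib.lead.EtCons
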