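import Mathlib
import Groth.Agent.Lib.lead.EtCons1
import Groth.Prelude.Def_EtAcyc

/-!
# L-torsion sheaves via geometric stalks
-/

universe u

set_option maxHeartbeats 400000
set_option linter.style.haveILetI false

open CategoryTheory CategoryTheory.Limits Opposite AlgebraicGeometry

namespace Groth.Agent.Lib.lead.EtCons

variable {X : Scheme.{u}}

set_option backward.isDefEq.respectTransparency false in
theorem main8525 (L : Set ℕ) (F : EtCoh.Ab X) :
    EtAcyc.IsLTorsion L F ↔
      ∀ (Ω : Type u) [Field Ω] [IsSepClosed Ω] (ξ : Spec (CommRingCat.of Ω) ⟶ X)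
        (t : (EtCoh.stalk ξ).obj F), ∃ m : ℕ, EtAcyc.PrimesIn L m ∧ m • t = 0 := by
  haveI := EtHens.preservesFiltered_forget_addCommGrp.{u}
  haveI : LocallySmall.{u} X.Etale := inferInstance
  constructor
  · intro hF Ω _ _ ξ t
    obtain ⟨U, v, s, rfl⟩ :=
      GrothendieckTopology.Point.toPresheafFiber_jointly_surjective.{u + 1, u}
        (Scheme.pointSmallEtale ξ) (P := F.obj) t
    obtain ⟨v₀, hv₀, rfl⟩ := Over.homMk_surjective v
    dsimp at v₀ hv₀
    obtain ⟨V, g, m, ⟨v₁, hv₁⟩, hm, hms⟩ := hF U s (v₀ default)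
    haveI : Etale g.left := by
      haveI : Etale V.hom := V.prop
      haveI : Etale U.hom := U.prop
      haveI : Etale (g.left ≫ U.hom) := by
        have : g.left ≫ U.hom = V.hom := Over.w g.hom
        rw [this]; infer_instance
      exact Etale.of_comp g.left U.hom
    obtain ⟨l, hl₁, hl₂⟩ := Scheme.exists_fac_of_etale_of_isSepClosed g.left v₀ v₁ hv₁
    have hlw : l ≫ V.hom = ξ := by
      have : g.left ≫ U.hom = V.hom := Over.w g.hom
      rw [← this, ← Category.assoc, hl₁, hv₀]
    refine ⟨m, hm, ?_⟩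
    have hw := GrothendieckTopology.Point.toPresheafFiber_w_apply (Scheme.pointSmallEtale ξ)
      g (Over.homMk l hlw) F.obj s
    have hfib : (Scheme.pointSmallEtale ξ).fiber.map g (Over.homMk l hlw) =
        Over.homMk v₀ hv₀ := by
      apply Over.OverMorphism.ext
      exact hl₁
    rw [hfib] at hw
    rw [← hw]
    refine (map_nsmul (ConcreteCategory.hom ((Scheme.pointSmallEtale ξ).toPresheafFiber V
      (Over.homMk l hlw) F.obj)) m _).symm.trans ?_
    rw [hms]
    exact map_zero _
  · intro h U s x
    let v₀ : Spec (CommRingCat.of (SeparableClosure (U.left.residueField x))) ⟶ U.left :=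
      Spec.map (CommRingCat.ofHom (algebraMap (U.left.residueField x)
        (SeparableClosure (U.left.residueField x)))) ≫ U.left.fromSpecResidueField x
    obtain ⟨m, hm, hmt⟩ := h (SeparableClosure (U.left.residueField x)) (v₀ ≫ U.hom)
      ((Scheme.pointSmallEtale (v₀ ≫ U.hom)).toPresheafFiber U (Over.homMk v₀ rfl) F.obj s)
    have hmt' : (Scheme.pointSmallEtale (v₀ ≫ U.hom)).toPresheafFiber U (Over.homMk v₀ rfl) F.obj
        (m • s) = (Scheme.pointSmallEtale (v₀ ≫ U.hom)).toPresheafFiber U (Over.homMk v₀ rfl) F.obj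
        (0 : ↑(F.obj.obj (op U))) :=
      (map_nsmul (ConcreteCategory.hom ((Scheme.pointSmallEtale (v₀ ≫ U.hom)).toPresheafFiber U
        (Over.homMk v₀ rfl) F.obj)) m s).trans (hmt.trans (map_zero _).symm)
    rw [GrothendieckTopology.Point.toPresheafFiber_eq_iff'.{u + 1, u}] at hmt'
    obtain ⟨V, g, y, hy, heq⟩ := hmt'
    have heq' : m • F.obj.map g.op s = 0 :=
      (map_nsmul (ConcreteCategory.hom (F.obj.map g.op)) m s).symm.trans
        (heq.trans (map_zero _))
    refine ⟨V, g, m, ?_, hm, heq'⟩
    have h1 : y.left ≫ g.left = v₀ := congrArg CommaMorphism.left hy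
    obtain ⟨pt⟩ : Nonempty (Spec (CommRingCat.of (SeparableClosure (U.left.residueField x)))) :=
      inferInstance
    refine ⟨y.left pt, ?_⟩
    have h2 : g.left (y.left pt) = v₀ pt := by
      have := congrArg (fun f => f pt) h1
      exact this
    change g.left (y.left pt) = x
    rw [h2]
    change (U.left.fromSpecResidueField x) _ = x
    exact Scheme.fromSpecResidueField_apply _ _

end Groth.Agent.Lib.lead.EtCons
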