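import Mathlib
import Groth.Prelude.Def_Hens2
import Groth.Agent.Lib.lead.Hensel

/-!
# Pair henselizations: formal properties
-/

universe u

set_option maxHeartbeats 400000

namespace Groth.Agent.Lib.lead.PairHz

open Groth.Agent.Lib.lead.Hensel

theorem radical_map_eq_of_radical_eq {A B : Type*} [CommRing A] [CommRing B] (f : A →+* B)
    {I J : Ideal A} (h : I.radical = J.radical) : (I.map f).radical = (J.map f).radical := by
  have key : ∀ {I J : Ideal A}, I.radical = J.radical → (I.map f).radical ≤ (J.map f).radical := by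
    intro I J h
    rw [Ideal.radical_le_radical_iff]
    calc I.map f ≤ I.radical.map f := Ideal.map_mono Ideal.le_radical
      _ = J.radical.map f := by rw [h]
      _ ≤ (J.map f).radical := Ideal.map_radical_le f
  exact le_antisymm (key h) (key h.symm)

theorem isPairHenselization_of_radical_eq {A : Type u} [CommRing A] {I J : Ideal A}
    (h : I.radical = J.radical) {B : Type u} [CommRing B] [Algebra A B]
    (hI : Hens2.IsPairHenselization A I B) : Hens2.IsPairHenselization A J B := by
  refine ⟨(henselian_iff_of_radical_eq (radical_map_eq_of_radical_eq _ h)).mp hI.1, ?_⟩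
  intro C _ K f hK hJK
  refine hI.2 C K.radical f (henselian_radical hK) ?_
  calc I.map f ≤ I.radical.map f := Ideal.map_mono Ideal.le_radical
    _ = J.radical.map f := by rw [h]
    _ ≤ (J.map f).radical := Ideal.map_radical_le f
    _ ≤ K.radical := Ideal.radical_mono hJK

open Polynomial in
/-- henselian pairs transport along ring isomorphisms -/
theorem henselianRing_map_equiv {B B' : Type*} [CommRing B] [CommRing B'] (e : B ≃+* B')
    {K : Ideal B} (h : HenselianRing B K) : HenselianRing B' (K.map (e : B →+* B')) := by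
  have hjac : K.map (e : B →+* B') ≤ Ideal.jacobson ⊥ := by
    rw [Ideal.map_le_iff_le_comap]
    intro x hx
    rw [Ideal.mem_comap, Ideal.mem_jacobson_bot]
    intro y
    have h1 := (Ideal.mem_jacobson_bot.mp (h.jac hx)) (e.symm y)
    have h2 := h1.map (e : B →+* B')
    simpa using h2
  refine ⟨hjac, ?_⟩
  intro f hf a₀ h₁ h₂
  have hmem : ∀ y : B', y ∈ K.map (e : B →+* B') ↔ e.symm y ∈ K := by
    intro y
    rw [Ideal.map_comap_of_equiv e]
    rfl
  have hu : IsUnit (f.derivative.eval a₀) := isUnit_of_isUnit_mk _ hjac h₂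
  have hev : ∀ (p : B'[X]) (b : B'), (p.map (e.symm : B' →+* B)).eval (e.symm b) =
      e.symm (p.eval b) := by
    intro p b
    rw [Polynomial.eval_map]
    exact Polynomial.eval₂_at_apply (e.symm : B' →+* B) b
  obtain ⟨r, hr, hrK⟩ := h.is_henselian (f.map (e.symm : B' →+* B)) (hf.map _) (e.symm a₀)
    (by rw [hev]; exact (hmem _).mp h₁)
    (by
      rw [Polynomial.derivative_map, hev]
      exact (hu.map (e.symm : B' →+* B)).map _)
  refine ⟨e r, ?_, ?_⟩
  · have : f = (f.map (e.symm : B' →+* B)).map (e : B →+* B') := by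
      rw [Polynomial.map_map]
      have : (e : B →+* B').comp (e.symm : B' →+* B) = RingHom.id B' := by
        ext x; simp
      rw [this, Polynomial.map_id]
    rw [Polynomial.IsRoot.def, this, Polynomial.eval_map]
    have h3 := Polynomial.eval₂_at_apply (p := f.map (e.symm : B' →+* B)) (e : B →+* B') r
    rw [hr.eq_zero, map_zero] at h3
    exact h3
  · rw [hmem, map_sub, RingEquiv.symm_apply_apply]
    exact hrK

/-- pair henselizations transport along algebra isomorphisms -/
theorem isPairHenselization_of_algEquiv {A : Type u} [CommRing A] {I : Ideal A}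
    {B B' : Type u} [CommRing B] [Algebra A B] [CommRing B'] [Algebra A B']
    (hB : Hens2.IsPairHenselization A I B) (e : B ≃ₐ[A] B') :
    Hens2.IsPairHenselization A I B' := by
  have he : (e.toRingEquiv : B →+* B').comp (algebraMap A B) = algebraMap A B' := by
    ext a; exact e.commutes a
  refine ⟨?_, ?_⟩
  · have := henselianRing_map_equiv e.toRingEquiv hB.1
    rwa [Ideal.map_map, he] at this
  · intro C _ J φ hJ hφ
    obtain ⟨g, hg, hgu⟩ := hB.2 C J φ hJ hφ
    refine ⟨g.comp (e.symm.toRingEquiv : B' →+* B), ?_, ?_⟩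
    · rw [← hg]
      ext a
      change g (e.symm (algebraMap A B' a)) = g (algebraMap A B a)
      rw [e.symm.commutes]
    · intro g' hg'
      have : g'.comp (e.toRingEquiv : B →+* B') = g := by
        apply hgu
        rw [RingHom.comp_assoc, he, hg']
      rw [← this]
      ext b
      change g' b = g' (e (e.symm b))
      rw [e.apply_symm_apply]

/-- any two pair henselizations are isomorphic -/
theorem algEquiv_of_isPairHenselization {A : Type u} [CommRing A] {I : Ideal A}
    {B B' : Type u} [CommRing B] [Algebra A B] [CommRing B'] [Algebra A B']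
    (hB : Hens2.IsPairHenselization A I B) (hB' : Hens2.IsPairHenselization A I B') :
    Nonempty (B ≃ₐ[A] B') := by
  obtain ⟨g, hg, -⟩ := hB.2 B' (I.map (algebraMap A B')) (algebraMap A B') hB'.1 le_rfl
  obtain ⟨g', hg', -⟩ := hB'.2 B (I.map (algebraMap A B)) (algebraMap A B) hB.1 le_rfl
  have h1 : g'.comp g = RingHom.id B := by
    obtain ⟨k, -, hku⟩ := hB.2 B (I.map (algebraMap A B)) (algebraMap A B) hB.1 le_rfl
    rw [hku (g'.comp g) (by change (g'.comp g).comp _ = _; rw [RingHom.comp_assoc, hg, hg']),
      hku (RingHom.id B) (by change (RingHom.id B).comp _ = _; simp)]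
  have h2 : g.comp g' = RingHom.id B' := by
    obtain ⟨k, -, hku⟩ := hB'.2 B' (I.map (algebraMap A B')) (algebraMap A B') hB'.1 le_rfl
    rw [hku (g.comp g') (by change (g.comp g').comp _ = _; rw [RingHom.comp_assoc, hg', hg]),
      hku (RingHom.id B') (by change (RingHom.id B').comp _ = _; simp)]
  exact ⟨{ RingEquiv.ofRingHom g g' h2 h1 with
    commutes' := fun a => RingHom.congr_fun hg a }⟩

end Groth.Agent.Lib.lead.PairHz
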