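import Mathlib
import Groth.Prelude.Def_Hens2
import Groth.Agent.Lib.lead.Hensel

/-!
# A pair henselization `H` of `(R, J)` satisfies `R/J ≅ H/JH` (from the universal property alone)
-/

universe u

set_option maxHeartbeats 400000
set_option linter.unusedSectionVars false
set_option linter.style.haveILetI false

open Polynomial

namespace Groth.Agent.Lib.lead.PairHzQuot

open Groth.Agent.Lib.lead.Hensel

variable {R : Type u} [CommRing R] {J : Ideal R} {H : Type u} [CommRing H] [Algebra R H]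

/-- the subalgebra `im(R) + JH` -/
def T₀ (R : Type u) [CommRing R] (J : Ideal R) (H : Type u) [CommRing H] [Algebra R H] :
    Subalgebra R H where
  carrier := {h | ∃ r : R, h - algebraMap R H r ∈ J.map (algebraMap R H)}
  mul_mem' := by
    rintro a b ⟨r, hr⟩ ⟨s, hs⟩
    refine ⟨r * s, ?_⟩
    have : a * b - algebraMap R H (r * s) =
        (a - algebraMap R H r) * b + algebraMap R H r * (b - algebraMap R H s) := by
      rw [map_mul]; ring
    rw [this]
    exact Ideal.add_mem _ (Ideal.mul_mem_right _ _ hr) (Ideal.mul_mem_left _ _ hs)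
  add_mem' := by
    rintro a b ⟨r, hr⟩ ⟨s, hs⟩
    refine ⟨r + s, ?_⟩
    have : a + b - algebraMap R H (r + s) =
        (a - algebraMap R H r) + (b - algebraMap R H s) := by
      rw [map_add]; ring
    rw [this]
    exact Ideal.add_mem _ hr hs
  algebraMap_mem' := fun r => ⟨r, by rw [sub_self]; exact Ideal.zero_mem _⟩

theorem mem_T₀ (h : H) : h ∈ T₀ R J H ↔ ∃ r : R, h - algebraMap R H r ∈ J.map (algebraMap R H) :=
  Iff.rfl

theorem mem_T₀_of_mem (h : H) (hh : h ∈ J.map (algebraMap R H)) : h ∈ T₀ R J H :=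
  ⟨0, by rwa [map_zero, sub_zero]⟩

theorem mem_T₀_of_sub_mem (a b : H) (hb : b ∈ T₀ R J H) (hab : a - b ∈ J.map (algebraMap R H)) :
    a ∈ T₀ R J H := by
  have : a = b + (a - b) := by ring
  rw [this]
  exact (T₀ R J H).add_mem hb (mem_T₀_of_mem _ hab)

/-- the ideal `JH` of `T₀` -/
def J₀ (R : Type u) [CommRing R] (J : Ideal R) (H : Type u) [CommRing H] [Algebra R H] :
    Ideal (T₀ R J H) :=
  (J.map (algebraMap R H)).comap (T₀ R J H).val.toRingHom

theorem mem_J₀ (x : T₀ R J H) : x ∈ J₀ R J H ↔ (x : H) ∈ J.map (algebraMap R H) := Iff.rfl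

theorem henselian_T₀ (hH : HenselianRing H (J.map (algebraMap R H))) :
    HenselianRing (T₀ R J H) (J₀ R J H) where
  jac := by
    intro x hx
    rw [Ideal.mem_jacobson_bot]
    intro y
    have hxy : (x : H) * (y : H) ∈ J.map (algebraMap R H) := Ideal.mul_mem_right _ _ hx
    have hu : IsUnit ((x : H) * (y : H) + 1) := Ideal.mem_jacobson_bot.mp (hH.jac hx) y
    obtain ⟨u, hu'⟩ := hu
    have hinv : ((u⁻¹ : Hˣ) : H) ∈ T₀ R J H := by
      refine ⟨1, ?_⟩
      have h1 : ((u⁻¹ : Hˣ) : H) - algebraMap R H 1 = -((x : H) * (y : H) * ((u⁻¹ : Hˣ) : H)) := by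
        have h2 : (u : H) * ((u⁻¹ : Hˣ) : H) = 1 := u.mul_inv
        rw [hu'] at h2
        rw [map_one]
        have : ((x : H) * (y : H) + 1) * ((u⁻¹ : Hˣ) : H) =
            (x : H) * (y : H) * ((u⁻¹ : Hˣ) : H) + ((u⁻¹ : Hˣ) : H) := by ring
        rw [this] at h2
        rw [← h2]; ring
      rw [h1]
      exact (Ideal.neg_mem_iff _).mpr (Ideal.mul_mem_right _ _ hxy)
    refine ⟨⟨x * y + 1, ⟨((u⁻¹ : Hˣ) : H), hinv⟩, ?_, ?_⟩, rfl⟩
    · apply Subtype.ext
      change ((x : H) * (y : H) + 1) * ((u⁻¹ : Hˣ) : H) = 1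
      rw [← hu']; exact u.mul_inv
    · apply Subtype.ext
      change ((u⁻¹ : Hˣ) : H) * ((x : H) * (y : H) + 1) = 1
      rw [← hu']; exact u.inv_mul
  is_henselian := by
    intro f hf a₀ h₁ h₂
    let ι : T₀ R J H →+* H := (T₀ R J H).val.toRingHom
    have hev : ∀ (p : (T₀ R J H)[X]) (b : T₀ R J H), (p.map ι).eval (ι b) = ι (p.eval b) := by
      intro p b
      rw [Polynomial.eval_map]
      exact Polynomial.eval₂_at_apply ι b
    have h2' : IsUnit (Ideal.Quotient.mk (J.map (algebraMap R H))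
        ((f.map ι).derivative.eval (ι a₀))) := by
      rw [Polynomial.derivative_map, hev]
      have := h₂.map (Ideal.quotientMap (J.map (algebraMap R H)) ι (le_refl (J₀ R J H)))
      rwa [Ideal.quotientMap_mk] at this
    obtain ⟨a, ha, haJ⟩ := hH.is_henselian (f.map ι) (hf.map _) (ι a₀)
      (by rw [hev]; exact h₁) h2'
    have haT : a ∈ T₀ R J H := mem_T₀_of_sub_mem a (ι a₀) a₀.2 haJ
    refine ⟨⟨a, haT⟩, ?_, haJ⟩
    rw [Polynomial.IsRoot.def]
    apply Subtype.ext
    have := hev f ⟨a, haT⟩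
    change (f.map ι).eval a = ((f.eval (⟨a, haT⟩ : T₀ R J H) : T₀ R J H) : H) at this
    rw [← this]
    exact ha

theorem T₀_eq_top (hH : Hens2.IsPairHenselization R J H) : T₀ R J H = ⊤ := by
  have hT := henselian_T₀ hH.1
  obtain ⟨g, hg, -⟩ := hH.2 (T₀ R J H) (J₀ R J H) (algebraMap R (T₀ R J H)) hT (by
    rw [Ideal.map_le_iff_le_comap]
    intro r hr
    rw [Ideal.mem_comap, mem_J₀]
    exact Ideal.mem_map_of_mem _ hr)
  obtain ⟨k, -, hku⟩ := hH.2 H (J.map (algebraMap R H)) (algebraMap R H) hH.1 le_rfl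
  have h1 : (T₀ R J H).val.toRingHom.comp g = k := hku _ (by
    change ((T₀ R J H).val.toRingHom.comp g).comp (algebraMap R H) = algebraMap R H
    rw [RingHom.comp_assoc, hg]
    ext r
    rfl)
  have h2 : RingHom.id H = k := hku _ (by ext r; rfl)
  rw [eq_top_iff]
  intro h _
  have : h = (T₀ R J H).val.toRingHom (g h) := by
    have := RingHom.congr_fun (h1.trans h2.symm) h
    exact this.symm
  rw [this]
  exact (g h).2

/-- `R → H/JH` is surjective -/
theorem exists_sub_mem (hH : Hens2.IsPairHenselization R J H) (h : H) :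
    ∃ r : R, h - algebraMap R H r ∈ J.map (algebraMap R H) := by
  have : h ∈ T₀ R J H := by rw [T₀_eq_top hH]; trivial
  exact this

/-- `R/J → H/JH` is injective -/
theorem mem_of_algebraMap_mem (hH : Hens2.IsPairHenselization R J H) (r : R)
    (hr : algebraMap R H r ∈ J.map (algebraMap R H)) : r ∈ J := by
  have hbot : HenselianRing (R ⧸ J) ⊥ :=
    { jac := bot_le
      is_henselian := fun f _ a₀ h₁ _ => ⟨a₀, by rwa [Ideal.mem_bot] at h₁, by simp⟩ }
  obtain ⟨g, hg, -⟩ := hH.2 (R ⧸ J) ⊥ (Ideal.Quotient.mk J) hbot (by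
    rw [Ideal.map_quotient_self])
  have h1 : g (algebraMap R H r) ∈ (J.map (algebraMap R H)).map g := Ideal.mem_map_of_mem _ hr
  rw [Ideal.map_map, hg, Ideal.map_quotient_self, Ideal.mem_bot] at h1
  have h2 : g (algebraMap R H r) = Ideal.Quotient.mk J r := RingHom.congr_fun hg r
  rw [h2] at h1
  exact Ideal.Quotient.eq_zero_iff_mem.mp h1

end Groth.Agent.Lib.lead.PairHzQuot
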