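import Mathlib

/-! I-adic completeness passes to retracts and finite products; finite projective modules over
complete rings are complete (lead). -/

namespace Groth.Agent.Lib.lead.Adic

universe u v w

variable {A : Type u} [CommRing A] (I : Ideal A)

theorem smodEq_map_le {M : Type*} {N : Type*} [AddCommGroup M] [Module A M] [AddCommGroup N] [Module A N]
    (f : M →ₗ[A] N) (n : ℕ) {x y : M} (h : x ≡ y [SMOD (I ^ n • ⊤ : Submodule A M)]) :
    f x ≡ f y [SMOD (I ^ n • ⊤ : Submodule A N)] := by
  have h1 := h.map f
  refine SModEq.mono ?_ h1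
  rw [Submodule.map_smul'']
  exact Submodule.smul_mono le_rfl le_top

/-- A retract of an `I`-adically complete module is `I`-adically complete. -/
theorem isAdicComplete_of_retract {M : Type v} {N : Type w} [AddCommGroup M] [Module A M]
    [AddCommGroup N] [Module A N] [IsAdicComplete I N] (i : M →ₗ[A] N) (r : N →ₗ[A] M)
    (hri : ∀ x, r (i x) = x) : IsAdicComplete I M where
  haus' := by
    intro x hx
    have : i x = 0 := by
      apply IsHausdorff.haus (I := I) inferInstance
      intro n
      have := smodEq_map_le I i n (hx n)
      simpa using this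
    rw [← hri x, this, map_zero]
  prec' := by
    intro f hf
    obtain ⟨L, hL⟩ := IsPrecomplete.prec (I := I) (M := N) inferInstance (f := fun n => i (f n))
      (fun {m n} hmn => smodEq_map_le I i m (hf hmn))
    refine ⟨r L, fun n => ?_⟩
    have := smodEq_map_le I r n (hL n)
    simpa [hri] using this

theorem mem_smul_top_pi {ι : Type*} [Finite ι] (J : Ideal A) (x : ι → A) (hx : ∀ j, x j ∈ J) :
    x ∈ (J • ⊤ : Submodule A (ι → A)) := by
  classical
  haveI := Fintype.ofFinite ι
  have : x = ∑ j, (x j) • (Pi.single j (1 : A) : ι → A) := by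
    funext k
    simp [Finset.sum_apply, Pi.single_apply]
  rw [this]
  exact Submodule.sum_mem _ (fun j _ => Submodule.smul_mem_smul (hx j) Submodule.mem_top)

theorem apply_mem_of_mem_smul_top_pi {ι : Type*} (J : Ideal A) (x : ι → A)
    (hx : x ∈ (J • ⊤ : Submodule A (ι → A))) (j : ι) : x j ∈ J := by
  have h1 : (LinearMap.proj j : (ι → A) →ₗ[A] A) x ∈ Submodule.map (LinearMap.proj j) (J • ⊤ : Submodule A (ι → A)) :=
    Submodule.mem_map_of_mem hx
  rw [Submodule.map_smul''] at h1
  have h2 : (J • Submodule.map (LinearMap.proj j : (ι → A) →ₗ[A] A) ⊤) ≤ J • (⊤ : Submodule A A) :=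
    Submodule.smul_mono le_rfl le_top
  have h3 := h2 h1
  rw [Ideal.smul_top_eq_map, Algebra.algebraMap_self, Ideal.map_id] at h3
  exact h3

theorem isAdicComplete_pi {ι : Type*} [Finite ι] [IsAdicComplete I A] : IsAdicComplete I (ι → A) where
  haus' := by
    intro x hx
    funext j
    apply IsHausdorff.haus (I := I) (M := A) inferInstance
    intro n
    have := smodEq_map_le I (LinearMap.proj j : (ι → A) →ₗ[A] A) n (hx n)
    simpa using this
  prec' := by
    intro f hf
    have key : ∀ j, ∃ L : A, ∀ n, f n j ≡ L [SMOD (I ^ n • ⊤ : Submodule A A)] := by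
      intro j
      refine IsPrecomplete.prec (I := I) (M := A) inferInstance (f := fun n => f n j) ?_
      intro m n hmn
      exact smodEq_map_le I (LinearMap.proj j : (ι → A) →ₗ[A] A) m (hf hmn)
    choose L hL using key
    refine ⟨L, fun n => ?_⟩
    rw [SModEq.sub_mem]
    apply mem_smul_top_pi
    intro j
    have := (hL j n)
    rw [SModEq.sub_mem] at this
    have h3 : f n j - L j ∈ (I ^ n • ⊤ : Submodule A A) := this
    rw [Ideal.smul_top_eq_map, Algebra.algebraMap_self, Ideal.map_id] at h3
    exact h3

/-- A finite projective module over an `I`-adically complete ring is `I`-adically complete. -/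
theorem isAdicComplete_of_finite_projective [IsAdicComplete I A]
    (M : Type v) [AddCommGroup M] [Module A M] [Module.Finite A M] [Module.Projective A M] :
    IsAdicComplete I M := by
  obtain ⟨n, f, hf⟩ := Module.Finite.exists_fin' A M
  obtain ⟨s, hs⟩ := Module.projective_lifting_property f LinearMap.id hf
  haveI := isAdicComplete_pi I (ι := Fin n) (A := A)
  exact isAdicComplete_of_retract I s f (fun x => by
    have := congrArg (fun g => g x) hs
    simpa using this)

end Groth.Agent.Lib.lead.Adic
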