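import Mathlib
import Groth.Prelude.Def_EtBase
import Groth.Prelude.Def_EtCore

/-!
# Stalks of pushforward along a closed immersion vanish outside the closed subscheme
-/

universe u

set_option maxHeartbeats 400000
set_option linter.style.haveILetI false

open CategoryTheory CategoryTheory.Limits Opposite AlgebraicGeometry

namespace Groth.Agent.Lib.lead.EtClosed

theorem bot_mem_smallEtale (X : Scheme.{u}) (E : X.Etale) [IsEmpty E.left] :
    ⊥ ∈ X.smallEtaleTopology E := by
  have h := (Scheme.ofArrows_mem_smallEtaleTopology_iff (W := E) (ι := PEmpty.{1})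
    (Z := fun i => i.elim) (fun i => i.elim)).mpr (by
      ext y
      exact (IsEmpty.false y).elim)
  have h2 : Sieve.ofArrows (fun i : PEmpty.{1} => (i.elim : X.Etale)) (fun i => i.elim) =
      (⊥ : Sieve E) := by
    ext Y f
    constructor
    · rintro ⟨_, _, _, ⟨i⟩, _⟩
      exact i.elim
    · intro h
      exact h.elim
  rwa [h2] at h

/-- sections of an abelian étale sheaf over an empty scheme vanish -/
theorem subsingleton_sections_of_isEmpty {X : Scheme.{u}} (G : EtCoh.Ab X) (E : X.Etale)
    [IsEmpty E.left] : Subsingleton (G.obj.obj (op E)) := by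
  have hT : IsTerminal (G.obj.obj (op E)) := Sheaf.isTerminalOfBotCover G E (bot_mem_smallEtale X E)
  have hZ : IsZero (G.obj.obj (op E)) := hT.isZero
  exact AddCommGrpCat.subsingleton_of_isZero hZ

end Groth.Agent.Lib.lead.EtClosed
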