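import Mathlib
import Groth.Prelude.Def_W4c5etcohweilstudentAS
import Groth.Agent.Lib.lead.EtClosed1

/-!
# The Artin–Schreier cover `R[x]/(x^p - x - a)` and surjectivity of `x ↦ x^p - x` on `G_a`
-/

universe u

set_option maxHeartbeats 400000
set_option linter.style.haveILetI false

open CategoryTheory CategoryTheory.Limits Opposite AlgebraicGeometry Polynomial

namespace Groth.Agent.Lib.lead.AS

theorem deg_lt {R : Type u} [CommRing R] [Nontrivial R] (p : ℕ) (hp : p.Prime) (a : R) :
    (X + C a : R[X]).degree < p := by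
  rw [degree_X_add_C]
  exact_mod_cast hp.one_lt

/-- the standard étale pair `(x^p - x - a, 1)` in characteristic `p` -/
noncomputable def pair {R : Type u} [CommRing R] (p : ℕ) (hp : p.Prime) (h0 : (p : R) = 0)
    (a : R) : StandardEtalePair R where
  f := X ^ p - (X + C a)
  monic_f := by
    rcases subsingleton_or_nontrivial R with hR | hR
    · exact Subsingleton.elim _ _
    · exact monic_X_pow_sub (deg_lt p hp a)
  g := 1
  cond := by
    refine ⟨-1, 0, 1, ?_⟩
    simp only [derivative_sub, derivative_X_pow, derivative_add, derivative_X, derivative_C,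
      add_zero, h0, C_0, zero_mul, zero_sub, mul_zero, pow_one]
    ring

theorem pair_X_pow {R : Type u} [CommRing R] (p : ℕ) (hp : p.Prime) (h0 : (p : R) = 0) (a : R) :
    (pair p hp h0 a).X ^ p - (pair p hp h0 a).X = algebraMap R (pair p hp h0 a).Ring a := by
  have h := ((pair p hp h0 a).hasMap_X).1
  have : aeval (pair p hp h0 a).X (X ^ p - (X + C a) : R[X]) = 0 := h
  simp only [map_sub, map_pow, aeval_X, map_add, aeval_C] at this
  linear_combination this

theorem comap_surjective {R : Type u} [CommRing R] (p : ℕ) (hp : p.Prime) (h0 : (p : R) = 0)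
    (a : R) :
    Function.Surjective (PrimeSpectrum.comap (algebraMap R (pair p hp h0 a).Ring)) := by
  intro q
  let κ := AlgebraicClosure q.asIdeal.ResidueField
  have hdeg : (X ^ p - (X + C (algebraMap R κ a)) : κ[X]).degree ≠ 0 := by
    rw [degree_sub_eq_left_of_degree_lt (by rw [degree_X_pow]; exact deg_lt p hp _),
      degree_X_pow]
    exact_mod_cast hp.ne_zero
  obtain ⟨x, hx⟩ := IsAlgClosed.exists_root _ hdeg
  have hmap : (pair p hp h0 a).HasMap x := by
    refine ⟨?_, ?_⟩
    · change aeval x (X ^ p - (X + C a) : R[X]) = 0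
      have : eval x (X ^ p - (X + C (algebraMap R κ a))) = 0 := hx
      simpa using this
    · change IsUnit (aeval x (1 : R[X]))
      simp
  let φ : (pair p hp h0 a).Ring →ₐ[R] κ := (pair p hp h0 a).lift x hmap
  refine ⟨⟨RingHom.ker φ.toRingHom, RingHom.ker_isPrime _⟩, ?_⟩
  ext r
  change algebraMap R _ r ∈ RingHom.ker φ.toRingHom ↔ r ∈ q.asIdeal
  rw [RingHom.mem_ker]
  change φ (algebraMap R _ r) = 0 ↔ _
  rw [φ.commutes, IsScalarTower.algebraMap_apply R q.asIdeal.ResidueField κ,
    map_eq_zero_iff _ (algebraMap q.asIdeal.ResidueField κ).injective,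
    ← RingHom.mem_ker, Ideal.ker_algebraMap_residueField]

end Groth.Agent.Lib.lead.AS
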