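import Mathlib
import Groth.Prelude.Def_W4c5etcohweilstudentAS
import Groth.Agent.Lib.lead.AS1

/-!
# Artin–Schreier: `x ↦ x^p - x` is an epimorphism of étale sheaves on `G_a` in characteristic `p`
-/

universe u

set_option maxHeartbeats 400000
set_option linter.style.haveILetI false

open CategoryTheory CategoryTheory.Limits Opposite AlgebraicGeometry Polynomial

namespace Groth.Agent.Lib.lead.AS

set_option backward.isDefEq.respectTransparency false in
theorem main18415 (p : ℕ) (hp : p.Prime) {X : Scheme.{u}} (h0 : (p : Γ(X, ⊤)) = 0) :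
    Epi (W4c5etcohweilstudent.artinSchreierEndo X p hp h0) := by
  rw [← Sheaf.isLocallySurjective_iff_epi' AddCommGrpCat.{u + 1}]
  refine ⟨fun {U} s => ?_⟩
  let 𝒰 := U.left.affineOpenCover
  let ρ : ∀ j, Γ(U.left, ⊤) →+* (𝒰.X j) := fun j =>
    ((𝒰.f j).appTop ≫ (Scheme.ΓSpecIso (𝒰.X j)).hom).hom
  have h0U : (p : Γ(U.left, ⊤)) = 0 := W4c5etcohweilstudent.natCast_eq_zero_etale p h0 U
  have h0j : ∀ j, (p : 𝒰.X j) = 0 := fun j => by
    have := congrArg (ρ j) h0U
    rwa [map_natCast, map_zero] at this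
  let a : Γ(U.left, ⊤) := ULift.down s
  let P : ∀ j, StandardEtalePair (𝒰.X j) := fun j => pair p hp (h0j j) (ρ j a)
  let φ : ∀ j, 𝒰.X j ⟶ CommRingCat.of (P j).Ring := fun j =>
    CommRingCat.ofHom (algebraMap _ _)
  haveI : ∀ j, Etale (Spec.map (φ j)) := fun j =>
    (HasRingHomProperty.Spec_iff (P := @Etale)).mpr (RingHom.etale_algebraMap.mpr inferInstance)
  haveI : Etale U.hom := U.prop
  let V : 𝒰.I₀ → X.Etale := fun j => Scheme.Etale.mk (Spec.map (φ j) ≫ 𝒰.f j ≫ U.hom)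
  let g : ∀ j, V j ⟶ U := fun j =>
    MorphismProperty.Over.homMk (Spec.map (φ j) ≫ 𝒰.f j) (by simp [V])
  refine X.smallEtaleTopology.superset_covering (S := Sieve.ofArrows V g) ?_ ?_
  · rw [Sieve.generate_le_iff, Presieve.ofArrows_le_iff]
    intro j
    let t0 : Γ(Spec (CommRingCat.of (P j).Ring), ⊤) :=
      (Scheme.ΓSpecIso (CommRingCat.of (P j).Ring)).inv.hom (P j).X
    refine ⟨ULift.up t0, ?_⟩
    have hrest : (ConcreteCategory.hom ((EtCoh.Ga X).obj.map (g j).op)) s =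
        ULift.up ((g j).left.appTop.hom a) := rfl
    rw [hrest]
    have hl : (ConcreteCategory.hom ((W4c5etcohweilstudent.artinSchreierEndo X p hp h0).hom.app
        (op (V j)))) (ULift.up t0) = ULift.up (t0 ^ p - t0) := rfl
    refine hl.trans ?_
    congr 1
    change ((Scheme.ΓSpecIso (CommRingCat.of (P j).Ring)).inv.hom (P j).X) ^ p -
        (Scheme.ΓSpecIso (CommRingCat.of (P j).Ring)).inv.hom (P j).X =
      (Spec.map (φ j) ≫ 𝒰.f j).appTop.hom a
    rw [← map_pow, ← map_sub, pair_X_pow]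
    have hnat := Scheme.ΓSpecIso_inv_naturality (φ j)
    have h3 : (Spec.map (φ j) ≫ 𝒰.f j).appTop.hom a =
        (Spec.map (φ j)).appTop.hom ((𝒰.f j).appTop.hom a) := by
      simp
    rw [h3]
    have h4 : (𝒰.f j).appTop.hom a = (Scheme.ΓSpecIso (𝒰.X j)).inv.hom (ρ j a) := by
      simp [ρ]
    rw [h4]
    have h5 := congrArg (fun k => k.hom (ρ j a)) hnat
    exact h5
  · rw [Scheme.ofArrows_mem_smallEtaleTopology_iff]
    ext y
    simp only [Set.mem_iUnion, Set.mem_univ, iff_true]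
    obtain ⟨z, hz⟩ := 𝒰.covers y
    obtain ⟨w, hw⟩ := comap_surjective p hp (h0j (𝒰.idx y)) (ρ (𝒰.idx y) a) z
    refine ⟨𝒰.idx y, w, ?_⟩
    refine Eq.trans ?_ hz
    change (𝒰.f (𝒰.idx y)) ((Spec.map (φ (𝒰.idx y))) w) = (𝒰.f (𝒰.idx y)) z
    congr 1

end Groth.Agent.Lib.lead.AS
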