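import Mathlib
import Groth.Agent.Lib.helper23.ProdAlg

set_option autoImplicit false
universe u
set_option maxHeartbeats 400000

namespace Groth.Agent.Lib.lead.ER
open Polynomial

theorem idem_local {R : Type*} [CommRing R] [IsLocalRing R] (e : R) (he : e * e = e) :
    e = 0 ∨ e = 1 := by
  rcases IsLocalRing.isUnit_or_isUnit_one_sub_self e with h | h
  · right
    obtain ⟨u, rfl⟩ := h
    have h1 : (u : R) * u = u * 1 := by rw [mul_one]; exact he
    exact (Units.mul_right_inj u).mp h1
  · left
    obtain ⟨u, hu⟩ := h
    have : (u : R) * e = 0 := by rw [hu, sub_mul, one_mul, he, sub_self]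
    exact (Units.mul_right_eq_zero u).mp this

/-- sections of étale algebras through points over a maximal ideal, when étale covers split -/
theorem exists_algHom_localization (A : Type u) [CommRing A]
    (h : ∀ (B : Type u) [CommRing B] [Algebra A B],
      Module.FaithfullyFlat A B → Algebra.Etale A B → Nonempty (B →ₐ[A] A))
    (m : Ideal A) [m.IsMaximal] (B : Type u) [CommRing B] [Algebra A B] [Algebra.Etale A B]
    (q : Ideal B) [q.IsPrime] (hq : q.comap (algebraMap A B) = m) :
    Nonempty (B →ₐ[A] Localization.AtPrime m) := by
  classical
  -- image of Spec B is open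
  have hopen : IsOpen (Set.range (PrimeSpectrum.comap (algebraMap A B))) :=
    (PrimeSpectrum.isOpenMap_comap_of_hasGoingDown_of_finitePresentation (R := A) (S := B)).isOpen_range
  obtain ⟨J, hJ⟩ := (PrimeSpectrum.isClosed_iff_zeroLocus_ideal _).mp hopen.isClosed_compl
  have hm_mem : (⟨m, inferInstance⟩ : PrimeSpectrum A) ∈
      Set.range (PrimeSpectrum.comap (algebraMap A B)) := by
    refine ⟨⟨q, inferInstance⟩, ?_⟩
    apply PrimeSpectrum.ext
    exact hq
  have hJm : ¬ J ≤ m := by
    intro hle
    have : (⟨m, inferInstance⟩ : PrimeSpectrum A) ∈ PrimeSpectrum.zeroLocus (J : Set A) := hle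
    rw [← hJ] at this
    exact this hm_mem
  obtain ⟨f, hfJ, hfm⟩ := SetLike.not_le_iff_exists.mp hJm
  obtain ⟨y, t, htm, hyt⟩ := Ideal.IsMaximal.exists_inv (I := m) inferInstance hfm
  -- the cover
  haveI : Algebra.Etale A (B × Localization.Away t) := Groth.Agent.Lib.helper23.ProdAlg.etale_prod A B (Localization.Away t)
  have hsurj : Function.Surjective (PrimeSpectrum.comap (algebraMap A (B × Localization.Away t))) := by
    intro p
    by_cases hp : p ∈ Set.range (PrimeSpectrum.comap (algebraMap A B))
    · obtain ⟨q', rfl⟩ := hp
      refine ⟨PrimeSpectrum.comap (RingHom.fst B (Localization.Away t)) q', ?_⟩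
      rw [← PrimeSpectrum.comap_comp_apply]
      rfl
    · have hp' : p ∈ PrimeSpectrum.zeroLocus (J : Set A) := by rw [← hJ]; exact hp
      have hfp : f ∈ p.asIdeal := hp' hfJ
      have htp : t ∉ p.asIdeal := by
        intro htp
        have : (1 : A) ∈ p.asIdeal := by
          rw [← hyt]
          exact Ideal.add_mem _ (Ideal.mul_mem_left _ _ hfp) htp
        exact p.isPrime.ne_top ((Ideal.eq_top_iff_one _).mpr this)
      have hdisj : Disjoint (Submonoid.powers t : Set A) (p.asIdeal : Set A) := by
        rw [Set.disjoint_left]
        rintro x ⟨n, rfl⟩ hx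
        exact htp (p.isPrime.mem_of_pow_mem n hx)
      have hprime := IsLocalization.isPrime_of_isPrime_disjoint (Submonoid.powers t)
        (Localization.Away t) p.asIdeal p.isPrime hdisj
      have hcomap := IsLocalization.comap_map_of_isPrime_disjoint (Submonoid.powers t)
        (Localization.Away t) p.isPrime hdisj
      refine ⟨PrimeSpectrum.comap (RingHom.snd B (Localization.Away t)) ⟨_, hprime⟩, ?_⟩
      rw [← PrimeSpectrum.comap_comp_apply]
      apply PrimeSpectrum.ext
      exact hcomap
  haveI : Module.FaithfullyFlat A (B × Localization.Away t) := Module.FaithfullyFlat.of_comap_surjective hsurj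
  obtain ⟨ρ⟩ := h (B × Localization.Away t) inferInstance inferInstance
  let ρ' : (B × Localization.Away t) →ₐ[A] Localization.AtPrime m := (IsScalarTower.toAlgHom A A (Localization.AtPrime m)).comp ρ
  have he : ρ' ((1 : B), (0 : Localization.Away t)) = 1 := by
    rcases idem_local (ρ' ((1 : B), (0 : Localization.Away t))) (by rw [← map_mul]; simp) with h0 | h1
    · exfalso
      have h2 : ρ' ((0 : B), (1 : Localization.Away t)) = 1 := by
        have : ((1 : B), (0 : Localization.Away t)) + ((0 : B), (1 : Localization.Away t)) = 1 := by
          ext <;> simp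
        have h3 := congrArg ρ' this
        rw [map_add, h0, zero_add, map_one] at h3
        exact h3
      -- t is a unit in the localization at m: contradiction
      have h4 : ρ' ((0 : B), algebraMap A (Localization.Away t) t) = algebraMap A _ t := by
        have : ((0 : B), algebraMap A (Localization.Away t) t) = t • ((0 : B), (1 : Localization.Away t)) := by
          ext <;> simp [Algebra.smul_def]
        rw [this, map_smul, h2, Algebra.smul_def, mul_one]
      obtain ⟨u, hu⟩ := IsLocalization.Away.algebraMap_isUnit (S := Localization.Away t) t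
      have h5 : algebraMap A (Localization.AtPrime m) t * ρ' ((0 : B), (↑u⁻¹ : Localization.Away t)) = 1 := by
        rw [← h4, ← map_mul, ← h2]
        congr 1
        ext
        · simp
        · simp [← hu]
      have h6 : IsUnit (algebraMap A (Localization.AtPrime m) t) := IsUnit.of_mul_eq_one _ h5
      have h7 := (IsLocalization.AtPrime.isUnit_to_map_iff (Localization.AtPrime m) m t).mp h6
      exact h7 htm
    · exact h1
  -- define the map B → A_m
  let ψ : B →ₐ[A] Localization.AtPrime m :=
    { toFun := fun b => ρ' (b, 0)
      map_one' := he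
      map_mul' := fun a b => by rw [← map_mul]; simp
      map_zero' := by
        show ρ' ((0 : B), (0 : Localization.Away t)) = 0
        exact map_zero ρ'
      map_add' := fun a b => by rw [← map_add]; simp
      commutes' := fun a => by
        have : ((algebraMap A B a, 0) : B × Localization.Away t) = a • ((1 : B), (0 : Localization.Away t)) := by
          ext <;> simp [Algebra.smul_def]
        rw [this, map_smul, he, Algebra.smul_def, mul_one] }
  exact ⟨ψ⟩

end Groth.Agent.Lib.lead.ER
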