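import Mathlib
import Groth.Agent.Lib.lead.ER1

set_option autoImplicit false
universe u
set_option maxHeartbeats 400000

namespace Groth.Agent.Lib.lead.ER
open Polynomial

/-- Step A: roots of monic polynomials over `A` lift to `A_m`. -/
theorem exists_root_of_simple_root (A : Type u) [CommRing A]
    (h : ∀ (B : Type u) [CommRing B] [Algebra A B],
      Module.FaithfullyFlat A B → Algebra.Etale A B → Nonempty (B →ₐ[A] A))
    (m : Ideal A) [m.IsMaximal] (F : A[X]) (hF : F.Monic) (c : A) (hc : F.eval c ∈ m)
    (hc' : F.derivative.eval c ∉ m) :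
    ∃ α : Localization.AtPrime m, aeval α F = 0 ∧
      α - algebraMap A _ c ∈ IsLocalRing.maximalIdeal (Localization.AtPrime m) := by
  classical
  set G := F /ₘ (X - C c) with hG
  have hdiv : F = (X - C c) * G + C (F.eval c) := by
    have := Polynomial.modByMonic_add_div F (X - C c)
    rw [modByMonic_X_sub_C_eq_C_eval] at this
    rw [hG]
    conv_lhs => rw [← this]
    ring
  have hder : F.derivative.eval c = G.eval c := by
    conv_lhs => rw [hdiv]
    simp
  let P : StandardEtalePair A :=
    { f := F, monic_f := hF, g := derivative F * G, cond := ⟨G, 0, 1, by ring⟩ }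
  have hGc : Ideal.Quotient.mk m (G.eval c) ≠ 0 := by
    rw [← hder, Ne, Ideal.Quotient.eq_zero_iff_mem]
    exact hc'
  have hmap : P.HasMap (Ideal.Quotient.mk m c) := by
    refine ⟨?_, ?_⟩
    · show aeval (Ideal.Quotient.mk m c) F = 0
      rw [← Ideal.Quotient.algebraMap_eq, aeval_algebraMap_apply, Ideal.Quotient.algebraMap_eq,
        Ideal.Quotient.eq_zero_iff_mem]
      exact hc
    · show IsUnit (aeval (Ideal.Quotient.mk m c) (derivative F * G))
      rw [← Ideal.Quotient.algebraMap_eq, aeval_algebraMap_apply, Ideal.Quotient.algebraMap_eq]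
      have hne : (Ideal.Quotient.mk m) ((aeval c) (derivative F * G)) ≠ 0 := by
        simp only [coe_aeval_eq_eval, eval_mul, map_mul]
        rw [hder]
        exact mul_ne_zero hGc hGc
      obtain ⟨b, hb⟩ := Ideal.Quotient.exists_inv hne
      exact IsUnit.of_mul_eq_one _ hb
  let φ : P.Ring →ₐ[A] A ⧸ m := P.lift _ hmap
  have hq : (RingHom.ker φ.toRingHom).comap (algebraMap A P.Ring) = m := by
    ext x
    simp only [Ideal.mem_comap, RingHom.mem_ker, AlgHom.toRingHom_eq_coe, RingHom.coe_coe,
      AlgHom.commutes, Ideal.Quotient.algebraMap_eq, Ideal.Quotient.eq_zero_iff_mem]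
  haveI : (RingHom.ker φ.toRingHom).IsPrime := RingHom.ker_isPrime _
  obtain ⟨ψ⟩ := exists_algHom_localization A h m P.Ring (RingHom.ker φ.toRingHom) hq
  have hψ := (P.hasMap_X).map ψ
  refine ⟨ψ P.X, hψ.1, ?_⟩
  have h1 : aeval (ψ P.X) F = (ψ P.X - algebraMap A _ c) * aeval (ψ P.X) G +
      algebraMap A _ (F.eval c) := by
    conv_lhs => rw [hdiv]
    simp
  have h2 : IsUnit (aeval (ψ P.X) G) := by
    have := hψ.2
    change IsUnit (aeval (ψ P.X) (derivative F * G)) at this
    rw [map_mul] at this
    exact isUnit_of_mul_isUnit_right this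
  obtain ⟨u, hu⟩ := h2
  have h3 : ψ P.X - algebraMap A _ c = - (↑u⁻¹ * algebraMap A _ (F.eval c)) := by
    have h4 : (ψ P.X - algebraMap A _ c) * u = - algebraMap A _ (F.eval c) := by
      rw [hu]
      have := hψ.1
      change aeval (ψ P.X) F = 0 at this
      rw [h1] at this
      linear_combination this
    calc ψ P.X - algebraMap A _ c = (ψ P.X - algebraMap A _ c) * u * ↑u⁻¹ := by
          rw [mul_assoc, Units.mul_inv, mul_one]
      _ = _ := by rw [h4]; ring
  rw [h3]
  apply Ideal.neg_mem_iff _ |>.mpr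
  apply Ideal.mul_mem_left
  exact (IsLocalization.AtPrime.to_map_mem_maximal_iff (Localization.AtPrime m) m _).mpr hc

end Groth.Agent.Lib.lead.ER
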