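import Mathlib
import Groth.Agent.Lib.lead.ER2

set_option autoImplicit false
universe u
set_option maxHeartbeats 400000

namespace Groth.Agent.Lib.lead.ER
open Polynomial

theorem scaleRoots_comp {R : Type*} [CommRing R] (f : R[X]) (σ : R) :
    (f.scaleRoots σ).comp (C σ * X) = C (σ ^ f.natDegree) * f := by
  ext i
  rw [comp_C_mul_X_coeff, coeff_scaleRoots, coeff_C_mul]
  by_cases hi : i ≤ f.natDegree
  · rw [mul_assoc, ← pow_add, Nat.sub_add_cancel hi, mul_comm]
  · rw [coeff_eq_zero_of_natDegree_lt (not_le.mp hi)]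
    simp

theorem scaleRoots_derivative_eval {R : Type*} [CommRing R] (f : R[X]) (σ a : R) :
    σ * (f.scaleRoots σ).derivative.eval (σ * a) = σ ^ f.natDegree * f.derivative.eval a := by
  have h := congrArg (fun p => (derivative p).eval a) (scaleRoots_comp f σ)
  simp only [derivative_comp, derivative_mul, derivative_C, zero_mul, zero_add, derivative_X,
    mul_one, eval_mul, eval_C, eval_comp, eval_X] at h
  linear_combination h

/-- the henselian property of `A_m` -/
theorem henselianLocalRing (A : Type u) [CommRing A]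
    (h : ∀ (B : Type u) [CommRing B] [Algebra A B],
      Module.FaithfullyFlat A B → Algebra.Etale A B → Nonempty (B →ₐ[A] A))
    (m : Ideal A) [m.IsMaximal] : HenselianLocalRing (Localization.AtPrime m) := by
  classical
  refine ⟨fun f hf a₀ h₁ h₂ => ?_⟩
  -- common denominator
  obtain ⟨s, hs⟩ := IsLocalization.exist_integer_multiples_of_finset m.primeCompl
    ((Finset.range (f.natDegree + 1)).image f.coeff)
  set σ : Localization.AtPrime m := algebraMap A _ (s : A) with hσ
  have hσu : IsUnit σ := IsLocalization.map_units _ s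
  set u := f.scaleRoots σ with hu
  have hu_monic : u.Monic := (monic_scaleRoots_iff σ).mpr hf
  have hu_lifts : u ∈ lifts (algebraMap A (Localization.AtPrime m)) := by
    rw [lifts_iff_coeff_lifts]
    intro i
    rw [hu, coeff_scaleRoots]
    rcases lt_trichotomy i f.natDegree with hi | hi | hi
    · obtain ⟨b, hb⟩ := hs (f.coeff i) (Finset.mem_image.mpr ⟨i, Finset.mem_range.mpr (by omega), rfl⟩)
      obtain ⟨k, hk⟩ : ∃ k, f.natDegree - i = k + 1 := ⟨f.natDegree - i - 1, by omega⟩
      refine ⟨b * s ^ k, ?_⟩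
      rw [map_mul, hb, map_pow, Algebra.smul_def, ← hσ, hk, pow_succ]
      ring
    · subst hi
      refine ⟨1, ?_⟩
      rw [Nat.sub_self, pow_zero, mul_one, map_one]
      exact hf.coeff_natDegree.symm
    · refine ⟨0, ?_⟩
      rw [coeff_eq_zero_of_natDegree_lt hi, map_zero, zero_mul]
  obtain ⟨F, hFmap, -, hFmonic⟩ := lifts_and_degree_eq_and_monic hu_lifts hu_monic
  -- choose c
  obtain ⟨c, hc⟩ := Ideal.algebraMap_residueField_surjective m (IsLocalRing.residue _ (σ * a₀))
  have hc1 : algebraMap A (Localization.AtPrime m) c - σ * a₀ ∈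
      IsLocalRing.maximalIdeal (Localization.AtPrime m) := by
    rw [← Ideal.Quotient.eq]
    exact hc
  -- congruences
  have hcong : ∀ p : (Localization.AtPrime m)[X],
      p.eval (algebraMap A (Localization.AtPrime m) c) - p.eval (σ * a₀) ∈
        IsLocalRing.maximalIdeal (Localization.AtPrime m) := by
    intro p
    obtain ⟨d, hd⟩ := Polynomial.sub_dvd_eval_sub (algebraMap A (Localization.AtPrime m) c) (σ * a₀) p
    rw [hd]
    exact Ideal.mul_mem_right _ _ hc1
  have hFc : F.eval c ∈ m := by
    rw [← IsLocalization.AtPrime.to_map_mem_maximal_iff (Localization.AtPrime m) m]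
    have h3 : algebraMap A (Localization.AtPrime m) (F.eval c) = u.eval (algebraMap A _ c) := by
      rw [← hFmap, eval_map, eval₂_at_apply]
    rw [h3]
    have h4 : u.eval (σ * a₀) ∈ IsLocalRing.maximalIdeal (Localization.AtPrime m) := by
      rw [hu, scaleRoots_eval_mul]
      exact Ideal.mul_mem_left _ _ h₁
    have := Ideal.add_mem _ (hcong u) h4
    simpa using this
  have hFc' : F.derivative.eval c ∉ m := by
    rw [← IsLocalization.AtPrime.to_map_mem_maximal_iff (Localization.AtPrime m) m]
    have h3 : algebraMap A (Localization.AtPrime m) (F.derivative.eval c) =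
        u.derivative.eval (algebraMap A _ c) := by
      rw [← hFmap, derivative_map, eval_map, eval₂_at_apply]
    rw [h3]
    intro hmem
    have h4 : u.derivative.eval (σ * a₀) ∈ IsLocalRing.maximalIdeal (Localization.AtPrime m) := by
      have := Ideal.sub_mem _ hmem (hcong u.derivative)
      simpa using this
    have h5 : IsUnit (σ * u.derivative.eval (σ * a₀)) := by
      rw [hu, scaleRoots_derivative_eval]
      exact (hσu.pow _).mul h₂
    have h6 : IsUnit (u.derivative.eval (σ * a₀)) := isUnit_of_mul_isUnit_right h5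
    exact (IsLocalRing.mem_maximalIdeal _).mp h4 h6
  obtain ⟨β, hβ, hβc⟩ := exists_root_of_simple_root A h m F hFmonic c hFc hFc'
  obtain ⟨τ, hτ⟩ := hσu
  refine ⟨↑τ⁻¹ * β, ?_, ?_⟩
  · have h7 : u.eval (σ * (↑τ⁻¹ * β)) = σ ^ f.natDegree * f.eval (↑τ⁻¹ * β) := by
      rw [hu, scaleRoots_eval_mul]
    have h8 : σ * (↑τ⁻¹ * β) = β := by rw [← hτ, ← mul_assoc, Units.mul_inv, one_mul]
    rw [h8] at h7
    have h9 : u.eval β = 0 := by
      rw [← hFmap, eval_map, ← aeval_def]
      exact hβ
    rw [h9] at h7
    have h10 : IsUnit (σ ^ f.natDegree) := (hτ ▸ τ.isUnit).pow _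
    exact (h10.mul_right_eq_zero.mp h7.symm)
  · have h11 : ↑τ⁻¹ * β - a₀ = ↑τ⁻¹ * ((β - algebraMap A _ c) + (algebraMap A _ c - σ * a₀)) := by
      rw [← hτ]
      have : (↑τ⁻¹ : Localization.AtPrime m) * (↑τ * a₀) = a₀ := by
        rw [← mul_assoc, Units.inv_mul, one_mul]
      linear_combination this
    rw [h11]
    exact Ideal.mul_mem_left _ _ (Ideal.add_mem _ hβc hc1)

end Groth.Agent.Lib.lead.ER
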