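import Mathlib
import Groth.Agent.Lib.lead.ER3

set_option autoImplicit false
universe u
set_option maxHeartbeats 400000

namespace Groth.Agent.Lib.lead.ER
open Polynomial

/-- polynomial-level derivative identity for `scaleRoots` -/
theorem scaleRoots_derivative_comp {R : Type*} [CommRing R] (f : R[X]) (σ : R) :
    C σ * (derivative (f.scaleRoots σ)).comp (C σ * X) = C (σ ^ f.natDegree) * derivative f := by
  have h := congrArg derivative (scaleRoots_comp f σ)
  simp only [derivative_comp, derivative_mul, derivative_C, zero_mul, zero_add, derivative_X,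
    mul_one] at h
  exact h

/-- lifting standard étale pairs along a localization, up to scaling the variable -/
theorem exists_liftPair_loc {A : Type u} [CommRing A] (S : Submonoid A) (B : Type u) [CommRing B]
    [Algebra A B] [IsLocalization S B] (Pb : StandardEtalePair B) :
    ∃ (P : StandardEtalePair A) (σ : S), ∀ (T : Type u) [CommRing T] [Algebra B T] [Algebra A T]
      [IsScalarTower A B T] (x : T), P.HasMap ((σ : A) • x) ↔ Pb.HasMap x := by
  classical
  set σ : S := IsLocalization.commonDenom S Pb.f.support Pb.f.coeff with hσdef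
  set s : B := algebraMap A B σ with hs
  have hsu : IsUnit s := IsLocalization.map_units B σ
  have hlifts : Pb.f.scaleRoots s ∈ lifts (algebraMap A B) :=
    IsLocalization.scaleRoots_commonDenom_mem_lifts S Pb.f (by
      rw [Pb.monic_f.leadingCoeff]; exact ⟨1, map_one _⟩)
  rcases subsingleton_or_nontrivial B with hB | hB
  · -- trivial ring: everything holds
    refine ⟨{ f := 1, monic_f := monic_one, g := 1, cond := ⟨0, 1, 1, by ring⟩ }, 1, ?_⟩
    intro T _ _ _ _ x
    haveI : Subsingleton T := by
      have : (1 : T) = 0 := by
        rw [← map_one (algebraMap B T), ← map_zero (algebraMap B T)]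
        exact congrArg _ (Subsingleton.elim _ _)
      exact subsingleton_of_zero_eq_one this.symm
    constructor
    · intro _
      exact ⟨Subsingleton.elim _ _, isUnit_of_subsingleton _⟩
    · intro _
      exact ⟨Subsingleton.elim _ _, isUnit_of_subsingleton _⟩
  obtain ⟨F, hFmap, -, hFmonic⟩ := lifts_and_degree_eq_and_monic hlifts
    ((monic_scaleRoots_iff s).mpr Pb.monic_f)
  obtain ⟨τ, hτS, hτ⟩ := IsLocalization.integerNormalization_spec S (Pb.g.scaleRoots s)
  set G : A[X] := IsLocalization.integerNormalization S (Pb.g.scaleRoots s) with hG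
  refine ⟨{ f := F, monic_f := hFmonic, g := G * derivative F, cond := ⟨G, 0, 1, by ring⟩ }, σ, ?_⟩
  intro T _ _ _ _ x
  have hsT : IsUnit (algebraMap B T s) := hsu.map _
  have hτT : IsUnit (algebraMap A T τ) := by
    rw [IsScalarTower.algebraMap_apply A B T]
    exact (IsLocalization.map_units B ⟨τ, hτS⟩).map _
  have hσx : (σ : A) • x = algebraMap B T s * x := by
    rw [Algebra.smul_def, IsScalarTower.algebraMap_apply A B T]
  -- evaluation of F
  have hF : aeval ((σ : A) • x) F = algebraMap B T s ^ Pb.f.natDegree * aeval x Pb.f := by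
    rw [← aeval_map_algebraMap B, hFmap, hσx, aeval_def, scaleRoots_eval₂_mul, ← aeval_def]
  -- evaluation of G
  have hGe : aeval ((σ : A) • x) G =
      algebraMap A T τ * (algebraMap B T s ^ Pb.g.natDegree * aeval x Pb.g) := by
    have hτ' : G.map (algebraMap A B) = C (algebraMap A B τ) * Pb.g.scaleRoots s := by
      rw [hτ, Algebra.smul_def]
      rfl
    rw [← aeval_map_algebraMap B, hτ', hσx, map_mul, aeval_C, ← IsScalarTower.algebraMap_apply A B T,
      aeval_def (p := scaleRoots _ _), scaleRoots_eval₂_mul, ← aeval_def]
  -- evaluation of derivative F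
  have hF' : algebraMap B T s * aeval ((σ : A) • x) (derivative F) =
      algebraMap B T s ^ Pb.f.natDegree * aeval x (derivative Pb.f) := by
    have h1 := congrArg (aeval x) (scaleRoots_derivative_comp Pb.f s)
    rw [map_mul, map_mul, aeval_C, aeval_C, aeval_comp, map_mul, aeval_C, aeval_X, map_pow] at h1
    rw [← aeval_map_algebraMap B, ← derivative_map, hFmap, hσx]
    exact h1
  constructor
  · rintro ⟨h1, h2⟩
    change aeval ((σ : A) • x) F = 0 at h1
    change IsUnit (aeval ((σ : A) • x) (G * derivative F)) at h2
    refine ⟨?_, ?_⟩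
    · rw [hF] at h1
      exact ((hsT.pow _).mul_right_eq_zero).mp h1
    · rw [map_mul] at h2
      have h3 := isUnit_of_mul_isUnit_left h2
      rw [hGe] at h3
      exact isUnit_of_mul_isUnit_right (isUnit_of_mul_isUnit_right h3)
  · intro h
    refine ⟨?_, ?_⟩
    · change aeval ((σ : A) • x) F = 0
      rw [hF, h.1, mul_zero]
    · change IsUnit (aeval ((σ : A) • x) (G * derivative F))
      rw [map_mul]
      refine IsUnit.mul ?_ ?_
      · rw [hGe]
        exact hτT.mul ((hsT.pow _).mul h.2)
      · have h4 : IsUnit (algebraMap B T s * aeval ((σ : A) • x) (derivative F)) := by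
          rw [hF']
          exact (hsT.pow _).mul h.isUnit_derivative_f
        exact isUnit_of_mul_isUnit_right h4

end Groth.Agent.Lib.lead.ER
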