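import Mathlib
import Groth.Agent.Lib.lead.ER1

set_option autoImplicit false
universe u
set_option maxHeartbeats 400000

namespace Groth.Agent.Lib.lead.ER
open Polynomial

/-- an étale algebra whose image contains `V(I)` has an `A`-algebra map to `A/I`, when étale
covers of `A` split -/
theorem exists_algHom_quotient (A : Type u) [CommRing A]
    (h : ∀ (B : Type u) [CommRing B] [Algebra A B],
      Module.FaithfullyFlat A B → Algebra.Etale A B → Nonempty (B →ₐ[A] A))
    (I : Ideal A) (B : Type u) [CommRing B] [Algebra A B] [Algebra.Etale A B]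
    (hB : ∀ p : PrimeSpectrum A, I ≤ p.asIdeal →
      p ∈ Set.range (PrimeSpectrum.comap (algebraMap A B))) :
    Nonempty (B →ₐ[A] A ⧸ I) := by
  classical
  have hopen : IsOpen (Set.range (PrimeSpectrum.comap (algebraMap A B))) :=
    (PrimeSpectrum.isOpenMap_comap_of_hasGoingDown_of_finitePresentation (R := A) (S := B)).isOpen_range
  obtain ⟨J, hJ⟩ := (PrimeSpectrum.isClosed_iff_zeroLocus_ideal _).mp hopen.isClosed_compl
  have hIJ : I ⊔ J = ⊤ := by
    by_contra hne
    obtain ⟨M, hM, hle⟩ := Ideal.exists_le_maximal _ hne
    have h1 : (⟨M, hM.isPrime⟩ : PrimeSpectrum A) ∈ Set.range (PrimeSpectrum.comap (algebraMap A B)) :=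
      hB _ (le_trans le_sup_left hle)
    have h2 : (⟨M, hM.isPrime⟩ : PrimeSpectrum A) ∈ PrimeSpectrum.zeroLocus (J : Set A) :=
      le_trans le_sup_right hle
    rw [← hJ] at h2
    exact h2 h1
  obtain ⟨t, htI, f, hfJ, hyt⟩ := Submodule.mem_sup.mp ((Ideal.eq_top_iff_one _).mp hIJ)
  haveI : Algebra.Etale A (B × Localization.Away t) :=
    Groth.Agent.Lib.helper23.ProdAlg.etale_prod A B (Localization.Away t)
  have hsurj : Function.Surjective (PrimeSpectrum.comap (algebraMap A (B × Localization.Away t))) := by
    intro p
    by_cases hp : p ∈ Set.range (PrimeSpectrum.comap (algebraMap A B))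
    · obtain ⟨q', rfl⟩ := hp
      refine ⟨PrimeSpectrum.comap (RingHom.fst B (Localization.Away t)) q', ?_⟩
      rw [← PrimeSpectrum.comap_comp_apply]
      rfl
    · have hp' : p ∈ PrimeSpectrum.zeroLocus (J : Set A) := by rw [← hJ]; exact hp
      have hfp : f ∈ p.asIdeal := hp' hfJ
      have htp : t ∉ p.asIdeal := by
        intro htp
        have : (1 : A) ∈ p.asIdeal := by
          rw [← hyt]
          exact Ideal.add_mem _ htp hfp
        exact p.isPrime.ne_top ((Ideal.eq_top_iff_one _).mpr this)
      have hdisj : Disjoint (Submonoid.powers t : Set A) (p.asIdeal : Set A) := by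
        rw [Set.disjoint_left]
        rintro x ⟨n, rfl⟩ hx
        exact htp (p.isPrime.mem_of_pow_mem n hx)
      have hprime := IsLocalization.isPrime_of_isPrime_disjoint (Submonoid.powers t)
        (Localization.Away t) p.asIdeal p.isPrime hdisj
      have hcomap := IsLocalization.under_map_of_isPrime_disjoint (Submonoid.powers t)
        (Localization.Away t) p.isPrime hdisj
      refine ⟨PrimeSpectrum.comap (RingHom.snd B (Localization.Away t)) ⟨_, hprime⟩, ?_⟩
      rw [← PrimeSpectrum.comap_comp_apply]
      apply PrimeSpectrum.ext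
      exact hcomap
  have : Module.FaithfullyFlat A (B × Localization.Away t) :=
    Module.FaithfullyFlat.of_comap_surjective hsurj
  obtain ⟨ρ⟩ := h (B × Localization.Away t) inferInstance inferInstance
  let ρ' : (B × Localization.Away t) →ₐ[A] A ⧸ I := (IsScalarTower.toAlgHom A A (A ⧸ I)).comp ρ
  have h2 : ρ' ((0 : B), (1 : Localization.Away t)) = 0 := by
    have h4 : ρ' ((0 : B), algebraMap A (Localization.Away t) t) = 0 := by
      have : ((0 : B), algebraMap A (Localization.Away t) t) = t • ((0 : B), (1 : Localization.Away t)) := by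
        ext <;> simp [Algebra.smul_def]
      rw [this, map_smul, Algebra.smul_def, Ideal.Quotient.algebraMap_eq,
        Ideal.Quotient.eq_zero_iff_mem.mpr htI, zero_mul]
    obtain ⟨u, hu⟩ := IsLocalization.Away.algebraMap_isUnit (S := Localization.Away t) t
    have : ((0 : B), (1 : Localization.Away t)) =
        ((0 : B), algebraMap A (Localization.Away t) t) * ((0 : B), (↑u⁻¹ : Localization.Away t)) := by
      ext
      · simp
      · simp [← hu]
    rw [this, map_mul, h4, zero_mul]
  have he : ρ' ((1 : B), (0 : Localization.Away t)) = 1 := by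
    have : ((1 : B), (0 : Localization.Away t)) + ((0 : B), (1 : Localization.Away t)) = 1 := by
      ext <;> simp
    have h3 := congrArg ρ' this
    rw [map_add, h2, add_zero, map_one] at h3
    exact h3
  let ψ : B →ₐ[A] A ⧸ I :=
    { toFun := fun b => ρ' (b, 0)
      map_one' := he
      map_mul' := fun a b => by rw [← map_mul]; simp
      map_zero' := by
        show ρ' ((0 : B), (0 : Localization.Away t)) = 0
        exact map_zero ρ'
      map_add' := fun a b => by rw [← map_add]; simp
      commutes' := fun a => by
        have : ((algebraMap A B a, 0) : B × Localization.Away t) = a • ((1 : B), (0 : Localization.Away t)) := by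
          ext <;> simp [Algebra.smul_def]
        rw [this, map_smul, he, Algebra.smul_def, mul_one] }
  exact ⟨ψ⟩

end Groth.Agent.Lib.lead.ER
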