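import Mathlib
import Groth.Agent.Lib.lead.ER5

set_option autoImplicit false
universe u
set_option maxHeartbeats 400000

namespace Groth.Agent.Lib.lead.ER
open Polynomial

theorem map_le_jacobson_of_range {A : Type u} [CommRing A] (S : Submonoid A) (B : Type u)
    [CommRing B] [Algebra A B] [IsLocalization S B] (I : Ideal A)
    (hB : Set.range (PrimeSpectrum.comap (algebraMap A B)) =
      {x | ∃ z : PrimeSpectrum A, z ∈ PrimeSpectrum.zeroLocus (R := A) I ∧ x ⤳ z}) :
    I.map (algebraMap A B) ≤ Ideal.jacobson ⊥ := by
  rw [Ideal.jacobson, le_sInf_iff]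
  rintro M ⟨-, hM⟩
  rw [Ideal.map_le_iff_le_comap]
  have hx : PrimeSpectrum.comap (algebraMap A B) ⟨M, hM.isPrime⟩ ∈
      Set.range (PrimeSpectrum.comap (algebraMap A B)) := ⟨_, rfl⟩
  rw [hB] at hx
  obtain ⟨z, hzI, hxz⟩ := hx
  have hz : z ∈ Set.range (PrimeSpectrum.comap (algebraMap A B)) := by
    rw [hB]; exact ⟨z, hzI, specializes_rfl⟩
  obtain ⟨N, rfl⟩ := hz
  have hle : Ideal.comap (algebraMap A B) M ≤ Ideal.comap (algebraMap A B) N.asIdeal :=
    (PrimeSpectrum.le_iff_specializes _ _).mpr hxz
  have hMN : M ≤ N.asIdeal := by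
    rw [← IsLocalization.map_comap S B M, ← IsLocalization.map_comap S B N.asIdeal]
    exact Ideal.map_mono hle
  have hMN' : M = N.asIdeal := hM.eq_of_le N.isPrime.ne_top hMN
  rw [hMN']
  exact hzI

theorem exists_algHom_loc (A : Type u) [CommRing A]
    (h : ∀ (B : Type u) [CommRing B] [Algebra A B],
      Module.FaithfullyFlat A B → Algebra.Etale A B → Nonempty (B →ₐ[A] A))
    (S : Submonoid A) (B : Type u) [CommRing B] [Algebra A B] [IsLocalization S B] (I : Ideal A)
    (hB : Set.range (PrimeSpectrum.comap (algebraMap A B)) =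
      {x | ∃ z : PrimeSpectrum A, z ∈ PrimeSpectrum.zeroLocus (R := A) I ∧ x ⤳ z})
    (C : Type u) [CommRing C] [Algebra A C] [Algebra.Etale A C]
    (hC : ∀ p : PrimeSpectrum A, I ≤ p.asIdeal →
      p ∈ Set.range (PrimeSpectrum.comap (algebraMap A C))) :
    Nonempty (C →ₐ[A] B) := by
  classical
  have hopen : IsOpen (Set.range (PrimeSpectrum.comap (algebraMap A C))) :=
    (PrimeSpectrum.isOpenMap_comap_of_hasGoingDown_of_finitePresentation (R := A) (S := C)).isOpen_range
  obtain ⟨J, hJ⟩ := (PrimeSpectrum.isClosed_iff_zeroLocus_ideal _).mp hopen.isClosed_compl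
  have hIJ : I ⊔ J = ⊤ := by
    by_contra hne
    obtain ⟨M, hM, hle⟩ := Ideal.exists_le_maximal _ hne
    have h1 : (⟨M, hM.isPrime⟩ : PrimeSpectrum A) ∈ Set.range (PrimeSpectrum.comap (algebraMap A C)) :=
      hC _ (le_trans le_sup_left hle)
    have h2 : (⟨M, hM.isPrime⟩ : PrimeSpectrum A) ∈ PrimeSpectrum.zeroLocus (J : Set A) :=
      le_trans le_sup_right hle
    rw [← hJ] at h2
    exact h2 h1
  obtain ⟨t, htI, f, hfJ, hyt⟩ := Submodule.mem_sup.mp ((Ideal.eq_top_iff_one _).mp hIJ)
  haveI : Algebra.Etale A (C × Localization.Away t) :=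
    Groth.Agent.Lib.helper23.ProdAlg.etale_prod A C (Localization.Away t)
  have hsurj : Function.Surjective (PrimeSpectrum.comap (algebraMap A (C × Localization.Away t))) := by
    intro p
    by_cases hp : p ∈ Set.range (PrimeSpectrum.comap (algebraMap A C))
    · obtain ⟨q', rfl⟩ := hp
      refine ⟨PrimeSpectrum.comap (RingHom.fst C (Localization.Away t)) q', ?_⟩
      rw [← PrimeSpectrum.comap_comp_apply]
      rfl
    · have hp' : p ∈ PrimeSpectrum.zeroLocus (J : Set A) := by rw [← hJ]; exact hp
      have hfp : f ∈ p.asIdeal := hp' hfJ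
      have htp : t ∉ p.asIdeal := by
        intro htp
        have : (1 : A) ∈ p.asIdeal := by
          rw [← hyt]
          exact Ideal.add_mem _ htp hfp
        exact p.isPrime.ne_top ((Ideal.eq_top_iff_one _).mpr this)
      have hdisj : Disjoint (Submonoid.powers t : Set A) (p.asIdeal : Set A) := by
        rw [Set.disjoint_left]
        rintro x ⟨n, rfl⟩ hx
        exact htp (p.isPrime.mem_of_pow_mem n hx)
      have hprime := IsLocalization.isPrime_of_isPrime_disjoint (Submonoid.powers t)
        (Localization.Away t) p.asIdeal p.isPrime hdisj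
      have hcomap := IsLocalization.under_map_of_isPrime_disjoint (Submonoid.powers t)
        (Localization.Away t) p.isPrime hdisj
      refine ⟨PrimeSpectrum.comap (RingHom.snd C (Localization.Away t)) ⟨_, hprime⟩, ?_⟩
      rw [← PrimeSpectrum.comap_comp_apply]
      apply PrimeSpectrum.ext
      exact hcomap
  have : Module.FaithfullyFlat A (C × Localization.Away t) :=
    Module.FaithfullyFlat.of_comap_surjective hsurj
  obtain ⟨ρ⟩ := h (C × Localization.Away t) inferInstance inferInstance
  let ρ' : (C × Localization.Away t) →ₐ[A] B := (IsScalarTower.toAlgHom A A B).comp ρ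
  have h2 : ρ' ((0 : C), (1 : Localization.Away t)) = 0 := by
    set e' := ρ' ((0 : C), (1 : Localization.Away t)) with he'
    have hidem : e' * e' = e' := by
      rw [he', ← map_mul]; congr 1; ext <;> simp
    have h4 : ρ' ((0 : C), algebraMap A (Localization.Away t) t) = algebraMap A B t * e' := by
      have : ((0 : C), algebraMap A (Localization.Away t) t) = t • ((0 : C), (1 : Localization.Away t)) := by
        ext <;> simp [Algebra.smul_def]
      rw [this, map_smul, Algebra.smul_def]
    obtain ⟨u, hu⟩ := IsLocalization.Away.algebraMap_isUnit (S := Localization.Away t) t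
    have h5 : e' = algebraMap A B t * (e' * ρ' ((0 : C), (↑u⁻¹ : Localization.Away t))) := by
      have : ((0 : C), (1 : Localization.Away t)) =
          ((0 : C), algebraMap A (Localization.Away t) t) * ((0 : C), (↑u⁻¹ : Localization.Away t)) := by
        ext
        · simp
        · simp [← hu]
      conv_lhs => rw [he', this, map_mul, h4]
      ring
    have h6 : e' ∈ Ideal.jacobson (⊥ : Ideal B) := by
      apply map_le_jacobson_of_range S B I hB
      rw [h5]
      exact Ideal.mul_mem_right _ _ (Ideal.mem_map_of_mem _ htI)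
    have h7 : IsUnit (e' * (-1) + 1) := Ideal.mem_jacobson_bot.mp h6 (-1)
    have h8 : (e' * (-1) + 1) * e' = 0 := by
      have : (e' * (-1) + 1) * e' = e' - e' * e' := by ring
      rw [this, hidem, sub_self]
    exact (h7.mul_right_eq_zero).mp h8
  have he : ρ' ((1 : C), (0 : Localization.Away t)) = 1 := by
    have : ((1 : C), (0 : Localization.Away t)) + ((0 : C), (1 : Localization.Away t)) = 1 := by
      ext <;> simp
    have h3 := congrArg ρ' this
    rw [map_add, h2, add_zero, map_one] at h3
    exact h3
  let ψ : C →ₐ[A] B :=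
    { toFun := fun b => ρ' (b, 0)
      map_one' := he
      map_mul' := fun a b => by rw [← map_mul]; simp
      map_zero' := by
        show ρ' ((0 : C), (0 : Localization.Away t)) = 0
        exact map_zero ρ'
      map_add' := fun a b => by rw [← map_add]; simp
      commutes' := fun a => by
        have : ((algebraMap A C a, 0) : C × Localization.Away t) = a • ((1 : C), (0 : Localization.Away t)) := by
          ext <;> simp [Algebra.smul_def]
        rw [this, map_smul, he, Algebra.smul_def, mul_one] }
  exact ⟨ψ⟩

end Groth.Agent.Lib.lead.ER
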