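import Mathlib
import Groth.Agent.Lib.lead.ER3

set_option autoImplicit false
universe u
set_option maxHeartbeats 400000

namespace Groth.Agent.Lib.lead.ER
open Polynomial

theorem isSepClosed_residueField (A : Type u) [CommRing A]
    (h : ∀ (B : Type u) [CommRing B] [Algebra A B],
      Module.FaithfullyFlat A B → Algebra.Etale A B → Nonempty (B →ₐ[A] A))
    (m : Ideal A) [m.IsMaximal] : IsSepClosed m.ResidueField := by
  classical
  apply IsSepClosed.of_exists_root
  intro p hp hirr hsep
  have hsurj := Ideal.algebraMap_residueField_surjective m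
  have hlifts : p ∈ lifts (algebraMap A m.ResidueField) := by
    rw [lifts_iff_coeff_lifts]; intro i; exact hsurj _
  obtain ⟨F, hFmap, -, hFmonic⟩ := lifts_and_degree_eq_and_monic hlifts hp
  let P : StandardEtalePair A :=
    { f := F, monic_f := hFmonic, g := derivative F, cond := ⟨1, 0, 1, by ring⟩ }
  haveI : Fact (Irreducible p) := ⟨hirr⟩
  have hmap : P.HasMap (AdjoinRoot.root p) := by
    refine ⟨?_, ?_⟩
    · show aeval (AdjoinRoot.root p) F = 0
      rw [← aeval_map_algebraMap m.ResidueField, hFmap, AdjoinRoot.aeval_eq, AdjoinRoot.mk_self]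
    · show IsUnit (aeval (AdjoinRoot.root p) (derivative F))
      rw [← aeval_map_algebraMap m.ResidueField, ← derivative_map, hFmap]
      obtain ⟨a, b, hab⟩ := hsep
      have := congrArg (aeval (AdjoinRoot.root p)) hab
      rw [map_add, map_mul, map_mul, AdjoinRoot.aeval_eq p, AdjoinRoot.mk_self, mul_zero, zero_add,
        map_one] at this
      exact IsUnit.of_mul_eq_one _ (by rw [mul_comm]; exact this)
  let φ : P.Ring →ₐ[A] AdjoinRoot p := P.lift _ hmap
  have hq : (RingHom.ker φ.toRingHom).comap (algebraMap A P.Ring) = m := by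
    ext x
    simp only [Ideal.mem_comap, RingHom.mem_ker, AlgHom.toRingHom_eq_coe, RingHom.coe_coe,
      AlgHom.commutes]
    rw [IsScalarTower.algebraMap_apply A m.ResidueField (AdjoinRoot p),
      map_eq_zero_iff _ (algebraMap m.ResidueField (AdjoinRoot p)).injective,
      Ideal.algebraMap_residueField_eq_zero]
  haveI : (RingHom.ker φ.toRingHom).IsPrime := RingHom.ker_isPrime _
  obtain ⟨ψ⟩ := exists_algHom_localization A h m P.Ring (RingHom.ker φ.toRingHom) hq
  have hψ := ((P.hasMap_X).map ψ).1
  change aeval (ψ P.X) F = 0 at hψ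
  refine ⟨algebraMap (Localization.AtPrime m) m.ResidueField (ψ P.X), ?_⟩
  rw [← hFmap, eval_map, ← aeval_def, aeval_algebraMap_apply, hψ, map_zero]

end Groth.Agent.Lib.lead.ER
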