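import Mathlib
import Groth.Agent.Lib.lead.ER5
import Groth.Agent.Lib.lead.ER6

set_option autoImplicit false
universe u
set_option maxHeartbeats 1000000

namespace Groth.Agent.Lib.lead.ER
open Polynomial

theorem hasEtaleRetractions_quotient (A : Type u) [CommRing A]
    (h : ∀ (B : Type u) [CommRing B] [Algebra A B],
      Module.FaithfullyFlat A B → Algebra.Etale A B → Nonempty (B →ₐ[A] A))
    (I : Ideal A) (Bb : Type u) [CommRing Bb] [Algebra (A ⧸ I) Bb]
    [Module.FaithfullyFlat (A ⧸ I) Bb] [Algebra.Etale (A ⧸ I) Bb] :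
    Nonempty (Bb →ₐ[A ⧸ I] A ⧸ I) := by
  classical
  letI : Algebra A Bb := ((algebraMap (A ⧸ I) Bb).comp (algebraMap A (A ⧸ I))).toAlgebra
  haveI : IsScalarTower A (A ⧸ I) Bb := IsScalarTower.of_algebraMap_eq (fun _ => rfl)
  -- Step 1: local structure
  have hloc : ∀ q : PrimeSpectrum Bb, ∃ g : Bb, g ∉ q.asIdeal ∧
      Algebra.IsStandardEtale (A ⧸ I) (Localization.Away g) :=
    fun q => Algebra.IsEtaleAt.exists_isStandardEtale q.asIdeal
  choose g hgq hgstd using hloc
  have hspan : Ideal.span (Set.range g) = ⊤ := by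
    by_contra hne
    obtain ⟨M, hM, hle⟩ := Ideal.exists_le_maximal _ hne
    exact hgq ⟨M, hM.isPrime⟩ (hle (Ideal.subset_span ⟨_, rfl⟩))
  obtain ⟨s, hs, hstop⟩ := (Ideal.span_eq_top_iff_finite _).mp hspan
  have hstd : ∀ i : s, Algebra.IsStandardEtale (A ⧸ I) (Localization.Away (i : Bb)) := by
    intro i
    obtain ⟨q, hq⟩ := hs i.2
    rw [← hq]
    exact hgstd q
  have pres : ∀ i : s, StandardEtalePresentation (A ⧸ I) (Localization.Away (i : Bb)) :=
    fun i => (hstd i).nonempty_standardEtalePresentation.some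
  choose P G hPf hPG hPg using fun i : s => exists_liftPair I (pres i).P
  -- maps to the localizations
  have hmapx : ∀ i : s, (P i).HasMap (pres i).x := fun i =>
    (hasMap_iff I (pres i).P (P i) (G i) (hPf i) (hPG i) (hPg i) (pres i).x).mpr (pres i).hasMap
  let lam : ∀ i : s, (P i).Ring →ₐ[A] Localization.Away (i : Bb) := fun i =>
    (P i).lift (pres i).x (hmapx i)
  -- cover condition
  have hC : ∀ p : PrimeSpectrum A, I ≤ p.asIdeal →
      p ∈ Set.range (PrimeSpectrum.comap (algebraMap A (∀ i : s, (P i).Ring))) := by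
    intro p hp
    have h1 : p ∈ Set.range (PrimeSpectrum.comap (Ideal.Quotient.mk I)) := by
      rw [range_comap_of_surjective _ _ Ideal.Quotient.mk_surjective, Ideal.mk_ker]
      exact hp
    obtain ⟨pb, hpb⟩ := h1
    obtain ⟨q, hq⟩ := PrimeSpectrum.comap_surjective_of_faithfullyFlat (A := A ⧸ I) (B := Bb) pb
    have hex : ∃ i : s, (i : Bb) ∉ q.asIdeal := by
      by_contra hall
      push Not at hall
      have : Ideal.span (s : Set Bb) ≤ q.asIdeal := Ideal.span_le.mpr (fun x hx => hall ⟨x, hx⟩)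
      rw [hstop] at this
      exact q.isPrime.ne_top (top_le_iff.mp this)
    obtain ⟨i, hi⟩ := hex
    have hdisj : Disjoint (Submonoid.powers (i : Bb) : Set Bb) (q.asIdeal : Set Bb) := by
      rw [Set.disjoint_left]
      rintro x ⟨n, rfl⟩ hx
      exact hi (q.isPrime.mem_of_pow_mem n hx)
    have hprime := IsLocalization.isPrime_of_isPrime_disjoint (Submonoid.powers (i : Bb))
      (Localization.Away (i : Bb)) q.asIdeal q.isPrime hdisj
    have hcomap := IsLocalization.under_map_of_isPrime_disjoint (Submonoid.powers (i : Bb))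
      (Localization.Away (i : Bb)) q.isPrime hdisj
    let φ : (∀ i : s, (P i).Ring) →+* Localization.Away (i : Bb) :=
      (lam i).toRingHom.comp (Pi.evalRingHom _ i)
    refine ⟨⟨Ideal.comap φ (q.asIdeal.map (algebraMap Bb (Localization.Away (i : Bb)))),
      Ideal.comap_isPrime _ _⟩, ?_⟩
    apply PrimeSpectrum.ext
    show Ideal.comap (algebraMap A _) (Ideal.comap φ _) = p.asIdeal
    rw [Ideal.comap_comap]
    have hφ : φ.comp (algebraMap A (∀ i : s, (P i).Ring)) =
        (algebraMap Bb (Localization.Away (i : Bb))).comp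
          ((algebraMap (A ⧸ I) Bb).comp (Ideal.Quotient.mk I)) := by
      ext a
      simp only [φ, RingHom.comp_apply, Pi.evalRingHom_apply, Pi.algebraMap_apply,
        AlgHom.toRingHom_eq_coe, RingHom.coe_coe, AlgHom.commutes]
      rw [IsScalarTower.algebraMap_apply A Bb (Localization.Away (i : Bb))]
      rfl
    rw [hφ, ← Ideal.comap_comap, ← Ideal.comap_comap]
    have h2 : Ideal.comap (algebraMap Bb (Localization.Away (i : Bb)))
        (q.asIdeal.map (algebraMap Bb (Localization.Away (i : Bb)))) = q.asIdeal := hcomap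
    rw [h2]
    have h3 : Ideal.comap (algebraMap (A ⧸ I) Bb) q.asIdeal = pb.asIdeal :=
      congrArg PrimeSpectrum.asIdeal hq
    rw [h3]
    exact congrArg PrimeSpectrum.asIdeal hpb
  obtain ⟨ψ⟩ := exists_algHom_quotient A h I (∀ i : s, (P i).Ring) hC
  -- idempotents
  let e : s → A ⧸ I := fun i => ψ (Pi.single i 1)
  have hcoi : CompleteOrthogonalIdempotents e :=
    (CompleteOrthogonalIdempotents.single (fun i : s => (P i).Ring)).map ψ.toRingHom
  have hmk_e : ∀ i : s, Ideal.Quotient.mk (Ideal.span {1 - e i}) (e i) = 1 := by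
    intro i
    have : Ideal.Quotient.mk (Ideal.span {1 - e i}) (1 - e i) = 0 :=
      Ideal.Quotient.eq_zero_iff_mem.mpr (Ideal.subset_span (Set.mem_singleton _))
    rw [map_sub, map_one, sub_eq_zero] at this
    exact this.symm
  let ψi : ∀ i : s, (P i).Ring →ₐ[A] (A ⧸ I) ⧸ Ideal.span {1 - e i} := fun i =>
    { toFun := fun c => Ideal.Quotient.mk _ (ψ (Pi.single i c))
      map_one' := hmk_e i
      map_mul' := fun a b => by rw [Pi.single_mul, map_mul, map_mul]
      map_zero' := by rw [Pi.single_zero, map_zero, map_zero]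
      map_add' := fun a b => by rw [Pi.single_add, map_add, map_add]
      commutes' := fun r => by
        have h1 : (Pi.single i (algebraMap A (P i).Ring r) : ∀ i : s, (P i).Ring) =
            r • Pi.single i 1 := by
          rw [← Pi.single_smul, Algebra.smul_def, mul_one]
        rw [h1, map_smul]
        show Ideal.Quotient.mk _ (r • e i) = _
        rw [Algebra.smul_def, map_mul, hmk_e i, mul_one]
        rfl }
  have hxi : ∀ i : s, (pres i).P.HasMap (ψi i (P i).X) := fun i =>
    (hasMap_iff I (pres i).P (P i) (G i) (hPf i) (hPG i) (hPg i) _).mp (((P i).hasMap_X).map (ψi i))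
  let θi : ∀ i : s, Bb →ₐ[A ⧸ I] (A ⧸ I) ⧸ Ideal.span {1 - e i} := fun i =>
    (((pres i).P.lift _ (hxi i)).comp (pres i).equivRing.toAlgHom).comp
      (IsScalarTower.toAlgHom (A ⧸ I) Bb (Localization.Away (i : Bb)))
  let θ : Bb →ₐ[A ⧸ I] (∀ i : s, (A ⧸ I) ⧸ Ideal.span {1 - e i}) := Pi.algHom _ _ θi
  let E : (A ⧸ I) ≃ₐ[A ⧸ I] (∀ i : s, (A ⧸ I) ⧸ Ideal.span {1 - e i}) :=
    AlgEquiv.ofBijective (Pi.algHom _ _ (fun i => Ideal.Quotient.mkₐ (A ⧸ I) (Ideal.span {1 - e i})))
      hcoi.bijective_pi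
  exact ⟨E.symm.toAlgHom.comp θ⟩

end Groth.Agent.Lib.lead.ER
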