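import Mathlib

/-!
# `A[x]/(x^n - π)` over a discrete valuation ring
-/

universe u

set_option maxHeartbeats 400000

open IsLocalRing Polynomial

namespace Groth.Agent.Lib.lead.Eisen

variable {A : Type u} [CommRing A] [IsDomain A] [IsDiscreteValuationRing A] (π : A)
  (hπ : Irreducible π) (n : ℕ) (hn : 2 ≤ n)

include hn in
theorem monic : (X ^ n - C π : A[X]).Monic := monic_X_pow_sub_C π (by omega)

include hπ hn in
theorem irreducible : Irreducible (X ^ n - C π : A[X]) := by
  have hP : (Ideal.span {π}).IsPrime := by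
    rw [Ideal.span_singleton_prime hπ.ne_zero]
    exact hπ.prime
  have hdeg : (X ^ n - C π : A[X]).degree = n := degree_X_pow_sub_C (by omega) π
  apply irreducible_of_eisenstein_criterion hP
  · rw [(monic π n hn).leadingCoeff]
    intro h
    exact hP.ne_top ((Ideal.eq_top_iff_one _).mpr h)
  · intro m hm
    rw [hdeg] at hm
    have hm' : m < n := by exact_mod_cast hm
    rw [coeff_sub, coeff_X_pow, coeff_C]
    by_cases h0 : m = 0
    · subst h0
      rw [if_neg (by omega), if_pos rfl, zero_sub]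
      exact (Ideal.neg_mem_iff _).mpr (Ideal.mem_span_singleton_self π)
    · rw [if_neg (by omega), if_neg h0, sub_zero]
      exact Ideal.zero_mem _
  · rw [hdeg]
    exact_mod_cast (by omega : 0 < n)
  · rw [coeff_sub, coeff_X_pow, coeff_C, if_neg (by omega), if_pos rfl, zero_sub, Ideal.neg_mem_iff,
      Ideal.span_singleton_pow, Ideal.mem_span_singleton]
    rintro ⟨c, hc⟩
    have h1 : π * 1 = π * (π * c) := by rw [mul_one]; nth_rw 1 [hc]; ring
    have h2 := mul_left_cancel₀ hπ.ne_zero h1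
    exact hπ.not_isUnit (IsUnit.of_mul_eq_one _ h2.symm)
  · exact (monic π n hn).isPrimitive

include hπ hn in
theorem isDomain : IsDomain (AdjoinRoot (X ^ n - C π : A[X])) :=
  AdjoinRoot.isDomain_of_prime (irreducible π hπ n hn).prime

/-- the residue map -/
noncomputable def ρ : AdjoinRoot (X ^ n - C π : A[X]) →+* ResidueField A :=
  AdjoinRoot.lift (residue A) 0 (by
    rw [eval₂_sub, eval₂_pow, eval₂_X, eval₂_C, zero_pow (by omega), zero_sub, neg_eq_zero,
      residue_eq_zero_iff, hπ.maximalIdeal_eq]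
    exact Ideal.mem_span_singleton_self π)

theorem root_pow : (AdjoinRoot.root (X ^ n - C π : A[X])) ^ n = AdjoinRoot.of _ π := by
  have := AdjoinRoot.eval₂_root (X ^ n - C π : A[X])
  rw [eval₂_sub, eval₂_pow, eval₂_X, eval₂_C, sub_eq_zero] at this
  exact this

theorem exists_decomp (z : AdjoinRoot (X ^ n - C π : A[X])) :
    ∃ (a : A) (w : AdjoinRoot (X ^ n - C π : A[X])),
      z = AdjoinRoot.of _ a + AdjoinRoot.root _ * w := by
  obtain ⟨p, rfl⟩ := AdjoinRoot.mk_surjective z
  refine ⟨p.coeff 0, AdjoinRoot.mk _ p.divX, ?_⟩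
  conv_lhs => rw [← divX_mul_X_add p]
  rw [map_add, map_mul, AdjoinRoot.mk_X, AdjoinRoot.mk_C]
  ring

theorem ρ_of (a : A) : ρ π hπ n hn (AdjoinRoot.of _ a) = residue A a := AdjoinRoot.lift_of _

theorem ρ_root : ρ π hπ n hn (AdjoinRoot.root _) = 0 := AdjoinRoot.lift_root _

theorem ρ_eq_zero_iff (z : AdjoinRoot (X ^ n - C π : A[X])) :
    ρ π hπ n hn z = 0 ↔ z ∈ Ideal.span {AdjoinRoot.root (X ^ n - C π : A[X])} := by
  constructor
  · intro hz
    obtain ⟨a, w, rfl⟩ := exists_decomp π n z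
    rw [map_add, map_mul, ρ_root, zero_mul, add_zero, ρ_of, residue_eq_zero_iff,
      hπ.maximalIdeal_eq, Ideal.mem_span_singleton] at hz
    obtain ⟨c, rfl⟩ := hz
    rw [Ideal.mem_span_singleton]
    refine ⟨AdjoinRoot.root _ ^ (n - 1) * AdjoinRoot.of _ c + w, ?_⟩
    rw [map_mul, ← root_pow]
    have : AdjoinRoot.root (X ^ n - C π : A[X]) ^ n =
        AdjoinRoot.root _ * AdjoinRoot.root _ ^ (n - 1) := by
      rw [← pow_succ']
      congr 1
      omega
    rw [this]
    ring
  · intro hz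
    obtain ⟨w, rfl⟩ := Ideal.mem_span_singleton.mp hz
    rw [map_mul, ρ_root, zero_mul]

theorem isUnit_of_ρ_ne_zero (z : AdjoinRoot (X ^ n - C π : A[X])) (hz : ρ π hπ n hn z ≠ 0) :
    IsUnit z := by
  haveI : Module.Finite A (AdjoinRoot (X ^ n - C π : A[X])) := (monic π n hn).finite_adjoinRoot
  haveI : Algebra.IsIntegral A (AdjoinRoot (X ^ n - C π : A[X])) := Algebra.IsIntegral.of_finite A _
  by_contra hu
  obtain ⟨M, hM, hzM⟩ := exists_max_ideal_of_mem_nonunits (mem_nonunits_iff.mpr hu)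
  have h1 : (M.comap (algebraMap A (AdjoinRoot (X ^ n - C π : A[X])))).IsMaximal :=
    Ideal.isMaximal_comap_of_isIntegral_of_isMaximal M
  have h2 : M.comap (algebraMap A (AdjoinRoot (X ^ n - C π : A[X]))) = maximalIdeal A :=
    IsLocalRing.eq_maximalIdeal h1
  have hπM : AdjoinRoot.of (X ^ n - C π : A[X]) π ∈ M := by
    have : π ∈ M.comap (algebraMap A (AdjoinRoot (X ^ n - C π : A[X]))) := by
      rw [h2, hπ.maximalIdeal_eq]
      exact Ideal.mem_span_singleton_self π
    exact this
  have hxM : AdjoinRoot.root (X ^ n - C π : A[X]) ∈ M := by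
    rw [← root_pow] at hπM
    exact hM.isPrime.mem_of_pow_mem n hπM
  have hker : ρ π hπ n hn z = 0 := by
    obtain ⟨a, w, rfl⟩ := exists_decomp π n z
    rw [map_add, map_mul, ρ_root, zero_mul, add_zero, ρ_of, residue_eq_zero_iff, ← h2]
    have h3 : AdjoinRoot.of (X ^ n - C π : A[X]) a ∈ M := by
      have := M.sub_mem hzM (M.mul_mem_right w hxM)
      rwa [add_sub_cancel_right] at this
    exact h3
  exact hz hker

include hπ hn in
theorem isLocalRing : IsLocalRing (AdjoinRoot (X ^ n - C π : A[X])) := by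
  haveI : Nontrivial (AdjoinRoot (X ^ n - C π : A[X])) := (ρ π hπ n hn).domain_nontrivial
  refine IsLocalRing.of_nonunits_add fun z z' hz hz' => ?_
  have h1 : ρ π hπ n hn z = 0 := by
    by_contra h
    exact hz (isUnit_of_ρ_ne_zero π hπ n hn z h)
  have h2 : ρ π hπ n hn z' = 0 := by
    by_contra h
    exact hz' (isUnit_of_ρ_ne_zero π hπ n hn z' h)
  intro hu
  have := hu.map (ρ π hπ n hn)
  rw [map_add, h1, h2, add_zero] at this
  exact not_isUnit_zero this

include hπ hn in
theorem maximalIdeal_eq [IsLocalRing (AdjoinRoot (X ^ n - C π : A[X]))] :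
    maximalIdeal (AdjoinRoot (X ^ n - C π : A[X])) =
      Ideal.span {AdjoinRoot.root (X ^ n - C π : A[X])} := by
  ext z
  rw [← ρ_eq_zero_iff π hπ n hn, mem_maximalIdeal, mem_nonunits_iff]
  constructor
  · intro h
    by_contra h'
    exact h (isUnit_of_ρ_ne_zero π hπ n hn z h')
  · intro h hu
    have := hu.map (ρ π hπ n hn)
    rw [h] at this
    exact not_isUnit_zero this

include hπ hn in
theorem root_ne_zero : AdjoinRoot.root (X ^ n - C π : A[X]) ≠ 0 := by
  intro h0
  have h1 : AdjoinRoot.of (X ^ n - C π : A[X]) π = 0 := by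
    rw [← root_pow, h0, zero_pow (by omega)]
  have hinj : Function.Injective (AdjoinRoot.of (X ^ n - C π : A[X])) := by
    apply AdjoinRoot.of.injective_of_degree_ne_zero
    rw [degree_X_pow_sub_C (by omega) π]
    exact_mod_cast (by omega : n ≠ 0)
  exact hπ.ne_zero (hinj (h1.trans (map_zero _).symm))

include hπ hn in
theorem isDiscreteValuationRing [IsDomain (AdjoinRoot (X ^ n - C π : A[X]))] :
    IsDiscreteValuationRing (AdjoinRoot (X ^ n - C π : A[X])) := by
  haveI := isLocalRing π hπ n hn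
  haveI : IsNoetherianRing (AdjoinRoot (X ^ n - C π : A[X])) :=
    inferInstanceAs (IsNoetherianRing (A[X] ⧸ Ideal.span {(X ^ n - C π : A[X])}))
  have hnf : ¬ IsField (AdjoinRoot (X ^ n - C π : A[X])) := by
    intro hF
    have hu : IsUnit (AdjoinRoot.root (X ^ n - C π : A[X])) := by
      obtain ⟨b, hb⟩ := hF.mul_inv_cancel (root_ne_zero π hπ n hn)
      exact IsUnit.of_mul_eq_one _ hb
    have := hu.map (ρ π hπ n hn)
    rw [ρ_root] at this
    exact not_isUnit_zero this
  refine ((IsDiscreteValuationRing.TFAE _ hnf).out 0 4).mpr ?_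
  exact ⟨⟨AdjoinRoot.root _, maximalIdeal_eq π hπ n hn⟩⟩

end Groth.Agent.Lib.lead.Eisen
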