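import Mathlib
import Groth.Agent.Lib.lead.Eisen1
import Groth.Prelude.Def_EtRam

/-!
# `A[x]/(x^n - π)` over a discrete valuation ring: total ramification
-/

universe u

set_option maxHeartbeats 400000

open IsLocalRing Polynomial

namespace Groth.Agent.Lib.lead.Eisen

variable {A : Type u} [CommRing A] [IsDomain A] [IsDiscreteValuationRing A] (π : A)
  (hπ : Irreducible π) (n : ℕ) (hn : 2 ≤ n)

include hπ hn in
theorem map_maximalIdeal [IsLocalRing (AdjoinRoot (X ^ n - C π : A[X]))] :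
    (maximalIdeal A).map (algebraMap A (AdjoinRoot (X ^ n - C π : A[X]))) =
      maximalIdeal (AdjoinRoot (X ^ n - C π : A[X])) ^ n := by
  rw [maximalIdeal_eq π hπ n hn, Ideal.span_singleton_pow, root_pow, hπ.maximalIdeal_eq,
    Ideal.map_span, Set.image_singleton]
  rfl

section ram

variable [IsDomain (AdjoinRoot (X ^ n - C π : A[X]))]
  [IsDiscreteValuationRing (AdjoinRoot (X ^ n - C π : A[X]))]
  (K₁ : Type u) [Field K₁] [Algebra (AdjoinRoot (X ^ n - C π : A[X])) K₁]
  [IsFractionRing (AdjoinRoot (X ^ n - C π : A[X])) K₁]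

/-- the structure map to the fraction field -/
noncomputable abbrev g : A →+* K₁ :=
  (algebraMap (AdjoinRoot (X ^ n - C π : A[X])) K₁).comp
    (algebraMap A (AdjoinRoot (X ^ n - C π : A[X])))

/-- the valuation subring of `A'` -/
noncomputable def V₀ : ValuationSubring K₁ :=
  (ValuationRing.valuation (AdjoinRoot (X ^ n - C π : A[X])) K₁).valuationSubring

theorem mem_V₀ (y : K₁) : y ∈ V₀ π n K₁ ↔
    ∃ z : AdjoinRoot (X ^ n - C π : A[X]), algebraMap _ K₁ z = y :=
  ValuationRing.mem_integer_iff _ _ y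

variable {K₁}

include hπ hn in
theorem key (V : ValuationSubring K₁) (h : EtRam.Dominates A (g π n K₁) V) :
    V.valuation (algebraMap (AdjoinRoot (X ^ n - C π : A[X])) K₁ (AdjoinRoot.root _)) < 1 ∧
    (∀ z : AdjoinRoot (X ^ n - C π : A[X]), algebraMap _ K₁ z ∈ V) ∧ V = V₀ π n K₁ := by
  have hx : V.valuation (algebraMap (AdjoinRoot (X ^ n - C π : A[X])) K₁ (AdjoinRoot.root _)) < 1 := by
    have h1 := h.2 π (by rw [hπ.maximalIdeal_eq]; exact Ideal.mem_span_singleton_self π)
    have h2 : g π n K₁ π =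
        (algebraMap (AdjoinRoot (X ^ n - C π : A[X])) K₁ (AdjoinRoot.root _)) ^ n := by
      rw [← map_pow, root_pow]
      rfl
    rw [h2, map_pow] at h1
    by_contra hge
    rw [not_lt] at hge
    exact absurd h1 (not_lt.mpr (one_le_pow₀ hge))
  have hall : ∀ z : AdjoinRoot (X ^ n - C π : A[X]), algebraMap _ K₁ z ∈ V := by
    intro z
    obtain ⟨p, rfl⟩ := AdjoinRoot.mk_surjective z
    induction p using Polynomial.induction_on' with
    | add p q hp hq =>
      rw [map_add, map_add]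
      exact V.add_mem _ _ hp hq
    | monomial k a =>
      rw [← C_mul_X_pow_eq_monomial, map_mul, map_pow, AdjoinRoot.mk_C, AdjoinRoot.mk_X, map_mul,
        map_pow]
      refine V.mul_mem _ _ (h.1 a) (V.pow_mem ?_ k)
      exact (V.valuation_le_one_iff _).mp hx.le
  refine ⟨hx, hall, ?_⟩
  apply le_antisymm
  · intro y hy
    rcases (V₀ π n K₁).mem_or_inv_mem y with h0 | h0
    · exact h0
    · by_contra hy0
      obtain ⟨z, hz⟩ := (mem_V₀ π n K₁ _).mp h0
      have hyne : y ≠ 0 := by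
        rintro rfl
        exact hy0 (V₀ π n K₁).zero_mem
      have hznu : ¬ IsUnit z := by
        intro hu
        apply hy0
        rw [mem_V₀]
        obtain ⟨z', hz'⟩ := hu.exists_left_inv
        refine ⟨z', ?_⟩
        have h1 : algebraMap (AdjoinRoot (X ^ n - C π : A[X])) K₁ (z' * z) = 1 := by
          rw [hz', map_one]
        rw [map_mul, hz] at h1
        rw [eq_inv_of_mul_eq_one_left h1, inv_inv]
      have hzm : z ∈ maximalIdeal (AdjoinRoot (X ^ n - C π : A[X])) :=
        (mem_maximalIdeal z).mpr hznu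
      rw [maximalIdeal_eq π hπ n hn, Ideal.mem_span_singleton] at hzm
      obtain ⟨w, rfl⟩ := hzm
      have h1 : V.valuation y⁻¹ < 1 := by
        rw [← hz, map_mul, map_mul]
        exact mul_lt_one_of_nonneg_of_lt_one_left zero_le hx
          ((V.valuation_le_one_iff _).mpr (hall w))
      have h2 : V.valuation y ≤ 1 := (V.valuation_le_one_iff _).mpr hy
      have h3 : V.valuation y * V.valuation y⁻¹ = 1 := by
        rw [← map_mul, mul_inv_cancel₀ hyne, map_one]
      have h4 : V.valuation y * V.valuation y⁻¹ < 1 :=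
        mul_lt_one_of_nonneg_of_lt_one_right h2 zero_le h1
      exact absurd h3 (ne_of_lt h4)
  · intro y hy
    obtain ⟨z, rfl⟩ := (mem_V₀ π n K₁ _).mp hy
    exact hall z

include hπ hn in
theorem valuation_lt_one_of_mem (V : ValuationSubring K₁) (h : EtRam.Dominates A (g π n K₁) V)
    (z : AdjoinRoot (X ^ n - C π : A[X])) (hz : z ∈ maximalIdeal (AdjoinRoot (X ^ n - C π : A[X]))) :
    V.valuation (algebraMap _ K₁ z) < 1 := by
  obtain ⟨hx, hall, -⟩ := key π hπ n hn V h
  rw [maximalIdeal_eq π hπ n hn, Ideal.mem_span_singleton] at hz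
  obtain ⟨w, rfl⟩ := hz
  rw [map_mul, map_mul]
  exact mul_lt_one_of_nonneg_of_lt_one_left zero_le hx ((V.valuation_le_one_iff _).mpr (hall w))

include hπ hn in
theorem dominates_V₀ : EtRam.Dominates A (g π n K₁) (V₀ π n K₁) := by
  refine ⟨fun a => (mem_V₀ π n K₁ _).mpr ⟨_, rfl⟩, fun a ha => ?_⟩
  -- `of a` is a non-unit of `A'`
  have hmem : algebraMap A (AdjoinRoot (X ^ n - C π : A[X])) a ∈
      maximalIdeal (AdjoinRoot (X ^ n - C π : A[X])) := by
    have h1 := Ideal.mem_map_of_mem (algebraMap A (AdjoinRoot (X ^ n - C π : A[X]))) ha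
    rw [map_maximalIdeal π hπ n hn] at h1
    exact Ideal.pow_le_self (by omega) h1
  have hy : g π n K₁ a ∈ V₀ π n K₁ := (mem_V₀ π n K₁ _).mpr ⟨_, rfl⟩
  have hnu : (⟨g π n K₁ a, hy⟩ : V₀ π n K₁) ∈ maximalIdeal (V₀ π n K₁) := by
    rw [mem_maximalIdeal, mem_nonunits_iff]
    intro hu
    obtain ⟨u, hu'⟩ := hu.exists_left_inv
    obtain ⟨z', hz'⟩ := (mem_V₀ π n K₁ _).mp u.2
    have h1 : (u : K₁) * g π n K₁ a = 1 := congrArg Subtype.val hu'
    rw [← hz'] at h1
    have h2 : algebraMap (AdjoinRoot (X ^ n - C π : A[X])) K₁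
        (z' * algebraMap A (AdjoinRoot (X ^ n - C π : A[X])) a) = 1 := by
      rw [map_mul]
      exact h1
    have h3 : z' * algebraMap A (AdjoinRoot (X ^ n - C π : A[X])) a = 1 :=
      IsFractionRing.injective (AdjoinRoot (X ^ n - C π : A[X])) K₁ (h2.trans (map_one _).symm)
    exact (mem_maximalIdeal _).mp hmem (IsUnit.of_mul_eq_one_right _ h3)
  exact ((V₀ π n K₁).valuation_lt_one_iff _).mp hnu

include hπ hn in
theorem isTotallyRamified : EtRam.IsTotallyRamified A (g π n K₁) := by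
  refine ⟨⟨V₀ π n K₁, dominates_V₀ π hπ n hn⟩, fun V V' h h' => ?_, fun V h r => ?_⟩
  · rw [(key π hπ n hn V h).2.2, (key π hπ n hn V' h').2.2]
  · obtain ⟨v, rfl⟩ := residue_surjective r
    obtain ⟨hx, hall, hV⟩ := key π hπ n hn V h
    have hv : (v : K₁) ∈ V₀ π n K₁ := hV ▸ v.2
    obtain ⟨z, hz⟩ := (mem_V₀ π n K₁ _).mp hv
    obtain ⟨a, w, rfl⟩ := exists_decomp π n z
    refine ⟨a, ?_⟩
    show residue V (RingHom.codRestrict (g π n K₁) V h.1 a) = residue V v
    rw [← sub_eq_zero, ← map_sub, residue_eq_zero_iff, V.valuation_lt_one_iff]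
    have h1 : ((RingHom.codRestrict (g π n K₁) V h.1 a - v : V) : K₁) =
        - algebraMap (AdjoinRoot (X ^ n - C π : A[X])) K₁ (AdjoinRoot.root _ * w) := by
      have h2 : ((RingHom.codRestrict (g π n K₁) V h.1 a - v : V) : K₁) =
          g π n K₁ a - (v : K₁) := rfl
      rw [h2, ← hz, map_add]
      show g π n K₁ a - (g π n K₁ a + _) = _
      ring
    rw [h1, Valuation.map_neg]
    apply valuation_lt_one_of_mem π hπ n hn V h
    rw [maximalIdeal_eq π hπ n hn]
    exact Ideal.mul_mem_right _ _ (Ideal.mem_span_singleton_self _)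

end ram

theorem main (A : Type u) [CommRing A] [IsDomain A] [IsDiscreteValuationRing A] (π : A)
    (hπ : Irreducible π) (n : ℕ) (hn : 2 ≤ n) :
    Irreducible (X ^ n - C π : A[X]) ∧
    ∃ (_ : IsDomain (AdjoinRoot (X ^ n - C π : A[X])))
      (_ : IsDiscreteValuationRing (AdjoinRoot (X ^ n - C π : A[X]))),
      IsIntegrallyClosed (AdjoinRoot (X ^ n - C π : A[X])) ∧
      (IsLocalRing.maximalIdeal A).map (algebraMap A (AdjoinRoot (X ^ n - C π : A[X]))) =
        IsLocalRing.maximalIdeal (AdjoinRoot (X ^ n - C π : A[X])) ^ n ∧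
      ∀ (K₁ : Type u) [Field K₁] [Algebra (AdjoinRoot (X ^ n - C π : A[X])) K₁]
        [IsFractionRing (AdjoinRoot (X ^ n - C π : A[X])) K₁],
        EtRam.IsTotallyRamified A ((algebraMap (AdjoinRoot (X ^ n - C π : A[X])) K₁).comp
          (algebraMap A (AdjoinRoot (X ^ n - C π : A[X])))) := by
  haveI hdom := isDomain π hπ n hn
  haveI hdvr := isDiscreteValuationRing π hπ n hn
  refine ⟨irreducible π hπ n hn, hdom, hdvr, inferInstance, map_maximalIdeal π hπ n hn, ?_⟩
  intro K₁ _ _ _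
  exact isTotallyRamified π hπ n hn

end Groth.Agent.Lib.lead.Eisen
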