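import Mathlib
import Groth.Agent.Lib.lead.EtClosed1
import Groth.Agent.Lib.lead.EtHens5

/-!
# Stalks of pushforward along a closed immersion vanish outside the closed subscheme, II
-/

universe u

set_option maxHeartbeats 400000
set_option linter.style.haveILetI false

open CategoryTheory CategoryTheory.Limits Opposite AlgebraicGeometry

namespace Groth.Agent.Lib.lead.EtClosed

set_option backward.isDefEq.respectTransparency false in
/-- shrinking an étale neighbourhood of a geometric point away from a closed subscheme -/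
theorem exists_shrink {Z X : Scheme.{u}} (i : Z ⟶ X) [IsClosedImmersion i]
    {Ω : Type u} [Field Ω] [IsSepClosed Ω] (ξ : Spec (CommRingCat.of Ω) ⟶ X)
    (hξ : Disjoint (Set.range ξ.base) (Set.range i.base))
    (V : X.Etale) (v : (Scheme.pointSmallEtale ξ).fiber.obj V) :
    ∃ (V' : X.Etale) (g : V' ⟶ V) (v' : (Scheme.pointSmallEtale ξ).fiber.obj V'),
      (Scheme.pointSmallEtale ξ).fiber.map g v' = v ∧ IsEmpty ((EtCoh.bc i).obj V').left := by
  obtain ⟨v₀, hv₀, rfl⟩ := Over.homMk_surjective v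
  dsimp at v₀ hv₀
  let Uc : X.Opens := ⟨(Set.range i.base)ᶜ, i.isClosedEmbedding.isClosed_range.isOpen_compl⟩
  let W : V.left.Opens := V.hom ⁻¹ᵁ Uc
  haveI : Etale V.hom := V.prop
  have hrange : Set.range v₀ ⊆ Set.range W.ι := by
    rintro _ ⟨a, rfl⟩
    rw [Scheme.Opens.range_ι]
    change V.hom (v₀ a) ∈ (Set.range i.base)ᶜ
    have h1 : V.hom (v₀ a) = ξ a := by
      have := congrArg (fun f => f a) hv₀
      exact this
    rw [h1]
    exact Set.disjoint_left.mp hξ ⟨a, rfl⟩
  let V' : X.Etale := Scheme.Etale.mk (W.ι ≫ V.hom)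
  let g : V' ⟶ V := MorphismProperty.Over.homMk W.ι rfl
  let v'₀ : Spec (CommRingCat.of Ω) ⟶ W := IsOpenImmersion.lift W.ι v₀ hrange
  have hv' : v'₀ ≫ W.ι ≫ V.hom = ξ := by
    rw [← Category.assoc, IsOpenImmersion.lift_fac, hv₀]
  refine ⟨V', g, Over.homMk v'₀ hv', ?_, ?_⟩
  · apply Over.OverMorphism.ext
    exact IsOpenImmersion.lift_fac _ _ _
  · refine ⟨fun w => ?_⟩
    have hcond : pullback.fst V'.hom i ≫ V'.hom = pullback.snd V'.hom i ≫ i := pullback.condition
    let w' : ↥(pullback V'.hom i) := w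
    have h1 : V.hom (W.ι (pullback.fst V'.hom i w')) = i (pullback.snd V'.hom i w') := by
      have := congrArg (fun f => f w') hcond
      exact this
    have h2 : V.hom (W.ι (pullback.fst V'.hom i w')) ∈ (Set.range i.base)ᶜ :=
      (pullback.fst V'.hom i w').2
    rw [h1] at h2
    exact h2 ⟨_, rfl⟩

theorem main0069 {Z X : Scheme.{u}} (i : Z ⟶ X) [IsClosedImmersion i] [EtCoh.BCCont i]
    (G : EtCoh.Ab Z) {Ω : Type u} [Field Ω] [IsSepClosed Ω] (ξ : Spec (CommRingCat.of Ω) ⟶ X)
    (hξ : Disjoint (Set.range ξ.base) (Set.range i.base)) :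
    IsZero ((EtCoh.stalk ξ).obj ((EtCoh.push i).obj G)) := by
  haveI := EtHens.preservesFiltered_forget_addCommGrp.{u}
  haveI : LocallySmall.{u} X.Etale := inferInstance
  suffices h : Subsingleton ↑((Scheme.pointSmallEtale ξ).presheafFiber.obj
      ((EtCoh.push i).obj G).obj : AddCommGrpCat.{u + 1}) by
    haveI : Subsingleton ↑((EtCoh.stalk ξ).obj ((EtCoh.push i).obj G)) := h
    exact AddCommGrpCat.isZero_of_subsingleton _
  refine ⟨fun p q => ?_⟩
  obtain ⟨V, v, z₁, z₂, rfl, rfl⟩ :=
    GrothendieckTopology.Point.toPresheafFiber_jointly_surjective₂.{u + 1, u}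
      (Scheme.pointSmallEtale ξ) p q
  obtain ⟨V', g, v', hv', hE⟩ := exists_shrink i ξ hξ V v
  have hw := GrothendieckTopology.Point.toPresheafFiber_w (Scheme.pointSmallEtale ξ) g v'
    ((EtCoh.push i).obj G).obj
  rw [hv'] at hw
  haveI : Subsingleton (((EtCoh.push i).obj G).obj.obj (op V')) :=
    subsingleton_sections_of_isEmpty G ((EtCoh.bc i).obj V')
  rw [← hw, ConcreteCategory.comp_apply, ConcreteCategory.comp_apply]
  congr 1
  exact Subsingleton.elim _ _

end Groth.Agent.Lib.lead.EtClosed
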