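import Mathlib
import Groth.Agent.Lib.lead.EtCons1

/-!
# Exactness, mono, epi of abelian étale sheaves on geometric stalks
-/

universe u

set_option maxHeartbeats 400000
set_option linter.style.haveILetI false

open CategoryTheory CategoryTheory.Limits Opposite AlgebraicGeometry

namespace Groth.Agent.Lib.lead.EtCons

variable {X : Scheme.{u}}

theorem mono_iff_stalks {F G : EtCoh.Ab X} (a : F ⟶ G) :
    Mono a ↔ ∀ (Ω : Type u) [Field Ω] [IsSepClosed Ω] (ξ : Spec (CommRingCat.of Ω) ⟶ X),
      Function.Injective ((EtCoh.stalk ξ).map a) := by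
  haveI := EtHens.preservesFiltered_forget_addCommGrp.{u}
  haveI : LocallySmall.{u} X.Etale := inferInstance
  constructor
  · intro hm Ω _ _ ξ
    haveI : Sheaf.IsLocallyInjective a := by
      rw [Sheaf.isLocallyInjective_iff_injective]
      intro U
      have h1 : Mono ((sheafToPresheaf _ _).map a) := inferInstance
      have h2 : Mono (((sheafToPresheaf _ _).map a).app U) := inferInstance
      exact (AddCommGrpCat.mono_iff_injective _).mp h2
    exact GrothendieckTopology.Point.toPresheafFiber_map_injective.{u + 1, u}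
      (Scheme.pointSmallEtale ξ) a.hom
  · intro h
    apply Sheaf.mono_of_injective
    intro U s t hst
    induction U using Opposite.rec with | _ U => ?_
    apply ext_of_germs F U s t
    intro Ω _ _ ξ v
    apply h Ω ξ
    change (Scheme.pointSmallEtale ξ).presheafFiber.map a.hom _ =
      (Scheme.pointSmallEtale ξ).presheafFiber.map a.hom _
    rw [GrothendieckTopology.Point.toPresheafFiber_naturality_apply,
      GrothendieckTopology.Point.toPresheafFiber_naturality_apply, hst]

theorem epi_iff_stalks {F G : EtCoh.Ab X} (a : F ⟶ G) :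
    Epi a ↔ ∀ (Ω : Type u) [Field Ω] [IsSepClosed Ω] (ξ : Spec (CommRingCat.of Ω) ⟶ X),
      Function.Surjective ((EtCoh.stalk ξ).map a) := by
  haveI := EtHens.preservesFiltered_forget_addCommGrp.{u}
  haveI : LocallySmall.{u} X.Etale := inferInstance
  constructor
  · intro he Ω _ _ ξ
    haveI : Sheaf.IsLocallySurjective a :=
      (Sheaf.isLocallySurjective_iff_epi' AddCommGrpCat.{u + 1} a).mpr he
    exact GrothendieckTopology.Point.toPresheafFiber_map_surjective.{u + 1, u}
      (Scheme.pointSmallEtale ξ) a.hom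
  · intro h
    haveI : Sheaf.IsLocallySurjective a := isLocallySurjective_of_stalks a.hom h
    exact (Sheaf.isLocallySurjective_iff_epi' AddCommGrpCat.{u + 1} a).mp inferInstance

/-- a sheaf with vanishing geometric stalks vanishes -/
theorem isZero_of_stalks (H : EtCoh.Ab X)
    (h : ∀ (Ω : Type u) [Field Ω] [IsSepClosed Ω] (ξ : Spec (CommRingCat.of Ω) ⟶ X),
      IsZero ((EtCoh.stalk ξ).obj H)) : IsZero H := by
  haveI := EtHens.preservesFiltered_forget_addCommGrp.{u}
  rw [IsZero.iff_id_eq_zero]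
  apply Sheaf.hom_ext
  ext U s
  induction U using Opposite.rec with | _ U => ?_
  apply ext_of_germs H U
  intro Ω _ _ ξ v
  haveI : Subsingleton ↑((EtCoh.stalk ξ).obj H) := AddCommGrpCat.subsingleton_of_isZero (h Ω ξ)
  exact Subsingleton.elim (α := ↑((EtCoh.stalk ξ).obj H)) _ _

theorem ab5_small : AB5OfSize.{u, u} AddCommGrpCat.{u + 1} :=
  AB5OfSize_shrink.{u, u, u + 1, u + 1} AddCommGrpCat.{u + 1}

theorem exact_iff_stalks (S : ShortComplex (EtCoh.Ab X)) :
    S.Exact ↔ ∀ (Ω : Type u) [Field Ω] [IsSepClosed Ω] (ξ : Spec (CommRingCat.of Ω) ⟶ X),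
      (S.map (EtCoh.stalk ξ)).Exact := by
  haveI := ab5_small.{u}
  constructor
  · intro hS Ω _ _ ξ
    exact hS.map (EtCoh.stalk ξ)
  · intro h
    rw [S.exact_iff_isZero_homology]
    apply isZero_of_stalks
    intro Ω _ _ ξ
    have e := S.mapHomologyIso (EtCoh.stalk ξ)
    exact IsZero.of_iso ((S.map (EtCoh.stalk ξ)).exact_iff_isZero_homology.mp (h Ω ξ)) e.symm

theorem main0622 (S : ShortComplex (EtCoh.Ab X)) {F G : EtCoh.Ab X} (a : F ⟶ G) :
    (S.Exact ↔ ∀ (Ω : Type u) [Field Ω] [IsSepClosed Ω] (ξ : Spec (CommRingCat.of Ω) ⟶ X),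
      (S.map (EtCoh.stalk ξ)).Exact) ∧
    (Mono a ↔ ∀ (Ω : Type u) [Field Ω] [IsSepClosed Ω] (ξ : Spec (CommRingCat.of Ω) ⟶ X),
      Function.Injective ((EtCoh.stalk ξ).map a)) ∧
    (Epi a ↔ ∀ (Ω : Type u) [Field Ω] [IsSepClosed Ω] (ξ : Spec (CommRingCat.of Ω) ⟶ X),
      Function.Surjective ((EtCoh.stalk ξ).map a)) :=
  ⟨exact_iff_stalks S, mono_iff_stalks a, epi_iff_stalks a⟩

end Groth.Agent.Lib.lead.EtCons
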