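import Mathlib
import Groth.Agent.Lib.lead.EtCons1
import Groth.Prelude.Def_SGA4b

/-!
# Mono / epi of étale sheaves of sets on geometric stalks
-/

universe u

set_option maxHeartbeats 400000
set_option linter.style.haveILetI false

open CategoryTheory CategoryTheory.Limits Opposite AlgebraicGeometry

namespace Groth.Agent.Lib.lead.EtCons

variable {X : Scheme.{u}}

theorem preservesFiltered_forget_type :
    PreservesFilteredColimitsOfSize.{u, u} (forget (Type (u + 1))) := by
  change PreservesFilteredColimitsOfSize.{u, u} (𝟭 (Type (u + 1)))
  infer_instance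

theorem mono_iff_stalks_type {F G : EtDesc.Sh X} (v : F ⟶ G) :
    Mono v ↔ ∀ (Ω : Type u) [Field Ω] [IsSepClosed Ω] (ξ : Spec (CommRingCat.of Ω) ⟶ X),
      Function.Injective (((Scheme.pointSmallEtale ξ).sheafFiber (A := Type (u + 1))).map v) := by
  haveI := preservesFiltered_forget_type.{u}
  haveI : LocallySmall.{u} X.Etale := inferInstance
  constructor
  · intro hm Ω _ _ ξ
    haveI : Sheaf.IsLocallyInjective v := by
      rw [Sheaf.isLocallyInjective_iff_injective]
      intro U
      have h1 : Mono ((sheafToPresheaf _ _).map v) := inferInstance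
      have h2 : Mono (((sheafToPresheaf _ _).map v).app U) := inferInstance
      exact (mono_iff_injective _).mp h2
    exact GrothendieckTopology.Point.toPresheafFiber_map_injective.{u + 1, u}
      (Scheme.pointSmallEtale ξ) v.hom
  · intro h
    apply Sheaf.mono_of_injective
    intro U s t hst
    induction U using Opposite.rec with | _ U => ?_
    apply ext_of_germs F U s t
    intro Ω _ _ ξ w
    apply h Ω ξ
    change (Scheme.pointSmallEtale ξ).presheafFiber.map v.hom _ =
      (Scheme.pointSmallEtale ξ).presheafFiber.map v.hom _
    rw [GrothendieckTopology.Point.toPresheafFiber_naturality_apply,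
      GrothendieckTopology.Point.toPresheafFiber_naturality_apply, hst]

theorem epi_iff_stalks_type {F G : EtDesc.Sh X} (v : F ⟶ G) :
    Epi v ↔ ∀ (Ω : Type u) [Field Ω] [IsSepClosed Ω] (ξ : Spec (CommRingCat.of Ω) ⟶ X),
      Function.Surjective (((Scheme.pointSmallEtale ξ).sheafFiber (A := Type (u + 1))).map v) := by
  haveI := preservesFiltered_forget_type.{u}
  haveI : LocallySmall.{u} X.Etale := inferInstance
  constructor
  · intro he Ω _ _ ξ
    haveI : Sheaf.IsLocallySurjective v := (Sheaf.isLocallySurjective_iff_epi v).mpr he
    exact GrothendieckTopology.Point.toPresheafFiber_map_surjective.{u + 1, u}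
      (Scheme.pointSmallEtale ξ) v.hom
  · intro h
    haveI : Sheaf.IsLocallySurjective v := isLocallySurjective_of_stalks v.hom h
    exact (Sheaf.isLocallySurjective_iff_epi v).mp inferInstance

end Groth.Agent.Lib.lead.EtCons
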