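import Mathlib
import Groth.Agent.Lib.lead.EtCons1
import Groth.Prelude.Def_EtShriek2
import Groth.Prelude.Def_PBC

/-!
# Supports of sections of abelian étale sheaves
-/

universe u

set_option maxHeartbeats 400000
set_option linter.style.haveILetI false

open CategoryTheory CategoryTheory.Limits Opposite AlgebraicGeometry

namespace Groth.Agent.Lib.lead.EtCons

variable {S : Scheme.{u}}

theorem etale_left {U V : S.Etale} (g : V ⟶ U) : Etale g.left := by
  haveI : Etale V.hom := V.prop
  haveI : Etale U.hom := U.prop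
  haveI : Etale (g.left ≫ U.hom) := by
    have : g.left ≫ U.hom = V.hom := Over.w g.hom
    rw [this]; infer_instance
  exact Etale.of_comp g.left U.hom

theorem isClosed_sectSupp (F : EtCoh.Ab S) (U : S.Etale) (σ : EtCoh.sect F U) :
    IsClosed (EtShriek.sectSupp F U σ) := by
  rw [← isOpen_compl_iff, isOpen_iff_forall_mem_open]
  intro x hx
  have hx' : ¬ ∀ (W : S.Etale) (g : W ⟶ U), (∃ w : W.left, g.left.base w = x) →
      F.obj.map g.op σ ≠ 0 := hx
  push_neg at hx'
  obtain ⟨W, g, ⟨w, hw⟩, hg⟩ := hx'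
  haveI := etale_left g
  refine ⟨Set.range g.left, ?_, g.left.isOpenMap.isOpen_range, ⟨w, hw⟩⟩
  rintro _ ⟨w', rfl⟩ hmem
  exact hmem W g ⟨w', rfl⟩ hg

set_option backward.isDefEq.respectTransparency false in
/-- local vanishing near the image of a geometric point kills the germ -/
theorem germ_eq_zero_of_local (F : EtCoh.Ab S) (U : S.Etale) (σ : EtCoh.sect F U)
    {Ω : Type u} [Field Ω] [IsSepClosed Ω] (ξ : Spec (CommRingCat.of Ω) ⟶ S)
    (v₀ : Spec (CommRingCat.of Ω) ⟶ U.left) (hv₀ : v₀ ≫ U.hom = ξ)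
    (W : S.Etale) (g : W ⟶ U) (w : W.left) (hw : g.left w = v₀ default)
    (hg : F.obj.map g.op σ = 0) :
    (Scheme.pointSmallEtale ξ).toPresheafFiber U (Over.homMk v₀ hv₀) F.obj σ = 0 := by
  haveI := etale_left g
  obtain ⟨l, hl₁, hl₂⟩ := Scheme.exists_fac_of_etale_of_isSepClosed g.left v₀ w hw
  have hlw : l ≫ W.hom = ξ := by
    have : g.left ≫ U.hom = W.hom := Over.w g.hom
    rw [← this, ← Category.assoc, hl₁, hv₀]
  have h1 := GrothendieckTopology.Point.toPresheafFiber_w_apply (Scheme.pointSmallEtale ξ)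
    g (Over.homMk l hlw) F.obj σ
  have hfib : (Scheme.pointSmallEtale ξ).fiber.map g (Over.homMk l hlw) =
      Over.homMk v₀ hv₀ := by
    apply Over.OverMorphism.ext
    exact hl₁
  rw [hfib] at h1
  rw [← h1, hg]
  exact map_zero _

set_option backward.isDefEq.respectTransparency false in
/-- a vanishing germ vanishes on an étale neighbourhood -/
theorem exists_local_of_germ_eq_zero (F : EtCoh.Ab S) (U : S.Etale) (σ : EtCoh.sect F U)
    {Ω : Type u} [Field Ω] [IsSepClosed Ω] (ξ : Spec (CommRingCat.of Ω) ⟶ S)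
    (v₀ : Spec (CommRingCat.of Ω) ⟶ U.left) (hv₀ : v₀ ≫ U.hom = ξ)
    (h : (Scheme.pointSmallEtale ξ).toPresheafFiber U (Over.homMk v₀ hv₀) F.obj σ = 0) :
    ∃ (W : S.Etale) (g : W ⟶ U) (w : W.left), g.left w = v₀ default ∧ F.obj.map g.op σ = 0 := by
  haveI := EtHens.preservesFiltered_forget_addCommGrp.{u}
  haveI : LocallySmall.{u} S.Etale := inferInstance
  have h' : (Scheme.pointSmallEtale ξ).toPresheafFiber U (Over.homMk v₀ hv₀) F.obj σ =
      (Scheme.pointSmallEtale ξ).toPresheafFiber U (Over.homMk v₀ hv₀) F.obj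
        (0 : ↑(F.obj.obj (op U))) := h.trans (map_zero _).symm
  rw [GrothendieckTopology.Point.toPresheafFiber_eq_iff'.{u + 1, u}] at h'
  obtain ⟨V, g, y, hy, heq⟩ := h'
  refine ⟨V, g, y.left (default : Spec (CommRingCat.of Ω)), ?_, heq.trans (map_zero _)⟩
  have h1 : y.left ≫ g.left = v₀ := congrArg CommaMorphism.left hy
  have := congrArg (fun f => f (default : Spec (CommRingCat.of Ω))) h1
  exact this

set_option backward.isDefEq.respectTransparency false in
theorem supp_eq (F : EtCoh.Ab S) :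
    EtPBC.supp F =
      ⋃ (U : S.Etale) (σ : EtCoh.sect F U), U.hom.base '' EtShriek.sectSupp F U σ := by
  haveI := EtHens.preservesFiltered_forget_addCommGrp.{u}
  haveI : LocallySmall.{u} S.Etale := inferInstance
  ext x
  simp only [Set.mem_iUnion, Set.mem_image]
  constructor
  · rintro ⟨Ω, _, _, ξ, hξ, hne⟩
    have hns : ¬ Subsingleton ↑((EtCoh.stalk ξ).obj F) :=
      fun h => hne (AddCommGrpCat.isZero_of_subsingleton _)
    rw [not_subsingleton_iff_nontrivial] at hns
    obtain ⟨t, ht⟩ := exists_ne (0 : ↑((EtCoh.stalk ξ).obj F))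
    obtain ⟨U, v, σ, rfl⟩ :=
      GrothendieckTopology.Point.toPresheafFiber_jointly_surjective.{u + 1, u}
        (Scheme.pointSmallEtale ξ) (P := F.obj) t
    obtain ⟨v₀, hv₀, rfl⟩ := Over.homMk_surjective v
    dsimp at v₀ hv₀
    refine ⟨U, σ, v₀ default, ?_, ?_⟩
    · rintro W g ⟨w, hw⟩ hg
      exact ht (germ_eq_zero_of_local F U σ ξ v₀ hv₀ W g w hw hg)
    · have h1 : ξ default ∈ Set.range ξ := ⟨default, rfl⟩
      rw [hξ] at h1
      have h2 : U.hom (v₀ default) = ξ default := by
        have := congrArg (fun f => f (default : Spec (CommRingCat.of Ω))) hv₀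
        exact this
      exact h2.trans h1
  · rintro ⟨U, σ, y, hy, rfl⟩
    let v₀ : Spec (CommRingCat.of (SeparableClosure (U.left.residueField y))) ⟶ U.left :=
      Spec.map (CommRingCat.ofHom (algebraMap (U.left.residueField y)
        (SeparableClosure (U.left.residueField y)))) ≫ U.left.fromSpecResidueField y
    have hv₀y : ∀ a, v₀ a = y := fun a => by
      change (U.left.fromSpecResidueField y) _ = y
      exact Scheme.fromSpecResidueField_apply _ _
    refine ⟨SeparableClosure (U.left.residueField y), inferInstance, inferInstance,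
      v₀ ≫ U.hom, ?_, ?_⟩
    · ext z
      constructor
      · rintro ⟨a, rfl⟩
        change U.hom (v₀ a) = U.hom y
        rw [hv₀y]
      · intro hz
        refine ⟨default, ?_⟩
        change U.hom (v₀ default) = z
        rw [hv₀y]
        exact hz.symm
    · intro hz
      haveI : Subsingleton ↑((EtCoh.stalk (v₀ ≫ U.hom)).obj F) :=
        AddCommGrpCat.subsingleton_of_isZero hz
      have hgerm : (Scheme.pointSmallEtale (v₀ ≫ U.hom)).toPresheafFiber U
          (Over.homMk v₀ rfl) F.obj σ = 0 :=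
        Subsingleton.elim (α := ↑((EtCoh.stalk (v₀ ≫ U.hom)).obj F)) _ _
      obtain ⟨W, g, w, hw, hg⟩ := exists_local_of_germ_eq_zero F U σ (v₀ ≫ U.hom) v₀ rfl hgerm
      exact hy W g ⟨w, hw.trans (hv₀y _)⟩ hg

theorem main0671 (F : EtCoh.Ab S) :
    (∀ (U : S.Etale) (σ : EtCoh.sect F U), IsClosed (EtShriek.sectSupp F U σ)) ∧
    EtPBC.supp F =
      ⋃ (U : S.Etale) (σ : EtCoh.sect F U), U.hom.base '' EtShriek.sectSupp F U σ :=
  ⟨isClosed_sectSupp F, supp_eq F⟩

end Groth.Agent.Lib.lead.EtCons
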