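import Mathlib
import Groth.Agent.Lib.lead.EtCons5
import Groth.Prelude.Def_EtAcyc

/-!
# Sections of L-torsion sheaves over quasi-compact étale schemes are killed by one integer
-/

universe u

set_option maxHeartbeats 400000
set_option linter.style.haveILetI false

open CategoryTheory CategoryTheory.Limits Opposite AlgebraicGeometry

namespace Groth.Agent.Lib.lead.EtCons

variable {X : Scheme.{u}}

theorem primesIn_prod (L : Set ℕ) {ι : Type*} (t : Finset ι) (m : ι → ℕ)
    (h : ∀ i ∈ t, EtAcyc.PrimesIn L (m i)) : EtAcyc.PrimesIn L (∏ i ∈ t, m i) := by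
  refine ⟨Finset.prod_pos fun i hi => (h i hi).1, fun p hp hdvd => ?_⟩
  obtain ⟨i, hi, hpi⟩ := (Prime.dvd_finset_prod_iff hp.prime _).mp hdvd
  exact (h i hi).2 p hp hpi

theorem main8524 (L : Set ℕ) (F : EtCoh.Ab X)
    (hF : EtAcyc.IsLTorsion L F) (U : X.Etale) [CompactSpace U.left] (s : EtCoh.sect F U) :
    ∃ m : ℕ, EtAcyc.PrimesIn L m ∧ m • s = 0 := by
  classical
  choose V g m hx hm hms using fun x => hF U s x
  have hopen : ∀ x, IsOpen (Set.range (g x).left) := fun x => by
    haveI := etale_left (g x)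
    exact (g x).left.isOpenMap.isOpen_range
  obtain ⟨t, ht⟩ := isCompact_univ.elim_finite_subcover (fun x => Set.range (g x).left) hopen
    (fun x _ => Set.mem_iUnion.mpr ⟨x, hx x⟩)
  refine ⟨∏ x ∈ t, m x, primesIn_prod L t m (fun x _ => hm x), ?_⟩
  have hS : Sieve.ofArrows (fun x : t => V x.1) (fun x => g x.1) ∈ X.smallEtaleTopology U := by
    rw [Scheme.ofArrows_mem_smallEtaleTopology_iff]
    ext y
    simp only [Set.mem_iUnion, Set.mem_univ, iff_true]
    have := ht (Set.mem_univ y)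
    simp only [Set.mem_iUnion] at this
    obtain ⟨x, hxt, hy⟩ := this
    exact ⟨⟨x, hxt⟩, hy⟩
  have hP : Presieve.IsSheaf X.smallEtaleTopology (F.obj ⋙ forget AddCommGrpCat.{u + 1}) :=
    (isSheaf_iff_isSheaf_of_type _ _).1
      ((inferInstance : X.smallEtaleTopology.HasSheafCompose (forget AddCommGrpCat.{u + 1})).isSheaf
        F.obj F.property)
  refine (hP _ hS).isSeparatedFor.ext (t₂ := (0 : ↑(F.obj.obj (op U)))) ?_
  rintro W f ⟨_, h, _, ⟨x⟩, rfl⟩
  change F.obj.map (h ≫ g x.1).op ((∏ x ∈ t, m x) • s) = F.obj.map (h ≫ g x.1).op 0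
  rw [op_comp, F.obj.map_comp, ConcreteCategory.comp_apply, ConcreteCategory.comp_apply]
  have h1 : F.obj.map (g x.1).op ((∏ x ∈ t, m x) • s) = 0 := by
    refine (map_nsmul (ConcreteCategory.hom (F.obj.map (g x.1).op)) _ s).trans ?_
    rw [← Finset.prod_erase_mul t m x.2, mul_smul, hms, smul_zero]
  rw [h1]
  have h2 : F.obj.map (g x.1).op (0 : ↑(F.obj.obj (op U))) = 0 := map_zero _
  rw [h2]

end Groth.Agent.Lib.lead.EtCons
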