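import Mathlib
import Groth.Agent.Lib.lead.EtCons5

/-!
# The support of a sheaf of rings on the small étale site is closed
-/

universe u

set_option maxHeartbeats 400000
set_option linter.style.haveILetI false

open CategoryTheory CategoryTheory.Limits Opposite AlgebraicGeometry

namespace Groth.Agent.Lib.lead.EtCons

set_option backward.isDefEq.respectTransparency false in
theorem main6648 {S : Scheme.{u}} (O : Sheaf S.smallEtaleTopology CommRingCat.{u}) :
    IsClosed {s : ↥S | ∃ (Ω : Type u) (_ : Field Ω) (_ : IsSepClosed Ω)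
      (ξ : Spec (CommRingCat.of Ω) ⟶ S),
      ξ.base default = s ∧ Nontrivial ↑((Scheme.pointSmallEtale ξ).presheafFiber.obj O.obj)} := by
  haveI : LocallySmall.{u} S.Etale := inferInstance
  rw [← isOpen_compl_iff, isOpen_iff_forall_mem_open]
  intro s hs
  let ξ₀ : Spec (CommRingCat.of (SeparableClosure (S.residueField s))) ⟶ S :=
    Spec.map (CommRingCat.ofHom (algebraMap (S.residueField s)
      (SeparableClosure (S.residueField s)))) ≫ S.fromSpecResidueField s
  have hξ₀ : ξ₀ default = s := by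
    change (S.fromSpecResidueField s) _ = s
    exact Scheme.fromSpecResidueField_apply _ _
  have hsub : Subsingleton ↑((Scheme.pointSmallEtale ξ₀).presheafFiber.obj O.obj) := by
    by_contra hns
    rw [not_subsingleton_iff_nontrivial] at hns
    exact hs ⟨_, inferInstance, inferInstance, ξ₀, hξ₀, hns⟩
  have h10 : (Scheme.pointSmallEtale ξ₀).toPresheafFiber (EtCoh.top S)
      (Over.homMk ξ₀ (Category.comp_id _)) O.obj (1 : ↑(O.obj.obj (op (EtCoh.top S)))) =
      (Scheme.pointSmallEtale ξ₀).toPresheafFiber (EtCoh.top S)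
      (Over.homMk ξ₀ (Category.comp_id _)) O.obj (0 : ↑(O.obj.obj (op (EtCoh.top S)))) :=
    Subsingleton.elim _ _
  rw [GrothendieckTopology.Point.toPresheafFiber_eq_iff'.{u, u}] at h10
  obtain ⟨V, g, y, -, heq⟩ := h10
  have hV10 : (1 : ↑(O.obj.obj (op V))) = 0 := by
    have e1 : O.obj.map g.op (1 : ↑(O.obj.obj (op (EtCoh.top S)))) = 1 := map_one _
    have e0 : O.obj.map g.op (0 : ↑(O.obj.obj (op (EtCoh.top S)))) = 0 := map_zero _
    rw [← e1, ← e0]
    exact heq
  haveI : Etale V.hom := V.prop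
  have hyV : V.hom (y.left
      (default : Spec (CommRingCat.of (SeparableClosure (S.residueField s))))) = s := by
    have h1 : y.left ≫ V.hom = ξ₀ := Over.w y
    have := congrArg (fun f => f (default : Spec (CommRingCat.of _))) h1
    exact this.trans hξ₀
  refine ⟨Set.range V.hom, ?_, V.hom.isOpenMap.isOpen_range, ⟨_, hyV⟩⟩
  rintro _ ⟨v', rfl⟩ ⟨Ω, _, _, ξ', hξ', hnt⟩
  obtain ⟨l, hl₁, -⟩ := Scheme.exists_fac_of_etale_of_isSepClosed V.hom ξ' v' hξ'.symm
  have h1 : (Scheme.pointSmallEtale ξ').toPresheafFiber V (Over.homMk l hl₁) O.obj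
      (1 : ↑(O.obj.obj (op V))) = 1 := map_one _
  have h0 : (Scheme.pointSmallEtale ξ').toPresheafFiber V (Over.homMk l hl₁) O.obj
      (0 : ↑(O.obj.obj (op V))) = 0 := map_zero _
  rw [hV10, h0] at h1
  haveI := subsingleton_of_zero_eq_one h1
  exact not_nontrivial _ hnt

end Groth.Agent.Lib.lead.EtCons
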