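import Mathlib
import Groth.Agent.Lib.lead.EtHens3
import Groth.Agent.S0063

/-!
# Unique sections of étale separated schemes over a henselian local ring
-/

universe u

set_option maxHeartbeats 400000
set_option linter.style.haveILetI false
set_option linter.overlappingInstances false

open CategoryTheory CategoryTheory.Limits Opposite AlgebraicGeometry IsLocalRing

namespace Groth.Agent.Lib.lead.EtHens

theorem connectedSpace_of_isLocalRing (R : Type u) [CommRing R] [IsLocalRing R] :
    ConnectedSpace (PrimeSpectrum R) := by
  haveI : PreconnectedSpace (PrimeSpectrum R) := by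
    rw [preconnectedSpace_iff_clopen]
    intro s hs
    by_cases h : closedPoint R ∈ s
    · right
      ext x
      simp only [Set.mem_univ, iff_true]
      exact (specializes_closedPoint x).mem_open hs.isOpen h
    · left
      ext x
      simp only [Set.mem_empty_iff_false, iff_false]
      intro hx
      have h2 : closedPoint R ∈ sᶜ := h
      have := (specializes_closedPoint x).mem_open hs.compl.isOpen h2
      exact this hx
  exact { toPreconnectedSpace := inferInstance, toNonempty := ⟨closedPoint R⟩ }

/-- the canonical point at the closed point factors through the residue field -/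
theorem fromSpecResidueField_closedPoint_fac (R : Type u) [CommRing R] [IsLocalRing R] :
    ∃ e : Spec ((Spec (CommRingCat.of R)).residueField (closedPoint R)) ⟶
        Spec (CommRingCat.of (ResidueField R)),
      e ≫ Spec.map (CommRingCat.ofHom (residue R)) =
        (Spec (CommRingCat.of R)).fromSpecResidueField (closedPoint R) := by
  rw [← Scheme.Spec.map_residueFieldIso_inv_eq_fromSpecResidueField]
  have hker : ∀ r ∈ maximalIdeal R,
      algebraMap R (closedPoint R).asIdeal.ResidueField r = 0 :=
    fun r hr => Ideal.algebraMap_residueField_eq_zero.mpr hr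
  let ψ : ResidueField R →+* (closedPoint R).asIdeal.ResidueField :=
    Ideal.Quotient.lift (maximalIdeal R) (algebraMap R _) hker
  refine ⟨Spec.map (Scheme.Spec.residueFieldIso (CommRingCat.of R) (closedPoint R)).inv ≫
    Spec.map (CommRingCat.ofHom ψ), ?_⟩
  rw [Category.assoc, ← Spec.map_comp]
  rfl

theorem main17448 (R : Type u) [CommRing R]
    [HenselianLocalRing R] {X : Scheme.{u}} (f : X ⟶ Spec (CommRingCat.of R))
    [LocallyQuasiFinite f] [QuasiCompact f] [IsSeparated f] [Etale f]
    (t : Spec (CommRingCat.of (IsLocalRing.ResidueField R)) ⟶ X)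
    (ht : t ≫ f = Spec.map (CommRingCat.ofHom (IsLocalRing.residue R))) :
    ∃! s : Spec (CommRingCat.of R) ⟶ X,
      s ≫ f = 𝟙 (Spec (CommRingCat.of R)) ∧
        Spec.map (CommRingCat.ofHom (IsLocalRing.residue R)) ≫ s = t := by
  obtain ⟨s, hs1, hs2⟩ := exists_section_through R f t ht
  refine ⟨s, ⟨hs1, hs2⟩, ?_⟩
  rintro s' ⟨hs'1, hs'2⟩
  haveI : ConnectedSpace (Spec (CommRingCat.of R)) := connectedSpace_of_isLocalRing R
  obtain ⟨e, he⟩ := fromSpecResidueField_closedPoint_fac R
  refine Groth.Agent.S0063.result f (𝟙 _) s' s hs'1 hs1 (closedPoint R) ?_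
  rw [← he, Category.assoc, Category.assoc, hs'2, hs2]

end Groth.Agent.Lib.lead.EtHens
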