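import Mathlib

/-!
# Lifting standard étale algebras along a surjection of base rings
-/

universe u

set_option maxHeartbeats 400000
set_option linter.style.haveILetI false

open Polynomial TensorProduct

namespace Groth.Agent.Lib.lead.EtLift

/-- two standard étale pairs with the same `f` and `g' = g * f'` have isomorphic rings -/
noncomputable def equivMulDeriv {B : Type u} [CommRing B] (Q Q' : StandardEtalePair B)
    (hf : Q'.f = Q.f) (hg : Q'.g = Q.g * derivative Q.f) : Q'.Ring ≃ₐ[B] Q.Ring := by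
  have h1 : Q'.HasMap Q.X :=
    ⟨by rw [hf]; exact Q.hasMap_X.1, by
      rw [hg, map_mul]; exact Q.hasMap_X.2.mul Q.hasMap_X.isUnit_derivative_f⟩
  have h2 : Q.HasMap Q'.X :=
    ⟨by rw [← hf]; exact Q'.hasMap_X.1, by
      have := Q'.hasMap_X.2
      rw [hg, map_mul] at this
      exact isUnit_of_mul_isUnit_left this⟩
  exact AlgEquiv.ofAlgHom (Q'.lift Q.X h1) (Q.lift Q'.X h2) (Q.hom_ext (by simp))
    (Q'.hom_ext (by simp))

theorem exists_lift_pair {A B : Type u} [CommRing A] [CommRing B] [Algebra A B]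
    (hs : Function.Surjective (algebraMap A B)) (Q : StandardEtalePair B) :
    ∃ P : StandardEtalePair A, Nonempty ((B ⊗[A] P.Ring) ≃ₐ[B] Q.Ring) := by
  have hl : Q.f ∈ lifts (algebraMap A B) := by
    obtain ⟨p, hp⟩ := Polynomial.map_surjective (algebraMap A B) hs Q.f
    exact ⟨p, hp⟩
  obtain ⟨f', hf', -, hmonic⟩ := lifts_and_natDegree_eq_and_monic hl Q.monic_f
  obtain ⟨g', hg'⟩ := Polynomial.map_surjective (algebraMap A B) hs Q.g
  let P : StandardEtalePair A := ⟨f', hmonic, g' * derivative f', ⟨g', 0, 1, by ring⟩⟩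
  let pres : StandardEtalePresentation A P.Ring :=
    ⟨P, P.X, P.hasMap_X, by simpa [StandardEtalePair.lift_X_left] using Function.bijective_id⟩
  let e1 : B ⊗[A] P.Ring ≃ₐ[B] (P.map (algebraMap A B)).Ring := pres.baseChange.equivRing
  let e2 : (P.map (algebraMap A B)).Ring ≃ₐ[B] Q.Ring :=
    equivMulDeriv Q (P.map (algebraMap A B)) (by simp [P, hf'])
      (by simp [P, hg', ← derivative_map, hf'])
  exact ⟨P, ⟨e1.trans e2⟩⟩

/-- a standard étale algebra over a quotient lifts to a standard étale algebra -/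
theorem exists_lift_isStandardEtale {A B C : Type u} [CommRing A] [CommRing B] [CommRing C]
    [Algebra A B] [Algebra B C] (hs : Function.Surjective (algebraMap A B))
    [Algebra.IsStandardEtale B C] :
    ∃ P : StandardEtalePair A, Nonempty ((B ⊗[A] P.Ring) ≃ₐ[B] C) := by
  obtain ⟨pres⟩ := Algebra.IsStandardEtale.nonempty_standardEtalePresentation (R := B) (S := C)
  obtain ⟨P, ⟨e⟩⟩ := exists_lift_pair hs pres.P
  exact ⟨P, ⟨e.trans pres.equivRing.symm⟩⟩

end Groth.Agent.Lib.lead.EtLift
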