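import Mathlib
import Groth.Prelude.Def_EtBase
import Groth.Agent.Lib.lead.EtLift1

/-!
# Étale schemes over a closed subscheme lift locally to étale schemes over the ambient scheme
-/

universe u

set_option maxHeartbeats 400000
set_option linter.style.haveILetI false

open CategoryTheory CategoryTheory.Limits Opposite AlgebraicGeometry TensorProduct

namespace Groth.Agent.Lib.lead.EtLift

/-- pushout square in `CommRingCat` from a tensor product identification -/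
theorem isPushout_of_equiv {A B D C : Type u} [CommRing A] [CommRing B] [CommRing D] [CommRing C]
    [Algebra A B] [Algebra A D] [Algebra B C] (e : (B ⊗[A] D) ≃ₐ[B] C) :
    IsPushout (CommRingCat.ofHom (algebraMap A B)) (CommRingCat.ofHom (algebraMap A D))
      (CommRingCat.ofHom (algebraMap B C))
      (CommRingCat.ofHom ((e : (B ⊗[A] D) →+* C).comp
        (Algebra.TensorProduct.includeRight : D →ₐ[A] B ⊗[A] D).toRingHom)) := by
  refine (CommRingCat.isPushout_tensorProduct A B D).of_iso (Iso.refl _) (Iso.refl _) (Iso.refl _)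
    (e.toRingEquiv.toCommRingCatIso) (by simp) (by simp) ?_ ?_
  · ext b
    simp only [Iso.refl_hom, Category.id_comp]
    change e (b ⊗ₜ[A] 1) = (algebraMap B C) b
    have : (b ⊗ₜ[A] (1 : D)) = algebraMap B (B ⊗[A] D) b := by
      rw [Algebra.TensorProduct.algebraMap_apply]; rfl
    rw [this, e.commutes]
  · ext d
    simp


set_option backward.defeqAttrib.useBackward true in
set_option backward.isDefEq.respectTransparency false in
theorem exists_lift_nhd' {X Y T : Scheme.{u}} (f : X ⟶ Y) [IsClosedImmersion f] (g : T ⟶ X)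
    [Etale g] (x : T) :
    ∃ (V : Y.Etale) (h : pullback V.hom f ⟶ T),
      h ≫ g = pullback.snd V.hom f ∧ IsOpenImmersion h ∧ x ∈ Set.range h := by
  obtain ⟨_, ⟨W, hW, rfl⟩, hxW, -⟩ :=
    Y.isBasis_affineOpens.exists_subset_of_mem_open (Set.mem_univ (f (g x))) isOpen_univ
  have hpre : IsAffineOpen (f ⁻¹ᵁ W) := hW.preimage f
  obtain ⟨_, ⟨U₁, hU₁, rfl⟩, hxU₁, hU₁W⟩ :=
    T.isBasis_affineOpens.exists_subset_of_mem_open
      (show x ∈ ((g ⁻¹ᵁ (f ⁻¹ᵁ W) : T.Opens) : Set T) from hxW) (g ⁻¹ᵁ (f ⁻¹ᵁ W)).2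
  have hfp := g.finitePresentation_appLE hpre hU₁ hU₁W
  have het : (g.appLE (f ⁻¹ᵁ W) U₁ hU₁W).hom.Etale :=
    HasRingHomProperty.appLE (P := @Etale) g inferInstance ⟨_, hpre⟩ ⟨_, hU₁⟩ hU₁W
  algebraize [(g.appLE (f ⁻¹ᵁ W) U₁ hU₁W).hom]
  haveI : Algebra.Etale Γ(X, f ⁻¹ᵁ W) Γ(T, U₁) := RingHom.etale_algebraMap.mp het
  obtain ⟨c, hcx, hc⟩ := Algebra.IsEtaleAt.exists_isStandardEtale (R := Γ(X, f ⁻¹ᵁ W))
    (hU₁.primeIdealOf ⟨x, hxU₁⟩).asIdeal
  have hU₂ : IsAffineOpen (T.basicOpen c) := hU₁.basicOpen c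
  have hU₂W : T.basicOpen c ≤ g ⁻¹ᵁ (f ⁻¹ᵁ W) := (T.basicOpen_le c).trans hU₁W
  have hxU₂ : x ∈ T.basicOpen c := by
    rwa [← PrimeSpectrum.mem_basicOpen, IsAffineOpen.primeIdealOf,
      ← hU₁.fromSpec_preimage_basicOpen, Scheme.Hom.mem_preimage, ← Scheme.Hom.comp_apply,
      IsAffineOpen.isoSpec_hom, IsAffineOpen.toSpecΓ_fromSpec] at hcx
  have hloc := hU₁.isLocalization_basicOpen c
  letI algBC₂ : Algebra Γ(X, f ⁻¹ᵁ W) Γ(T, T.basicOpen c) :=
    (g.appLE (f ⁻¹ᵁ W) (T.basicOpen c) hU₂W).hom.toAlgebra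
  haveI : IsScalarTower Γ(X, f ⁻¹ᵁ W) Γ(T, U₁) Γ(T, T.basicOpen c) := by
    refine IsScalarTower.of_algebraMap_eq' ?_
    ext b
    simp only [RingHom.algebraMap_toAlgebra, RingHom.comp_apply, ← ConcreteCategory.comp_apply,
      Scheme.Hom.appLE_map]
  let e₀ : Localization.Away c ≃ₐ[Γ(X, f ⁻¹ᵁ W)] Γ(T, T.basicOpen c) :=
    (IsLocalization.algEquiv (.powers c) (Localization.Away c)
      Γ(T, T.basicOpen c)).restrictScalars _
  haveI : Algebra.IsStandardEtale Γ(X, f ⁻¹ᵁ W) Γ(T, T.basicOpen c) := .of_equiv e₀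
  letI algAB : Algebra Γ(Y, W) Γ(X, f ⁻¹ᵁ W) := (f.app W).hom.toAlgebra
  have hs : Function.Surjective (algebraMap Γ(Y, W) Γ(X, f ⁻¹ᵁ W)) := f.app_surjective W hW
  obtain ⟨P, ⟨e⟩⟩ := exists_lift_isStandardEtale (A := Γ(Y, W)) (B := Γ(X, f ⁻¹ᵁ W))
    (C := Γ(T, T.basicOpen c)) hs
  have hpo := isPushout_of_equiv e
  let φAD : Γ(Y, W) ⟶ CommRingCat.of P.Ring := CommRingCat.ofHom (algebraMap Γ(Y, W) P.Ring)
  let φDC : CommRingCat.of P.Ring ⟶ Γ(T, T.basicOpen c) :=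
    CommRingCat.ofHom ((e : (Γ(X, f ⁻¹ᵁ W) ⊗[Γ(Y, W)] P.Ring) →+* Γ(T, T.basicOpen c)).comp
      (Algebra.TensorProduct.includeRight :
        P.Ring →ₐ[Γ(Y, W)] Γ(X, f ⁻¹ᵁ W) ⊗[Γ(Y, W)] P.Ring).toRingHom)
  have htop : IsPullback (Spec.map (g.appLE (f ⁻¹ᵁ W) (T.basicOpen c) hU₂W)) (Spec.map φDC)
      (Spec.map (f.app W)) (Spec.map φAD) :=
    isPullback_SpecMap_of_isPushout _ _ _ _ hpo
  have hbot : IsPullback (Spec.map (f.app W)) hpre.fromSpec hW.fromSpec f := by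
    refine IsOpenImmersion.isPullback _ _ _ _ ?_ ?_
    · have := IsAffineOpen.SpecMap_appLE_fromSpec f hW hpre le_rfl
      rw [Scheme.Hom.appLE_eq_app] at this
      exact this.symm
    · rw [hW.opensRange_fromSpec, hpre.opensRange_fromSpec]
  have hpb := htop.flip.paste_vert hbot
  haveI : Etale (Spec.map φAD) :=
    (HasRingHomProperty.Spec_iff (P := @Etale)).mpr (RingHom.etale_algebraMap.mpr inferInstance)
  let V : Y.Etale := Scheme.Etale.mk (Spec.map φAD ≫ hW.fromSpec)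
  have hpb' : IsPullback (Spec.map φDC)
      (Spec.map (g.appLE (f ⁻¹ᵁ W) (T.basicOpen c) hU₂W) ≫ hpre.fromSpec) V.hom f := hpb
  refine ⟨V, hpb'.isoPullback.inv ≫ hU₂.fromSpec, ?_, inferInstance, ?_⟩
  · rw [Category.assoc, ← IsAffineOpen.SpecMap_appLE_fromSpec g hpre hU₂ hU₂W,
      hpb'.isoPullback_inv_snd]
  · obtain ⟨z, hz⟩ : x ∈ Set.range hU₂.fromSpec := by
      rw [hU₂.range_fromSpec]; exact hxU₂
    refine ⟨hpb'.isoPullback.hom z, ?_⟩
    rw [← Scheme.Hom.comp_apply]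
    simpa using hz

end Groth.Agent.Lib.lead.EtLift
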