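import Mathlib
import Groth.Prelude.Def_EtBase
import Groth.Agent.Lib.lead.EtLift2

/-!
# Étale coverings of a closed subscheme are refined from the ambient scheme
-/

universe u

set_option maxHeartbeats 400000
set_option linter.style.haveILetI false

open CategoryTheory CategoryTheory.Limits Opposite AlgebraicGeometry TensorProduct

namespace Groth.Agent.Lib.lead.EtLift

theorem main0633 {X Y : Scheme.{u}} (f : X ⟶ Y) [IsClosedImmersion f] (U : X.Etale) :
    ∃ (κ : Type u) (V : κ → Y.Etale) (h : ∀ j, pullback (V j).hom f ⟶ U.left),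
      (∀ j, h j ≫ U.hom = pullback.snd (V j).hom f) ∧ (∀ j, IsOpenImmersion (h j)) ∧
      ∀ x : U.left, ∃ (j : κ) (y : ↥(pullback (V j).hom f)), (h j).base y = x := by
  haveI : Etale U.hom := U.prop
  choose V h h1 h2 h3 using fun x : U.left => exists_lift_nhd' f U.hom x
  exact ⟨U.left, V, h, h1, h2, fun x => ⟨x, (h3 x).choose, (h3 x).choose_spec⟩⟩

set_option backward.isDefEq.respectTransparency false in
theorem main0632 {X Y : Scheme.{u}} (f : X ⟶ Y) [IsClosedImmersion f]
    {ι : Type u} (U : ι → X.Etale) (hU : EtCoh.Covers U) :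
    ∃ (κ : Type u) (V : κ → Y.Etale), EtCoh.Covers V ∧
      ∀ j, IsEmpty ↥(pullback (V j).hom f) ∨
        ∃ (i : ι) (h : pullback (V j).hom f ⟶ (U i).left),
          h ≫ (U i).hom = pullback.snd (V j).hom f := by
  haveI : ∀ i, Etale (U i).hom := fun i => (U i).prop
  choose V h h1 h2 h3 using fun p : (Σ i, (U i).left) => exists_lift_nhd' f (U p.1).hom p.2
  let Uc : Y.Opens := ⟨(Set.range f)ᶜ, f.isClosedEmbedding.isClosed_range.isOpen_compl⟩
  let V' : Option (Σ i, (U i).left) → Y.Etale := fun j =>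
    match j with
    | none => Scheme.Etale.mk Uc.ι
    | some p => V p
  refine ⟨Option (Σ i, (U i).left), V', ?_, ?_⟩
  · intro y
    by_cases hy : y ∈ Set.range f
    · obtain ⟨x₀, rfl⟩ := hy
      obtain ⟨i, u, hu⟩ := hU x₀
      obtain ⟨z, hz⟩ := h3 ⟨i, u⟩
      refine ⟨some ⟨i, u⟩, (pullback.fst (V ⟨i, u⟩).hom f) z, ?_⟩
      have hc : pullback.fst (V ⟨i, u⟩).hom f ≫ (V ⟨i, u⟩).hom =
          pullback.snd (V ⟨i, u⟩).hom f ≫ f := pullback.condition
      have e1 : (V ⟨i, u⟩).hom ((pullback.fst (V ⟨i, u⟩).hom f) z) =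
          f ((pullback.snd (V ⟨i, u⟩).hom f) z) := by
        have := congrArg (fun k => k z) hc
        exact this
      have e2 : (pullback.snd (V ⟨i, u⟩).hom f) z = (U i).hom ((h ⟨i, u⟩) z) := by
        have := congrArg (fun k => k z) (h1 ⟨i, u⟩)
        exact this.symm
      change (V ⟨i, u⟩).hom ((pullback.fst (V ⟨i, u⟩).hom f) z) = f x₀
      rw [e1, e2, hz]
      exact congrArg f hu
    · exact ⟨none, (⟨y, hy⟩ : Uc), rfl⟩
  · intro j
    match j with
    | none =>
      left
      refine ⟨fun w => ?_⟩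
      have hc : pullback.fst Uc.ι f ≫ Uc.ι = pullback.snd Uc.ι f ≫ f := pullback.condition
      let w' : ↥(pullback Uc.ι f) := w
      have e1 : Uc.ι ((pullback.fst Uc.ι f) w') = f ((pullback.snd Uc.ι f) w') := by
        have := congrArg (fun k => k w') hc
        exact this
      have e2 : Uc.ι ((pullback.fst Uc.ι f) w') ∈ (Set.range f)ᶜ := ((pullback.fst Uc.ι f) w').2
      rw [e1] at e2
      exact e2 ⟨_, rfl⟩
    | some p =>
      right
      exact ⟨p.1, h p, h1 p⟩

end Groth.Agent.Lib.lead.EtLift
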