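import Mathlib
import Groth.Prelude.Def_EtBase
import Groth.Agent.Lib.lead.EtLift3

/-!
# Base change of étale sites along a closed immersion is "almost full"
-/

universe u

set_option maxHeartbeats 400000
set_option linter.style.haveILetI false

open CategoryTheory CategoryTheory.Limits Opposite AlgebraicGeometry

namespace Groth.Agent.Lib.lead.EtLift

theorem bc_map_fst {Z X : Scheme.{u}} (i : Z ⟶ X) {U W : X.Etale} (a : W ⟶ U) :
    ((EtCoh.bc i).map a).left ≫ pullback.fst U.hom i = pullback.fst W.hom i ≫ a.left :=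
  pullback.lift_fst _ _ _

theorem bc_map_snd {Z X : Scheme.{u}} (i : Z ⟶ X) {U W : X.Etale} (a : W ⟶ U) :
    ((EtCoh.bc i).map a).left ≫ pullback.snd U.hom i = pullback.snd W.hom i :=
  pullback.lift_snd _ _ _

/-- the locus where two maps into an unramified scheme agree is open -/
theorem exists_eq_locus {T Y' S' : Scheme.{u}} (α β : T ⟶ Y') (g : Y' ⟶ S')
    [FormallyUnramified g] [LocallyOfFiniteType g] (hαβ : α ≫ g = β ≫ g) :
    ∃ E : T.Opens, ∀ {T' : Scheme.{u}} (t : T' ⟶ T),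
      (Set.range t ⊆ (E : Set T) ↔ t ≫ α = t ≫ β) := by
  let δ := pullback.diagonal g
  let m : T ⟶ pullback g g := pullback.lift α β hαβ
  refine ⟨m ⁻¹ᵁ δ.opensRange, fun {T'} t => ⟨fun ht => ?_, fun ht => ?_⟩⟩
  · have hr : Set.range (t ≫ m) ⊆ Set.range δ := by
      rintro _ ⟨y, rfl⟩
      exact ht ⟨y, rfl⟩
    let k := IsOpenImmersion.lift δ (t ≫ m) hr
    have hk : k ≫ δ = t ≫ m := IsOpenImmersion.lift_fac _ _ _
    have hm1 : m ≫ pullback.fst g g = α := pullback.lift_fst _ _ _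
    have hm2 : m ≫ pullback.snd g g = β := pullback.lift_snd _ _ _
    have hd1 : δ ≫ pullback.fst g g = 𝟙 _ := pullback.diagonal_fst g
    have hd2 : δ ≫ pullback.snd g g = 𝟙 _ := pullback.diagonal_snd g
    have h1 : t ≫ α = k := by
      rw [← hm1, ← Category.assoc, ← hk, Category.assoc, hd1, Category.comp_id]
    have h2 : t ≫ β = k := by
      rw [← hm2, ← Category.assoc, ← hk, Category.assoc, hd2, Category.comp_id]
    rw [h1, h2]
  · rintro _ ⟨y, rfl⟩
    have hm1 : m ≫ pullback.fst g g = α := pullback.lift_fst _ _ _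
    have hm2 : m ≫ pullback.snd g g = β := pullback.lift_snd _ _ _
    have hd1 : δ ≫ pullback.fst g g = 𝟙 _ := pullback.diagonal_fst g
    have hd2 : δ ≫ pullback.snd g g = 𝟙 _ := pullback.diagonal_snd g
    have hm : t ≫ m = (t ≫ α) ≫ δ := by
      apply pullback.hom_ext
      · rw [Category.assoc, hm1, Category.assoc, hd1, Category.comp_id]
      · rw [Category.assoc, hm2, Category.assoc, hd2, Category.comp_id, ht]
    change m (t y) ∈ Set.range δ
    refine ⟨(t ≫ α) y, ?_⟩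
    have := congrArg (fun q => q y) hm
    exact this.symm


set_option backward.isDefEq.respectTransparency false in
theorem main0660 {Z X : Scheme.{u}} (i : Z ⟶ X) [IsClosedImmersion i] (U U' : X.Etale)
    (h : (EtCoh.bc i).obj U ⟶ (EtCoh.bc i).obj U') :
    ∃ (W : X.Etale) (a : W ⟶ U) (b : W ⟶ U'), IsIso ((EtCoh.bc i).map a) ∧
      (EtCoh.bc i).map a ≫ h = (EtCoh.bc i).map b := by
  haveI : Etale U.hom := U.prop
  haveI : Etale U'.hom := U'.prop
  let PL : Scheme.{u} := pullback U.hom U'.hom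
  let pr₁ : PL ⟶ U.left := pullback.fst U.hom U'.hom
  let pr₂ : PL ⟶ U'.left := pullback.snd U.hom U'.hom
  let pX : PL ⟶ X := pr₁ ≫ U.hom
  have hpr : pr₁ ≫ U.hom = pr₂ ≫ U'.hom := pullback.condition
  haveI : Etale pX := inferInstance
  let T : Scheme.{u} := pullback pX i
  let fstT : T ⟶ PL := pullback.fst pX i
  let sndT : T ⟶ Z := pullback.snd pX i
  have hT : fstT ≫ pX = sndT ≫ i := pullback.condition
  let UZ : Scheme.{u} := pullback U.hom i
  let fstU : UZ ⟶ U.left := pullback.fst U.hom i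
  let sndU : UZ ⟶ Z := pullback.snd U.hom i
  have hU : fstU ≫ U.hom = sndU ≫ i := pullback.condition
  let U'Z : Scheme.{u} := pullback U'.hom i
  let fstU' : U'Z ⟶ U'.left := pullback.fst U'.hom i
  let sndU' : U'Z ⟶ Z := pullback.snd U'.hom i
  have hU' : fstU' ≫ U'.hom = sndU' ≫ i := pullback.condition
  let hl : UZ ⟶ U'Z := h.left
  have hw : hl ≫ sndU' = sndU := Over.w h.hom
  let βU : T ⟶ UZ := pullback.lift (fstT ≫ pr₁) sndT (by rw [Category.assoc]; exact hT)
  have hβU1 : βU ≫ fstU = fstT ≫ pr₁ := pullback.lift_fst _ _ _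
  have hβU2 : βU ≫ sndU = sndT := pullback.lift_snd _ _ _
  let α : T ⟶ U'.left := fstT ≫ pr₂
  let β : T ⟶ U'.left := βU ≫ hl ≫ fstU'
  have hαβ : α ≫ U'.hom = β ≫ U'.hom := by
    have e1 : α ≫ U'.hom = sndT ≫ i := by
      rw [Category.assoc, ← hpr]; exact hT
    have e2 : β ≫ U'.hom = sndT ≫ i := by
      rw [Category.assoc, Category.assoc, hU', ← Category.assoc hl, hw, ← Category.assoc, hβU2]
    rw [e1, e2]
  obtain ⟨E, hE⟩ := exists_eq_locus α β U'.hom hαβ
  haveI : IsClosedImmersion fstT := inferInstance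
  let Wo : PL.Opens := ⟨(fstT '' ((E : Set T)ᶜ))ᶜ,
    (fstT.isClosedEmbedding.isClosedMap _ E.2.isClosed_compl).isOpen_compl⟩
  let W : X.Etale := Scheme.Etale.mk (Wo.ι ≫ pX)
  let a : W ⟶ U := MorphismProperty.Over.homMk (Wo.ι ≫ pr₁) (by simp [W, pX])
  let b : W ⟶ U' := MorphismProperty.Over.homMk (Wo.ι ≫ pr₂) (by
    change (Wo.ι ≫ pr₂) ≫ U'.hom = Wo.ι ≫ pr₁ ≫ U.hom
    rw [Category.assoc, hpr])
  -- the graph
  let γ₀ : UZ ⟶ PL := pullback.lift fstU (hl ≫ fstU') (by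
    rw [Category.assoc, hU', ← Category.assoc, hw]; exact hU)
  have hγ₀1 : γ₀ ≫ pr₁ = fstU := pullback.lift_fst _ _ _
  have hγ₀2 : γ₀ ≫ pr₂ = hl ≫ fstU' := pullback.lift_snd _ _ _
  let γT : UZ ⟶ T := pullback.lift γ₀ sndU (by
    change γ₀ ≫ pr₁ ≫ U.hom = sndU ≫ i
    rw [← Category.assoc, hγ₀1]; exact hU)
  have hγT1 : γT ≫ fstT = γ₀ := pullback.lift_fst _ _ _
  have hγT2 : γT ≫ sndT = sndU := pullback.lift_snd _ _ _
  have hγTβU : γT ≫ βU = 𝟙 UZ := by
    apply pullback.hom_ext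
    · rw [Category.assoc, hβU1, ← Category.assoc, hγT1, hγ₀1, Category.id_comp]
    · rw [Category.assoc, hβU2, hγT2, Category.id_comp]
  have hγTE : Set.range γT ⊆ (E : Set T) := by
    rw [hE]
    change γT ≫ fstT ≫ pr₂ = γT ≫ βU ≫ hl ≫ fstU'
    rw [← Category.assoc, hγT1, hγ₀2, ← Category.assoc γT, hγTβU, Category.id_comp]
  have hγ₀W : Set.range γ₀ ⊆ Set.range Wo.ι := by
    rintro _ ⟨p, rfl⟩
    rw [Scheme.Opens.range_ι]
    rintro ⟨t, ht, hpt⟩
    have h1 : fstT (γT p) = γ₀ p := by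
      have := congrArg (fun q => q p) hγT1
      exact this
    have h2 : t = γT p := fstT.isClosedEmbedding.injective (hpt.trans h1.symm)
    exact ht (h2 ▸ hγTE ⟨p, rfl⟩)
  let WZ : Scheme.{u} := pullback W.hom i
  let fstW : WZ ⟶ Wo.toScheme := pullback.fst W.hom i
  let sndW : WZ ⟶ Z := pullback.snd W.hom i
  have hW : fstW ≫ Wo.ι ≫ pX = sndW ≫ i := pullback.condition
  let τ : WZ ⟶ T := pullback.lift (fstW ≫ Wo.ι) sndW (by rw [Category.assoc]; exact hW)
  have hτ1 : τ ≫ fstT = fstW ≫ Wo.ι := pullback.lift_fst _ _ _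
  have hτ2 : τ ≫ sndT = sndW := pullback.lift_snd _ _ _
  have hτE : Set.range τ ⊆ (E : Set T) := by
    rintro _ ⟨q, rfl⟩
    by_contra hq
    have h1 : fstT (τ q) = Wo.ι (fstW q) := by
      have := congrArg (fun m => m q) hτ1
      exact this
    have h2 : Wo.ι (fstW q) ∈ (Wo : Set PL) := (fstW q).2
    exact h2 ⟨τ q, hq, h1⟩
  have hτeq : τ ≫ α = τ ≫ β := (hE τ).mp hτE
  let A := (EtCoh.bc i).map a
  let B := (EtCoh.bc i).map b
  have hA1 : A.left ≫ fstU = fstW ≫ Wo.ι ≫ pr₁ := bc_map_fst i a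
  have hA2 : A.left ≫ sndU = sndW := bc_map_snd i a
  have hB1 : B.left ≫ fstU' = fstW ≫ Wo.ι ≫ pr₂ := bc_map_fst i b
  have hB2 : B.left ≫ sndU' = sndW := bc_map_snd i b
  have hτβU : τ ≫ βU = A.left := by
    apply pullback.hom_ext
    · rw [Category.assoc, hβU1, ← Category.assoc, hτ1, Category.assoc]; exact hA1.symm
    · rw [Category.assoc, hβU2, hτ2]; exact hA2.symm
  have mainl : A.left ≫ hl = B.left := by
    apply pullback.hom_ext
    · rw [Category.assoc, hB1, ← hτβU, Category.assoc]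
      refine hτeq.symm.trans ?_
      change τ ≫ fstT ≫ pr₂ = _
      rw [← Category.assoc, hτ1, Category.assoc]
    · rw [Category.assoc, hw, hA2, hB2]
  have main : A ≫ h = B := by
    apply MorphismProperty.Over.Hom.ext
    exact mainl
  let γW : UZ ⟶ Wo.toScheme := IsOpenImmersion.lift Wo.ι γ₀ hγ₀W
  have hγW : γW ≫ Wo.ι = γ₀ := IsOpenImmersion.lift_fac _ _ _
  let ρl : UZ ⟶ WZ := pullback.lift γW sndU (by
    change γW ≫ Wo.ι ≫ pr₁ ≫ U.hom = sndU ≫ i
    rw [← Category.assoc, hγW, ← Category.assoc, hγ₀1]; exact hU)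
  have hρ1 : ρl ≫ fstW = γW := pullback.lift_fst _ _ _
  have hρ2 : ρl ≫ sndW = sndU := pullback.lift_snd _ _ _
  let ρ : (EtCoh.bc i).obj U ⟶ (EtCoh.bc i).obj W := MorphismProperty.Over.homMk ρl hρ2
  refine ⟨W, a, b, ⟨ρ, ?_, ?_⟩, main⟩
  · apply MorphismProperty.Over.Hom.ext
    change A.left ≫ ρl = 𝟙 _
    apply pullback.hom_ext
    · rw [Category.assoc, hρ1, Category.id_comp, ← cancel_mono Wo.ι, Category.assoc, hγW]
      apply pullback.hom_ext
      · rw [Category.assoc, hγ₀1, hA1, Category.assoc]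
      · rw [Category.assoc, hγ₀2, ← Category.assoc, mainl, hB1, Category.assoc]
    · rw [Category.assoc, hρ2, hA2, Category.id_comp]
  · apply MorphismProperty.Over.Hom.ext
    change ρl ≫ A.left = 𝟙 _
    apply pullback.hom_ext
    · rw [Category.assoc, hA1, ← Category.assoc, hρ1, ← Category.assoc, hγW, hγ₀1,
        Category.id_comp]
    · rw [Category.assoc, hA2, hρ2, Category.id_comp]

end Groth.Agent.Lib.lead.EtLift
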