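import Mathlib
import Groth.Prelude.Def_EtBase
import Groth.Agent.Lib.lead.EtLift4

/-!
# Pushforward of étale sheaves along a closed immersion is fully faithful
-/

universe u

set_option maxHeartbeats 400000
set_option linter.style.haveILetI false

open CategoryTheory CategoryTheory.Limits Opposite AlgebraicGeometry

namespace Groth.Agent.Lib.lead.EtLift

set_option backward.isDefEq.respectTransparency false in
instance isCoverDense_bc {Z X : Scheme.{u}} (i : Z ⟶ X) [IsClosedImmersion i] :
    (EtCoh.bc i).IsCoverDense Z.smallEtaleTopology where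
  is_cover U := by
    haveI : Etale U.hom := U.prop
    choose V h h1 h2 h3 using fun x : U.left => exists_lift_nhd' i U.hom x
    let g : ∀ x, (EtCoh.bc i).obj (V x) ⟶ U := fun x =>
      MorphismProperty.Over.homMk (h x) (h1 x)
    refine Z.smallEtaleTopology.superset_covering (S := Sieve.ofArrows _ g) ?_ ?_
    · rw [Sieve.generate_le_iff, Presieve.ofArrows_le_iff]
      intro x
      exact ⟨⟨V x, 𝟙 _, g x, by simp⟩⟩
    · rw [Scheme.ofArrows_mem_smallEtaleTopology_iff]
      ext y
      simp only [Set.mem_iUnion, Set.mem_univ, iff_true]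
      exact ⟨y, h3 y⟩

instance isLocallyFull_bc {Z X : Scheme.{u}} (i : Z ⟶ X) [IsClosedImmersion i] :
    (EtCoh.bc i).IsLocallyFull Z.smallEtaleTopology where
  functorPushforward_imageSieve_mem {U V} f := by
    obtain ⟨W, a, b, hiso, hab⟩ := main0660 i U V f
    have h1 : ((EtCoh.bc i).imageSieve f) a := ⟨b, hab.symm⟩
    have h2 : (((EtCoh.bc i).imageSieve f).functorPushforward (EtCoh.bc i))
        ((EtCoh.bc i).map a) := Sieve.image_mem_functorPushforward _ _ h1
    have h3 : (((EtCoh.bc i).imageSieve f).functorPushforward (EtCoh.bc i)) (𝟙 _) := by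
      have := (((EtCoh.bc i).imageSieve f).functorPushforward (EtCoh.bc i)).downward_closed h2
        (inv ((EtCoh.bc i).map a))
      simpa using this
    rw [(Sieve.id_mem_iff_eq_top).mp h3]
    exact Z.smallEtaleTopology.top_mem _

theorem main0067 {Z X : Scheme.{u}} (i : Z ⟶ X) [IsClosedImmersion i] [EtCoh.BCCont i] :
    (EtCoh.push i).Full ∧ (EtCoh.push i).Faithful :=
  ⟨Functor.IsCoverDense.full_sheafPushforwardContinuous _ _ (EtCoh.bc i),
    Functor.IsCoverDense.faithful_sheafPushforwardContinuous _ _ (EtCoh.bc i)⟩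

end Groth.Agent.Lib.lead.EtLift
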