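import Mathlib
import Groth.Prelude.Def_EtBase
import Groth.Prelude.Def_SGA4b
import Groth.Prelude.Def_EtShriek2
import Groth.Agent.Lib.lead.EtLift5
import Groth.Agent.Lib.helper23.EtOpenImm

/-!
# The counit `f^* f_* F → F` is an isomorphism for immersions (sheaves of sets)
-/

universe u

set_option maxHeartbeats 400000
set_option linter.style.haveILetI false

open CategoryTheory CategoryTheory.Limits Opposite AlgebraicGeometry

namespace Groth.Agent.Lib.lead.EtImm

section Open

variable {U X : Scheme.{u}} (j : U ⟶ X) [hj : Etale j] [Mono j]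

/-- restriction is left adjoint to direct image (sheaves of sets) -/
noncomputable def restrPushAdjSh :
    (EtShriek.compEtale j).sheafPushforwardContinuous (Type (u + 1)) U.smallEtaleTopology
      X.smallEtaleTopology ⊣ EtDesc.pushSh j :=
  (EtOpenImm.siteAdj j).sheafPushforwardContinuous U.smallEtaleTopology X.smallEtaleTopology

lemma isIso_restrPush_counit_app (F : EtDesc.Sh U) :
    IsIso ((restrPushAdjSh j).counit.app F) := by
  have h2 : IsIso ((sheafToPresheaf U.smallEtaleTopology (Type (u + 1))).map
      ((restrPushAdjSh j).counit.app F)) := by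
    show IsIso (((EtOpenImm.siteAdj j).op.whiskerLeft (Type (u + 1))).counit.app F.obj)
    have : ∀ V : (U.Etale)ᵒᵖ,
        IsIso ((((EtOpenImm.siteAdj j).op.whiskerLeft (Type (u + 1))).counit.app F.obj).app V) := by
      intro V
      rw [Adjunction.whiskerLeft_counit_app_app]
      have : IsIso ((EtOpenImm.siteAdj j).op.counit.app V) := by
        have := EtOpenImm.isIso_unit_app j V.unop
        show IsIso ((EtOpenImm.siteAdj j).unit.app V.unop).op
        infer_instance
      infer_instance
    exact NatIso.isIso_of_isIso_app _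
  exact isIso_of_reflects_iso _ (sheafToPresheaf U.smallEtaleTopology (Type (u + 1)))

noncomputable def pushShFullyFaithful : (EtDesc.pushSh j).FullyFaithful :=
  haveI : IsIso (restrPushAdjSh j).counit :=
    haveI := isIso_restrPush_counit_app j
    NatIso.isIso_of_isIso_app _
  (restrPushAdjSh j).fullyFaithfulROfIsIsoCounit

end Open

theorem main3888 {X Y : Scheme.{u}} (f : X ⟶ Y) [IsImmersion f] (F : EtDesc.Sh X) :
    IsIso ((EtDesc.adjSh f).counit.app F) := by
  haveI hc1 : (EtDesc.pushSh f.liftCoborder).Full :=
    Functor.IsCoverDense.full_sheafPushforwardContinuous _ _ (EtCoh.bc f.liftCoborder)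
  haveI hc2 : (EtDesc.pushSh f.liftCoborder).Faithful :=
    Functor.IsCoverDense.faithful_sheafPushforwardContinuous _ _ (EtCoh.bc f.liftCoborder)
  haveI ho1 : (EtDesc.pushSh f.coborderRange.ι).Full := (pushShFullyFaithful f.coborderRange.ι).full
  haveI ho2 : (EtDesc.pushSh f.coborderRange.ι).Faithful :=
    (pushShFullyFaithful f.coborderRange.ι).faithful
  have e : EtDesc.pushSh f.liftCoborder ⋙ EtDesc.pushSh f.coborderRange.ι ≅ EtDesc.pushSh f :=
    EtDesc.pushCompSh f.coborderRange.ι f.liftCoborder ≪≫
      eqToIso (by rw [Scheme.Hom.liftCoborder_ι])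
  haveI : (EtDesc.pushSh f).Full := Functor.Full.of_iso e
  haveI : (EtDesc.pushSh f).Faithful := Functor.Faithful.of_iso e
  infer_instance

end Groth.Agent.Lib.lead.EtImm
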