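import Mathlib
import Groth.Prelude.Def_EtBase
import Groth.Prelude.Def_EtCore

/-!
# Stalks of the inverse image of an étale sheaf
-/

universe u

set_option maxHeartbeats 400000
set_option linter.style.haveILetI false

open CategoryTheory CategoryTheory.Limits Opposite AlgebraicGeometry

namespace Groth.Agent.Lib.lead.EtPull

/-- `CategoryOfElements.map` of a natural isomorphism is an equivalence -/
theorem isEquivalence_map_of_iso {C : Type*} [Category C] {F₁ F₂ : C ⥤ Type u} (α : F₁ ≅ F₂) :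
    (CategoryOfElements.map α.hom).IsEquivalence := by
  haveI : (CategoryOfElements.map α.hom).Faithful := by
    refine ⟨fun {t₁ t₂} k₁ k₂ h => ?_⟩
    apply Subtype.ext
    have h' := congrArg Subtype.val h
    exact h'
  haveI : (CategoryOfElements.map α.hom).Full := by
    refine ⟨fun {t₁ t₂} k => ?_⟩
    have hk : F₂.map k.1 (α.hom.app t₁.1 t₁.2) = α.hom.app t₂.1 t₂.2 := k.2
    have h1 : F₁.map k.1 t₁.2 = t₂.2 := by
      have h2 : α.hom.app t₂.1 (F₁.map k.1 t₁.2) = α.hom.app t₂.1 t₂.2 := by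
        rw [← hk]
        exact NatTrans.naturality_apply α.hom k.1 t₁.2
      have h3 := congrArg (α.inv.app t₂.1) h2
      have h4 : ∀ y : F₁.obj t₂.1, α.inv.app t₂.1 (α.hom.app t₂.1 y) = y := fun y => by simp
      rw [h4, h4] at h3
      exact h3
    exact ⟨⟨k.1, h1⟩, Subtype.ext rfl⟩
  haveI : (CategoryOfElements.map α.hom).EssSurj := by
    refine ⟨fun t => ⟨⟨t.1, α.inv.app t.1 t.2⟩, ⟨eqToIso ?_⟩⟩⟩
    change (⟨t.1, α.hom.app t.1 (α.inv.app t.1 t.2)⟩ : F₂.Elements) = t
    have : α.hom.app t.1 (α.inv.app t.1 t.2) = t.2 := by simp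
    rw [this]
    rfl
  exact { }

set_option backward.isDefEq.respectTransparency false in
/-- the fiber functor of the image geometric point -/
noncomputable def fiberIso {X Y : Scheme.{u}} (f : X ⟶ Y) {Ω : Type u} [Field Ω] [IsSepClosed Ω]
    (ξ : Spec (CommRingCat.of Ω) ⟶ X) :
    EtCoh.bc f ⋙ (Scheme.pointSmallEtale ξ).fiber ≅ (Scheme.pointSmallEtale (ξ ≫ f)).fiber :=
  (Functor.isoWhiskerRight
    (MorphismProperty.Over.pullbackCompForgetIso (P := EtCoh.etaleMP) (Q := ⊤) f)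
    (coyoneda.obj (op (Over.mk ξ))) : (EtCoh.bc f ⋙ Scheme.Etale.forget X) ⋙
      coyoneda.obj (op (Over.mk ξ)) ≅ (Scheme.Etale.forget Y ⋙ Over.pullback f) ⋙
      coyoneda.obj (op (Over.mk ξ))) ≪≫
  (Functor.isoWhiskerLeft (Scheme.Etale.forget Y)
    ((Adjunction.compCoyonedaIso (Over.mapPullbackAdj f)).app (op (Over.mk ξ))).symm :
      Scheme.Etale.forget Y ⋙ (Over.pullback f ⋙ coyoneda.obj (op (Over.mk ξ))) ≅
      Scheme.Etale.forget Y ⋙ coyoneda.obj (op (Over.mk (ξ ≫ f))))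

instance initiallySmall_comap {X Y : Scheme.{u}} (f : X ⟶ Y) {Ω : Type u} [Field Ω]
    [IsSepClosed Ω] (ξ : Spec (CommRingCat.of Ω) ⟶ X) :
    InitiallySmall.{u} (EtCoh.bc f ⋙ (Scheme.pointSmallEtale ξ).fiber).Elements := by
  haveI := isEquivalence_map_of_iso (fiberIso f ξ).symm
  exact initiallySmall_of_initial_of_initiallySmall
    (CategoryOfElements.map (fiberIso f ξ).symm.hom)

/-- the point of `Y_et` induced by a geometric point of `X` via base change -/
noncomputable def comapPoint {X Y : Scheme.{u}} (f : X ⟶ Y) {Ω : Type u} [Field Ω]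
    [IsSepClosed Ω] (ξ : Spec (CommRingCat.of Ω) ⟶ X) :
    GrothendieckTopology.Point.{u} Y.smallEtaleTopology :=
  (Scheme.pointSmallEtale ξ).comap (EtCoh.bc f) (EtCoh.coverPreserving_bc f)

/-- it is isomorphic to the image geometric point -/
noncomputable def pointIso {X Y : Scheme.{u}} (f : X ⟶ Y) {Ω : Type u} [Field Ω]
    [IsSepClosed Ω] (ξ : Spec (CommRingCat.of Ω) ⟶ X) :
    comapPoint f ξ ≅ Scheme.pointSmallEtale (ξ ≫ f) where
  hom := ⟨(fiberIso f ξ).inv⟩
  inv := ⟨(fiberIso f ξ).hom⟩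
  hom_inv_id := by
    apply GrothendieckTopology.Point.hom_ext
    rw [GrothendieckTopology.Point.comp_hom]
    exact (fiberIso f ξ).hom_inv_id
  inv_hom_id := by
    apply GrothendieckTopology.Point.hom_ext
    rw [GrothendieckTopology.Point.comp_hom]
    exact (fiberIso f ξ).inv_hom_id

/-- isomorphic points have isomorphic sheaf fibers -/
noncomputable def sheafFiberIsoOfIso {C : Type (u + 1)} [Category.{u} C]
    {J : GrothendieckTopology C} {Φ₁ Φ₂ : GrothendieckTopology.Point.{u} J} (e : Φ₁ ≅ Φ₂) :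
    Φ₂.sheafFiber (A := AddCommGrpCat.{u + 1}) ≅ Φ₁.sheafFiber where
  hom := GrothendieckTopology.Point.Hom.sheafFiber e.hom
  inv := GrothendieckTopology.Point.Hom.sheafFiber e.inv
  hom_inv_id := by
    rw [← GrothendieckTopology.Point.Hom.sheafFiber_comp, e.inv_hom_id,
      GrothendieckTopology.Point.Hom.sheafFiber_id]
  inv_hom_id := by
    rw [← GrothendieckTopology.Point.Hom.sheafFiber_comp, e.hom_inv_id,
      GrothendieckTopology.Point.Hom.sheafFiber_id]

theorem main0100 {X Y : Scheme.{u}} (f : X ⟶ Y) [EtCoh.BCCont f] (G : EtCoh.Ab Y)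
    {Ω : Type u} [Field Ω] [IsSepClosed Ω] (ξ : Spec (CommRingCat.of Ω) ⟶ X) :
    Nonempty ((EtCoh.stalk ξ).obj ((EtCoh.pull f).obj G) ≅ (EtCoh.stalk (ξ ≫ f)).obj G) := by
  have e1 := (GrothendieckTopology.Point.sheafFiberComapIso (Scheme.pointSmallEtale ξ)
    (EtCoh.bc f) (EtCoh.coverPreserving_bc f) AddCommGrpCat.{u + 1}).app G
  have e2 := (sheafFiberIsoOfIso (pointIso f ξ)).app G
  exact ⟨e1.symm ≪≫ e2.symm⟩

end Groth.Agent.Lib.lead.EtPull
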