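import Mathlib
import Groth.Prelude.Def_EtBase
import Groth.Prelude.Def_EtCore
import Groth.Agent.Lib.lead.EtLift6
import Groth.Agent.Lib.lead.EtClosed2
import Groth.Agent.Lib.lead.EtCons2

/-!
# The essential image of the pushforward along a closed immersion
-/

universe u

set_option maxHeartbeats 400000
set_option linter.style.haveILetI false

open CategoryTheory CategoryTheory.Limits Opposite AlgebraicGeometry

namespace Groth.Agent.Lib.lead.EtLift

/-- the natural isomorphism `(f⁻¹ -)_ξ ≅ (-)_{f ξ}` -/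
noncomputable def stalkPullIso {X Y : Scheme.{u}} (f : X ⟶ Y) [EtCoh.BCCont f]
    {Ω : Type u} [Field Ω] [IsSepClosed Ω] (ξ : Spec (CommRingCat.of Ω) ⟶ X) :
    EtCoh.pull f ⋙ EtCoh.stalk ξ ≅ EtCoh.stalk (ξ ≫ f) :=
  (GrothendieckTopology.Point.sheafFiberComapIso (Scheme.pointSmallEtale ξ)
    (EtCoh.bc f) (EtCoh.coverPreserving_bc f) AddCommGrpCat.{u + 1}).symm ≪≫
    (EtPull.sheafFiberIsoOfIso (EtPull.pointIso f ξ)).symm

/-- a geometric point meeting a closed subscheme factors through it -/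
theorem exists_factor {Z X : Scheme.{u}} (i : Z ⟶ X) [IsClosedImmersion i]
    {Ω : Type u} [Field Ω] (ξ : Spec (CommRingCat.of Ω) ⟶ X)
    (hξ : ¬ Disjoint (Set.range ξ.base) (Set.range i.base)) :
    ∃ ζ : Spec (CommRingCat.of Ω) ⟶ Z, ζ ≫ i = ξ := by
  rw [Set.not_disjoint_iff] at hξ
  obtain ⟨_, ⟨pt, rfl⟩, ⟨z, hz⟩⟩ := hξ
  obtain ⟨w, hw1, hw2⟩ := Scheme.Pullback.exists_preimage_pullback pt z hz.symm
  haveI : Surjective (pullback.fst ξ i) := by
    refine ⟨fun y => ⟨w, ?_⟩⟩
    exact Subsingleton.elim (α := PrimeSpectrum Ω) _ _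
  haveI : IsIso (pullback.fst ξ i) := isIso_of_isClosedImmersion_of_surjective _
  refine ⟨inv (pullback.fst ξ i) ≫ pullback.snd ξ i, ?_⟩
  rw [Category.assoc, ← pullback.condition, IsIso.inv_hom_id_assoc]


set_option backward.isDefEq.respectTransparency false in
/-- shrinking an étale neighbourhood of a geometric point away from a closed subscheme -/
theorem exists_shrink' {Z X : Scheme.{u}} (i : Z ⟶ X) [IsClosedImmersion i]
    {Ω : Type u} [Field Ω] [IsSepClosed Ω] (ξ : Spec (CommRingCat.of Ω) ⟶ X)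
    (hξ : Disjoint (Set.range ξ.base) (Set.range i.base))
    (V : X.Etale) (v : (Scheme.pointSmallEtale ξ).fiber.obj V) :
    ∃ (V' : X.Etale) (g : V' ⟶ V) (v' : (Scheme.pointSmallEtale ξ).fiber.obj V'),
      (Scheme.pointSmallEtale ξ).fiber.map g v' = v ∧
        Disjoint (Set.range V'.hom.base) (Set.range i.base) := by
  obtain ⟨v₀, hv₀, rfl⟩ := Over.homMk_surjective v
  dsimp at v₀ hv₀
  let Uc : X.Opens := ⟨(Set.range i.base)ᶜ, i.isClosedEmbedding.isClosed_range.isOpen_compl⟩
  let W : V.left.Opens := V.hom ⁻¹ᵁ Uc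
  haveI : Etale V.hom := V.prop
  have hrange : Set.range v₀ ⊆ Set.range W.ι := by
    rintro _ ⟨a, rfl⟩
    rw [Scheme.Opens.range_ι]
    change V.hom (v₀ a) ∈ (Set.range i.base)ᶜ
    have h1 : V.hom (v₀ a) = ξ a := by
      have := congrArg (fun f => f a) hv₀
      exact this
    rw [h1]
    exact Set.disjoint_left.mp hξ ⟨a, rfl⟩
  let V' : X.Etale := Scheme.Etale.mk (W.ι ≫ V.hom)
  let g : V' ⟶ V := MorphismProperty.Over.homMk W.ι rfl
  let v'₀ : Spec (CommRingCat.of Ω) ⟶ W := IsOpenImmersion.lift W.ι v₀ hrange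
  have hv' : v'₀ ≫ W.ι ≫ V.hom = ξ := by
    rw [← Category.assoc, IsOpenImmersion.lift_fac, hv₀]
  refine ⟨V', g, Over.homMk v'₀ hv', ?_, ?_⟩
  · apply Over.OverMorphism.ext
    exact IsOpenImmersion.lift_fac _ _ _
  · rw [Set.disjoint_left]
    rintro _ ⟨w, rfl⟩ hw
    have h2 : V.hom (W.ι w) ∈ (Set.range i.base)ᶜ := w.2
    exact h2 hw

theorem subsingleton_stalk_of_vanishing {Z X : Scheme.{u}} (i : Z ⟶ X) [IsClosedImmersion i]
    (F : EtCoh.Ab X)
    (hF : ∀ U : X.Etale, Disjoint (Set.range U.hom.base) (Set.range i.base) →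
      IsZero (F.obj.obj (op U)))
    {Ω : Type u} [Field Ω] [IsSepClosed Ω] (ξ : Spec (CommRingCat.of Ω) ⟶ X)
    (hξ : Disjoint (Set.range ξ.base) (Set.range i.base)) :
    Subsingleton ↑((EtCoh.stalk ξ).obj F) := by
  haveI := EtHens.preservesFiltered_forget_addCommGrp.{u}
  haveI : LocallySmall.{u} X.Etale := inferInstance
  suffices h : Subsingleton ↑((Scheme.pointSmallEtale ξ).presheafFiber.obj
      F.obj : AddCommGrpCat.{u + 1}) from h
  refine ⟨fun p q => ?_⟩
  obtain ⟨V, v, z₁, z₂, rfl, rfl⟩ :=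
    GrothendieckTopology.Point.toPresheafFiber_jointly_surjective₂.{u + 1, u}
      (Scheme.pointSmallEtale ξ) p q
  obtain ⟨V', g, v', hv', hE⟩ := exists_shrink' i ξ hξ V v
  have hw := GrothendieckTopology.Point.toPresheafFiber_w (Scheme.pointSmallEtale ξ) g v' F.obj
  rw [hv'] at hw
  haveI : Subsingleton (F.obj.obj (op V')) :=
    AddCommGrpCat.subsingleton_of_isZero (hF V' hE)
  rw [← hw, ConcreteCategory.comp_apply, ConcreteCategory.comp_apply]
  congr 1
  exact Subsingleton.elim _ _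


set_option backward.isDefEq.respectTransparency false in
theorem main0068 {Z X : Scheme.{u}} (i : Z ⟶ X) [IsClosedImmersion i] [EtCoh.BCCont i]
    (F : EtCoh.Ab X) :
    (EtCoh.push i).essImage F ↔
      ∀ U : X.Etale, Disjoint (Set.range U.hom.base) (Set.range i.base) →
        IsZero (F.obj.obj (op U)) := by
  constructor
  · rintro ⟨G, ⟨e⟩⟩ U hU
    haveI : IsEmpty ((EtCoh.bc i).obj U).left := by
      refine ⟨fun w => ?_⟩
      have hcond : pullback.fst U.hom i ≫ U.hom = pullback.snd U.hom i ≫ i := pullback.condition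
      let w' : ↥(pullback U.hom i) := w
      have h1 : U.hom (pullback.fst U.hom i w') = i (pullback.snd U.hom i w') := by
        have := congrArg (fun f => f w') hcond
        exact this
      exact Set.disjoint_left.mp hU ⟨_, rfl⟩ ⟨_, h1.symm⟩
    haveI : Subsingleton (((EtCoh.push i).obj G).obj.obj (op U)) :=
      EtClosed.subsingleton_sections_of_isEmpty G ((EtCoh.bc i).obj U)
    have hz : IsZero (((EtCoh.push i).obj G).obj.obj (op U)) :=
      AddCommGrpCat.isZero_of_subsingleton _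
    exact hz.of_iso (((sheafToPresheaf _ _).mapIso e).app (op U)).symm
  · intro hF
    have key : ∀ (Ω : Type u) [Field Ω] [IsSepClosed Ω] (ξ : Spec (CommRingCat.of Ω) ⟶ X),
        Function.Bijective ((EtCoh.stalk ξ).map ((EtCoh.pullPushAdj i).unit.app F)) := by
      intro Ω _ _ ξ
      by_cases hd : Disjoint (Set.range ξ.base) (Set.range i.base)
      · have h1 : Subsingleton ↑((EtCoh.stalk ξ).obj ((𝟭 (EtCoh.Ab X)).obj F)) :=
          subsingleton_stalk_of_vanishing i F hF ξ hd
        have h2 : Subsingleton ↑((EtCoh.stalk ξ).obj ((EtCoh.pull i ⋙ EtCoh.push i).obj F)) :=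
          AddCommGrpCat.subsingleton_of_isZero (EtClosed.main0069 i _ ξ hd)
        exact ⟨fun a b _ => @Subsingleton.elim _ h1 _ _,
          fun b => ⟨0, @Subsingleton.elim _ h2 _ _⟩⟩
      · obtain ⟨ζ, rfl⟩ := exists_factor i ξ hd
        haveI := isIso_counit i ((EtCoh.pull i).obj F)
        have htri := (EtCoh.pullPushAdj i).left_triangle_components F
        haveI : IsIso ((EtCoh.pull i).map ((EtCoh.pullPushAdj i).unit.app F) ≫
            (EtCoh.pullPushAdj i).counit.app ((EtCoh.pull i).obj F)) := by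
          rw [htri]; exact IsIso.id _
        haveI : IsIso ((EtCoh.pull i).map ((EtCoh.pullPushAdj i).unit.app F)) :=
          IsIso.of_isIso_comp_right _ ((EtCoh.pullPushAdj i).counit.app ((EtCoh.pull i).obj F))
        haveI : IsIso ((EtCoh.pull i ⋙ EtCoh.stalk ζ).map ((EtCoh.pullPushAdj i).unit.app F)) := by
          rw [Functor.comp_map]; infer_instance
        haveI : IsIso ((EtCoh.stalk (ζ ≫ i)).map ((EtCoh.pullPushAdj i).unit.app F)) :=
          (NatIso.isIso_map_iff (stalkPullIso i ζ) _).mp inferInstance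
        exact ConcreteCategory.bijective_of_isIso _
    haveI hmono : Mono ((EtCoh.pullPushAdj i).unit.app F) :=
      (EtCons.mono_iff_stalks _).mpr (fun Ω _ _ ξ => (key Ω ξ).1)
    haveI hepi : Epi ((EtCoh.pullPushAdj i).unit.app F) :=
      (EtCons.epi_iff_stalks _).mpr (fun Ω _ _ ξ => (key Ω ξ).2)
    haveI : IsIso ((EtCoh.pullPushAdj i).unit.app F) := isIso_of_mono_of_epi _
    exact ⟨(EtCoh.pull i).obj F, ⟨(asIso ((EtCoh.pullPushAdj i).unit.app F)).symm⟩⟩

end Groth.Agent.Lib.lead.EtLift
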