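import Mathlib
import Groth.Agent.Lib.lead.EtPull1
import Groth.Agent.Lib.lead.EtHens5
import Groth.Prelude.Def_Hens2
import Groth.Prelude.Def_SGA4b

/-!
# The fibre functor at the geometric point of a strict localization is global sections of the
inverse image (sheaves of sets)
-/

universe u

set_option maxHeartbeats 400000
set_option linter.style.haveILetI false
set_option linter.overlappingInstances false

open CategoryTheory CategoryTheory.Limits Opposite AlgebraicGeometry IsLocalRing

namespace Groth.Agent.Lib.lead.EtPull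

/-- isomorphic points have isomorphic sheaf fibers (general coefficients) -/
noncomputable def sheafFiberIsoOfIso' {C : Type (u + 1)} [Category.{u} C]
    {J : GrothendieckTopology C} {A : Type*} [Category A] [HasColimitsOfSize.{u, u} A]
    {Φ₁ Φ₂ : GrothendieckTopology.Point.{u} J} (e : Φ₁ ≅ Φ₂) :
    Φ₂.sheafFiber (A := A) ≅ Φ₁.sheafFiber where
  hom := GrothendieckTopology.Point.Hom.sheafFiber e.hom
  inv := GrothendieckTopology.Point.Hom.sheafFiber e.inv
  hom_inv_id := by
    rw [← GrothendieckTopology.Point.Hom.sheafFiber_comp, e.inv_hom_id,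
      GrothendieckTopology.Point.Hom.sheafFiber_id]
  inv_hom_id := by
    rw [← GrothendieckTopology.Point.Hom.sheafFiber_comp, e.hom_inv_id,
      GrothendieckTopology.Point.Hom.sheafFiber_id]

theorem bijective_of_lift_type {C : Type (u + 1)} [Category.{u} C] {J : GrothendieckTopology C}
    (Φ : GrothendieckTopology.Point.{u} J) (T : C) (hT : IsTerminal T) (x₀ : Φ.fiber.obj T)
    (hlift : ∀ (V : C) (v : Φ.fiber.obj V), ∃ σ : T ⟶ V, Φ.fiber.map σ x₀ = v)
    (P : Cᵒᵖ ⥤ Type (u + 1)) :
    Function.Bijective (Φ.toPresheafFiber T x₀ P) := by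
  haveI : PreservesFilteredColimitsOfSize.{u, u} (forget (Type (u + 1))) := by
    change PreservesFilteredColimitsOfSize.{u, u} (𝟭 (Type (u + 1)))
    infer_instance
  haveI : LocallySmall.{u} C := inferInstance
  constructor
  · intro z₁ z₂ h
    rw [GrothendieckTopology.Point.toPresheafFiber_eq_iff'.{u + 1, u} Φ] at h
    obtain ⟨Y, f, y, hf, heq⟩ := h
    obtain ⟨σ, hσ⟩ := hlift Y y
    have hσf : σ ≫ f = 𝟙 _ := hT.hom_ext _ _
    have h2 := congrArg (P.map σ.op) heq
    have h3 : ∀ z, P.map σ.op (P.map f.op z) = z := by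
      intro z
      rw [← ConcreteCategory.comp_apply, ← P.map_comp, ← op_comp, hσf, op_id, P.map_id]
      rfl
    rwa [h3, h3] at h2
  · intro p
    obtain ⟨V, v, z, rfl⟩ :=
      GrothendieckTopology.Point.toPresheafFiber_jointly_surjective.{u + 1, u} Φ (P := P) p
    obtain ⟨σ, hσ⟩ := hlift V v
    refine ⟨P.map σ.op z, ?_⟩
    have := GrothendieckTopology.Point.toPresheafFiber_w Φ σ x₀ P
    rw [← ConcreteCategory.comp_apply, this, hσ]

/-- global sections = fibre at the closed geometric point, as functors (sheaves of sets) -/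
theorem nonempty_sectionsIso (R : Type u) [CommRing R] [HenselianLocalRing R]
    [IsSepClosed (ResidueField R)] :
    Nonempty ((Scheme.pointSmallEtale
      (Spec.map (CommRingCat.ofHom (residue R)))).sheafFiber (A := Type (u + 1)) ≅
        (sheafSections (Spec (CommRingCat.of R)).smallEtaleTopology (Type (u + 1))).obj
          (op (EtCoh.top (Spec (CommRingCat.of R))))) := by
  let τ : sheafToPresheaf (Spec (CommRingCat.of R)).smallEtaleTopology (Type (u + 1)) ⋙
      (evaluation _ _).obj (op (EtCoh.top (Spec (CommRingCat.of R)))) ⟶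
      sheafToPresheaf (Spec (CommRingCat.of R)).smallEtaleTopology (Type (u + 1)) ⋙
        (Scheme.pointSmallEtale (Spec.map (CommRingCat.ofHom (residue R)))).presheafFiber :=
    Functor.whiskerLeft _ (GrothendieckTopology.Point.toPresheafFiberNatTrans
      (Scheme.pointSmallEtale (Spec.map (CommRingCat.ofHom (residue R))))
      (EtCoh.top (Spec (CommRingCat.of R)))
      (Over.homMk (Spec.map (CommRingCat.ofHom (residue R))) (Category.comp_id _)))
  haveI : IsIso τ := by
    rw [NatTrans.isIso_iff_isIso_app]
    intro F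
    rw [isIso_iff_bijective]
    exact bijective_of_lift_type _ _ (EtCore.topIsTerminal _) _
      (fun V v => EtHens.exists_lift_point R V v) F.obj
  exact ⟨(asIso τ).symm⟩

theorem main6180 (X : Scheme.{u}) (x : X)
    (R : Type u) [CommRing R] [IsLocalRing R] [Algebra (X.presheaf.stalk x) R]
    [IsLocalHom (algebraMap (X.presheaf.stalk x) R)]
    [hR : Hensel.IsStrictHenselization (X.presheaf.stalk x) R]
    [IsSepClosed (IsLocalRing.ResidueField R)] :
    Nonempty ((Scheme.pointSmallEtale (Hens2.geomPt X x R)).sheafFiber (A := Type (u + 1)) ≅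
      EtDesc.pullSh (Hens2.specOf X x R) ⋙
        (sheafSections (Spec (CommRingCat.of R)).smallEtaleTopology (Type (u + 1))).obj
          (op (EtCoh.top (Spec (CommRingCat.of R))))) := by
  letI : HenselianLocalRing R := hR.henselian
  obtain ⟨e3⟩ := nonempty_sectionsIso R
  have e1 := sheafFiberIsoOfIso' (A := Type (u + 1))
    (pointIso (Hens2.specOf X x R) (Spec.map (CommRingCat.ofHom (residue R))))
  have e2 := GrothendieckTopology.Point.sheafFiberComapIso
    (Scheme.pointSmallEtale (Spec.map (CommRingCat.ofHom (residue R))))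
    (EtCoh.bc (Hens2.specOf X x R)) (EtCoh.coverPreserving_bc (Hens2.specOf X x R))
    (Type (u + 1))
  exact ⟨e1 ≪≫ e2 ≪≫ Functor.isoWhiskerLeft _ e3⟩

end Groth.Agent.Lib.lead.EtPull
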