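import Mathlib
import Groth.Prelude.Def_EtBase
import Groth.Prelude.Def_SGA4b
import Groth.Prelude.Def_EtShriek2
import Groth.Agent.Lib.lead.EtImm1
import Groth.Agent.Lib.lead.EtPull2
import Groth.Agent.Lib.lead.EtCons3
import Groth.Agent.Lib.lead.EtLift7

/-!
# Essential image of the direct image of sheaves of sets along a closed immersion
-/

universe u

set_option maxHeartbeats 400000
set_option linter.style.haveILetI false

open CategoryTheory CategoryTheory.Limits Opposite AlgebraicGeometry

namespace Groth.Agent.Lib.lead.EtImm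

/-- stalk of the inverse image (sheaves of sets) -/
noncomputable def stalkPullIsoSh {X Y : Scheme.{u}} (f : X ⟶ Y) {Ω : Type u} [Field Ω]
    [IsSepClosed Ω] (ξ : Spec (CommRingCat.of Ω) ⟶ X) :
    (Scheme.pointSmallEtale (ξ ≫ f)).sheafFiber (A := Type (u + 1)) ≅
      EtDesc.pullSh f ⋙ (Scheme.pointSmallEtale ξ).sheafFiber :=
  EtPull.sheafFiberIsoOfIso' (A := Type (u + 1)) (EtPull.pointIso f ξ) ≪≫
    GrothendieckTopology.Point.sheafFiberComapIso (Scheme.pointSmallEtale ξ) (EtCoh.bc f)
      (EtCoh.coverPreserving_bc f) (Type (u + 1))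

/-- a sheaf of sets with singleton sections is terminal -/
noncomputable def isTerminalOfUnique {C : Type*} [Category C] {J : GrothendieckTopology C}
    (P : Sheaf J (Type (u + 1))) (h : ∀ V : C, Nonempty (Unique (P.obj.obj (op V)))) :
    IsTerminal P :=
  IsTerminal.ofUniqueHom
    (fun K => ⟨{ app := fun V => TypeCat.ofHom (fun _ => (h V.unop).some.default)
                 naturality := fun V W f => by
                   ext x
                   exact (h W.unop).some.instSubsingleton.elim _ _ }⟩)
    (fun K m => by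
      apply Sheaf.hom_ext
      ext V x
      exact (h V.unop).some.instSubsingleton.elim _ _)

/-- sections of a terminal sheaf of sets are singletons -/
theorem unique_sections_of_isTerminal {C : Type*} [Category C] {J : GrothendieckTopology C}
    (P : Sheaf J (Type (u + 1))) (hP : IsTerminal P) (V : C) :
    Nonempty (Unique (P.obj.obj (op V))) := by
  have h1 : IsTerminal ((sheafToPresheaf J (Type (u + 1)) ⋙
      (evaluation _ _).obj (op V)).obj P) :=
    IsTerminal.isTerminalObj _ _ hP
  exact ⟨(Types.isTerminalEquivUnique _).1 h1⟩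

/-- the stalk of a sheaf with singleton sections is a singleton -/
theorem unique_stalk_of_unique {X : Scheme.{u}} (P : EtDesc.Sh X)
    (h : ∀ V : X.Etale, Nonempty (Unique (P.obj.obj (op V))))
    {Ω : Type u} [Field Ω] [IsSepClosed Ω] (ξ : Spec (CommRingCat.of Ω) ⟶ X) :
    Nonempty (Unique (((Scheme.pointSmallEtale ξ).sheafFiber (A := Type (u + 1))).obj P)) := by
  haveI := EtCons.preservesFiltered_forget_type.{u}
  haveI : LocallySmall.{u} X.Etale := inferInstance
  have hne : Nonempty (((Scheme.pointSmallEtale ξ).sheafFiber (A := Type (u + 1))).obj P) :=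
    ⟨(Scheme.pointSmallEtale ξ).toPresheafFiber (EtCoh.top X)
      (Over.homMk ξ (Category.comp_id _)) P.obj (h _).some.default⟩
  have hss : Subsingleton (((Scheme.pointSmallEtale ξ).sheafFiber (A := Type (u + 1))).obj P) := by
    constructor
    intro a b
    obtain ⟨V, v, z₁, z₂, rfl, rfl⟩ :=
      GrothendieckTopology.Point.toPresheafFiber_jointly_surjective₂.{u + 1, u}
        (Scheme.pointSmallEtale ξ) (P := P.obj) a b
    rw [(h V).some.instSubsingleton.elim z₁ z₂]
  exact ⟨@uniqueOfSubsingleton _ hss hne.some⟩

set_option backward.isDefEq.respectTransparency false in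
/-- sections of `i_* G` over schemes lying over the complement are singletons -/
theorem unique_sections_push_of_disjoint {Z X W : Scheme.{u}} (i : Z ⟶ X) (j : W ⟶ X) [Etale j]
    (hj : Disjoint (Set.range j.base) (Set.range i.base)) (G : EtDesc.Sh Z) (V : W.Etale) :
    Nonempty (Unique (((EtDesc.pushSh i).obj G).obj.obj (op ((EtShriek.compEtale j).obj V)))) := by
  haveI : IsEmpty ((EtCoh.bc i).obj ((EtShriek.compEtale j).obj V)).left := by
    refine ⟨fun w => ?_⟩
    have hcond : pullback.fst (V.hom ≫ j) i ≫ V.hom ≫ j = pullback.snd (V.hom ≫ j) i ≫ i :=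
      pullback.condition
    let w' : ↥(pullback (V.hom ≫ j) i) := w
    have h1 : j (V.hom (pullback.fst (V.hom ≫ j) i w')) = i (pullback.snd (V.hom ≫ j) i w') := by
      have := congrArg (fun f => f w') hcond
      exact this
    exact Set.disjoint_left.mp hj ⟨_, rfl⟩ ⟨_, h1.symm⟩
  have hT : IsTerminal (G.obj.obj (op ((EtCoh.bc i).obj ((EtShriek.compEtale j).obj V)))) :=
    Sheaf.isTerminalOfBotCover G _ (EtClosed.bot_mem_smallEtale Z _)
  exact ⟨(Types.isTerminalEquivUnique _).1 hT⟩

section Main

variable {Y X U : Scheme.{u}} (i : Y ⟶ X) [IsClosedImmersion i] (j : U ⟶ X) [IsOpenImmersion j]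

/-- restriction of sheaves of sets to an open subscheme -/
noncomputable abbrev restrSh : EtDesc.Sh X ⥤ EtDesc.Sh U :=
  (EtShriek.compEtale j).sheafPushforwardContinuous (Type (u + 1)) U.smallEtaleTopology
    X.smallEtaleTopology

/-- inverse image along an open immersion is restriction -/
noncomputable def pullRestrIso : EtDesc.pullSh j ≅ restrSh j :=
  (EtDesc.adjSh j).leftAdjointUniq (restrPushAdjSh j)

theorem isIso_terminal_from_iff (F : EtDesc.Sh X) :
    IsIso (terminal.from ((EtDesc.pullSh j).obj F)) ↔
      ∀ V : U.Etale, Nonempty (Unique (F.obj.obj (op ((EtShriek.compEtale j).obj V)))) := by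
  constructor
  · intro h V
    have hT : IsTerminal ((EtDesc.pullSh j).obj F) :=
      IsTerminal.ofIso terminalIsTerminal (asIso (terminal.from _)).symm
    have hT' : IsTerminal ((restrSh j).obj F) := IsTerminal.ofIso hT ((pullRestrIso j).app F)
    exact unique_sections_of_isTerminal _ hT' V
  · intro h
    have hT' : IsTerminal ((restrSh j).obj F) := isTerminalOfUnique _ h
    have hT : IsTerminal ((EtDesc.pullSh j).obj F) :=
      IsTerminal.ofIso hT' ((pullRestrIso j).app F).symm
    exact isIso_of_isTerminal hT terminalIsTerminal _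

theorem unique_stalk_of_restr_unique (F : EtDesc.Sh X)
    (h : ∀ V : U.Etale, Nonempty (Unique (F.obj.obj (op ((EtShriek.compEtale j).obj V)))))
    {Ω : Type u} [Field Ω] [IsSepClosed Ω] (ξ' : Spec (CommRingCat.of Ω) ⟶ U) :
    Nonempty (Unique (((Scheme.pointSmallEtale (ξ' ≫ j)).sheafFiber
      (A := Type (u + 1))).obj F)) := by
  obtain ⟨h1⟩ := unique_stalk_of_unique ((restrSh j).obj F) h ξ'
  let e := (stalkPullIsoSh j ξ').app F ≪≫
    ((Scheme.pointSmallEtale ξ').sheafFiber (A := Type (u + 1))).mapIso ((pullRestrIso j).app F)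
  exact ⟨e.toEquiv.unique⟩

theorem main3883 (hU : Set.range j.base = (Set.range i.base)ᶜ) :
    (EtDesc.pushSh i).Full ∧ (EtDesc.pushSh i).Faithful ∧
    ∀ F : EtDesc.Sh X, (EtDesc.pushSh i).essImage F ↔
      IsIso (terminal.from ((EtDesc.pullSh j).obj F)) := by
  have hdisj : Disjoint (Set.range j.base) (Set.range i.base) := by
    rw [hU]; exact disjoint_compl_left
  haveI hc1 : (EtDesc.pushSh i).Full :=
    Functor.IsCoverDense.full_sheafPushforwardContinuous _ _ (EtCoh.bc i)
  haveI hc2 : (EtDesc.pushSh i).Faithful :=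
    Functor.IsCoverDense.faithful_sheafPushforwardContinuous _ _ (EtCoh.bc i)
  refine ⟨hc1, hc2, fun F => ?_⟩
  rw [isIso_terminal_from_iff]
  constructor
  · rintro ⟨G, ⟨e⟩⟩ V
    obtain ⟨h1⟩ := unique_sections_push_of_disjoint i j hdisj G V
    exact ⟨@Equiv.unique _ _ h1 (((sheafSections _ _).obj
      (op ((EtShriek.compEtale j).obj V))).mapIso e).symm.toEquiv⟩
  · intro h
    haveI : IsIso ((EtDesc.adjSh i).unit.app F) := by
      have key : ∀ (Ω : Type u) [Field Ω] [IsSepClosed Ω] (ξ : Spec (CommRingCat.of Ω) ⟶ X),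
          Function.Bijective (((Scheme.pointSmallEtale ξ).sheafFiber (A := Type (u + 1))).map
            ((EtDesc.adjSh i).unit.app F)) := by
        intro Ω _ _ ξ
        by_cases hd : Disjoint (Set.range ξ.base) (Set.range i.base)
        · have hsub : Set.range ξ.base ⊆ Set.range j.base := by
            rw [hU]
            exact fun x hx hx' => Set.disjoint_left.mp hd hx hx'
          obtain ⟨ξ', rfl⟩ : ∃ ξ' : Spec (CommRingCat.of Ω) ⟶ U, ξ' ≫ j = ξ :=
            ⟨IsOpenImmersion.lift j ξ hsub, IsOpenImmersion.lift_fac _ _ _⟩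
          obtain ⟨u1⟩ := unique_stalk_of_restr_unique j F h ξ'
          obtain ⟨u2⟩ := unique_stalk_of_restr_unique j
            ((EtDesc.pushSh i).obj ((EtDesc.pullSh i).obj F))
            (fun V => unique_sections_push_of_disjoint i j hdisj _ V) ξ'
          exact ⟨fun a b _ => u1.instSubsingleton.elim _ _,
            fun b => ⟨u1.default, u2.instSubsingleton.elim _ _⟩⟩
        · obtain ⟨ξ', rfl⟩ := EtLift.exists_factor i ξ hd
          haveI : IsIso ((EtDesc.pullSh i).map ((EtDesc.adjSh i).unit.app F)) := by
            haveI := main3888 i ((EtDesc.pullSh i).obj F)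
            have htri := (EtDesc.adjSh i).left_triangle_components F
            haveI : IsIso ((EtDesc.pullSh i).map ((EtDesc.adjSh i).unit.app F) ≫
                (EtDesc.adjSh i).counit.app ((EtDesc.pullSh i).obj F)) := by
              rw [htri]; exact IsIso.id _
            exact IsIso.of_isIso_comp_right _
              ((EtDesc.adjSh i).counit.app ((EtDesc.pullSh i).obj F))
          have hnat := (stalkPullIsoSh i ξ').hom.naturality ((EtDesc.adjSh i).unit.app F)
          haveI : IsIso (((Scheme.pointSmallEtale (ξ' ≫ i)).sheafFiber (A := Type (u + 1))).map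
              ((EtDesc.adjSh i).unit.app F)) := by
            have h2 : ((Scheme.pointSmallEtale (ξ' ≫ i)).sheafFiber (A := Type (u + 1))).map
                ((EtDesc.adjSh i).unit.app F) =
                ((stalkPullIsoSh i ξ').hom.app _ ≫
                  (EtDesc.pullSh i ⋙ (Scheme.pointSmallEtale ξ').sheafFiber).map
                    ((EtDesc.adjSh i).unit.app F)) ≫ (stalkPullIsoSh i ξ').inv.app _ := by
              rw [← hnat, Category.assoc, Iso.hom_inv_id_app, Category.comp_id]
            rw [h2]
            haveI : IsIso ((EtDesc.pullSh i ⋙ (Scheme.pointSmallEtale ξ').sheafFiber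
                (A := Type (u + 1))).map ((EtDesc.adjSh i).unit.app F)) := by
              rw [Functor.comp_map]; infer_instance
            infer_instance
          exact (isIso_iff_bijective _).mp this
      haveI : Mono ((EtDesc.adjSh i).unit.app F) :=
        (EtCons.mono_iff_stalks_type _).mpr (fun Ω _ _ ξ => (key Ω ξ).1)
      haveI : Epi ((EtDesc.adjSh i).unit.app F) :=
        (EtCons.epi_iff_stalks_type _).mpr (fun Ω _ _ ξ => (key Ω ξ).2)
      exact isIso_of_mono_of_epi _
    exact (EtDesc.adjSh i).mem_essImage_of_unit_isIso F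

end Main

end Groth.Agent.Lib.lead.EtImm
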