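import Mathlib
import Groth.Agent.Lib.lead.EtPull1
import Groth.Agent.Lib.helper23.EtOpenImm

/-!
# Stalks of the direct image along an open immersion
-/

universe u

set_option maxHeartbeats 400000
set_option linter.style.haveILetI false

open CategoryTheory CategoryTheory.Limits Opposite AlgebraicGeometry

namespace Groth.Agent.Lib.lead.EtPull

theorem main19885 {V X : Scheme.{u}} (j : V ⟶ X) [IsOpenImmersion j] [EtCoh.BCCont j]
    (G : EtCoh.Ab V) {Ω : Type u} [Field Ω] [IsSepClosed Ω] (ζ : Spec (CommRingCat.of Ω) ⟶ V) :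
    Nonempty ((EtCoh.stalk (ζ ≫ j)).obj ((EtCoh.push j).obj G) ≅ (EtCoh.stalk ζ).obj G) := by
  haveI : Etale j := inferInstance
  haveI : Mono j := inferInstance
  haveI := EtOpenImm.isIso_pullPush_counit j
  obtain ⟨e⟩ := main0100 j ((EtCoh.push j).obj G) ζ
  exact ⟨e.symm ≪≫ (EtCoh.stalk ζ).mapIso (asIso ((EtCoh.pullPushAdj j).counit.app G))⟩

end Groth.Agent.Lib.lead.EtPull
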