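import Mathlib
import Groth.Prelude.Def_EtBase
import Groth.Prelude.Def_EtCore
import Groth.Prelude.Def_EtShriek2
import Groth.Agent.Lib.lead.EtLift7
import Groth.Agent.Lib.helper23.EtOpenImm

/-!
# The recollement short exact sequence `0 → j_! j^* F → F → i_* i^* F → 0`
-/

universe u

set_option maxHeartbeats 400000
set_option linter.style.haveILetI false

open CategoryTheory CategoryTheory.Limits Opposite AlgebraicGeometry

namespace Groth.Agent.Lib.lead.EtRecoll

variable {Z X : Scheme.{u}} (i : Z ⟶ X) [IsClosedImmersion i]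

set_option backward.isDefEq.respectTransparency false in
/-- `j^* i_* H = 0` when `j` lands in the complement of `i` -/
theorem isZero_restr_push {W : Scheme.{u}} (j : W ⟶ X) [Etale j] [EtShriek.JCont j]
    (hj : Disjoint (Set.range j.base) (Set.range i.base)) (H : EtCoh.Ab Z) :
    IsZero ((EtShriek.restrAlong j).obj ((EtCoh.push i).obj H)) := by
  rw [IsZero.iff_id_eq_zero]
  apply Sheaf.hom_ext
  ext V s
  induction V using Opposite.rec with | _ V => ?_
  haveI : IsEmpty ((EtCoh.bc i).obj ((EtShriek.compEtale j).obj V)).left := by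
    refine ⟨fun w => ?_⟩
    have hcond : pullback.fst (V.hom ≫ j) i ≫ V.hom ≫ j = pullback.snd (V.hom ≫ j) i ≫ i :=
      pullback.condition
    let w' : ↥(pullback (V.hom ≫ j) i) := w
    have h1 : j (V.hom (pullback.fst (V.hom ≫ j) i w')) = i (pullback.snd (V.hom ≫ j) i w') := by
      have := congrArg (fun f => f w') hcond
      exact this
    exact Set.disjoint_left.mp hj ⟨_, rfl⟩ ⟨_, h1.symm⟩
  haveI : Subsingleton (H.obj.obj (op ((EtCoh.bc i).obj ((EtShriek.compEtale j).obj V)))) :=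
    EtClosed.subsingleton_sections_of_isEmpty H _
  exact Subsingleton.elim (α := H.obj.obj (op ((EtCoh.bc i).obj ((EtShriek.compEtale j).obj V)))) _ _

/-- every map `j_! G → i_* H` vanishes -/
theorem extZero_to_push_eq {W : Scheme.{u}} (j : W ⟶ X) [Etale j] [EtShriek.JCont j]
    (hj : Disjoint (Set.range j.base) (Set.range i.base)) (G : EtCoh.Ab W) (H : EtCoh.Ab Z)
    (φ ψ : (EtShriek.extZero j).obj G ⟶ (EtCoh.push i).obj H) : φ = ψ := by
  apply ((EtShriek.extZeroAdj j).homEquiv _ _).injective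
  exact (isZero_restr_push i j hj H).eq_of_tgt _ _

theorem isZero_pull_extZero {W : Scheme.{u}} (j : W ⟶ X) [Etale j] [EtShriek.JCont j]
    (hj : Disjoint (Set.range j.base) (Set.range i.base)) (G : EtCoh.Ab W) :
    IsZero ((EtCoh.pull i).obj ((EtShriek.extZero j).obj G)) := by
  rw [IsZero.iff_id_eq_zero]
  apply ((EtCoh.pullPushAdj i).homEquiv _ _).injective
  exact extZero_to_push_eq i j hj G _ _ _


/-- the stalk of `j_! G` at a geometric point of the closed complement vanishes -/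
theorem isZero_stalk_extZero {W : Scheme.{u}} (j : W ⟶ X) [Etale j] [EtShriek.JCont j]
    (hj : Disjoint (Set.range j.base) (Set.range i.base)) (G : EtCoh.Ab W)
    {Ω : Type u} [Field Ω] [IsSepClosed Ω] (ζ : Spec (CommRingCat.of Ω) ⟶ Z) :
    IsZero ((EtCoh.stalk (ζ ≫ i)).obj ((EtShriek.extZero j).obj G)) := by
  have h1 : IsZero ((EtCoh.pull i ⋙ EtCoh.stalk ζ).obj ((EtShriek.extZero j).obj G)) :=
    (EtCoh.stalk ζ).map_isZero (isZero_pull_extZero i j hj G)
  exact h1.of_iso ((EtLift.stalkPullIso i ζ).app _).symm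

/-- for an étale monomorphism `j`, the counit `j_! j^* F → F` is an isomorphism on stalks at
geometric points of the source -/
theorem isIso_stalk_counit {W : Scheme.{u}} (j : W ⟶ X) [Etale j] [Mono j] [EtShriek.JCont j]
    (F : EtCoh.Ab X) {Ω : Type u} [Field Ω] [IsSepClosed Ω] (ξ' : Spec (CommRingCat.of Ω) ⟶ W) :
    IsIso ((EtCoh.stalk (ξ' ≫ j)).map ((EtShriek.extZeroAdj j).counit.app F)) := by
  haveI := EtOpenImm.isIso_extZero_unit j
  have htri := (EtShriek.extZeroAdj j).right_triangle_components F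
  haveI : IsIso ((EtShriek.extZeroAdj j).unit.app ((EtShriek.restrAlong j).obj F) ≫
      (EtShriek.restrAlong j).map ((EtShriek.extZeroAdj j).counit.app F)) := by
    rw [htri]; exact IsIso.id _
  haveI : IsIso ((EtShriek.restrAlong j).map ((EtShriek.extZeroAdj j).counit.app F)) :=
    IsIso.of_isIso_comp_left ((EtShriek.extZeroAdj j).unit.app ((EtShriek.restrAlong j).obj F)) _
  let e : EtCoh.pull j ≅ EtShriek.restrAlong j :=
    (EtCoh.pullPushAdj j).leftAdjointUniq (EtOpenImm.restrPushAdj j)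
  haveI : IsIso ((EtCoh.pull j).map ((EtShriek.extZeroAdj j).counit.app F)) :=
    (NatIso.isIso_map_iff e _).mpr inferInstance
  haveI : IsIso ((EtCoh.pull j ⋙ EtCoh.stalk ξ').map ((EtShriek.extZeroAdj j).counit.app F)) := by
    rw [Functor.comp_map]; infer_instance
  exact (NatIso.isIso_map_iff (EtLift.stalkPullIso j ξ') _).mp inferInstance


/-- the unit `F → i_* i^* F` is an isomorphism on stalks at geometric points of `Z` -/
theorem isIso_stalk_unit [EtCoh.BCCont i] (F : EtCoh.Ab X)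
    {Ω : Type u} [Field Ω] [IsSepClosed Ω] (ζ : Spec (CommRingCat.of Ω) ⟶ Z) :
    IsIso ((EtCoh.stalk (ζ ≫ i)).map ((EtCoh.pullPushAdj i).unit.app F)) := by
  haveI := EtLift.isIso_counit i ((EtCoh.pull i).obj F)
  have htri := (EtCoh.pullPushAdj i).left_triangle_components F
  haveI : IsIso ((EtCoh.pull i).map ((EtCoh.pullPushAdj i).unit.app F) ≫
      (EtCoh.pullPushAdj i).counit.app ((EtCoh.pull i).obj F)) := by
    rw [htri]; exact IsIso.id _
  haveI : IsIso ((EtCoh.pull i).map ((EtCoh.pullPushAdj i).unit.app F)) :=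
    IsIso.of_isIso_comp_right _ ((EtCoh.pullPushAdj i).counit.app ((EtCoh.pull i).obj F))
  haveI : IsIso ((EtCoh.pull i ⋙ EtCoh.stalk ζ).map ((EtCoh.pullPushAdj i).unit.app F)) := by
    rw [Functor.comp_map]; infer_instance
  exact (NatIso.isIso_map_iff (EtLift.stalkPullIso i ζ) _).mp inferInstance

set_option backward.isDefEq.respectTransparency false in
theorem main0654 (U : X.Opens) (hU : (U : Set X) = (Set.range i.base)ᶜ)
    [AlgebraicGeometry.Etale U.ι] [EtShriek.JCont U.ι] (F : EtCoh.Ab X) :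
    ∃ w : (EtShriek.extZeroAdj U.ι).counit.app F ≫ (EtCoh.pullPushAdj i).unit.app F = 0,
      (ShortComplex.mk _ _ w).ShortExact := by
  have hj : Disjoint (Set.range U.ι.base) (Set.range i.base) := by
    rw [Scheme.Opens.range_ι, hU]; exact disjoint_compl_left
  have w : (EtShriek.extZeroAdj U.ι).counit.app F ≫ (EtCoh.pullPushAdj i).unit.app F = 0 :=
    extZero_to_push_eq i U.ι hj _ _ _ _
  refine ⟨w, ?_⟩
  have dich : ∀ (Ω : Type u) [Field Ω] [IsSepClosed Ω] (ξ : Spec (CommRingCat.of Ω) ⟶ X),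
      (∃ ζ : Spec (CommRingCat.of Ω) ⟶ Z, ζ ≫ i = ξ) ∨
      (Disjoint (Set.range ξ.base) (Set.range i.base) ∧
        ∃ ξ' : Spec (CommRingCat.of Ω) ⟶ U, ξ' ≫ U.ι = ξ) := by
    intro Ω _ _ ξ
    by_cases hd : Disjoint (Set.range ξ.base) (Set.range i.base)
    · right
      refine ⟨hd, IsOpenImmersion.lift U.ι ξ ?_, IsOpenImmersion.lift_fac _ _ _⟩
      rw [Scheme.Opens.range_ι, hU]
      intro x hx hx'
      exact Set.disjoint_left.mp hd hx hx'
    · left
      exact EtLift.exists_factor i ξ hd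
  have hmono : Mono ((EtShriek.extZeroAdj U.ι).counit.app F) := by
    rw [EtCons.mono_iff_stalks]
    intro Ω _ _ ξ
    rcases dich Ω ξ with ⟨ζ, rfl⟩ | ⟨hd, ξ', rfl⟩
    · have hz := isZero_stalk_extZero i U.ι hj ((EtShriek.restrAlong U.ι).obj F) ζ
      have hs : Subsingleton ↑((EtCoh.stalk (ζ ≫ i)).obj
          ((EtShriek.restrAlong U.ι ⋙ EtShriek.extZero U.ι).obj F)) :=
        AddCommGrpCat.subsingleton_of_isZero hz
      exact fun a b _ => @Subsingleton.elim _ hs _ _
    · haveI := isIso_stalk_counit U.ι F ξ'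
      exact (ConcreteCategory.bijective_of_isIso _).1
  have hepi : Epi ((EtCoh.pullPushAdj i).unit.app F) := by
    rw [EtCons.epi_iff_stalks]
    intro Ω _ _ ξ
    rcases dich Ω ξ with ⟨ζ, rfl⟩ | ⟨hd, ξ', rfl⟩
    · haveI := isIso_stalk_unit i F ζ
      exact (ConcreteCategory.bijective_of_isIso _).2
    · have hz := EtClosed.main0069 i ((EtCoh.pull i).obj F) (ξ' ≫ U.ι) hd
      have hs : Subsingleton ↑((EtCoh.stalk (ξ' ≫ U.ι)).obj
          ((EtCoh.pull i ⋙ EtCoh.push i).obj F)) :=
        AddCommGrpCat.subsingleton_of_isZero hz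
      exact fun b => ⟨0, @Subsingleton.elim _ hs _ _⟩
  have hex : (ShortComplex.mk _ _ w).Exact := by
    rw [EtCons.exact_iff_stalks]
    intro Ω _ _ ξ
    rcases dich Ω ξ with ⟨ζ, rfl⟩ | ⟨hd, ξ', rfl⟩
    · have hz := isZero_stalk_extZero i U.ι hj ((EtShriek.restrAlong U.ι).obj F) ζ
      haveI := isIso_stalk_unit i F ζ
      refine (ShortComplex.exact_iff_mono _ (hz.eq_of_src _ _)).mpr ?_
      change Mono ((EtCoh.stalk (ζ ≫ i)).map ((EtCoh.pullPushAdj i).unit.app F))
      infer_instance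
    · have hz := EtClosed.main0069 i ((EtCoh.pull i).obj F) (ξ' ≫ U.ι) hd
      haveI := isIso_stalk_counit U.ι F ξ'
      refine (ShortComplex.exact_iff_epi _ (hz.eq_of_tgt _ _)).mpr ?_
      change Epi ((EtCoh.stalk (ξ' ≫ U.ι)).map ((EtShriek.extZeroAdj U.ι).counit.app F))
      infer_instance
  exact { exact := hex, mono_f := hmono, epi_g := hepi }

end Groth.Agent.Lib.lead.EtRecoll
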