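import Mathlib
import Groth.Prelude.Def_EtBase
import Groth.Prelude.Def_EtCore
import Groth.Prelude.Def_EtShriek2
import Groth.Agent.Lib.lead.EtRecoll1

/-!
# Characterisation of extension by zero along an open immersion
-/

universe u

set_option maxHeartbeats 400000
set_option linter.style.haveILetI false

open CategoryTheory CategoryTheory.Limits Opposite AlgebraicGeometry

namespace Groth.Agent.Lib.lead.EtRecoll

variable {Z X : Scheme.{u}} (i : Z ⟶ X)

set_option backward.isDefEq.respectTransparency false in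
/-- `j^* i_* H = 0` when `j` lands in the complement of `i` (any `i`) -/
theorem isZero_restr_push' {W : Scheme.{u}} (j : W ⟶ X) [Etale j] [EtShriek.JCont j]
    (hj : Disjoint (Set.range j.base) (Set.range i.base)) (H : EtCoh.Ab Z) :
    IsZero ((EtShriek.restrAlong j).obj ((EtCoh.push i).obj H)) := by
  rw [IsZero.iff_id_eq_zero]
  apply Sheaf.hom_ext
  ext V s
  induction V using Opposite.rec with | _ V => ?_
  haveI : IsEmpty ((EtCoh.bc i).obj ((EtShriek.compEtale j).obj V)).left := by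
    refine ⟨fun w => ?_⟩
    have hcond : pullback.fst (V.hom ≫ j) i ≫ V.hom ≫ j = pullback.snd (V.hom ≫ j) i ≫ i :=
      pullback.condition
    let w' : ↥(pullback (V.hom ≫ j) i) := w
    have h1 : j (V.hom (pullback.fst (V.hom ≫ j) i w')) = i (pullback.snd (V.hom ≫ j) i w') := by
      have := congrArg (fun f => f w') hcond
      exact this
    exact Set.disjoint_left.mp hj ⟨_, rfl⟩ ⟨_, h1.symm⟩
  haveI : Subsingleton (H.obj.obj (op ((EtCoh.bc i).obj ((EtShriek.compEtale j).obj V)))) :=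
    EtClosed.subsingleton_sections_of_isEmpty H _
  exact Subsingleton.elim (α := H.obj.obj (op ((EtCoh.bc i).obj ((EtShriek.compEtale j).obj V)))) _ _

theorem isZero_pull_extZero' {W : Scheme.{u}} (j : W ⟶ X) [Etale j] [EtShriek.JCont j]
    (hj : Disjoint (Set.range j.base) (Set.range i.base)) (G : EtCoh.Ab W) :
    IsZero ((EtCoh.pull i).obj ((EtShriek.extZero j).obj G)) := by
  rw [IsZero.iff_id_eq_zero]
  apply ((EtCoh.pullPushAdj i).homEquiv _ _).injective
  apply ((EtShriek.extZeroAdj j).homEquiv _ _).injective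
  exact (isZero_restr_push' i j hj _).eq_of_tgt _ _

/-- the stalk of `j_! G` at a geometric point outside the image of `j` vanishes -/
theorem isZero_stalk_extZero' {W : Scheme.{u}} (j : W ⟶ X) [Etale j] [EtShriek.JCont j]
    (G : EtCoh.Ab W) {Ω : Type u} [Field Ω] [IsSepClosed Ω] (ξ : Spec (CommRingCat.of Ω) ⟶ X)
    (hξ : Disjoint (Set.range j.base) (Set.range ξ.base)) :
    IsZero ((EtCoh.stalk ξ).obj ((EtShriek.extZero j).obj G)) := by
  have h1 : IsZero ((EtCoh.pull ξ ⋙ EtCoh.stalk (𝟙 _)).obj ((EtShriek.extZero j).obj G)) :=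
    (EtCoh.stalk (𝟙 _)).map_isZero (isZero_pull_extZero' ξ j hξ G)
  have h2 := h1.of_iso ((EtLift.stalkPullIso ξ (𝟙 _)).app ((EtShriek.extZero j).obj G)).symm
  rwa [Category.id_comp] at h2

theorem main0652 {U X : Scheme.{u}} (j : U ⟶ X) [IsOpenImmersion j]
    [AlgebraicGeometry.Etale j] [EtShriek.JCont j] (F : EtCoh.Ab U) (G : EtCoh.Ab X)
    (hres : Nonempty ((EtShriek.restrAlong j).obj G ≅ F))
    (hzero : ∀ (Ω : Type u) [Field Ω] [IsSepClosed Ω] (ξ : Spec (CommRingCat.of Ω) ⟶ X),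
      Set.range ξ.base ⊆ (Set.range j.base)ᶜ → IsZero ((EtCoh.stalk ξ).obj G)) :
    Nonempty (G ≅ (EtShriek.extZero j).obj F) := by
  obtain ⟨e⟩ := hres
  have dich : ∀ (Ω : Type u) [Field Ω] [IsSepClosed Ω] (ξ : Spec (CommRingCat.of Ω) ⟶ X),
      (Set.range ξ.base ⊆ (Set.range j.base)ᶜ) ∨
        ∃ ξ' : Spec (CommRingCat.of Ω) ⟶ U, ξ' ≫ j = ξ := by
    intro Ω _ _ ξ
    by_cases hd : Set.range ξ.base ⊆ Set.range j.base
    · right
      exact ⟨IsOpenImmersion.lift j ξ hd, IsOpenImmersion.lift_fac _ _ _⟩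
    · left
      rw [Set.not_subset] at hd
      obtain ⟨_, ⟨a, rfl⟩, ha⟩ := hd
      rintro _ ⟨b, rfl⟩
      have : b = a := Subsingleton.elim (α := PrimeSpectrum Ω) _ _
      rw [this]
      exact ha
  have key : ∀ (Ω : Type u) [Field Ω] [IsSepClosed Ω] (ξ : Spec (CommRingCat.of Ω) ⟶ X),
      Function.Bijective ((EtCoh.stalk ξ).map ((EtShriek.extZeroAdj j).counit.app G)) := by
    intro Ω _ _ ξ
    rcases dich Ω ξ with hout | ⟨ξ', rfl⟩
    · have hd : Disjoint (Set.range j.base) (Set.range ξ.base) := by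
        rw [Set.disjoint_right]
        exact fun x hx => hout hx
      have h1 : Subsingleton ↑((EtCoh.stalk ξ).obj
          ((EtShriek.restrAlong j ⋙ EtShriek.extZero j).obj G)) :=
        AddCommGrpCat.subsingleton_of_isZero (isZero_stalk_extZero' j _ ξ hd)
      have h2 : Subsingleton ↑((EtCoh.stalk ξ).obj ((𝟭 (EtCoh.Ab X)).obj G)) :=
        AddCommGrpCat.subsingleton_of_isZero (hzero Ω ξ hout)
      exact ⟨fun a b _ => @Subsingleton.elim _ h1 _ _,
        fun b => ⟨0, @Subsingleton.elim _ h2 _ _⟩⟩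
    · haveI := isIso_stalk_counit j G ξ'
      exact ConcreteCategory.bijective_of_isIso _
  haveI hmono : Mono ((EtShriek.extZeroAdj j).counit.app G) :=
    (EtCons.mono_iff_stalks _).mpr (fun Ω _ _ ξ => (key Ω ξ).1)
  haveI hepi : Epi ((EtShriek.extZeroAdj j).counit.app G) :=
    (EtCons.epi_iff_stalks _).mpr (fun Ω _ _ ξ => (key Ω ξ).2)
  haveI : IsIso ((EtShriek.extZeroAdj j).counit.app G) := isIso_of_mono_of_epi _
  exact ⟨(asIso ((EtShriek.extZeroAdj j).counit.app G)).symm ≪≫ (EtShriek.extZero j).mapIso e⟩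

end Groth.Agent.Lib.lead.EtRecoll
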