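import Mathlib
import Groth.Agent.Lib.lead.EtaleDescent

set_option autoImplicit false
universe u
set_option maxHeartbeats 400000

namespace Groth.Agent.Lib.lead.EtaleDescent
open TensorProduct

theorem exists_etale_model_of_directed {ι : Type u} [Preorder ι] [IsDirected ι (· ≤ ·)] [Nonempty ι]
    (G : ι → Type u) [∀ i, CommRing (G i)] (f : ∀ i j, i ≤ j → (G i →+* G j))
    (A : Type u) [CommRing A] (g : ∀ i, G i →+* A) (hg : ∀ i j (h : i ≤ j), (g j).comp (f i j h) = g i)
    (hsurj : ∀ a : A, ∃ i, ∃ x : G i, g i x = a)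
    (B : Type u) [CommRing B] [Algebra A B] [Algebra.Etale A B] :
    ∃ (i : ι) (Bi : Type u) (_ : CommRing Bi) (_ : Algebra (G i) Bi), Algebra.Etale (G i) Bi ∧
      letI : Algebra (G i) A := (g i).toAlgebra
      Nonempty (B ≃ₐ[A] A ⊗[G i] Bi) := by
  classical
  obtain ⟨κ, σ, _, _, P, hP⟩ :=
    (Algebra.Etale.iff_isStandardSmoothOfRelativeDimension_zero.mp
      (inferInstance : Algebra.Etale A B)).out
  have hfin : P.coeffs.Finite := P.finite_coeffs
  -- a common index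
  have hstage : ∃ i, ∀ a ∈ P.coeffs, a ∈ Set.range (g i) := by
    choose idx x hx using hsurj
    obtain ⟨i, hi⟩ := Finset.exists_le (hfin.toFinset.image idx)
    refine ⟨i, fun a ha => ?_⟩
    have h1 : idx a ≤ i := hi _ (Finset.mem_image.mpr ⟨a, hfin.mem_toFinset.mpr ha, rfl⟩)
    refine ⟨f _ _ h1 (x a), ?_⟩
    rw [← RingHom.comp_apply, hg, hx]
  obtain ⟨i, hi⟩ := hstage
  letI : Algebra (G i) A := (g i).toAlgebra
  letI : Algebra (G i) B := ((algebraMap A B).comp (g i)).toAlgebra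
  haveI : IsScalarTower (G i) A B := IsScalarTower.of_algebraMap_eq (fun _ => rfl)
  haveI : P.HasCoeffs (G i) := ⟨fun a ha => hi a ha⟩
  obtain ⟨Q₀, _, _, hQ, ⟨e⟩⟩ := exists_etale_model_of_hasCoeffs (R₀ := G i) P hP
  exact ⟨i, Q₀, inferInstance, inferInstance, hQ, ⟨e.symm⟩⟩

end Groth.Agent.Lib.lead.EtaleDescent
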