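import Mathlib
import Groth.Prelude.Def_Hens2
import Groth.Agent.Lib.lead.Hensel

/-!
# Pair henselizations commute with filtered colimits
-/

universe u

set_option maxHeartbeats 400000

open Polynomial

namespace Groth.Agent.Lib.lead.PairColim

open Groth.Agent.Lib.lead.Hensel

section ring

variable {ι : Type u} [Preorder ι] [IsDirectedOrder ι] [Nonempty ι]
  (B : ι → Type u) [∀ i, CommRing (B i)]
  (g : ∀ i j : ι, i ≤ j → (B i →+* B j)) [DirectedSystem B (fun i j h => g i j h)]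

local notation "ofB" => DirectLimit.Ring.of B g

theorem of_eq_of_iff (i j : ι) (x : B i) (y : B j) :
    ofB i x = ofB j y ↔ ∃ k, ∃ (hik : i ≤ k) (hjk : j ≤ k), g i k hik x = g j k hjk y := by
  change (⟦⟨i, x⟩⟧ : DirectLimit B g) = ⟦⟨j, y⟩⟧ ↔ _
  rw [Quotient.eq]
  rfl

theorem exists_stage_eq (k : ι) (x y : B k) (h : ofB k x = ofB k y) :
    ∃ m, ∃ hkm : k ≤ m, g k m hkm x = g k m hkm y := by
  obtain ⟨m, h1, _, e⟩ := (of_eq_of_iff B g k k x y).mp h
  exact ⟨m, h1, e⟩

theorem exists_stage_eq₂ (k : ι) (x₁ y₁ x₂ y₂ : B k) (h₁ : ofB k x₁ = ofB k y₁)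
    (h₂ : ofB k x₂ = ofB k y₂) :
    ∃ m, ∃ hkm : k ≤ m, g k m hkm x₁ = g k m hkm y₁ ∧ g k m hkm x₂ = g k m hkm y₂ := by
  obtain ⟨m₁, hk1, e1⟩ := exists_stage_eq B g k x₁ y₁ h₁
  obtain ⟨m₂, hk2, e2⟩ := exists_stage_eq B g k x₂ y₂ h₂
  obtain ⟨m, h1m, h2m⟩ := exists_ge_ge m₁ m₂
  refine ⟨m, hk1.trans h1m, ?_, ?_⟩
  · rw [← DirectedSystem.map_map' (f := g) hk1 h1m, ← DirectedSystem.map_map' (f := g) hk1 h1m, e1]
  · have : hk1.trans h1m = hk2.trans h2m := rfl
    rw [← DirectedSystem.map_map' (f := g) hk2 h2m, ← DirectedSystem.map_map' (f := g) hk2 h2m, e2]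

theorem of_comp (i j : ι) (h : i ≤ j) : (ofB j).comp (g i j h) = ofB i := by
  ext x
  exact DirectLimit.Ring.of_f h x

theorem exists_of (z : DirectLimit B g) : ∃ i x, ofB i x = z := by
  obtain ⟨i, x, rfl⟩ := DirectLimit.exists_eq_mk _ z
  exact ⟨i, x, rfl⟩

theorem exists_of₂ (z w : DirectLimit B g) : ∃ i x y, ofB i x = z ∧ ofB i y = w := by
  obtain ⟨i, x, y, rfl, rfl⟩ := DirectLimit.exists_eq_mk₂ _ z w
  exact ⟨i, x, y, rfl, rfl⟩

theorem range_of_mono {i j : ι} (h : i ≤ j) : Set.range (ofB i) ⊆ Set.range (ofB j) := by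
  rintro _ ⟨x, rfl⟩
  exact ⟨g i j h x, DirectLimit.Ring.of_f h x⟩

theorem exists_lifts (p : (DirectLimit B g)[X]) : ∃ i, p ∈ Polynomial.lifts (ofB i) := by
  induction p using Polynomial.induction_on' with
  | add p q hp hq =>
    obtain ⟨i, hi⟩ := hp
    obtain ⟨j, hj⟩ := hq
    obtain ⟨k, hik, hjk⟩ := exists_ge_ge i j
    refine ⟨k, Subsemiring.add_mem _ ?_ ?_⟩
    · rw [Polynomial.lifts_iff_coeff_lifts] at hi ⊢
      exact fun n => range_of_mono B g hik (hi n)
    · rw [Polynomial.lifts_iff_coeff_lifts] at hj ⊢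
      exact fun n => range_of_mono B g hjk (hj n)
  | monomial n a =>
    obtain ⟨i, x, rfl⟩ := exists_of B g a
    exact ⟨i, Polynomial.monomial_mem_lifts n ⟨x, rfl⟩⟩

end ring

section main

variable {ι : Type u} [Preorder ι] [IsDirectedOrder ι] [Nonempty ι]
    (G : ι → Type u) [∀ i, CommRing (G i)] (f : ∀ i j : ι, i ≤ j → (G i →+* G j))
    [DirectedSystem G (fun i j h => f i j h)] (I : ∀ i, Ideal (G i))
    (hI : ∀ (i j : ι) (h : i ≤ j), (I i).map (f i j h) ≤ I j)
    (B : ι → Type u) [∀ i, CommRing (B i)] [∀ i, Algebra (G i) (B i)]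
    (g : ∀ i j : ι, i ≤ j → (B i →+* B j)) [DirectedSystem B (fun i j h => g i j h)]
    (hg : ∀ (i j : ι) (h : i ≤ j), (g i j h).comp (algebraMap (G i) (B i)) = (algebraMap (G j) (B j)).comp (f i j h))
    [Algebra (DirectLimit G f) (DirectLimit B g)]
    (halg : ∀ (i : ι) (x : G i), algebraMap (DirectLimit G f) (DirectLimit B g) (DirectLimit.Ring.of G f i x) =
      DirectLimit.Ring.of B g i (algebraMap (G i) (B i) x))

/-- the stage ideals -/
abbrev K (i : ι) : Ideal (B i) := (I i).map (algebraMap (G i) (B i))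

include hI hg in
theorem K_map_le (i j : ι) (h : i ≤ j) : (K G I B i).map (g i j h) ≤ K G I B j := by
  unfold K
  rw [Ideal.map_map, hg, ← Ideal.map_map]
  exact Ideal.map_mono (hI i j h)

/-- the ideal of elements coming from some stage ideal -/
def T (hI : ∀ (i j : ι) (h : i ≤ j), (I i).map (f i j h) ≤ I j)
    (hg : ∀ (i j : ι) (h : i ≤ j), (g i j h).comp (algebraMap (G i) (B i)) =
      (algebraMap (G j) (B j)).comp (f i j h)) : Ideal (DirectLimit B g) where
  carrier := {x | ∃ j, ∃ y ∈ K G I B j, DirectLimit.Ring.of B g j y = x}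
  add_mem' := by
    rintro _ _ ⟨j₁, y₁, hy₁, rfl⟩ ⟨j₂, y₂, hy₂, rfl⟩
    obtain ⟨k, h1, h2⟩ := exists_ge_ge j₁ j₂
    refine ⟨k, g j₁ k h1 y₁ + g j₂ k h2 y₂, Ideal.add_mem _ ?_ ?_, ?_⟩
    · exact K_map_le G f I hI B g hg j₁ k h1 (Ideal.mem_map_of_mem _ hy₁)
    · exact K_map_le G f I hI B g hg j₂ k h2 (Ideal.mem_map_of_mem _ hy₂)
    · rw [map_add, DirectLimit.Ring.of_f, DirectLimit.Ring.of_f]
  zero_mem' := ⟨Classical.arbitrary ι, 0, Ideal.zero_mem _, map_zero _⟩
  smul_mem' := by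
    rintro c _ ⟨j₁, y₁, hy₁, rfl⟩
    obtain ⟨j₂, c', rfl⟩ := exists_of B g c
    obtain ⟨k, h1, h2⟩ := exists_ge_ge j₁ j₂
    refine ⟨k, g j₂ k h2 c' * g j₁ k h1 y₁, Ideal.mul_mem_left _ _ ?_, ?_⟩
    · exact K_map_le G f I hI B g hg j₁ k h1 (Ideal.mem_map_of_mem _ hy₁)
    · rw [map_mul, DirectLimit.Ring.of_f, DirectLimit.Ring.of_f, smul_eq_mul]

include hI hg halg in
theorem mem_K_iff (x : DirectLimit B g) :
    x ∈ (⨆ i, (I i).map (DirectLimit.Ring.of G f i)).map
        (algebraMap (DirectLimit G f) (DirectLimit B g)) ↔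
      ∃ j, ∃ y ∈ K G I B j, DirectLimit.Ring.of B g j y = x := by
  constructor
  · intro hx
    have hle : (⨆ i, (I i).map (DirectLimit.Ring.of G f i)).map
        (algebraMap (DirectLimit G f) (DirectLimit B g)) ≤ T G f I B g hI hg := by
      rw [Ideal.map_le_iff_le_comap]
      refine iSup_le fun i => ?_
      rw [Ideal.map_le_iff_le_comap]
      intro a ha
      change algebraMap (DirectLimit G f) (DirectLimit B g) (DirectLimit.Ring.of G f i a) ∈
        T G f I B g hI hg
      rw [halg]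
      exact ⟨i, _, Ideal.mem_map_of_mem _ ha, rfl⟩
    exact hle hx
  · rintro ⟨j, y, hy, rfl⟩
    have h1 : DirectLimit.Ring.of B g j y ∈ (K G I B j).map (DirectLimit.Ring.of B g j) :=
      Ideal.mem_map_of_mem _ hy
    have h2 : (K G I B j).map (DirectLimit.Ring.of B g j) ≤
        (⨆ i, (I i).map (DirectLimit.Ring.of G f i)).map
          (algebraMap (DirectLimit G f) (DirectLimit B g)) := by
      unfold K
      rw [Ideal.map_map]
      have e : (DirectLimit.Ring.of B g j).comp (algebraMap (G j) (B j)) =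
          (algebraMap (DirectLimit G f) (DirectLimit B g)).comp (DirectLimit.Ring.of G f j) := by
        ext a
        exact (halg j a).symm
      rw [e, ← Ideal.map_map]
      exact Ideal.map_mono (le_iSup (fun i => (I i).map (DirectLimit.Ring.of G f i)) j)
    exact h2 h1

include hI hg halg in
theorem henselian_colim (hB1 : ∀ i, HenselianRing (B i) (K G I B i)) :
    HenselianRing (DirectLimit B g) ((⨆ i, (I i).map (DirectLimit.Ring.of G f i)).map
        (algebraMap (DirectLimit G f) (DirectLimit B g))) := by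
  have hjac : (⨆ i, (I i).map (DirectLimit.Ring.of G f i)).map
        (algebraMap (DirectLimit G f) (DirectLimit B g)) ≤ Ideal.jacobson ⊥ := by
    intro x hx
    obtain ⟨j, x', hx', rfl⟩ := (mem_K_iff G f I hI B g hg halg x).mp hx
    rw [Ideal.mem_jacobson_bot]
    intro y
    obtain ⟨j₂, y', rfl⟩ := exists_of B g y
    obtain ⟨k, h1, h2⟩ := exists_ge_ge j j₂
    have hxk : g j k h1 x' ∈ K G I B k :=
      K_map_le G f I hI B g hg j k h1 (Ideal.mem_map_of_mem _ hx')
    have hu := (Ideal.mem_jacobson_bot.mp ((hB1 k).jac hxk)) (g j₂ k h2 y')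
    have := hu.map (DirectLimit.Ring.of B g k)
    rwa [map_add, map_mul, map_one, DirectLimit.Ring.of_f, DirectLimit.Ring.of_f] at this
  refine ⟨hjac, ?_⟩
  intro p hp a₀ h₁ h₂
  rcases subsingleton_or_nontrivial (DirectLimit B g) with hsub | hnt
  · exact ⟨a₀, Subsingleton.elim _ _, by rw [sub_self]; exact Ideal.zero_mem _⟩
  have hu : IsUnit (p.derivative.eval a₀) := isUnit_of_isUnit_mk _ hjac h₂
  obtain ⟨v, hv⟩ := hu.exists_right_inv
  obtain ⟨i₁, hp₁⟩ := exists_lifts B g p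
  obtain ⟨q₁, hq₁map, -, hq₁monic⟩ := Polynomial.lifts_and_degree_eq_and_monic hp₁ hp
  obtain ⟨i₂, a', v', rfl, rfl⟩ := exists_of₂ B g a₀ v
  obtain ⟨i₃, y, hy, hy'⟩ := (mem_K_iff G f I hI B g hg halg _).mp h₁
  obtain ⟨k₀, h10, h20⟩ := exists_ge_ge i₁ i₂
  obtain ⟨k, h0k, h3k⟩ := exists_ge_ge k₀ i₃
  have h1k := h10.trans h0k
  have h2k := h20.trans h0k
  have hq : (q₁.map (g i₁ k h1k)).map (DirectLimit.Ring.of B g k) = p := by
    rw [Polynomial.map_map, of_comp, hq₁map]
  have hqm : (q₁.map (g i₁ k h1k)).Monic := hq₁monic.map _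
  have hevalmap : ∀ (r : (B k)[X]) (b : B k),
      (r.map (DirectLimit.Ring.of B g k)).eval (DirectLimit.Ring.of B g k b) =
        DirectLimit.Ring.of B g k (r.eval b) := by
    intro r b
    rw [Polynomial.eval_map, Polynomial.eval₂_at_apply]
  have e1 : DirectLimit.Ring.of B g k ((q₁.map (g i₁ k h1k)).eval (g i₂ k h2k a')) =
      DirectLimit.Ring.of B g k (g i₃ k h3k y) := by
    rw [← hevalmap, hq, DirectLimit.Ring.of_f, DirectLimit.Ring.of_f, hy']
  have e2 : DirectLimit.Ring.of B g k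
      ((q₁.map (g i₁ k h1k)).derivative.eval (g i₂ k h2k a') * g i₂ k h2k v') =
      DirectLimit.Ring.of B g k 1 := by
    rw [map_mul, ← hevalmap, ← Polynomial.derivative_map, hq, DirectLimit.Ring.of_f,
      DirectLimit.Ring.of_f, hv, map_one]
  obtain ⟨m, hkm, e1', e2'⟩ := exists_stage_eq₂ B g k _ _ _ _ e1 e2
  -- the data at stage m
  have hevalg : ∀ (r : (B k)[X]) (b : B k),
      (r.map (g k m hkm)).eval (g k m hkm b) = g k m hkm (r.eval b) := by
    intro r b
    rw [Polynomial.eval_map, Polynomial.eval₂_at_apply]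
  have hK : ((q₁.map (g i₁ k h1k)).map (g k m hkm)).eval (g k m hkm (g i₂ k h2k a')) ∈
      K G I B m := by
    rw [hevalg, e1']
    exact K_map_le G f I hI B g hg _ _ hkm
      (Ideal.mem_map_of_mem _ (K_map_le G f I hI B g hg _ _ h3k (Ideal.mem_map_of_mem _ hy)))
  have hU : IsUnit (((q₁.map (g i₁ k h1k)).map (g k m hkm)).derivative.eval
      (g k m hkm (g i₂ k h2k a'))) := by
    rw [Polynomial.derivative_map, hevalg]
    rw [map_mul, map_one] at e2'
    exact IsUnit.of_mul_eq_one _ e2'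
  obtain ⟨a, ha, haK⟩ := (hB1 m).is_henselian _ (hqm.map _) _ hK (hU.map _)
  refine ⟨DirectLimit.Ring.of B g m a, ?_, ?_⟩
  · have hpm : ((q₁.map (g i₁ k h1k)).map (g k m hkm)).map (DirectLimit.Ring.of B g m) = p := by
      rw [Polynomial.map_map, of_comp, hq]
    rw [Polynomial.IsRoot.def, ← hpm, Polynomial.eval_map, Polynomial.eval₂_at_apply, ha.eq_zero,
      map_zero]
  · rw [mem_K_iff G f I hI B g hg halg]
    refine ⟨m, _, haK, ?_⟩
    rw [map_sub, DirectLimit.Ring.of_f, DirectLimit.Ring.of_f]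

include hI hg halg in
theorem isPairHenselization_colim (hB : ∀ i, Hens2.IsPairHenselization (G i) (I i) (B i)) :
    Hens2.IsPairHenselization (DirectLimit G f) (⨆ i, (I i).map (DirectLimit.Ring.of G f i))
      (DirectLimit B g) := by
  refine ⟨henselian_colim G f I hI B g hg halg (fun i => (hB i).1), ?_⟩
  intro C _ J φ hJ hφ
  -- the stage maps
  have hle : ∀ i, (I i).map (φ.comp (DirectLimit.Ring.of G f i)) ≤ J := by
    intro i
    rw [← Ideal.map_map]
    exact le_trans (Ideal.map_mono (le_iSup (fun i => (I i).map (DirectLimit.Ring.of G f i)) i)) hφ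
  choose ψ hψ hψu using fun i => (hB i).2 C J (φ.comp (DirectLimit.Ring.of G f i)) hJ (hle i)
  have hcompat : ∀ i j (hij : i ≤ j) (x : B i), ψ j (g i j hij x) = ψ i x := by
    intro i j hij x
    have : (ψ j).comp (g i j hij) = ψ i := by
      apply hψu i
      rw [RingHom.comp_assoc, hg, ← RingHom.comp_assoc, hψ j, RingHom.comp_assoc]
      congr 1
      ext a
      exact DirectLimit.Ring.of_f hij a
    exact congrArg (fun t => t x) this
  refine ⟨DirectLimit.Ring.lift B g C ψ hcompat, ?_, ?_⟩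
  · apply DirectLimit.Ring.hom_ext
    intro i
    ext a
    change DirectLimit.Ring.lift B g C ψ hcompat
      (algebraMap (DirectLimit G f) (DirectLimit B g) (DirectLimit.Ring.of G f i a)) =
        φ (DirectLimit.Ring.of G f i a)
    rw [halg, DirectLimit.Ring.lift_of]
    exact congrArg (fun t => t a) (hψ i)
  · intro ψ' hψ'
    apply DirectLimit.Ring.hom_ext
    intro i
    rw [DirectLimit.Ring.lift_comp_of]
    apply hψu i
    rw [← hψ']
    ext a
    change ψ' (DirectLimit.Ring.of B g i (algebraMap (G i) (B i) a)) =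
      ψ' (algebraMap (DirectLimit G f) (DirectLimit B g) (DirectLimit.Ring.of G f i a))
    rw [halg]

end main

end Groth.Agent.Lib.lead.PairColim
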