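import Mathlib
import Groth.Agent.Lib.lead.PairColim

/-!
# Maps from finitely presented algebras into a directed colimit of algebras
-/

universe u

set_option maxHeartbeats 400000
set_option linter.unusedSectionVars false

namespace Groth.Agent.Lib.lead.FPColim

open Groth.Agent.Lib.lead.PairColim

variable {ι : Type u} [Preorder ι] [IsDirectedOrder ι] [Nonempty ι]
    (A : Type u) [CommRing A]
    (B : ι → Type u) [∀ i, CommRing (B i)] [∀ i, Algebra A (B i)]
    (g : ∀ i j : ι, i ≤ j → (B i →+* B j)) [DirectedSystem B (fun i j h => g i j h)]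
    (hg : ∀ (i j : ι) (h : i ≤ j), (g i j h).comp (algebraMap A (B i)) = algebraMap A (B j))
    [Algebra A (DirectLimit B g)]
    (halg : ∀ (i : ι) (x : A), algebraMap A (DirectLimit B g) x =
      DirectLimit.Ring.of B g i (algebraMap A (B i) x))

/-- transition maps as algebra homs -/
def gA (hg : ∀ (i j : ι) (h : i ≤ j), (g i j h).comp (algebraMap A (B i)) = algebraMap A (B j))
    (i j : ι) (h : i ≤ j) : B i →ₐ[A] B j :=
  { g i j h with commutes' := fun r => RingHom.congr_fun (hg i j h) r }

/-- structure maps as algebra homs -/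
noncomputable def ofA (halg : ∀ (i : ι) (x : A), algebraMap A (DirectLimit B g) x =
      DirectLimit.Ring.of B g i (algebraMap A (B i) x)) (i : ι) : B i →ₐ[A] DirectLimit B g :=
  { DirectLimit.Ring.of B g i with commutes' := fun r => (halg i r).symm }

@[simp] theorem gA_apply (i j : ι) (h : i ≤ j) (x : B i) : gA A B g hg i j h x = g i j h x := rfl

@[simp] theorem ofA_apply (i : ι) (x : B i) :
    ofA A B g halg i x = DirectLimit.Ring.of B g i x := rfl

/-- finitely many elements of the colimit come from a common stage -/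
theorem exists_stage_fin {n : ℕ} (z : Fin n → DirectLimit B g) :
    ∃ a, ∃ y : Fin n → B a, ∀ i, DirectLimit.Ring.of B g a (y i) = z i := by
  have h : ∀ i, ∃ a, ∃ y : B a, DirectLimit.Ring.of B g a y = z i := fun i => exists_of B g (z i)
  choose a y hy using h
  obtain ⟨M, hM⟩ := Finite.exists_le a
  refine ⟨M, fun i => g (a i) M (hM i) (y i), fun i => ?_⟩
  rw [DirectLimit.Ring.of_f, hy]

/-- finitely many elements vanishing in the colimit vanish at a common later stage -/
theorem exists_stage_zero (a : ι) (s : Finset (B a))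
    (hs : ∀ x ∈ s, DirectLimit.Ring.of B g a x = 0) :
    ∃ b, ∃ h : a ≤ b, ∀ x ∈ s, g a b h x = 0 := by
  classical
  induction s using Finset.induction_on with
  | empty => exact ⟨a, le_rfl, fun x hx => absurd hx (Finset.notMem_empty x)⟩
  | insert x s hx ih =>
    obtain ⟨b, hab, hb⟩ := ih (fun y hy => hs y (Finset.mem_insert_of_mem hy))
    have h0 : DirectLimit.Ring.of B g a x = DirectLimit.Ring.of B g a 0 := by
      rw [hs x (Finset.mem_insert_self x s), map_zero]
    obtain ⟨c, hac, hc⟩ := exists_stage_eq B g a x 0 h0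
    obtain ⟨d, hbd, hcd⟩ := exists_ge_ge b c
    refine ⟨d, hab.trans hbd, fun y hy => ?_⟩
    rcases Finset.mem_insert.mp hy with rfl | hy
    · have : g a d (hac.trans hcd) y = g c d hcd (g a c hac y) :=
        (DirectedSystem.map_map' (f := g) hac hcd y).symm
      rw [show hab.trans hbd = hac.trans hcd from rfl, this, hc, map_zero, map_zero]
    · have : g a d (hab.trans hbd) y = g b d hbd (g a b hab y) :=
        (DirectedSystem.map_map' (f := g) hab hbd y).symm
      rw [this, hb y hy, map_zero]

include hg halg in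
/-- a map from a finitely presented algebra to the colimit factors through a stage -/
theorem exists_factor (R₀ : Type u) [CommRing R₀] [Algebra A R₀] [Algebra.FinitePresentation A R₀]
    (χ : R₀ →ₐ[A] DirectLimit B g) :
    ∃ (a : ι) (φ : R₀ →ₐ[A] B a), ∀ x, DirectLimit.Ring.of B g a (φ x) = χ x := by
  classical
  obtain ⟨n, f, hfs, s, hs⟩ := Algebra.FinitePresentation.out (R := A) (A := R₀)
  obtain ⟨a, y, hy⟩ := exists_stage_fin B g (fun i => χ (f (MvPolynomial.X i)))
  let θ : MvPolynomial (Fin n) A →ₐ[A] B a := MvPolynomial.aeval y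
  have hθ : (ofA A B g halg a).comp θ = χ.comp f := by
    apply MvPolynomial.algHom_ext
    intro i
    simp only [AlgHom.comp_apply, θ, MvPolynomial.aeval_X, ofA_apply]
    exact hy i
  have hzero : ∀ x ∈ s.image θ, DirectLimit.Ring.of B g a x = 0 := by
    intro x hx
    obtain ⟨r, hr, rfl⟩ := Finset.mem_image.mp hx
    have h1 : (ofA A B g halg a).comp θ r = χ.comp f r := by rw [hθ]
    have h2 : f r = 0 := by
      have : r ∈ RingHom.ker f.toRingHom := by rw [← hs]; exact Ideal.subset_span hr
      exact this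
    simpa [h2] using h1
  obtain ⟨b, hab, hb⟩ := exists_stage_zero B g a (s.image θ) hzero
  let θ' : MvPolynomial (Fin n) A →ₐ[A] B b := (gA A B g hg a b hab).comp θ
  have hker : RingHom.ker f.toRingHom ≤ RingHom.ker θ'.toRingHom := by
    rw [← hs, Ideal.span_le]
    intro r hr
    change θ' r = 0
    exact hb (θ r) (Finset.mem_image_of_mem θ hr)
  refine ⟨b, AlgHom.liftOfSurjective f hfs θ' hker, fun x => ?_⟩
  obtain ⟨r, rfl⟩ := hfs x
  rw [AlgHom.liftOfSurjective_apply]
  change DirectLimit.Ring.of B g b (g a b hab (θ r)) = χ (f r)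
  rw [DirectLimit.Ring.of_f]
  exact AlgHom.congr_fun hθ r

include hg in
/-- two maps from a finitely generated algebra agreeing in the colimit agree at a later stage -/
theorem exists_eq (R₀ : Type u) [CommRing R₀] [Algebra A R₀] [Algebra.FiniteType A R₀] (a : ι)
    (φ ψ : R₀ →ₐ[A] B a)
    (h : ∀ x, DirectLimit.Ring.of B g a (φ x) = DirectLimit.Ring.of B g a (ψ x)) :
    ∃ b, ∃ hab : a ≤ b, ∀ x, g a b hab (φ x) = g a b hab (ψ x) := by
  classical
  obtain ⟨n, f, hfs⟩ := Algebra.FiniteType.iff_quotient_mvPolynomial''.mp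
    (inferInstance : Algebra.FiniteType A R₀)
  let s : Finset (B a) := Finset.univ.image
    (fun i : Fin n => φ (f (MvPolynomial.X i)) - ψ (f (MvPolynomial.X i)))
  have hs : ∀ x ∈ s, DirectLimit.Ring.of B g a x = 0 := by
    intro x hx
    obtain ⟨i, -, rfl⟩ := Finset.mem_image.mp hx
    rw [map_sub, h, sub_self]
  obtain ⟨b, hab, hb⟩ := exists_stage_zero B g a s hs
  refine ⟨b, hab, fun x => ?_⟩
  obtain ⟨r, rfl⟩ := hfs x
  have key : ((gA A B g hg a b hab).comp φ).comp f = ((gA A B g hg a b hab).comp ψ).comp f := by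
    apply MvPolynomial.algHom_ext
    intro i
    have := hb _ (Finset.mem_image_of_mem
      (fun i : Fin n => φ (f (MvPolynomial.X i)) - ψ (f (MvPolynomial.X i))) (Finset.mem_univ i))
    rw [map_sub, sub_eq_zero] at this
    exact this
  exact AlgHom.congr_fun key r

end Groth.Agent.Lib.lead.FPColim
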