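import Mathlib

/-!
# Graphs of morphisms into étale schemes
-/

universe u

set_option maxHeartbeats 400000
set_option linter.style.haveILetI false

open CategoryTheory CategoryTheory.Limits Opposite AlgebraicGeometry

namespace Groth.Agent.Lib.lead.Graph

/-- surjective open immersions are isomorphisms -/
theorem isIso_of_openImmersion_surjective {X Y : Scheme.{u}} (f : X ⟶ Y) [IsOpenImmersion f]
    [Surjective f] : IsIso f := by
  apply isIso_of_isOpenImmersion_of_opensRange_eq_top
  ext y
  simp only [Scheme.Hom.coe_opensRange, Set.mem_range, TopologicalSpace.Opens.coe_top,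
    Set.mem_univ, iff_true]
  exact f.surjective y

/-- étale, universally injective and surjective morphisms are isomorphisms -/
theorem isIso_of_etale_radicial_surjective {X Y : Scheme.{u}} (f : X ⟶ Y) [Etale f]
    [UniversallyInjective f] [Surjective f] : IsIso f := by
  haveI : Surjective (pullback.diagonal f) := (UniversallyInjective.iff_diagonal f).mp inferInstance
  haveI : IsOpenImmersion (pullback.diagonal f) := inferInstance
  haveI : IsIso (pullback.diagonal f) := isIso_of_openImmersion_surjective _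
  haveI : Mono f := (pullback.isIso_diagonal_iff f).mp inferInstance
  haveI : IsOpenImmersion f := IsOpenImmersion.of_flat_of_mono f
  exact isIso_of_openImmersion_surjective f

theorem main5128 {S X Y : Scheme.{u}} (p : X ⟶ S) (q : Y ⟶ S) [Etale q] :
    (∀ f : {f : X ⟶ Y // f ≫ q = p},
      IsOpenImmersion (pullback.lift (𝟙 X) f.1 ((Category.id_comp p).trans f.2.symm) :
        X ⟶ pullback p q)) ∧
    ∀ Γ : (pullback p q).Opens, UniversallyInjective (Γ.ι ≫ pullback.fst p q) →
      Surjective (Γ.ι ≫ pullback.fst p q) →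
      ∃! f : {f : X ⟶ Y // f ≫ q = p},
        Set.range (pullback.lift (𝟙 X) f.1 ((Category.id_comp p).trans f.2.symm) :
          X ⟶ pullback p q).base = (Γ : Set ↥(pullback p q)) := by
  have part1 : ∀ f : {f : X ⟶ Y // f ≫ q = p},
      IsOpenImmersion (pullback.lift (𝟙 X) f.1 ((Category.id_comp p).trans f.2.symm) :
        X ⟶ pullback p q) := by
    intro f
    have hfac : (pullback.lift (𝟙 X) f.1 ((Category.id_comp p).trans f.2.symm) :
        X ⟶ pullback p q) ≫ pullback.fst p q = 𝟙 X := pullback.lift_fst _ _ _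
    haveI : Etale ((pullback.lift (𝟙 X) f.1 ((Category.id_comp p).trans f.2.symm) :
        X ⟶ pullback p q) ≫ pullback.fst p q) := by rw [hfac]; infer_instance
    haveI : Etale (pullback.lift (𝟙 X) f.1 ((Category.id_comp p).trans f.2.symm) :
        X ⟶ pullback p q) := Etale.of_comp _ (pullback.fst p q)
    haveI : Mono (pullback.lift (𝟙 X) f.1 ((Category.id_comp p).trans f.2.symm) :
        X ⟶ pullback p q) := mono_of_mono_fac hfac
    exact IsOpenImmersion.of_flat_of_mono _
  refine ⟨part1, fun Γ hinj hsurj => ?_⟩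
  haveI := hinj
  haveI := hsurj
  haveI : IsIso (Γ.ι ≫ pullback.fst p q) := isIso_of_etale_radicial_surjective _
  have hf0 : (inv (Γ.ι ≫ pullback.fst p q) ≫ Γ.ι ≫ pullback.snd p q) ≫ q = p := by
    rw [Category.assoc, Category.assoc, ← pullback.condition, ← Category.assoc Γ.ι,
      IsIso.inv_hom_id_assoc]
  have hgraph : (pullback.lift (𝟙 X) (inv (Γ.ι ≫ pullback.fst p q) ≫ Γ.ι ≫ pullback.snd p q)
      ((Category.id_comp p).trans hf0.symm) : X ⟶ pullback p q) =
      inv (Γ.ι ≫ pullback.fst p q) ≫ Γ.ι := by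
    apply pullback.hom_ext
    · rw [pullback.lift_fst, Category.assoc, IsIso.inv_hom_id]
    · rw [pullback.lift_snd, Category.assoc]
  refine ⟨⟨_, hf0⟩, ?_, ?_⟩
  · show Set.range (pullback.lift (𝟙 X) (inv (Γ.ι ≫ pullback.fst p q) ≫ Γ.ι ≫ pullback.snd p q)
      ((Category.id_comp p).trans hf0.symm) : X ⟶ pullback p q).base = _
    rw [hgraph, Scheme.Hom.comp_base, TopCat.coe_comp, Set.range_comp,
      Set.range_eq_univ.mpr (inv (Γ.ι ≫ pullback.fst p q)).surjective, Set.image_univ]
    exact Γ.range_ι
  · rintro ⟨f', hf'⟩ hrange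
    haveI := part1 ⟨f', hf'⟩
    have hsub : Set.range (pullback.lift (𝟙 X) f' ((Category.id_comp p).trans hf'.symm) :
        X ⟶ pullback p q).base ⊆ Set.range Γ.ι.base := by
      rw [hrange, Γ.range_ι]
    have hl := IsOpenImmersion.lift_fac Γ.ι
      (pullback.lift (𝟙 X) f' ((Category.id_comp p).trans hf'.symm) : X ⟶ pullback p q) hsub
    have h1 : IsOpenImmersion.lift Γ.ι
        (pullback.lift (𝟙 X) f' ((Category.id_comp p).trans hf'.symm) : X ⟶ pullback p q) hsub ≫
        (Γ.ι ≫ pullback.fst p q) = 𝟙 X := by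
      rw [← Category.assoc, hl, pullback.lift_fst]
    have h2 : IsOpenImmersion.lift Γ.ι
        (pullback.lift (𝟙 X) f' ((Category.id_comp p).trans hf'.symm) : X ⟶ pullback p q) hsub =
        inv (Γ.ι ≫ pullback.fst p q) := by
      rw [← cancel_mono (Γ.ι ≫ pullback.fst p q), h1, IsIso.inv_hom_id]
    apply Subtype.ext
    show f' = inv (Γ.ι ≫ pullback.fst p q) ≫ Γ.ι ≫ pullback.snd p q
    rw [← h2, ← Category.assoc, hl, pullback.lift_snd]

end Groth.Agent.Lib.lead.Graph
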