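import Groth.Agent.Lib.lead.Hensel

/-! Henselian pairs and products (lead). -/

namespace Groth.Agent.Lib.lead.Hensel

open Polynomial

universe u v

variable {J : Type u} (A : J → Type v) [∀ j, CommRing (A j)] (I : ∀ j, Ideal (A j))

theorem mem_piIdeal_iff (x : ∀ j, A j) :
    x ∈ (⨅ j, Ideal.comap (Pi.evalRingHom A j) (I j)) ↔ ∀ k, x k ∈ I k := by
  simp

theorem eval_pi_apply (F : (∀ j, A j)[X]) (a : ∀ j, A j) (k : J) :
    (F.eval a) k = (F.map (Pi.evalRingHom A k)).eval (a k) := by
  have : (F.map (Pi.evalRingHom A k)).eval (Pi.evalRingHom A k a) = Pi.evalRingHom A k (F.eval a) := by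
    rw [eval_map, eval₂_at_apply]
  simpa using this.symm

theorem henselian_pi (h : ∀ j, HenselianRing (A j) (I j)) :
    HenselianRing (∀ j, A j) (⨅ j, Ideal.comap (Pi.evalRingHom A j) (I j)) := by
  have hjac : (⨅ j, Ideal.comap (Pi.evalRingHom A j) (I j)) ≤ Ideal.jacobson ⊥ := by
    intro x hx
    rw [mem_piIdeal_iff] at hx
    rw [Ideal.mem_jacobson_bot]
    intro y
    rw [Pi.isUnit_iff]
    intro k
    exact (Ideal.mem_jacobson_bot.mp ((h k).jac (hx k))) (y k)
  refine ⟨hjac, ?_⟩
  intro F hF a₀ h₁ h₂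
  have hu : IsUnit (F.derivative.eval a₀) := isUnit_of_isUnit_mk _ hjac h₂
  rw [mem_piIdeal_iff] at h₁
  rw [Pi.isUnit_iff] at hu
  have key : ∀ k, ∃ a : A k, (F.map (Pi.evalRingHom A k)).IsRoot a ∧ a - a₀ k ∈ I k := by
    intro k
    refine (h k).is_henselian _ (hF.map _) (a₀ k) ?_ ?_
    · rw [← eval_pi_apply]; exact h₁ k
    · rw [derivative_map, ← eval_pi_apply]; exact (hu k).map _
  choose a ha1 ha2 using key
  refine ⟨a, ?_, ?_⟩
  · rw [IsRoot]
    funext k
    rw [eval_pi_apply]
    exact ha1 k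
  · rw [mem_piIdeal_iff]
    intro k
    exact ha2 k

theorem henselian_of_pi
    (h : HenselianRing (∀ j, A j) (⨅ j, Ideal.comap (Pi.evalRingHom A j) (I j))) (j : J) :
    HenselianRing (A j) (I j) := by
  classical
  have hjac : I j ≤ Ideal.jacobson ⊥ := by
    intro x hx
    have hmem : Pi.single j x ∈ (⨅ j, Ideal.comap (Pi.evalRingHom A j) (I j)) := by
      rw [mem_piIdeal_iff]; intro k
      by_cases hk : k = j
      · subst hk; simpa using hx
      · rw [Pi.single_eq_of_ne hk]; exact Ideal.zero_mem _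
    have := map_mem_jacobson_of_surjective (Pi.evalRingHom A j)
      (fun y => ⟨Pi.single j y, by simp⟩) (h.jac hmem)
    simpa using this
  refine ⟨hjac, ?_⟩
  intro f hf a₀ h₁ h₂
  have hu : IsUnit (f.derivative.eval a₀) := isUnit_of_isUnit_mk _ hjac h₂
  rcases subsingleton_or_nontrivial (A j) with hs | hn
  · exact ⟨0, Subsingleton.elim _ _, by rw [Subsingleton.elim (0 - a₀) 0]; exact Ideal.zero_mem _⟩
  by_cases hdeg : f.natDegree = 0
  · exfalso
    have hf1 : f = 1 := by rw [← hf.natDegree_eq_zero]; exact hdeg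
    subst hf1
    simp only [eval_one] at h₁
    have h1 : (1 : A j) ∈ Ideal.jacobson (⊥ : Ideal (A j)) := hjac h₁
    have h0 := (Ideal.mem_jacobson_bot.mp h1) (-1)
    have : IsUnit (0 : A j) := by simpa using h0
    exact not_isUnit_zero this
  set d := f.natDegree with hd
  have hdpos : 0 < d := Nat.pos_of_ne_zero hdeg
  let G : ∀ k, (A k)[X] := fun k => X ^ d - X ^ (d - 1)
  let P : ∀ k, (A k)[X] := Function.update G j f
  have hPj : P j = f := Function.update_self ..
  have hPk : ∀ k, k ≠ j → P k = X ^ d - X ^ (d - 1) := fun k hk => Function.update_of_ne hk ..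
  have hGdeg : ∀ k, (X ^ d - X ^ (d - 1) : (A k)[X]).natDegree ≤ d := by
    intro k
    refine (natDegree_sub_le _ _).trans ?_
    rw [max_le_iff]
    exact ⟨natDegree_X_pow_le _, (natDegree_X_pow_le _).trans (Nat.sub_le _ _)⟩
  have hPdeg : ∀ k, (P k).natDegree ≤ d := by
    intro k
    by_cases hk : k = j
    · subst hk; rw [hPj]
    · rw [hPk k hk]; exact hGdeg k
  have hPcoeff : ∀ k, (P k).coeff d = 1 := by
    intro k
    by_cases hk : k = j
    · subst hk; rw [hPj]; exact hf.coeff_natDegree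
    · rw [hPk k hk, coeff_sub, coeff_X_pow, coeff_X_pow]
      have : d ≠ d - 1 := by omega
      simp [this]
  let F : (∀ k, A k)[X] := ∑ n ∈ Finset.range (d + 1), monomial n (fun k => (P k).coeff n)
  have hFmap : ∀ k, F.map (Pi.evalRingHom A k) = P k := by
    intro k
    ext n
    simp only [F, Polynomial.map_sum, map_monomial, finsetSum_coeff, coeff_monomial,
      Pi.evalRingHom_apply]
    rw [Finset.sum_ite_eq' (Finset.range (d + 1)) n (fun m => (P k).coeff m)]
    split_ifs with hn'
    · rfl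
    · rw [Finset.mem_range, not_lt] at hn'
      exact (coeff_eq_zero_of_natDegree_lt (lt_of_le_of_lt (hPdeg k) hn')).symm
  have hFmonic : F.Monic := by
    apply monic_of_natDegree_le_of_coeff_eq_one d
    · apply natDegree_sum_le_of_forall_le
      intro n hn
      exact (natDegree_monomial_le _).trans (Nat.lt_succ_iff.mp (Finset.mem_range.mp hn))
    · simp only [F, finsetSum_coeff, coeff_monomial]
      rw [Finset.sum_ite_eq' (Finset.range (d + 1)) d (fun m => (fun k => (P k).coeff m))]
      simp only [Finset.mem_range, Nat.lt_succ_self, if_true]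
      funext k
      exact hPcoeff k
  let b₀ : ∀ k, A k := Function.update (fun _ => 1) j a₀
  have hb₀j : b₀ j = a₀ := Function.update_self ..
  have hb₀k : ∀ k, k ≠ j → b₀ k = 1 := fun k hk => Function.update_of_ne hk ..
  have hF1 : F.eval b₀ ∈ (⨅ j, Ideal.comap (Pi.evalRingHom A j) (I j)) := by
    rw [mem_piIdeal_iff]
    intro k
    rw [eval_pi_apply, hFmap]
    by_cases hk : k = j
    · subst hk; rw [hPj, hb₀j]; exact h₁
    · rw [hPk k hk, hb₀k k hk]; simp
  have hF2 : IsUnit (F.derivative.eval b₀) := by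
    rw [Pi.isUnit_iff]
    intro k
    rw [eval_pi_apply, ← derivative_map, hFmap]
    by_cases hk : k = j
    · subst hk; rw [hPj, hb₀j]; exact hu
    · rw [hPk k hk, hb₀k k hk]
      have : ((d : ℕ) : A k) - ((d - 1 : ℕ) : A k) = 1 := by
        rw [Nat.cast_sub hdpos]; simp
      rw [derivative_sub, derivative_X_pow, derivative_X_pow, eval_sub]
      simp only [eval_mul, eval_C, eval_pow, eval_X, one_pow, mul_one, eval_natCast]
      rw [this]; exact isUnit_one
  obtain ⟨a, ha, haI⟩ := h.is_henselian F hFmonic b₀ hF1 (hF2.map _)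
  refine ⟨a j, ?_, ?_⟩
  · have : (F.eval a) j = 0 := by rw [ha.eq_zero]; rfl
    rw [eval_pi_apply, hFmap, hPj] at this
    exact this
  · rw [mem_piIdeal_iff] at haI
    have := haI j
    simpa [hb₀j] using this

theorem henselian_pi_iff :
    HenselianRing (∀ j, A j) (⨅ j, Ideal.comap (Pi.evalRingHom A j) (I j)) ↔
      ∀ j, HenselianRing (A j) (I j) :=
  ⟨fun h j => henselian_of_pi A I h j, henselian_pi A I⟩

end Groth.Agent.Lib.lead.Hensel
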