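import Mathlib
import Groth.Agent.Lib.lead.Hzn7

/-!
# Henselization, part 9: formally étale
-/

universe u

set_option maxHeartbeats 400000

open IsLocalRing TensorProduct Polynomial

namespace Groth.Agent.Lib.lead.Hzn

variable {R : Type u} [CommRing R] [IsLocalRing R]

/-- the canonical maps as algebra maps -/
noncomputable def ofIdxₐ (i : Idx R) : i.Ring →ₐ[R] Hzn R :=
  { ofIdx i with commutes' := ofIdx_algebraMap i }

theorem ofIdxₐ_apply (i : Idx R) (x : i.Ring) : ofIdxₐ i x = ofIdx i x := rfl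

theorem ofIdxₐ_tr (i j : Idx R) (h : i ≤ j) : (ofIdxₐ j).comp (tr i j h) = ofIdxₐ i :=
  AlgHom.ext (fun x => ofIdx_tr i j h x)

theorem algHom_ext_Hzn {B : Type*} [CommRing B] [Algebra R B] (g₁ g₂ : Hzn R →ₐ[R] B)
    (h : ∀ i, g₁.comp (ofIdxₐ i) = g₂.comp (ofIdxₐ i)) : g₁ = g₂ := by
  ext z
  obtain ⟨i, x, rfl⟩ := Ring.DirectLimit.exists_of z
  exact AlgHom.congr_fun (h i) x

/-- maps out of `Hzn R` from compatible families, as ring maps -/
noncomputable def liftR {B : Type*} [CommRing B] [Algebra R B] (ψ : ∀ i : Idx R, i.Ring →ₐ[R] B)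
    (hψ : ∀ i j (h : i ≤ j), (ψ j).comp (tr i j h) = ψ i) : Hzn R →+* B :=
  Ring.DirectLimit.lift (fun j : Idx R => j.Ring) (fun i j h => trR i j h) B
      (fun i => (ψ i).toRingHom) (fun i j h x => by
        change (ψ j) (tr i j h x) = ψ i x
        exact AlgHom.congr_fun (hψ i j h) x)

theorem liftR_ofIdx {B : Type*} [CommRing B] [Algebra R B] (ψ : ∀ i : Idx R, i.Ring →ₐ[R] B)
    (hψ : ∀ i j (h : i ≤ j), (ψ j).comp (tr i j h) = ψ i) (i : Idx R) (x : i.Ring) :
    liftR ψ hψ (ofIdx i x) = ψ i x := by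
  unfold liftR ofIdx
  exact Ring.DirectLimit.lift_of (G := fun j : Idx R => j.Ring) (f := fun i j h => trR i j h) B
      (fun i => (ψ i).toRingHom) _ i x

/-- maps out of `Hzn R` from compatible families -/
noncomputable def liftₐ {B : Type*} [CommRing B] [Algebra R B] (ψ : ∀ i : Idx R, i.Ring →ₐ[R] B)
    (hψ : ∀ i j (h : i ≤ j), (ψ j).comp (tr i j h) = ψ i) : Hzn R →ₐ[R] B :=
  { liftR ψ hψ with
    commutes' := fun a => by
      change liftR ψ hψ (algebraMap R (Hzn R) a) = _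
      rw [← ofIdx_algebraMap (Classical.arbitrary (Idx R)) a, liftR_ofIdx]
      exact (ψ _).commutes a }

theorem liftₐ_ofIdx {B : Type*} [CommRing B] [Algebra R B] (ψ : ∀ i : Idx R, i.Ring →ₐ[R] B)
    (hψ : ∀ i j (h : i ≤ j), (ψ j).comp (tr i j h) = ψ i) (i : Idx R) (x : i.Ring) :
    liftₐ ψ hψ (ofIdx i x) = ψ i x :=
  liftR_ofIdx ψ hψ i x

instance formallyEtale_Hzn : Algebra.FormallyEtale R (Hzn R) := by
  rw [Algebra.FormallyEtale.iff_comp_bijective]
  intro B _ _ I hI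
  have hst : ∀ i : Idx R, Function.Bijective
      ((Ideal.Quotient.mkₐ R I).comp : (i.Ring →ₐ[R] B) → (i.Ring →ₐ[R] B ⧸ I)) :=
    fun i => Algebra.FormallyEtale.iff_comp_bijective.mp (Idx.formallyEtale i) I hI
  constructor
  · intro g₁ g₂ h12
    apply algHom_ext_Hzn
    intro i
    apply (hst i).1
    change (Ideal.Quotient.mkₐ R I).comp (g₁.comp (ofIdxₐ i)) =
      (Ideal.Quotient.mkₐ R I).comp (g₂.comp (ofIdxₐ i))
    rw [← AlgHom.comp_assoc, ← AlgHom.comp_assoc]
    exact congrArg (fun t => AlgHom.comp t (ofIdxₐ i)) h12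
  · intro h
    choose ψ hψ using fun i => (hst i).2 (h.comp (ofIdxₐ i))
    have hcompat : ∀ i j (hij : i ≤ j), (ψ j).comp (tr i j hij) = ψ i := by
      intro i j hij
      apply (hst i).1
      change (Ideal.Quotient.mkₐ R I).comp ((ψ j).comp (tr i j hij)) =
        (Ideal.Quotient.mkₐ R I).comp (ψ i)
      rw [← AlgHom.comp_assoc, hψ j, hψ i, AlgHom.comp_assoc, ofIdxₐ_tr]
    refine ⟨liftₐ ψ hcompat, ?_⟩
    apply algHom_ext_Hzn
    intro i
    refine AlgHom.ext fun x => ?_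
    change Ideal.Quotient.mkₐ R I (liftₐ ψ hcompat (ofIdx i x)) = h (ofIdxₐ i x)
    rw [liftₐ_ofIdx]
    exact AlgHom.congr_fun (hψ i) x

theorem formallyEtale_of_isHenselization (S : Type u) [CommRing S] [IsLocalRing S] [Algebra R S]
    [IsLocalHom (algebraMap R S)] [Hensel.IsHenselization R S] : Algebra.FormallyEtale R S := by
  obtain ⟨e⟩ := exists_algEquiv (R := R) S
  exact Algebra.FormallyEtale.of_equiv e

end Groth.Agent.Lib.lead.Hzn
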