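import Mathlib
import Groth.Agent.Lib.lead.IndSysDesc
import Groth.Agent.Lib.lead.HenselLift

/-!
# Henselian local ind-étale algebras with the same residue field are uniquely isomorphic
-/

universe u

set_option maxHeartbeats 400000
set_option linter.unusedSectionVars false
set_option linter.style.haveILetI false

open IsLocalRing

namespace Groth.Agent.Lib.lead.IndEtHens

variable {R : Type u} [CommRing R]

/-- unique lifting of points of étale algebras into a henselian local ring -/
theorem existsUnique_lift {S' K : Type u} [CommRing S'] [HenselianLocalRing S'] [Field K]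
    [Algebra R S'] [Algebra R K] (u' : S' →ₐ[R] K) (hu' : Function.Surjective u')
    (hku' : RingHom.ker u'.toRingHom = maximalIdeal S')
    (E : Type u) [CommRing E] [Algebra R E] [Algebra.Etale R E] (ρ : E →ₐ[R] K) :
    ∃! ψ : E →ₐ[R] S', u'.comp ψ = ρ := by
  have hk : RingHom.ker u' = maximalIdeal S' := hku'
  obtain ⟨f, hf⟩ := HenselLocal.etale_lift_local (A := R) (C := S') (E := E) (RingHom.ker u')
    hk.le (((Ideal.quotientKerAlgEquivOfSurjective hu').symm : K →ₐ[R] _).comp ρ)
  refine ⟨f, ?_, ?_⟩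
  · apply AlgHom.ext
    intro x
    have h1 := AlgHom.congr_fun hf x
    have h2 : Ideal.quotientKerAlgEquivOfSurjective hu' (Ideal.Quotient.mk _ (f x)) = u' (f x) :=
      Ideal.quotientKerAlgEquivOfSurjective_mk hu' (f x)
    change u' (f x) = ρ x
    rw [← h2]
    have h3 : (Ideal.Quotient.mk (RingHom.ker u') (f x)) =
        (Ideal.quotientKerAlgEquivOfSurjective hu').symm (ρ x) := h1
    rw [h3, AlgEquiv.apply_symm_apply]
  · intro ψ hψ
    apply HenselLocal.unramified_algHom_ext_of_le_jacobson (maximalIdeal S')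
    · rw [IsLocalRing.jacobson_eq_maximalIdeal ⊥ bot_ne_top]
    · intro a
      rw [← hk, RingHom.mem_ker, map_sub, sub_eq_zero]
      have h1 := AlgHom.congr_fun hψ a
      have h2 : u' (f a) = ρ a := by
        have h1 := AlgHom.congr_fun hf a
        have h2 : Ideal.quotientKerAlgEquivOfSurjective hu' (Ideal.Quotient.mk _ (f a)) =
            u' (f a) := Ideal.quotientKerAlgEquivOfSurjective_mk hu' (f a)
        rw [← h2]
        have h3 : (Ideal.Quotient.mk (RingHom.ker u') (f a)) =
            (Ideal.quotientKerAlgEquivOfSurjective hu').symm (ρ a) := h1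
        rw [h3, AlgEquiv.apply_symm_apply]
      rw [AlgHom.comp_apply] at h1
      rw [h1, h2]

variable {S S' K : Type u} [CommRing S] [CommRing S'] [Field K]
  [Algebra R S] [Algebra R S'] [Algebra R K]
  (MS : IndSys.{u, u, u} R S) (hMS : ∀ j, Algebra.Etale R (MS.St j))

include hMS in
theorem exists_map [HenselianLocalRing S'] (u : S →ₐ[R] K) (u' : S' →ₐ[R] K)
    (hu' : Function.Surjective u')
    (hku' : RingHom.ker u'.toRingHom = maximalIdeal S') :
    ∃ F : S →ₐ[R] S', u'.comp F = u := by
  have hex := fun j => existsUnique_lift u' hu' hku' (MS.St j) (u.comp (MS.φ j))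
  choose ψ hψ hψu using hex
  obtain ⟨F, hF⟩ := MS.exists_desc ψ (fun i k s hs => by
    apply hψu i
    rw [← AlgHom.comp_assoc, hψ k, AlgHom.comp_assoc, hs])
  refine ⟨F, ?_⟩
  apply MS.algHom_ext
  intro j
  rw [AlgHom.comp_assoc, hF j, hψ j]

include hMS in
theorem map_unique [IsLocalRing S'] (u' : S' →ₐ[R] K)
    (hku' : RingHom.ker u'.toRingHom = maximalIdeal S') (F G : S →ₐ[R] S')
    (h : u'.comp F = u'.comp G) : F = G := by
  apply MS.algHom_ext
  intro j
  have hk : RingHom.ker u' = maximalIdeal S' := hku'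
  haveI := hMS j
  apply HenselLocal.unramified_algHom_ext_of_le_jacobson (maximalIdeal S')
  · rw [IsLocalRing.jacobson_eq_maximalIdeal ⊥ bot_ne_top]
  · intro a
    rw [← hk, RingHom.mem_ker, map_sub, sub_eq_zero]
    exact AlgHom.congr_fun h (MS.φ j a)

theorem existsUnique_equiv [HenselianLocalRing S] [HenselianLocalRing S']
    (MS : IndSys.{u, u, u} R S) (hMS : ∀ j, Algebra.Etale R (MS.St j))
    (MS' : IndSys.{u, u, u} R S') (hMS' : ∀ j, Algebra.Etale R (MS'.St j))
    (u : S →ₐ[R] K) (u' : S' →ₐ[R] K) (hu : Function.Surjective u) (hu' : Function.Surjective u')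
    (hku : RingHom.ker u.toRingHom = IsLocalRing.maximalIdeal S)
    (hku' : RingHom.ker u'.toRingHom = IsLocalRing.maximalIdeal S') :
    ∃! e : S ≃ₐ[R] S', u'.comp (e : S →ₐ[R] S') = u := by
  obtain ⟨F, hF⟩ := exists_map MS hMS u u' hu' hku'
  obtain ⟨G, hG⟩ := exists_map MS' hMS' u' u hu hku
  have hGF : G.comp F = AlgHom.id R S := by
    apply map_unique MS hMS u hku
    rw [← AlgHom.comp_assoc, hG, hF, AlgHom.comp_id]
  have hFG : F.comp G = AlgHom.id R S' := by
    apply map_unique MS' hMS' u' hku'
    rw [← AlgHom.comp_assoc, hF, hG, AlgHom.comp_id]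
  refine ⟨AlgEquiv.ofAlgHom F G hFG hGF, ?_, ?_⟩
  · apply AlgHom.ext
    intro x
    exact AlgHom.congr_fun hF x
  · intro e' he'
    apply AlgEquiv.ext
    intro x
    have : (e' : S →ₐ[R] S') = F := by
      apply map_unique MS hMS u' hku'
      rw [he', hF]
    exact AlgHom.congr_fun this x

end Groth.Agent.Lib.lead.IndEtHens
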