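import Mathlib
import Groth.Agent.Lib.lead.IndSys
import Groth.Prelude.Def_PBC

/-!
# From categorical filtered colimits in `Under A` to element-level systems
-/

universe u

set_option maxHeartbeats 400000
set_option linter.unusedSectionVars false
set_option linter.style.haveILetI false

open CategoryTheory Limits

namespace Groth.Agent.Lib.lead

section

variable {A B : Type u} [CommRing A] [CommRing B] [Algebra A B]
  {J : Type u} [SmallCategory J] [IsFiltered J] (D : J ⥤ Under (CommRingCat.of A))
  (c : Cocone D) (hc : IsColimit c) (e : c.pt ≅ Under.mk (CommRingCat.ofHom (algebraMap A B)))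

/-- the algebra structure of an object of `Under A` -/
@[reducible] noncomputable def underAlg (X : Under (CommRingCat.of A)) : Algebra A X.right :=
  X.hom.hom.toAlgebra

/-- a morphism of `Under A` as an algebra homomorphism -/
noncomputable def underAlgHom {X Y : Under (CommRingCat.of A)} (f : X ⟶ Y) :
    @AlgHom A X.right Y.right _ _ _ (underAlg X) (underAlg Y) :=
  letI := underAlg X
  letI := underAlg Y
  { toRingHom := f.right.hom
    commutes' := fun a => by
      have := Under.w f
      exact congrArg (fun g => g.hom a) this }

theorem underAlgHom_apply {X Y : Under (CommRingCat.of A)} (f : X ⟶ Y) (x : X.right) :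
    underAlgHom f x = f.right.hom x := rfl


/-- the forgetful functor to types -/
noncomputable abbrev FT (A : Type u) [CommRing A] : Under (CommRingCat.of A) ⥤ Type u :=
  Under.forget _ ⋙ forget CommRingCat

include hc in
theorem jointly_surjective (x : c.pt.right) : ∃ j, ∃ y : (D.obj j).right,
    (c.ι.app j).right.hom y = x := by
  have hT : IsColimit ((FT A).mapCocone c) := isColimitOfPreserves _ hc
  obtain ⟨j, y, hy⟩ := Types.jointly_surjective_of_isColimit hT x
  exact ⟨j, y, hy⟩

include hc in
theorem eq_zero_of_map_eq_zero (i : J) (x : (D.obj i).right) (hx : (c.ι.app i).right.hom x = 0) :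
    ∃ k, ∃ f : i ⟶ k, (D.map f).right.hom x = 0 := by
  have hT : IsColimit ((FT A).mapCocone c) := isColimitOfPreserves _ hc
  have h0 : ((FT A).mapCocone c).ι.app i x = ((FT A).mapCocone c).ι.app i (0 : (D.obj i).right) := by
    change (c.ι.app i).right.hom x = (c.ι.app i).right.hom 0
    rw [hx, map_zero]
  obtain ⟨k, f, g, hfg⟩ := (Types.FilteredColimit.isColimit_eq_iff _ hT).mp h0
  refine ⟨k, f, ?_⟩
  change (D.map f).right.hom x = (D.map g).right.hom 0 at hfg
  rw [hfg, map_zero]

/-- the element-level system attached to a filtered colimit in `Under A` -/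
noncomputable def indSysOfColimit : IndSys.{u, u, u} A B where
  J := J
  ne := IsFiltered.nonempty
  St := fun j => (D.obj j).right
  ring := fun j => inferInstance
  alg := fun j => underAlg (D.obj j)
  φ := fun j =>
    letI := underAlg (D.obj j)
    { toRingHom := ((c.ι.app j).right ≫ e.hom.right).hom
      commutes' := fun a => by
        have h1 := Under.w (c.ι.app j)
        have h2 := Under.w e.hom
        have h3 : (D.obj j).hom ≫ ((c.ι.app j).right ≫ e.hom.right) =
            CommRingCat.ofHom (algebraMap A B) := by
          rw [← Category.assoc, h1]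
          exact h2
        exact congrArg (fun g => g.hom a) h3 }
  surj := fun b => by
    obtain ⟨j, y, hy⟩ := jointly_surjective D c hc (e.inv.right.hom b)
    refine ⟨j, y, ?_⟩
    change e.hom.right.hom ((c.ι.app j).right.hom y) = b
    rw [hy]
    have : e.inv.right ≫ e.hom.right = 𝟙 _ := by
      rw [← Under.comp_right, e.inv_hom_id]; rfl
    exact congrArg (fun g => g.hom b) this
  dir := fun i j => by
    letI : ∀ j, Algebra A (D.obj j).right := fun j => underAlg (D.obj j)
    refine ⟨IsFiltered.max i j, underAlgHom (D.map (IsFiltered.leftToMax i j)),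
      underAlgHom (D.map (IsFiltered.rightToMax i j)), ?_, ?_⟩
    · apply AlgHom.ext
      intro x
      change e.hom.right.hom ((c.ι.app _).right.hom ((D.map (IsFiltered.leftToMax i j)).right.hom x))
        = e.hom.right.hom ((c.ι.app i).right.hom x)
      have := c.w (IsFiltered.leftToMax i j)
      have h2 : (D.map (IsFiltered.leftToMax i j)).right ≫ (c.ι.app _).right = (c.ι.app i).right := by
        rw [← Under.comp_right, this]
      rw [← h2]
      rfl
    · apply AlgHom.ext
      intro x
      change e.hom.right.hom ((c.ι.app _).right.hom ((D.map (IsFiltered.rightToMax i j)).right.hom x))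
        = e.hom.right.hom ((c.ι.app j).right.hom x)
      have := c.w (IsFiltered.rightToMax i j)
      have h2 : (D.map (IsFiltered.rightToMax i j)).right ≫ (c.ι.app _).right = (c.ι.app j).right := by
        rw [← Under.comp_right, this]
      rw [← h2]
      rfl
  ker := fun i x hx => by
    letI : ∀ j, Algebra A (D.obj j).right := fun j => underAlg (D.obj j)
    have hx' : e.hom.right.hom ((c.ι.app i).right.hom x) = 0 := hx
    have hinj : Function.Injective e.hom.right.hom := by
      intro a b hab
      have : e.hom.right ≫ e.inv.right = 𝟙 _ := by
        rw [← Under.comp_right, e.hom_inv_id]; rfl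
      have ha := congrArg (fun g => g.hom a) this
      have hb := congrArg (fun g => g.hom b) this
      simp only [CommRingCat.hom_comp, RingHom.comp_apply, CommRingCat.hom_id,
        RingHom.id_apply] at ha hb
      rw [← ha, ← hb, hab]
    have hx'' : (c.ι.app i).right.hom x = 0 := hinj (by rw [hx', map_zero])
    obtain ⟨k, f, hf⟩ := eq_zero_of_map_eq_zero D c hc i x hx''
    refine ⟨k, underAlgHom (D.map f), ?_, hf⟩
    apply AlgHom.ext
    intro y
    change e.hom.right.hom ((c.ι.app _).right.hom ((D.map f).right.hom y))
      = e.hom.right.hom ((c.ι.app i).right.hom y)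
    have := c.w f
    have h2 : (D.map f).right ≫ (c.ι.app _).right = (c.ι.app i).right := by
      rw [← Under.comp_right, this]
    rw [← h2]
    rfl

theorem indSysOfColimit_St (j : J) : (indSysOfColimit D c hc e).St j = (D.obj j).right := rfl

end

end Groth.Agent.Lib.lead
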