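import Mathlib
import Groth.Prelude.Def_EtGm

/-!
# The Kummer cover `R[x]/(x^n - a)` is étale and surjective when `n` and `a` are units
-/

universe u

set_option maxHeartbeats 400000
set_option linter.style.haveILetI false

open CategoryTheory CategoryTheory.Limits Opposite AlgebraicGeometry Polynomial

namespace Groth.Agent.Lib.lead.Kummer

/-- the standard étale pair `(x^n - a, 1)` -/
noncomputable def pair {R : Type u} [CommRing R] (n : ℕ) (hn0 : n ≠ 0) (a : Rˣ)
    (hn : IsUnit (n : R)) : StandardEtalePair R where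
  f := X ^ n - C (a : R)
  monic_f := monic_X_pow_sub_C _ hn0
  g := 1
  cond := by
    obtain ⟨u, hu⟩ := hn.exists_right_inv
    refine ⟨C (u * (↑(a⁻¹) : R)) * X, - C ((↑(a⁻¹) : R)), 1, ?_⟩
    have h2 : (a : R) * (↑(a⁻¹) : R) = 1 := by simp
    have hx : (X : R[X]) ^ (n - 1) * X = X ^ n := pow_sub_one_mul hn0 X
    have hc1 : (C (n : R) : R[X]) * C (u * (↑(a⁻¹) : R)) = C ((↑(a⁻¹) : R)) := by
      rw [← C_mul, ← mul_assoc, hu, one_mul]
    have hc2 : (C (a : R) : R[X]) * C ((↑(a⁻¹) : R)) = 1 := by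
      rw [← C_mul, h2, C_1]
    simp only [derivative_sub, derivative_X_pow, derivative_C, sub_zero, pow_one]
    linear_combination (C (n : R) * C (u * (↑(a⁻¹) : R))) * hx + (X : R[X]) ^ n * hc1 + hc2

theorem pair_X_pow {R : Type u} [CommRing R] (n : ℕ) (hn0 : n ≠ 0) (a : Rˣ)
    (hn : IsUnit (n : R)) :
    (pair n hn0 a hn).X ^ n = algebraMap R (pair n hn0 a hn).Ring (a : R) := by
  have h := ((pair n hn0 a hn).hasMap_X).1
  have : aeval (pair n hn0 a hn).X (X ^ n - C (a : R)) = 0 := h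
  simpa [sub_eq_zero] using this

/-- `Spec` of the Kummer cover is surjective -/
theorem comap_surjective {R : Type u} [CommRing R] (n : ℕ) (hn0 : n ≠ 0) (a : Rˣ)
    (hn : IsUnit (n : R)) :
    Function.Surjective (PrimeSpectrum.comap (algebraMap R (pair n hn0 a hn).Ring)) := by
  intro p
  let κ := AlgebraicClosure p.asIdeal.ResidueField
  have hdeg : (X ^ n - C (algebraMap R κ (a : R)) : κ[X]).degree ≠ 0 := by
    rw [degree_X_pow_sub_C (Nat.pos_of_ne_zero hn0)]
    exact_mod_cast hn0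
  obtain ⟨x, hx⟩ := IsAlgClosed.exists_root _ hdeg
  have hmap : (pair n hn0 a hn).HasMap x := by
    refine ⟨?_, ?_⟩
    · change aeval x (X ^ n - C (a : R)) = 0
      have : eval x (X ^ n - C (algebraMap R κ (a : R))) = 0 := hx
      simpa using this
    · change IsUnit (aeval x (1 : R[X]))
      simp
  let φ : (pair n hn0 a hn).Ring →ₐ[R] κ := (pair n hn0 a hn).lift x hmap
  refine ⟨⟨RingHom.ker φ.toRingHom, RingHom.ker_isPrime _⟩, ?_⟩
  ext r
  change algebraMap R _ r ∈ RingHom.ker φ.toRingHom ↔ r ∈ p.asIdeal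
  rw [RingHom.mem_ker]
  change φ (algebraMap R _ r) = 0 ↔ _
  rw [φ.commutes, IsScalarTower.algebraMap_apply R p.asIdeal.ResidueField κ,
    map_eq_zero_iff _ (algebraMap p.asIdeal.ResidueField κ).injective,
    ← RingHom.mem_ker, Ideal.ker_algebraMap_residueField]

end Groth.Agent.Lib.lead.Kummer
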