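import Mathlib
import Groth.Prelude.Def_EtGm
import Groth.Agent.Lib.lead.Kummer1
import Groth.Agent.Lib.lead.EtClosed1

/-!
# The Kummer sequence: `n : G_m → G_m` is an epimorphism of étale sheaves when `n` is invertible
-/

universe u

set_option maxHeartbeats 400000
set_option linter.style.haveILetI false

open CategoryTheory CategoryTheory.Limits Opposite AlgebraicGeometry Polynomial

namespace Groth.Agent.Lib.lead.Kummer

theorem powMap_app (X : Scheme.{u}) (n : ℕ) (U : X.Etaleᵒᵖ)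
    (t : ((EtCoh.Gm X).obj.obj U : Type (u+1))) :
    ConcreteCategory.hom ((EtCoh.powMap X n).hom.app U) t = n • t := by
  unfold EtCoh.powMap
  have h1 : (n • 𝟙 (EtCoh.Gm X) : EtCoh.Gm X ⟶ EtCoh.Gm X).hom = n • 𝟙 (EtCoh.Gm X).obj :=
    (sheafToPresheaf _ _).map_nsmul (f := 𝟙 (EtCoh.Gm X)) (n := n)
  rw [h1, NatTrans.app_nsmul]
  simp

set_option backward.isDefEq.respectTransparency false in
theorem main0108 (S : Scheme.{u}) (n : ℕ) (hn : IsUnit (n : Γ(S, ⊤))) :
    Epi (EtCoh.powMap S n) := by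
  rw [← Sheaf.isLocallySurjective_iff_epi' AddCommGrpCat.{u + 1}]
  refine ⟨fun {U} s => ?_⟩
  let 𝒰 := U.left.affineOpenCover
  let ρ : ∀ j, Γ(U.left, ⊤) →+* (𝒰.X j) := fun j =>
    ((𝒰.f j).appTop ≫ (Scheme.ΓSpecIso (𝒰.X j)).hom).hom
  have hnU : IsUnit (n : Γ(U.left, ⊤)) := by
    have := hn.map U.hom.appTop.hom
    rwa [map_natCast] at this
  have hnj : ∀ j, IsUnit (n : 𝒰.X j) := fun j => by
    have := hnU.map (ρ j)
    rwa [map_natCast] at this
  by_cases hn0 : n = 0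
  · haveI : IsEmpty U.left := by
      refine ⟨fun x => ?_⟩
      obtain ⟨y, _⟩ := 𝒰.covers x
      have h0 : IsUnit (0 : 𝒰.X (𝒰.idx x)) := by simpa [hn0] using hnj (𝒰.idx x)
      haveI : Subsingleton (𝒰.X (𝒰.idx x)) := subsingleton_of_zero_eq_one (isUnit_zero_iff.mp h0)
      exact IsEmpty.false (α := PrimeSpectrum (𝒰.X (𝒰.idx x))) y
    exact S.smallEtaleTopology.superset_covering bot_le (EtClosed.bot_mem_smallEtale S U)
  · let a : (Γ(U.left, ⊤))ˣ := Additive.toMul (ULift.down s)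
    let P : ∀ j, StandardEtalePair (𝒰.X j) := fun j =>
      Kummer.pair n hn0 (Units.map (ρ j : Γ(U.left, ⊤) →* (𝒰.X j)) a) (hnj j)
    let φ : ∀ j, 𝒰.X j ⟶ CommRingCat.of (P j).Ring := fun j =>
      CommRingCat.ofHom (algebraMap _ _)
    haveI : ∀ j, Etale (Spec.map (φ j)) := fun j =>
      (HasRingHomProperty.Spec_iff (P := @Etale)).mpr (RingHom.etale_algebraMap.mpr inferInstance)
    haveI : Etale U.hom := U.prop
    let V : 𝒰.I₀ → S.Etale := fun j => Scheme.Etale.mk (Spec.map (φ j) ≫ 𝒰.f j ≫ U.hom)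
    let g : ∀ j, V j ⟶ U := fun j =>
      MorphismProperty.Over.homMk (Spec.map (φ j) ≫ 𝒰.f j) (by simp [V])
    refine S.smallEtaleTopology.superset_covering (S := Sieve.ofArrows V g) ?_ ?_
    · rw [Sieve.generate_le_iff, Presieve.ofArrows_le_iff]
      intro j
      have hX : IsUnit (P j).X := by
        rw [← isUnit_pow_iff hn0, Kummer.pair_X_pow]
        exact (Units.isUnit _).map _
      let t0 : (Γ(Spec (CommRingCat.of (P j).Ring), ⊤))ˣ :=
        Units.map ((Scheme.ΓSpecIso (CommRingCat.of (P j).Ring)).inv.hom :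
          (P j).Ring →* Γ(Spec (CommRingCat.of (P j).Ring), ⊤)) hX.unit
      refine ⟨ULift.up (Additive.ofMul t0), ?_⟩
      rw [powMap_app]
      have hrest : (ConcreteCategory.hom ((EtCoh.Gm S).obj.map (g j).op)) s =
          ULift.up (Additive.ofMul (Units.map
            ((g j).left.appTop.hom : Γ(U.left, ⊤) →* Γ((V j).left, ⊤)) a)) := rfl
      rw [hrest]
      have hpow : (n • (ULift.up (Additive.ofMul t0) :
          ULift.{u + 1} (Additive (Γ(Spec (CommRingCat.of (P j).Ring), ⊤))ˣ))) =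
          ULift.up (Additive.ofMul (t0 ^ n)) := rfl
      refine hpow.trans ?_
      congr 2
      apply Units.ext
      change ((Scheme.ΓSpecIso (CommRingCat.of (P j).Ring)).inv.hom (P j).X) ^ n =
        (Spec.map (φ j) ≫ 𝒰.f j).appTop.hom (a : Γ(U.left, ⊤))
      rw [← map_pow, Kummer.pair_X_pow]
      have hnat := Scheme.ΓSpecIso_inv_naturality (φ j)
      have h2 : (a : Γ(U.left, ⊤)) = a.val := rfl
      have h3 : (Spec.map (φ j) ≫ 𝒰.f j).appTop.hom (a : Γ(U.left, ⊤)) =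
          (Spec.map (φ j)).appTop.hom ((𝒰.f j).appTop.hom (a : Γ(U.left, ⊤))) := by
        simp
      rw [h3]
      have h4 : (𝒰.f j).appTop.hom (a : Γ(U.left, ⊤)) =
          (Scheme.ΓSpecIso (𝒰.X j)).inv.hom (ρ j (a : Γ(U.left, ⊤))) := by
        simp [ρ]
      rw [h4]
      have h5 := congrArg (fun k => k.hom (ρ j (a : Γ(U.left, ⊤)))) hnat
      exact h5
    · rw [Scheme.ofArrows_mem_smallEtaleTopology_iff]
      ext y
      simp only [Set.mem_iUnion, Set.mem_univ, iff_true]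
      obtain ⟨z, hz⟩ := 𝒰.covers y
      obtain ⟨w, hw⟩ := Kummer.comap_surjective n hn0
        (Units.map (ρ (𝒰.idx y) : Γ(U.left, ⊤) →* (𝒰.X (𝒰.idx y))) a) (hnj _) z
      refine ⟨𝒰.idx y, w, ?_⟩
      refine Eq.trans ?_ hz
      change (𝒰.f (𝒰.idx y)) ((Spec.map (φ (𝒰.idx y))) w) = (𝒰.f (𝒰.idx y)) z
      congr 1

end Groth.Agent.Lib.lead.Kummer
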