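import Mathlib
import Groth.Agent.Lib.lead.DirSys

/-!
# The localization at a prime as a directed colimit of principal localizations
-/

universe u

set_option maxHeartbeats 400000
set_option linter.unusedSectionVars false
set_option linter.style.haveILetI false

open CategoryTheory Limits

namespace Groth.Agent.Lib.lead

/-- index: elements outside the prime -/
structure LocIdx {C : Type u} [CommRing C] (p : Ideal C) where
  g : C
  hg : g ∉ p

namespace LocIdx

variable {A C : Type u} [CommRing A] [CommRing C] [Algebra A C] (p : Ideal C) [hp : p.IsPrime]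

instance : Preorder (LocIdx p) where
  le a b := IsUnit (algebraMap C (Localization.Away b.g) a.g)
  le_refl a := IsLocalization.Away.algebraMap_isUnit a.g
  le_trans a b c hab hbc := by
    have h1 : algebraMap C (Localization.Away c.g) a.g =
        IsLocalization.Away.lift b.g hbc (algebraMap C (Localization.Away b.g) a.g) := by
      rw [IsLocalization.Away.lift_eq]
    change IsUnit (algebraMap C (Localization.Away c.g) a.g)
    rw [h1]
    exact hab.map _

theorem le_def (a b : LocIdx p) : a ≤ b ↔ IsUnit (algebraMap C (Localization.Away b.g) a.g) :=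
  Iff.rfl

/-- product of indices -/
def mul (a b : LocIdx p) : LocIdx p := ⟨a.g * b.g, hp.mul_notMem a.hg b.hg⟩

theorem le_mul_left (a b : LocIdx p) : a ≤ mul p a b := by
  rw [le_def]
  have : IsUnit (algebraMap C (Localization.Away (a.g * b.g)) (a.g * b.g)) :=
    IsLocalization.Away.algebraMap_isUnit _
  rw [map_mul] at this
  exact isUnit_of_mul_isUnit_left this

theorem le_mul_right (a b : LocIdx p) : b ≤ mul p a b := by
  rw [le_def]
  have : IsUnit (algebraMap C (Localization.Away (a.g * b.g)) (a.g * b.g)) :=
    IsLocalization.Away.algebraMap_isUnit _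
  rw [map_mul] at this
  exact isUnit_of_mul_isUnit_right this

instance : IsDirectedOrder (LocIdx p) :=
  ⟨fun a b => ⟨mul p a b, le_mul_left p a b, le_mul_right p a b⟩⟩

instance : Nonempty (LocIdx p) := ⟨⟨1, hp.one_notMem⟩⟩

/-- transition maps -/
noncomputable def tr (a b : LocIdx p) (h : a ≤ b) :
    Localization.Away a.g →ₐ[A] Localization.Away b.g :=
  IsLocalization.liftAlgHom (M := Submonoid.powers a.g)
    (f := IsScalarTower.toAlgHom A C (Localization.Away b.g)) (fun y => by
      obtain ⟨n, hn⟩ := y.2
      change IsUnit (algebraMap C (Localization.Away b.g) y)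
      rw [← hn, map_pow]
      exact ((le_def p a b).mp h).pow n)

theorem tr_algebraMap (a b : LocIdx p) (h : a ≤ b) (c : C) :
    tr (A := A) p a b h (algebraMap C _ c) = algebraMap C _ c := by
  unfold tr
  rw [IsLocalization.liftAlgHom_apply, IsLocalization.lift_eq]
  rfl

/-- the map to the local ring -/
noncomputable def φ (a : LocIdx p) : Localization.Away a.g →ₐ[A] Localization.AtPrime p :=
  IsLocalization.liftAlgHom (M := Submonoid.powers a.g)
    (f := IsScalarTower.toAlgHom A C (Localization.AtPrime p)) (fun y => by
      obtain ⟨n, hn⟩ := y.2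
      change IsUnit (algebraMap C (Localization.AtPrime p) y)
      rw [← hn, map_pow]
      exact (IsLocalization.map_units (Localization.AtPrime p)
        (⟨a.g, a.hg⟩ : p.primeCompl)).pow n)

theorem φ_algebraMap (a : LocIdx p) (c : C) :
    φ (A := A) p a (algebraMap C _ c) = algebraMap C _ c := by
  unfold φ
  rw [IsLocalization.liftAlgHom_apply, IsLocalization.lift_eq]
  rfl

end LocIdx

section

variable (A : Type u) {C : Type u} [CommRing A] [CommRing C] [Algebra A C] (p : Ideal C)
  [hp : p.IsPrime]

open LocIdx

/-- the localization at a prime as a directed system of principal localizations -/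
noncomputable def locDirSys : DirSys A (Localization.AtPrime p) (LocIdx p) where
  St a := Localization.Away a.g
  tr := LocIdx.tr p
  tr_refl a := by
    apply Localization.algHom_ext
    apply AlgHom.ext
    intro c
    exact LocIdx.tr_algebraMap p a a le_rfl c
  tr_trans a b c h h' := by
    apply Localization.algHom_ext
    apply AlgHom.ext
    intro x
    change LocIdx.tr p b c h' (LocIdx.tr p a b h (algebraMap C _ x)) =
      LocIdx.tr p a c (h.trans h') (algebraMap C _ x)
    rw [tr_algebraMap, tr_algebraMap, tr_algebraMap]
  φ := LocIdx.φ p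
  compat a b h := by
    apply Localization.algHom_ext
    apply AlgHom.ext
    intro x
    change LocIdx.φ p b (LocIdx.tr p a b h (algebraMap C _ x)) = LocIdx.φ p a (algebraMap C _ x)
    rw [tr_algebraMap, φ_algebraMap, φ_algebraMap]
  surj x := by
    obtain ⟨c, s, rfl⟩ := IsLocalization.exists_mk'_eq p.primeCompl x
    refine ⟨⟨s, s.2⟩, IsLocalization.mk' _ c (⟨s, Submonoid.mem_powers _⟩ : Submonoid.powers (s : C)),
      ?_⟩
    have hu : IsUnit (algebraMap C (Localization.AtPrime p) s) :=
      IsLocalization.map_units _ s
    apply hu.mul_left_injective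
    change _ * algebraMap C (Localization.AtPrime p) s = _ * algebraMap C (Localization.AtPrime p) s
    rw [IsLocalization.mk'_spec, ← φ_algebraMap (A := A) p ⟨s, s.2⟩ (s : C), ← map_mul]
    have : IsLocalization.mk' (Localization.Away (s : C)) c
        (⟨s, Submonoid.mem_powers _⟩ : Submonoid.powers (s : C)) *
        algebraMap C (Localization.Away (s : C)) s = algebraMap C _ c :=
      IsLocalization.mk'_spec _ c (⟨s, Submonoid.mem_powers _⟩ : Submonoid.powers (s : C))
    rw [this, φ_algebraMap]
  ker a x hx := by
    obtain ⟨c, s, rfl⟩ := IsLocalization.exists_mk'_eq (Submonoid.powers a.g) x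
    have h1 : LocIdx.φ (A := A) p a (algebraMap C _ c) = 0 := by
      rw [← IsLocalization.mk'_spec (Localization.Away a.g) c s, map_mul, hx, zero_mul]
    rw [φ_algebraMap] at h1
    obtain ⟨t, ht⟩ := (IsLocalization.map_eq_zero_iff p.primeCompl (Localization.AtPrime p) c).mp h1
    refine ⟨LocIdx.mul p a ⟨t, t.2⟩, le_mul_left p a _, ?_⟩
    have hu : IsUnit (algebraMap C (Localization.Away (LocIdx.mul p a ⟨t, t.2⟩).g) (s : C)) := by
      obtain ⟨n, hn⟩ := s.2
      rw [← hn, map_pow]
      exact ((le_def p _ _).mp (le_mul_left p a ⟨t, t.2⟩)).pow n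
    have hut : IsUnit (algebraMap C (Localization.Away (LocIdx.mul p a ⟨t, t.2⟩).g) (t : C)) :=
      (le_def p _ _).mp (le_mul_right p a ⟨t, t.2⟩)
    have hc0 : algebraMap C (Localization.Away (LocIdx.mul p a ⟨t, t.2⟩).g) c = 0 := by
      have : algebraMap C (Localization.Away (LocIdx.mul p a ⟨t, t.2⟩).g) (t : C) *
          algebraMap C (Localization.Away (LocIdx.mul p a ⟨t, t.2⟩).g) c = 0 := by
        rw [← map_mul, ht, map_zero]
      exact hut.mul_right_eq_zero.mp this
    apply hu.mul_left_injective
    change _ * algebraMap C _ (s : C) = 0 * algebraMap C _ (s : C)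
    rw [zero_mul, ← tr_algebraMap (A := A) p a _ (le_mul_left p a ⟨t, t.2⟩) (s : C), ← map_mul,
      IsLocalization.mk'_spec, tr_algebraMap, hc0]

theorem locDirSys_St (a : LocIdx p) : (locDirSys A p).St a = Localization.Away a.g := rfl

/-- the localization at a prime of an étale algebra is ind-étale -/
theorem isIndEtale_atPrime [Algebra.Etale A C] : EtPBC.IsIndEtale A (Localization.AtPrime p) :=
  (locDirSys A p).isIndEtale_of_etale (fun a => by
    change Algebra.Etale A (Localization.Away a.g)
    infer_instance)

end

end Groth.Agent.Lib.lead
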