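import Mathlib

/-! Nakayama-type lemmas for finite projective modules and ideals in the Jacobson radical (lead). -/

namespace Groth.Agent.Lib.lead.Nak

open TensorProduct

universe u

variable {R : Type u} [CommRing R] (I : Ideal R)

/-- `1 ⊗ x = 0` in `(R ⧸ I) ⊗ M` iff `x ∈ I • ⊤`. -/
theorem one_tmul_eq_zero_iff {M : Type*} [AddCommGroup M] [Module R M] (x : M) :
    (1 : R ⧸ I) ⊗ₜ[R] x = 0 ↔ x ∈ (I • ⊤ : Submodule R M) := by
  rw [← (TensorProduct.quotTensorEquivQuotSMul M I).map_eq_zero_iff,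
    TensorProduct.quotTensorEquivQuotSMul_mk_one_tmul, Submodule.Quotient.mk_eq_zero]

/-- every element of `(R ⧸ I) ⊗ M` is of the form `1 ⊗ x`. -/
theorem exists_one_tmul {M : Type*} [AddCommGroup M] [Module R M] (z : (R ⧸ I) ⊗[R] M) :
    ∃ x : M, (1 : R ⧸ I) ⊗ₜ[R] x = z := by
  obtain ⟨x, hx⟩ := Submodule.Quotient.mk_surjective _ (TensorProduct.quotTensorEquivQuotSMul M I z)
  refine ⟨x, ?_⟩
  apply (TensorProduct.quotTensorEquivQuotSMul M I).injective
  rw [TensorProduct.quotTensorEquivQuotSMul_mk_one_tmul, hx]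

theorem surjective_of_baseChange_surjective (hI : I ≤ Ideal.jacobson (⊥ : Ideal R)) {P P' : Type*}
    [AddCommGroup P] [Module R P] [AddCommGroup P'] [Module R P'] [Module.Finite R P']
    (φ : P →ₗ[R] P') (h : Function.Surjective (φ.baseChange (R ⧸ I))) : Function.Surjective φ := by
  rw [← LinearMap.range_eq_top, eq_top_iff]
  apply Submodule.le_of_le_smul_of_le_jacobson_bot (Module.Finite.fg_top) hI
  intro y _
  obtain ⟨z, hz⟩ := h ((1 : R ⧸ I) ⊗ₜ[R] y)
  obtain ⟨p, rfl⟩ := exists_one_tmul I z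
  rw [LinearMap.baseChange_tmul] at hz
  have : (1 : R ⧸ I) ⊗ₜ[R] (y - φ p) = 0 := by rw [tmul_sub, hz, sub_self]
  rw [one_tmul_eq_zero_iff] at this
  have hy : y = φ p + (y - φ p) := by abel
  rw [hy]
  exact Submodule.add_mem_sup (LinearMap.mem_range_self φ p) this

theorem bijective_of_baseChange_bijective (hI : I ≤ Ideal.jacobson (⊥ : Ideal R)) {P P' : Type*}
    [AddCommGroup P] [Module R P] [Module.Finite R P]
    [AddCommGroup P'] [Module R P'] [Module.Finite R P'] [Module.Projective R P'] (φ : P →ₗ[R] P')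
    (h : Function.Bijective (φ.baseChange (R ⧸ I))) : Function.Bijective φ := by
  have hsurj : Function.Surjective φ := surjective_of_baseChange_surjective I hI φ h.2
  refine ⟨?_, hsurj⟩
  obtain ⟨s, hs⟩ := Module.projective_lifting_property φ LinearMap.id hsurj
  -- projection onto the kernel
  let π : P →ₗ[R] P := LinearMap.id - s.comp φ
  have hπker : ∀ p, π p ∈ LinearMap.ker φ := by
    intro p
    have : φ (s (φ p)) = φ p := by
      have := congrArg (fun f => f (φ p)) hs
      simpa using this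
    simp [π, LinearMap.mem_ker, this]
  have hπid : ∀ k ∈ LinearMap.ker φ, π k = k := by
    intro k hk
    rw [LinearMap.mem_ker] at hk
    simp [π, hk]
  have hKfg : (LinearMap.ker φ).FG := by
    have : LinearMap.ker φ = LinearMap.range π := by
      apply le_antisymm
      · intro k hk; exact ⟨k, hπid k hk⟩
      · rintro _ ⟨p, rfl⟩; exact hπker p
    rw [this]
    exact (Module.Finite.fg_top (R := R) (M := P)).map π |> fun h => by rwa [Submodule.map_top] at h
  have hKle : LinearMap.ker φ ≤ I • LinearMap.ker φ := by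
    intro k hk
    have h0 : (φ.baseChange (R ⧸ I)) ((1 : R ⧸ I) ⊗ₜ[R] k) = 0 := by
      rw [LinearMap.baseChange_tmul, LinearMap.mem_ker.mp hk, tmul_zero]
    have h1 : (1 : R ⧸ I) ⊗ₜ[R] k = 0 := h.1 (by rw [h0, map_zero])
    rw [one_tmul_eq_zero_iff] at h1
    have h2 : π k ∈ Submodule.map π (I • ⊤ : Submodule R P) := Submodule.mem_map_of_mem h1
    rw [Submodule.map_smul'', hπid k hk] at h2
    refine Submodule.smul_mono le_rfl ?_ h2
    rintro _ ⟨p, -, rfl⟩
    exact hπker p
  have hK : LinearMap.ker φ = ⊥ := Submodule.eq_bot_of_le_smul_of_le_jacobson_bot I _ hKfg hKle hI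
  exact LinearMap.ker_eq_bot.mp hK

theorem nonempty_linearEquiv_of_baseChange (hI : I ≤ Ideal.jacobson (⊥ : Ideal R)) (P P' : Type*)
    [AddCommGroup P] [Module R P] [Module.Finite R P] [Module.Projective R P]
    [AddCommGroup P'] [Module R P'] [Module.Finite R P'] [Module.Projective R P']
    (e : (R ⧸ I) ⊗[R] P ≃ₗ[R ⧸ I] (R ⧸ I) ⊗[R] P') : Nonempty (P ≃ₗ[R] P') := by
  let g : P →ₗ[R] (R ⧸ I) ⊗[R] P' :=
    (e.toLinearMap.restrictScalars R).comp (TensorProduct.mk R (R ⧸ I) P 1)
  let f : P' →ₗ[R] (R ⧸ I) ⊗[R] P' := TensorProduct.mk R (R ⧸ I) P' 1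
  have hf : Function.Surjective f := fun z => exists_one_tmul I z
  obtain ⟨φ, hφ⟩ := Module.projective_lifting_property f g hf
  have hbc : φ.baseChange (R ⧸ I) = e.toLinearMap := by
    apply TensorProduct.AlgebraTensorModule.curry_injective
    ext p
    have := congrArg (fun h => h p) hφ
    simpa [f, g] using this
  have hbij : Function.Bijective (φ.baseChange (R ⧸ I)) := by
    rw [hbc]; exact e.bijective
  exact ⟨LinearEquiv.ofBijective φ (bijective_of_baseChange_bijective I hI φ hbij)⟩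

end Groth.Agent.Lib.lead.Nak
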