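import Mathlib

/-!
# A normal local domain with separably closed fraction field is strictly henselian
-/

universe u

set_option maxHeartbeats 400000
set_option linter.unusedSectionVars false
set_option linter.style.haveILetI false

open IsLocalRing Polynomial

namespace Groth.Agent.Lib.lead.NormalSepClosed

/-- a simple root (in an extension `L` of the separably closed fraction field) of a monic polynomial
over a normal domain lies in the domain -/
theorem exists_of_simple_root {A K L : Type*} [CommRing A] [IsDomain A] [Field K] [Algebra A K]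
    [IsFractionRing A K] [IsIntegrallyClosed A] [IsSepClosed K] [Field L] [Algebra K L]
    [Algebra A L] [IsScalarTower A K L]
    (f : A[X]) (hf : f.Monic) (β : L) (h0 : aeval β f = 0) (h1 : aeval β (derivative f) ≠ 0) :
    ∃ a : A, algebraMap A L a = β := by
  have hβint : IsIntegral A β := ⟨f, hf, by rwa [← aeval_def]⟩
  have hβintK : IsIntegral K β := hβint.tower_top
  have hirr : Irreducible (minpoly K β) := minpoly.irreducible hβintK
  have hdvd : minpoly K β ∣ f.map (algebraMap A K) :=
    minpoly.dvd K β (by rw [aeval_map_algebraMap]; exact h0)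
  obtain ⟨k, hk⟩ := hdvd
  have hsep : (minpoly K β).Separable := by
    rw [Polynomial.separable_iff_derivative_ne_zero hirr]
    intro hd
    apply h1
    have : aeval β (derivative (f.map (algebraMap A K))) = 0 := by
      rw [hk, derivative_mul, hd, zero_mul, zero_add, map_mul, minpoly.aeval, zero_mul]
    rwa [derivative_map, aeval_map_algebraMap] at this
  have hdeg : (minpoly K β).degree = 1 := IsSepClosed.degree_eq_one_of_irreducible K hirr hsep
  obtain ⟨b, hb⟩ := minpoly.mem_range_of_degree_eq_one K β hdeg
  have hbint : IsIntegral A b := by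
    rw [← hb] at hβint
    exact (isIntegral_algebraMap_iff (algebraMap K L).injective).mp hβint
  obtain ⟨a, ha⟩ := IsIntegrallyClosed.isIntegral_iff.mp hbint
  exact ⟨a, by rw [IsScalarTower.algebraMap_apply A K L, ha, hb]⟩

theorem exists_mem_of_prod_mem {A L : Type*} [CommRing A] [CommRing L] [Algebra A L]
    (S : Subalgebra A L) (M : Ideal S) [hM : M.IsPrime] (s : Multiset L) :
    (∀ x ∈ s, x ∈ S) → (∀ h : s.prod ∈ S, (⟨s.prod, h⟩ : S) ∈ M) →
    ∃ x, x ∈ s ∧ ∃ hx : x ∈ S, (⟨x, hx⟩ : S) ∈ M := by
  induction s using Multiset.induction_on with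
  | empty =>
    intro _ hprod
    exfalso
    have h1 : (1 : S) ∈ M := by
      have := hprod (by rw [Multiset.prod_zero]; exact S.one_mem)
      convert this using 1
      ext
      simp
    exact hM.ne_top ((Ideal.eq_top_iff_one M).mpr h1)
  | cons a t ih =>
    intro hs hprod
    have ha : a ∈ S := hs a (Multiset.mem_cons_self a t)
    have ht : ∀ x ∈ t, x ∈ S := fun x hx => hs x (Multiset.mem_cons_of_mem hx)
    have htp : t.prod ∈ S := Subalgebra.multiset_prod_mem S ht
    have h2 : (⟨a, ha⟩ : S) * ⟨t.prod, htp⟩ ∈ M := by
      have := hprod (by rw [Multiset.prod_cons]; exact S.mul_mem ha htp)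
      convert this using 1
      ext
      simp
    rcases hM.mem_or_mem h2 with h | h
    · exact ⟨a, Multiset.mem_cons_self a t, ha, h⟩
    · obtain ⟨x, hx, hxS, hxM⟩ := ih ht (fun _ => h)
      exact ⟨x, Multiset.mem_cons_of_mem hx, hxS, hxM⟩

section main

theorem henselian (A K : Type u) [CommRing A] [IsDomain A] [IsLocalRing A] [Field K] [Algebra A K]
    [IsFractionRing A K] [IsIntegrallyClosed A] [IsSepClosed K] : HenselianLocalRing A := by
  let L := AlgebraicClosure K
  haveI : IsScalarTower A K L := inferInstance
  have hinj : Function.Injective (algebraMap A L) := by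
    rw [IsScalarTower.algebraMap_eq A K L]
    exact (algebraMap K L).injective.comp (IsFractionRing.injective A K)
  obtain ⟨M, hM⟩ := Ideal.exists_maximal (integralClosure A L)
  have hMA : M.comap (algebraMap A (integralClosure A L)) = maximalIdeal A :=
    eq_maximalIdeal (Ideal.isMaximal_comap_of_isIntegral_of_isMaximal M)
  refine { toIsLocalRing := inferInstance, is_henselian := ?_ }
  intro f hf a₀ h₁ h₂
  have hsplit : (f.map (algebraMap A L)).Splits := IsAlgClosed.splits _
  have hprod := hsplit.aeval_eq_prod_aroots_of_monic hf (algebraMap A L a₀)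
  rw [aeval_algebraMap_apply] at hprod
  have hsub : ∀ x ∈ (f.aroots L).map (algebraMap A L a₀ - ·), x ∈ integralClosure A L := by
    intro x hx
    rw [Multiset.mem_map] at hx
    obtain ⟨β, hβ, rfl⟩ := hx
    have hβ0 : aeval β f = 0 := (mem_aroots'.mp hβ).2
    exact Subalgebra.sub_mem _ (Subalgebra.algebraMap_mem _ _) ⟨f, hf, by rwa [← aeval_def]⟩
  obtain ⟨x, hx, hxS, hxM⟩ := exists_mem_of_prod_mem (integralClosure A L) M _ hsub (by
    intro h
    have h3 : algebraMap A (integralClosure A L) (aeval a₀ f) ∈ M := by
      rw [← Ideal.mem_comap, hMA]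
      rw [coe_aeval_eq_eval]
      exact h₁
    convert h3 using 1
    ext
    exact hprod.symm)
  rw [Multiset.mem_map] at hx
  obtain ⟨β, hβ, rfl⟩ := hx
  have hβ0 : aeval β f = 0 := (mem_aroots'.mp hβ).2
  have hβS : β ∈ integralClosure A L := ⟨f, hf, by rwa [← aeval_def]⟩
  -- derivative at β is not in M
  have hsubM : algebraMap A (integralClosure A L) a₀ - ⟨β, hβS⟩ ∈ M := by
    convert hxM using 1
    exact Subtype.ext rfl
  have hder : aeval (⟨β, hβS⟩ : integralClosure A L) (derivative f) ∉ M := by
    intro hmem
    have hdvd := Polynomial.sub_dvd_eval_sub (algebraMap A (integralClosure A L) a₀)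
      (⟨β, hβS⟩ : integralClosure A L) ((derivative f).map (algebraMap A (integralClosure A L)))
    have h4 : eval (algebraMap A (integralClosure A L) a₀)
        ((derivative f).map (algebraMap A (integralClosure A L))) -
        eval (⟨β, hβS⟩ : integralClosure A L)
          ((derivative f).map (algebraMap A (integralClosure A L))) ∈ M :=
      Ideal.mem_of_dvd M hdvd hsubM
    rw [eval_map_algebraMap, eval_map_algebraMap] at h4
    have h5 : aeval (algebraMap A (integralClosure A L) a₀) (derivative f) ∈ M := by
      have := Ideal.add_mem M h4 hmem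
      simpa using this
    rw [aeval_algebraMap_apply, ← Ideal.mem_comap, hMA, coe_aeval_eq_eval] at h5
    exact h5 h₂
  have hder' : aeval β (derivative f) ≠ 0 := by
    intro h0
    apply hder
    have : aeval (⟨β, hβS⟩ : integralClosure A L) (derivative f) = 0 := by
      apply Subtype.ext
      rw [Polynomial.aeval_subalgebra_coe]
      exact h0
    rw [this]
    exact M.zero_mem
  obtain ⟨a, ha⟩ := exists_of_simple_root (K := K) f hf β hβ0 hder'
  refine ⟨a, ?_, ?_⟩
  · apply hinj
    rw [map_zero, ← hβ0, ← ha, aeval_algebraMap_apply]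
    rfl
  · rw [← hMA, Ideal.mem_comap, map_sub]
    have : algebraMap A (integralClosure A L) a = ⟨β, hβS⟩ := Subtype.ext ha
    rw [this]
    have := M.neg_mem hsubM
    simpa using this

theorem isSepClosed_residueField (A K : Type u) [CommRing A] [IsDomain A] [IsLocalRing A] [Field K]
    [Algebra A K] [IsFractionRing A K] [IsIntegrallyClosed A] [IsSepClosed K] :
    IsSepClosed (ResidueField A) := by
  let L := AlgebraicClosure K
  haveI : IsScalarTower A K L := inferInstance
  have hinj : Function.Injective (algebraMap A L) := by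
    rw [IsScalarTower.algebraMap_eq A K L]
    exact (algebraMap K L).injective.comp (IsFractionRing.injective A K)
  obtain ⟨M, hM⟩ := Ideal.exists_maximal (integralClosure A L)
  have hMA : M.comap (algebraMap A (integralClosure A L)) = maximalIdeal A :=
    eq_maximalIdeal (Ideal.isMaximal_comap_of_isIntegral_of_isMaximal M)
  apply IsSepClosed.of_exists_root
  intro p hpm hpirr hpsep
  obtain ⟨f, hfmap, hfdeg, hfm⟩ := Polynomial.lifts_and_degree_eq_and_monic (f := residue A)
    (p := p) (by
      rw [Polynomial.mem_lifts]; exact Polynomial.map_surjective _ residue_surjective p) hpm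
  have hfdeg' : f.degree ≠ 0 := by
    rw [hfdeg]; exact (Polynomial.degree_pos_of_irreducible hpirr).ne'
  haveI : FaithfulSMul A L := (faithfulSMul_iff_algebraMap_injective A L).mpr hinj
  obtain ⟨β, hβ0⟩ := IsAlgClosed.exists_aeval_eq_zero L f hfdeg'
  have hβS : β ∈ integralClosure A L := ⟨f, hfm, by rwa [← aeval_def]⟩
  letI := Ideal.Quotient.field M
  let ψ : integralClosure A L →+* (integralClosure A L ⧸ M) := Ideal.Quotient.mk M
  let ι : ResidueField A →+* (integralClosure A L ⧸ M) :=
    Ideal.Quotient.lift (maximalIdeal A) (ψ.comp (algebraMap A _)) (fun a ha => by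
      rw [RingHom.comp_apply, Ideal.Quotient.eq_zero_iff_mem, ← Ideal.mem_comap, hMA]; exact ha)
  have hι : ι.comp (residue A) = ψ.comp (algebraMap A _) := RingHom.ext fun a => rfl
  have hβB : eval₂ (algebraMap A _) (⟨β, hβS⟩ : integralClosure A L) f = 0 := by
    rw [← aeval_def]; apply Subtype.ext; rw [aeval_subalgebra_coe]; exact hβ0
  have hder : aeval (⟨β, hβS⟩ : integralClosure A L) (derivative f) ∉ M := by
    intro hmem
    have h1 : (derivative p).eval₂ ι (ψ ⟨β, hβS⟩) ≠ 0 :=
      hpsep.eval₂_derivative_ne_zero ι (by
        rw [← hfmap, Polynomial.eval₂_map, hι, ← Polynomial.hom_eval₂, hβB, map_zero])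
    apply h1
    rw [← hfmap, derivative_map, eval₂_map, hι, ← hom_eval₂, ← aeval_def]
    exact Ideal.Quotient.eq_zero_iff_mem.mpr hmem
  have hder' : aeval β (derivative f) ≠ 0 := by
    intro h0
    apply hder
    have : aeval (⟨β, hβS⟩ : integralClosure A L) (derivative f) = 0 := by
      apply Subtype.ext
      rw [Polynomial.aeval_subalgebra_coe]
      exact h0
    rw [this]
    exact M.zero_mem
  obtain ⟨a, ha⟩ := exists_of_simple_root (K := K) f hfm β hβ0 hder'
  refine ⟨residue A a, ?_⟩
  have hfa : f.eval a = 0 := by
    apply hinj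
    rw [map_zero, ← hβ0, ← ha, aeval_algebraMap_apply]
    rfl
  rw [← hfmap, eval_map, eval₂_at_apply, hfa, map_zero]

end main

end Groth.Agent.Lib.lead.NormalSepClosed
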