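import Mathlib
import Groth.Agent.Lib.lead.PITensor

universe u
set_option maxHeartbeats 400000
set_option linter.style.haveILetI false

open IsLocalRing TensorProduct

namespace Groth.Agent.Lib.lead.PITensor

theorem main13198 (R A B : Type u) [CommRing R] [IsLocalRing R]
    [CommRing A] [IsLocalRing A] [Algebra R A] [IsLocalHom (algebraMap R A)] [Algebra.IsIntegral R A]
    [IsPurelyInseparable (ResidueField R) (ResidueField A)]
    [CommRing B] [IsLocalRing B] [Algebra R B] [IsLocalHom (algebraMap R B)] :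
    ∃ _ : IsLocalRing (A ⊗[R] B),
      IsLocalHom (Algebra.TensorProduct.includeRight : B →ₐ[R] A ⊗[R] B).toRingHom ∧
      ∀ x : A ⊗[R] B, ∃ (n : ℕ) (b : B),
        x ^ (ringExpChar (ResidueField B)) ^ n - (1 : A) ⊗ₜ[R] b ∈ maximalIdeal (A ⊗[R] B) := by
  haveI hT' : IsLocalRing (B ⊗[R] A) := (main R B A (Or.inl inferInstance)).1
  let e : B ⊗[R] A ≃ₐ[R] A ⊗[R] B := Algebra.TensorProduct.comm R B A
  haveI hT : IsLocalRing (A ⊗[R] B) := e.toRingEquiv.isLocalRing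
  have hunit : ∀ t : B ⊗[R] A, IsUnit (e t) → IsUnit t := fun t h => by
    simpa using h.map e.symm
  have hmem : ∀ t : B ⊗[R] A, t ∈ maximalIdeal (B ⊗[R] A) → e t ∈ maximalIdeal (A ⊗[R] B) := by
    intro t ht
    rw [mem_maximalIdeal] at ht ⊢
    exact fun h => ht (hunit t h)
  have hB : ∀ b : B, b ∈ maximalIdeal B → (1 : A) ⊗ₜ[R] b ∈ maximalIdeal (A ⊗[R] B) := by
    intro b hb
    rw [← comap_includeLeft R B A (maximalIdeal (B ⊗[R] A)), Ideal.mem_comap] at hb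
    exact hmem _ hb
  have hA : ∀ a : A, a ∈ maximalIdeal A → a ⊗ₜ[R] (1 : B) ∈ maximalIdeal (A ⊗[R] B) := by
    intro a ha
    rw [← comap_includeRight R B A (maximalIdeal (B ⊗[R] A)), Ideal.mem_comap] at ha
    exact hmem _ ha
  have hloc : IsLocalHom (Algebra.TensorProduct.includeRight : B →ₐ[R] A ⊗[R] B).toRingHom := by
    refine ⟨fun b hb => ?_⟩
    by_contra hnu
    exact (mem_maximalIdeal _).mp (hB b ((mem_maximalIdeal b).mpr hnu)) hb
  refine ⟨hT, hloc, ?_⟩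
  -- the p-power statement
  set q := ringExpChar (ResidueField B) with hq
  let L := ResidueField (A ⊗[R] B)
  let ρ : A ⊗[R] B →+* L := residue (A ⊗[R] B)
  haveI : ExpChar (ResidueField B) q := ringExpChar.expChar _
  let ι : ResidueField B →+* L := ResidueField.map
    (Algebra.TensorProduct.includeRight : B →ₐ[R] A ⊗[R] B).toRingHom
  haveI : ExpChar L q := expChar_of_injective_ringHom ι.injective q
  haveI : ExpChar (ResidueField R) q := by
    haveI h1 : ExpChar (ResidueField B) (ringExpChar (ResidueField R)) :=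
      expChar_of_injective_algebraMap (algebraMap (ResidueField R) (ResidueField B)).injective _
    have h2 : q = ringExpChar (ResidueField R) := ringExpChar.eq (ResidueField B) _
    rw [h2]
    exact ringExpChar.expChar _
  have hP1 : ∀ b : B, ∃ (n : ℕ) (b' : B), ρ ((1 : A) ⊗ₜ[R] b) ^ q ^ n = ρ ((1 : A) ⊗ₜ[R] b') :=
    fun b => ⟨0, b, by simp⟩
  have hPA : ∀ a : A, ∃ (n : ℕ) (b' : B), ρ (a ⊗ₜ[R] (1 : B)) ^ q ^ n = ρ ((1 : A) ⊗ₜ[R] b') := by
    intro a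
    obtain ⟨n, r, hr⟩ := IsPurelyInseparable.pow_mem (ResidueField R) q (residue A a)
    obtain ⟨r0, rfl⟩ := residue_surjective r
    refine ⟨n, algebraMap R B r0, ?_⟩
    have h1 : a ^ q ^ n - algebraMap R A r0 ∈ maximalIdeal A := by
      rw [← residue_eq_zero_iff, map_sub, map_pow, ← hr, sub_eq_zero]
      rfl
    have h2 := hA _ h1
    rw [← residue_eq_zero_iff] at h2
    have h3 : (a ^ q ^ n - algebraMap R A r0) ⊗ₜ[R] (1 : B) =
        (a ⊗ₜ[R] (1 : B)) ^ q ^ n - (1 : A) ⊗ₜ[R] (algebraMap R B r0) := by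
      rw [TensorProduct.sub_tmul, Algebra.TensorProduct.tmul_pow, one_pow,
        Algebra.algebraMap_eq_smul_one, Algebra.algebraMap_eq_smul_one, TensorProduct.smul_tmul]
    rw [h3, map_sub, map_pow, sub_eq_zero] at h2
    exact h2
  have hmul : ∀ x y : A ⊗[R] B,
      (∃ (n : ℕ) (b' : B), ρ x ^ q ^ n = ρ ((1 : A) ⊗ₜ[R] b')) →
      (∃ (n : ℕ) (b' : B), ρ y ^ q ^ n = ρ ((1 : A) ⊗ₜ[R] b')) →
      ∃ (n : ℕ) (b' : B), ρ (x * y) ^ q ^ n = ρ ((1 : A) ⊗ₜ[R] b') := by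
    rintro x y ⟨n, b, hx⟩ ⟨m, c, hy⟩
    refine ⟨n + m, b ^ q ^ m * c ^ q ^ n, ?_⟩
    have e1 : ρ x ^ q ^ (n + m) = ρ ((1 : A) ⊗ₜ[R] (b ^ q ^ m)) := by
      rw [pow_add, pow_mul, hx, ← map_pow, Algebra.TensorProduct.tmul_pow, one_pow]
    have e2 : ρ y ^ q ^ (n + m) = ρ ((1 : A) ⊗ₜ[R] (c ^ q ^ n)) := by
      rw [add_comm n m, pow_add, pow_mul, hy, ← map_pow, Algebra.TensorProduct.tmul_pow, one_pow]
    rw [map_mul, mul_pow, e1, e2, ← map_mul, Algebra.TensorProduct.tmul_mul_tmul, one_mul]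
  have hadd : ∀ x y : A ⊗[R] B,
      (∃ (n : ℕ) (b' : B), ρ x ^ q ^ n = ρ ((1 : A) ⊗ₜ[R] b')) →
      (∃ (n : ℕ) (b' : B), ρ y ^ q ^ n = ρ ((1 : A) ⊗ₜ[R] b')) →
      ∃ (n : ℕ) (b' : B), ρ (x + y) ^ q ^ n = ρ ((1 : A) ⊗ₜ[R] b') := by
    rintro x y ⟨n, b, hx⟩ ⟨m, c, hy⟩
    refine ⟨n + m, b ^ q ^ m + c ^ q ^ n, ?_⟩
    have e1 : ρ x ^ q ^ (n + m) = ρ ((1 : A) ⊗ₜ[R] (b ^ q ^ m)) := by
      rw [pow_add, pow_mul, hx, ← map_pow, Algebra.TensorProduct.tmul_pow, one_pow]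
    have e2 : ρ y ^ q ^ (n + m) = ρ ((1 : A) ⊗ₜ[R] (c ^ q ^ n)) := by
      rw [add_comm n m, pow_add, pow_mul, hy, ← map_pow, Algebra.TensorProduct.tmul_pow, one_pow]
    rw [map_add, add_pow_expChar_pow, e1, e2, ← map_add, TensorProduct.tmul_add]
  have hall : ∀ x : A ⊗[R] B, ∃ (n : ℕ) (b' : B), ρ x ^ q ^ n = ρ ((1 : A) ⊗ₜ[R] b') := by
    intro x
    induction x using TensorProduct.induction_on with
    | zero => exact ⟨0, 0, by simp⟩
    | tmul a b =>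
      have : a ⊗ₜ[R] b = (a ⊗ₜ[R] (1 : B)) * ((1 : A) ⊗ₜ[R] b) := by
        rw [Algebra.TensorProduct.tmul_mul_tmul, mul_one, one_mul]
      rw [this]
      exact hmul _ _ (hPA a) (hP1 b)
    | add x y hx hy => exact hadd _ _ hx hy
  intro x
  obtain ⟨n, b, h⟩ := hall x
  refine ⟨n, b, ?_⟩
  rw [← residue_eq_zero_iff, map_sub, map_pow, sub_eq_zero]
  exact h

end Groth.Agent.Lib.lead.PITensor
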