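import Mathlib
import Groth.Agent.S0703

set_option autoImplicit false
universe u
set_option maxHeartbeats 400000

namespace Groth.Agent.Lib.lead.PQ
open PrimeSpectrum

theorem preimage_eq_iInter (A : Type u) [CommRing A]
    (T : Set (ConnectedComponents (PrimeSpectrum A))) (hT : IsClosed T) :
    ConnectedComponents.mk ⁻¹' T =
      ⋂ e ∈ {e : A | IsIdempotentElem e ∧
        ConnectedComponents.mk ⁻¹' T ⊆ (basicOpen e : Set (PrimeSpectrum A))},
        (basicOpen e : Set (PrimeSpectrum A)) := by
  haveI : T2Space (ConnectedComponents (PrimeSpectrum A)) :=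
    Groth.Agent.S0703.t2_connectedComponents (PrimeSpectrum A)
  apply Set.Subset.antisymm
  · intro x hx
    simp only [Set.mem_iInter]
    intro e he
    exact he.2 hx
  · intro x hx
    by_contra hxT
    have hxT' : ConnectedComponents.mk x ∈ Tᶜ := hxT
    obtain ⟨W, hW, hxW, hWT⟩ :=
      (isTopologicalBasis_isClopen (X := ConnectedComponents (PrimeSpectrum A))).exists_subset_of_mem_open
        hxT' hT.isOpen_compl
    have hU : IsClopen (ConnectedComponents.mk ⁻¹' Wᶜ : Set (PrimeSpectrum A)) :=
      (hW.compl).preimage ConnectedComponents.continuous_coe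
    obtain ⟨e, he, heq⟩ := PrimeSpectrum.isClopen_iff.mp hU
    have hmem : e ∈ {e : A | IsIdempotentElem e ∧
        ConnectedComponents.mk ⁻¹' T ⊆ (basicOpen e : Set (PrimeSpectrum A))} := by
      refine ⟨he, ?_⟩
      rw [← heq]
      intro y hy
      show ConnectedComponents.mk y ∈ Wᶜ
      intro hyW
      exact hWT hyW hy
    simp only [Set.mem_iInter] at hx
    have := hx e hmem
    rw [← heq] at this
    exact this hxW

end Groth.Agent.Lib.lead.PQ
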