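import Mathlib
import Groth.Agent.Lib.lead.DirSys

set_option autoImplicit false
universe u
set_option maxHeartbeats 400000

namespace Groth.Agent.Lib.lead.PQ
open CategoryTheory Limits

variable {A : Type u} [CommRing A]

/-- a multiplicative system of idempotents -/
structure IdemSys (A : Type u) [CommRing A] where
  E : Set A
  idem : ∀ e ∈ E, IsIdempotentElem e
  one_mem : (1 : A) ∈ E
  mul_mem : ∀ a ∈ E, ∀ b ∈ E, a * b ∈ E

namespace IdemSys

variable (S : IdemSys A)

/-- the ideal generated by the complementary idempotents -/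
def J : Ideal A := Ideal.span ((fun e => 1 - e) '' S.E)

def Idx := {e : A // e ∈ S.E}

instance : Preorder S.Idx where
  le a b := a.1 * b.1 = b.1
  le_refl a := S.idem a.1 a.2
  le_trans a b c hab hbc := by
    show a.1 * c.1 = c.1
    have hbc' : b.1 * c.1 = c.1 := hbc
    have hab' : a.1 * b.1 = b.1 := hab
    rw [← hbc', ← mul_assoc, hab']

instance : Nonempty S.Idx := ⟨⟨1, S.one_mem⟩⟩

instance : IsDirectedOrder S.Idx where
  directed a b := ⟨⟨a.1 * b.1, S.mul_mem _ a.2 _ b.2⟩, by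
    show a.1 * (a.1 * b.1) = a.1 * b.1
    rw [← mul_assoc, (S.idem a.1 a.2).eq], by
    show b.1 * (a.1 * b.1) = a.1 * b.1
    rw [mul_comm a.1 b.1, ← mul_assoc, (S.idem b.1 b.2).eq]⟩

theorem span_le_of_le {a b : S.Idx} (h : a ≤ b) :
    Ideal.span {1 - a.1} ≤ Ideal.span {1 - b.1} := by
  rw [Ideal.span_singleton_le_iff_mem, Ideal.mem_span_singleton]
  have h' : a.1 * b.1 = b.1 := h
  refine ⟨1 - a.1, ?_⟩
  linear_combination -h'

theorem span_le_J (a : S.Idx) : Ideal.span {1 - a.1} ≤ S.J := by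
  rw [Ideal.span_singleton_le_iff_mem]
  exact Ideal.subset_span ⟨a.1, a.2, rfl⟩

theorem exists_of_mem_J {x : A} (hx : x ∈ S.J) : ∃ e : S.Idx, x ∈ Ideal.span {1 - e.1} := by
  induction hx using Submodule.span_induction with
  | mem y hy =>
    obtain ⟨e, he, rfl⟩ := hy
    exact ⟨⟨e, he⟩, Ideal.subset_span (Set.mem_singleton _)⟩
  | zero => exact ⟨⟨1, S.one_mem⟩, Ideal.zero_mem _⟩
  | add y z _ _ hy hz =>
    obtain ⟨a, ha⟩ := hy
    obtain ⟨b, hb⟩ := hz
    obtain ⟨c, hac, hbc⟩ := exists_ge_ge a b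
    exact ⟨c, Ideal.add_mem _ (S.span_le_of_le hac ha) (S.span_le_of_le hbc hb)⟩
  | smul r y _ hy =>
    obtain ⟨a, ha⟩ := hy
    exact ⟨a, Ideal.mul_mem_left _ _ ha⟩

/-- the directed system of quotients -/
noncomputable def dirSys : DirSys A (A ⧸ S.J) S.Idx where
  St e := A ⧸ Ideal.span {1 - e.1}
  tr a b h := Ideal.Quotient.factorₐ A (S.span_le_of_le h)
  tr_refl a := by
    apply Ideal.Quotient.algHom_ext
    ext
  tr_trans a b c h h' := by
    apply Ideal.Quotient.algHom_ext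
    ext
  φ a := Ideal.Quotient.factorₐ A (S.span_le_J a)
  compat a b h := by
    apply Ideal.Quotient.algHom_ext
    ext
  surj b := by
    obtain ⟨a, rfl⟩ := Ideal.Quotient.mk_surjective b
    exact ⟨⟨1, S.one_mem⟩, Ideal.Quotient.mk _ a, rfl⟩
  ker i x hx := by
    obtain ⟨a, rfl⟩ := Ideal.Quotient.mk_surjective x
    have ha : a ∈ S.J := by
      rw [← Ideal.Quotient.eq_zero_iff_mem]
      exact hx
    obtain ⟨e, he⟩ := S.exists_of_mem_J ha
    obtain ⟨c, hic, hec⟩ := exists_ge_ge i e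
    refine ⟨c, hic, ?_⟩
    show Ideal.Quotient.mk _ a = 0
    rw [Ideal.Quotient.eq_zero_iff_mem]
    exact S.span_le_of_le hec he

theorem isIndZariski : EtPBC.IsIndZariski A (A ⧸ S.J) := by
  refine ⟨S.Idx, inferInstance, inferInstance, S.dirSys.diag, S.dirSys.cocone,
    S.dirSys.isColimit.some, fun i => ?_, ⟨Iso.refl _⟩⟩
  change (letI := (algebraMap A (S.dirSys.St i)).toAlgebra; Algebra.IsLocalIso A (S.dirSys.St i))
  have : (algebraMap A (S.dirSys.St i)).toAlgebra = S.dirSys.alg i :=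
    Algebra.algebra_ext _ _ (fun r => rfl)
  rw [this]
  haveI : IsLocalization.Away i.1 (A ⧸ Ideal.span {1 - i.1}) :=
    IsLocalization.Away.quotient_of_isIdempotentElem (S.idem i.1 i.2)
  haveI : Algebra.IsStandardOpenImmersion A (A ⧸ Ideal.span {1 - i.1}) := ⟨⟨i.1, inferInstance⟩⟩
  exact (inferInstance : Algebra.IsLocalIso A (A ⧸ Ideal.span {1 - i.1}))

end IdemSys

end Groth.Agent.Lib.lead.PQ
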