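import Mathlib
import Groth.Agent.Lib.lead.PQ1
import Groth.Agent.Lib.lead.PQ2

set_option autoImplicit false
universe u
set_option maxHeartbeats 400000

namespace Groth.Agent.Lib.lead.PQ
open PrimeSpectrum

theorem one_sub_mem_iff {A : Type u} [CommRing A] {e : A} (he : IsIdempotentElem e)
    (x : PrimeSpectrum A) : 1 - e ∈ x.asIdeal ↔ e ∉ x.asIdeal := by
  constructor
  · intro h1 h2
    have : (1 : A) ∈ x.asIdeal := by
      have := Ideal.add_mem _ h1 h2
      simpa using this
    exact x.isPrime.ne_top ((Ideal.eq_top_iff_one _).mpr this)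
  · intro h
    have h0 : e * (1 - e) ∈ x.asIdeal := by
      have : e * (1 - e) = 0 := by rw [mul_sub, mul_one, he.eq, sub_self]
      rw [this]; exact Ideal.zero_mem _
    rcases x.isPrime.mem_or_mem h0 with h1 | h1
    · exact absurd h1 h
    · exact h1

/-- the idempotent system attached to a closed subset of `π₀` -/
def sysOf (A : Type u) [CommRing A] (T : Set (ConnectedComponents (PrimeSpectrum A))) :
    IdemSys A where
  E := {e : A | IsIdempotentElem e ∧
        ConnectedComponents.mk ⁻¹' T ⊆ (basicOpen e : Set (PrimeSpectrum A))}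
  idem e he := he.1
  one_mem := ⟨IsIdempotentElem.one, by simp⟩
  mul_mem a ha b hb := ⟨ha.1.mul hb.1, by
    rw [basicOpen_mul]
    exact fun x hx => ⟨ha.2 hx, hb.2 hx⟩⟩

theorem main (A : Type u) [CommRing A]
    (T : Set (ConnectedComponents (PrimeSpectrum A))) (hT : IsClosed T) :
    EtPBC.IsIndZariski A (A ⧸ (sysOf A T).J) ∧
      Function.Surjective (algebraMap A (A ⧸ (sysOf A T).J)) ∧
      Topology.IsEmbedding (PrimeSpectrum.comap (algebraMap A (A ⧸ (sysOf A T).J))) ∧
      Set.range (PrimeSpectrum.comap (algebraMap A (A ⧸ (sysOf A T).J))) =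
        ConnectedComponents.mk ⁻¹' T := by
  have hsurj : Function.Surjective (algebraMap A (A ⧸ (sysOf A T).J)) :=
    Ideal.Quotient.mk_surjective
  refine ⟨(sysOf A T).isIndZariski, hsurj,
    (PrimeSpectrum.isClosedEmbedding_comap_of_surjective _ _ hsurj).isEmbedding, ?_⟩
  rw [range_comap_of_surjective _ _ hsurj, preimage_eq_iInter A T hT]
  have hker : RingHom.ker (algebraMap A (A ⧸ (sysOf A T).J)) = (sysOf A T).J := Ideal.mk_ker
  rw [hker]
  ext x
  simp only [Set.mem_iInter, mem_zeroLocus, SetLike.coe_subset_coe]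
  constructor
  · intro h e he
    have h1 : 1 - e ∈ x.asIdeal := h (Ideal.subset_span ⟨e, he, rfl⟩)
    exact (one_sub_mem_iff he.1 x).mp h1
  · intro h
    show (sysOf A T).J ≤ x.asIdeal
    unfold IdemSys.J
    rw [Ideal.span_le]
    rintro _ ⟨e, he, rfl⟩
    exact (one_sub_mem_iff he.1 x).mpr (h e he)

end Groth.Agent.Lib.lead.PQ
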