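import Mathlib
import Groth.Agent.Lib.lead.PairColim

/-!
# A directed colimit of henselian pairs over a fixed base `(A, I)` is a henselian pair
-/

universe u

set_option maxHeartbeats 400000

open Polynomial

namespace Groth.Agent.Lib.lead.PairColimConst

open Groth.Agent.Lib.lead.Hensel Groth.Agent.Lib.lead.PairColim

variable {ι : Type u} [Preorder ι] [IsDirectedOrder ι] [Nonempty ι]
    (A : Type u) [CommRing A] (I : Ideal A)
    (B : ι → Type u) [∀ i, CommRing (B i)] [∀ i, Algebra A (B i)]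
    (g : ∀ i j : ι, i ≤ j → (B i →+* B j)) [DirectedSystem B (fun i j h => g i j h)]
    (hg : ∀ (i j : ι) (h : i ≤ j), (g i j h).comp (algebraMap A (B i)) = algebraMap A (B j))
    [Algebra A (DirectLimit B g)]
    (halg : ∀ (i : ι) (x : A), algebraMap A (DirectLimit B g) x =
      DirectLimit.Ring.of B g i (algebraMap A (B i) x))

/-- the stage ideals -/
abbrev K (i : ι) : Ideal (B i) := I.map (algebraMap A (B i))

include hg in
theorem K_map_le (i j : ι) (h : i ≤ j) : (K A I B i).map (g i j h) ≤ K A I B j := by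
  unfold K
  rw [Ideal.map_map, hg]

/-- the ideal of elements coming from some stage ideal -/
def T (hg : ∀ (i j : ι) (h : i ≤ j), (g i j h).comp (algebraMap A (B i)) = algebraMap A (B j)) :
    Ideal (DirectLimit B g) where
  carrier := {x | ∃ j, ∃ y ∈ K A I B j, DirectLimit.Ring.of B g j y = x}
  add_mem' := by
    rintro _ _ ⟨j₁, y₁, hy₁, rfl⟩ ⟨j₂, y₂, hy₂, rfl⟩
    obtain ⟨k, h1, h2⟩ := exists_ge_ge j₁ j₂
    refine ⟨k, g j₁ k h1 y₁ + g j₂ k h2 y₂, Ideal.add_mem _ ?_ ?_, ?_⟩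
    · exact K_map_le A I B g hg j₁ k h1 (Ideal.mem_map_of_mem _ hy₁)
    · exact K_map_le A I B g hg j₂ k h2 (Ideal.mem_map_of_mem _ hy₂)
    · rw [map_add, DirectLimit.Ring.of_f, DirectLimit.Ring.of_f]
  zero_mem' := ⟨Classical.arbitrary ι, 0, Ideal.zero_mem _, map_zero _⟩
  smul_mem' := by
    rintro c _ ⟨j₁, y₁, hy₁, rfl⟩
    obtain ⟨j₂, c', rfl⟩ := exists_of B g c
    obtain ⟨k, h1, h2⟩ := exists_ge_ge j₁ j₂
    refine ⟨k, g j₂ k h2 c' * g j₁ k h1 y₁, Ideal.mul_mem_left _ _ ?_, ?_⟩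
    · exact K_map_le A I B g hg j₁ k h1 (Ideal.mem_map_of_mem _ hy₁)
    · rw [map_mul, DirectLimit.Ring.of_f, DirectLimit.Ring.of_f, smul_eq_mul]

include hg halg in
theorem mem_K_iff (x : DirectLimit B g) :
    x ∈ I.map (algebraMap A (DirectLimit B g)) ↔
      ∃ j, ∃ y ∈ K A I B j, DirectLimit.Ring.of B g j y = x := by
  constructor
  · intro hx
    have hle : I.map (algebraMap A (DirectLimit B g)) ≤ T A I B g hg := by
      rw [Ideal.map_le_iff_le_comap]
      intro a ha
      change algebraMap A (DirectLimit B g) a ∈ T A I B g hg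
      rw [halg (Classical.arbitrary ι)]
      exact ⟨Classical.arbitrary ι, _, Ideal.mem_map_of_mem _ ha, rfl⟩
    exact hle hx
  · rintro ⟨j, y, hy, rfl⟩
    have h1 : DirectLimit.Ring.of B g j y ∈ (K A I B j).map (DirectLimit.Ring.of B g j) :=
      Ideal.mem_map_of_mem _ hy
    have h2 : (K A I B j).map (DirectLimit.Ring.of B g j) =
        I.map (algebraMap A (DirectLimit B g)) := by
      unfold K
      rw [Ideal.map_map]
      congr 1
      ext a
      exact (halg j a).symm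
    rw [← h2]
    exact h1

include hg halg in
theorem henselian_colim (hB1 : ∀ i, HenselianRing (B i) (K A I B i)) :
    HenselianRing (DirectLimit B g) (I.map (algebraMap A (DirectLimit B g))) := by
  have hjac : I.map (algebraMap A (DirectLimit B g)) ≤ Ideal.jacobson ⊥ := by
    intro x hx
    obtain ⟨j, x', hx', rfl⟩ := (mem_K_iff A I B g hg halg x).mp hx
    rw [Ideal.mem_jacobson_bot]
    intro y
    obtain ⟨j₂, y', rfl⟩ := exists_of B g y
    obtain ⟨k, h1, h2⟩ := exists_ge_ge j j₂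
    have hxk : g j k h1 x' ∈ K A I B k :=
      K_map_le A I B g hg j k h1 (Ideal.mem_map_of_mem _ hx')
    have hu := (Ideal.mem_jacobson_bot.mp ((hB1 k).jac hxk)) (g j₂ k h2 y')
    have := hu.map (DirectLimit.Ring.of B g k)
    rwa [map_add, map_mul, map_one, DirectLimit.Ring.of_f, DirectLimit.Ring.of_f] at this
  refine ⟨hjac, ?_⟩
  intro p hp a₀ h₁ h₂
  rcases subsingleton_or_nontrivial (DirectLimit B g) with hsub | hnt
  · exact ⟨a₀, Subsingleton.elim _ _, by rw [sub_self]; exact Ideal.zero_mem _⟩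
  have hu : IsUnit (p.derivative.eval a₀) := isUnit_of_isUnit_mk _ hjac h₂
  obtain ⟨v, hv⟩ := hu.exists_right_inv
  obtain ⟨i₁, hp₁⟩ := exists_lifts B g p
  obtain ⟨q₁, hq₁map, -, hq₁monic⟩ := Polynomial.lifts_and_degree_eq_and_monic hp₁ hp
  obtain ⟨i₂, a', v', rfl, rfl⟩ := exists_of₂ B g a₀ v
  obtain ⟨i₃, y, hy, hy'⟩ := (mem_K_iff A I B g hg halg _).mp h₁
  obtain ⟨k₀, h10, h20⟩ := exists_ge_ge i₁ i₂
  obtain ⟨k, h0k, h3k⟩ := exists_ge_ge k₀ i₃
  have h1k := h10.trans h0k
  have h2k := h20.trans h0k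
  have hq : (q₁.map (g i₁ k h1k)).map (DirectLimit.Ring.of B g k) = p := by
    rw [Polynomial.map_map, of_comp, hq₁map]
  have hqm : (q₁.map (g i₁ k h1k)).Monic := hq₁monic.map _
  have hevalmap : ∀ (r : (B k)[X]) (b : B k),
      (r.map (DirectLimit.Ring.of B g k)).eval (DirectLimit.Ring.of B g k b) =
        DirectLimit.Ring.of B g k (r.eval b) := by
    intro r b
    rw [Polynomial.eval_map, Polynomial.eval₂_at_apply]
  have e1 : DirectLimit.Ring.of B g k ((q₁.map (g i₁ k h1k)).eval (g i₂ k h2k a')) =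
      DirectLimit.Ring.of B g k (g i₃ k h3k y) := by
    rw [← hevalmap, hq, DirectLimit.Ring.of_f, DirectLimit.Ring.of_f, hy']
  have e2 : DirectLimit.Ring.of B g k
      ((q₁.map (g i₁ k h1k)).derivative.eval (g i₂ k h2k a') * g i₂ k h2k v') =
      DirectLimit.Ring.of B g k 1 := by
    rw [map_mul, ← hevalmap, ← Polynomial.derivative_map, hq, DirectLimit.Ring.of_f,
      DirectLimit.Ring.of_f, hv, map_one]
  obtain ⟨m, hkm, e1', e2'⟩ := exists_stage_eq₂ B g k _ _ _ _ e1 e2
  have hevalg : ∀ (r : (B k)[X]) (b : B k),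
      (r.map (g k m hkm)).eval (g k m hkm b) = g k m hkm (r.eval b) := by
    intro r b
    rw [Polynomial.eval_map, Polynomial.eval₂_at_apply]
  have hK : ((q₁.map (g i₁ k h1k)).map (g k m hkm)).eval (g k m hkm (g i₂ k h2k a')) ∈
      K A I B m := by
    rw [hevalg, e1']
    exact K_map_le A I B g hg _ _ hkm
      (Ideal.mem_map_of_mem _ (K_map_le A I B g hg _ _ h3k (Ideal.mem_map_of_mem _ hy)))
  have hU : IsUnit (((q₁.map (g i₁ k h1k)).map (g k m hkm)).derivative.eval
      (g k m hkm (g i₂ k h2k a'))) := by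
    rw [Polynomial.derivative_map, hevalg]
    rw [map_mul, map_one] at e2'
    exact IsUnit.of_mul_eq_one _ e2'
  obtain ⟨a, ha, haK⟩ := (hB1 m).is_henselian _ (hqm.map _) _ hK (hU.map _)
  refine ⟨DirectLimit.Ring.of B g m a, ?_, ?_⟩
  · have hpm : ((q₁.map (g i₁ k h1k)).map (g k m hkm)).map (DirectLimit.Ring.of B g m) = p := by
      rw [Polynomial.map_map, of_comp, hq]
    rw [Polynomial.IsRoot.def, ← hpm, Polynomial.eval_map, Polynomial.eval₂_at_apply, ha.eq_zero,
      map_zero]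
  · rw [mem_K_iff A I B g hg halg]
    refine ⟨m, _, haK, ?_⟩
    rw [map_sub, DirectLimit.Ring.of_f, DirectLimit.Ring.of_f]

end Groth.Agent.Lib.lead.PairColimConst
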