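import Mathlib
import Groth.Agent.Lib.lead.Hensel

/-!
# Henselian pairs: lifting maps from standard étale algebras
-/

universe u

set_option maxHeartbeats 400000

open Polynomial

namespace Groth.Agent.Lib.lead.PairStd

open Groth.Agent.Lib.lead.Hensel

variable {R C D : Type*} [CommRing R] [CommRing C] [CommRing D] [Algebra R C] [Algebra R D]
  (J : Ideal C) (hJ : HenselianRing C J) (P : StandardEtalePresentation R D)

include hJ P in
/-- maps from a standard étale algebra to `C ⧸ J` lift to `C` for a henselian pair `(C, J)` -/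
theorem exists_lift (β : D →ₐ[R] C ⧸ J) :
    ∃ τ : D →ₐ[R] C, (Ideal.Quotient.mkₐ R J).comp τ = β := by
  obtain ⟨c₀, hc₀⟩ := Ideal.Quotient.mk_surjective (β P.x)
  have hmk : ∀ (p : R[X]) (c : C), Ideal.Quotient.mk J (aeval c p) =
      aeval (Ideal.Quotient.mk J c) p := by
    intro p c
    exact (Polynomial.aeval_algHom_apply (Ideal.Quotient.mkₐ R J) c p).symm
  have hβ : ∀ p : R[X], aeval (β P.x) p = β (aeval P.x p) := fun p =>
    Polynomial.aeval_algHom_apply β P.x p
  let F : C[X] := P.f.map (algebraMap R C)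
  have hF : F.Monic := P.monic_f.map _
  have hFeval : ∀ c : C, F.eval c = aeval c P.f := fun c => Polynomial.eval_map_algebraMap _ _
  have hF'eval : ∀ c : C, F.derivative.eval c = aeval c P.f.derivative := fun c => by
    rw [Polynomial.derivative_map]; exact Polynomial.eval_map_algebraMap _ _
  have h1 : F.eval c₀ ∈ J := by
    rw [hFeval, ← Ideal.Quotient.eq_zero_iff_mem, hmk, hc₀, hβ, P.hasMap.1, map_zero]
  have h2 : IsUnit (Ideal.Quotient.mk J (F.derivative.eval c₀)) := by
    rw [hF'eval, hmk, hc₀, hβ]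
    exact (P.hasMap.isUnit_derivative_f).map β
  obtain ⟨c, hc, hcJ⟩ := hJ.is_henselian F hF c₀ h1 h2
  have hcc : Ideal.Quotient.mk J c = β P.x := by
    rw [← hc₀, ← sub_eq_zero, ← map_sub, Ideal.Quotient.eq_zero_iff_mem]
    exact hcJ
  have hmap : P.HasMap c := by
    refine ⟨?_, ?_⟩
    · rw [← hFeval]; exact hc
    · apply isUnit_of_isUnit_mk J hJ.jac
      rw [hmk, hcc, hβ]
      exact P.hasMap.2.map β
  refine ⟨(P.lift c hmap).comp P.equivRing.toAlgHom, ?_⟩
  apply P.hom_ext
  change Ideal.Quotient.mk J (P.lift c hmap (P.equivRing P.x)) = β P.x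
  rw [P.equivRing_x, StandardEtalePair.lift_X, hcc]

include hJ P in
/-- maps from a standard étale algebra to `C` are determined by their reductions mod `J` -/
theorem lift_unique (τ τ' : D →ₐ[R] C)
    (h : ∀ d, Ideal.Quotient.mk J (τ d) = Ideal.Quotient.mk J (τ' d)) : τ = τ' := by
  apply P.hom_ext
  let F : C[X] := P.f.map (algebraMap R C)
  have hFeval : ∀ c : C, F.eval c = aeval c P.f := fun c => Polynomial.eval_map_algebraMap _ _
  have hF'eval : ∀ c : C, F.derivative.eval c = aeval c P.f.derivative := fun c => by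
    rw [Polynomial.derivative_map]; exact Polynomial.eval_map_algebraMap _ _
  have hτ : ∀ (θ : D →ₐ[R] C) (p : R[X]), aeval (θ P.x) p = θ (aeval P.x p) := fun θ p =>
    Polynomial.aeval_algHom_apply θ P.x p
  have hr : F.eval (τ P.x) = 0 := by rw [hFeval, hτ, P.hasMap.1, map_zero]
  have hr' : F.eval (τ' P.x) = 0 := by rw [hFeval, hτ, P.hasMap.1, map_zero]
  have hu : IsUnit (F.derivative.eval (τ P.x)) := by
    rw [hF'eval, hτ]; exact (P.hasMap.isUnit_derivative_f).map τ
  have hj : τ' P.x - τ P.x ∈ Ideal.jacobson (⊥ : Ideal C) := by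
    apply hJ.jac
    rw [← Ideal.Quotient.eq_zero_iff_mem, map_sub, h, sub_self]
  have := sub_mem_of_root (⊥ : Ideal C) F (τ P.x) (τ' P.x) hr hu hj (by rw [hr']; exact Ideal.zero_mem _)
  rw [Ideal.mem_bot, sub_eq_zero] at this
  exact this.symm

end Groth.Agent.Lib.lead.PairStd
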