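import Mathlib
import Groth.Prelude.Def_EtBase
import Groth.Prelude.Def_EtCore
import Groth.Prelude.Def_EtShriek2
import Groth.Agent.Lib.lead.EtCons5
import Groth.Agent.Lib.lead.EtLift4
import Groth.Agent.Lib.lead.EtRecoll2

/-!
# Direct image along a closed map of sheaves vanishing on a fibre
-/

universe u

set_option maxHeartbeats 400000
set_option linter.style.haveILetI false

open CategoryTheory CategoryTheory.Limits Opposite AlgebraicGeometry

namespace Groth.Agent.Lib.lead.PushShriek

set_option backward.isDefEq.respectTransparency false in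
/-- a section restricts to zero on anything missing its support -/
theorem restrict_eq_zero_of_disjoint_supp {S : Scheme.{u}} (F : EtCoh.Ab S) {P P' : S.Etale}
    (g' : P' ⟶ P) (σ : EtCoh.sect F P)
    (h : ∀ p' : P'.left, g'.left p' ∉ EtShriek.sectSupp F P σ) :
    F.obj.map g'.op σ = 0 := by
  haveI := EtHens.preservesFiltered_forget_addCommGrp.{u}
  apply EtCons.ext_of_germs F P' _ 0
  intro Ω _ _ ξ v'
  rw [map_zero]
  have h1 := GrothendieckTopology.Point.toPresheafFiber_w_apply (Scheme.pointSmallEtale ξ)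
    g' v' F.obj σ
  rw [h1]
  have hp := h (v'.left (default : Spec (CommRingCat.of Ω)))
  have hp' : ¬ ∀ (W : S.Etale) (g : W ⟶ P),
      (∃ w : W.left, g.left.base w = g'.left (v'.left (default : Spec (CommRingCat.of Ω)))) →
      F.obj.map g.op σ ≠ 0 := hp
  push_neg at hp'
  obtain ⟨W, g, ⟨w, hw⟩, hg⟩ := hp'
  have hv₀ : (v'.left ≫ g'.left) ≫ P.hom = ξ := by
    have e1 : g'.left ≫ P.hom = P'.hom := Over.w g'.hom
    have e2 := Over.w v'
    rw [Category.assoc, e1]
    exact e2
  have h2 := EtCons.germ_eq_zero_of_local F P σ ξ (v'.left ≫ g'.left) hv₀ W g w hw hg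
  have h3 : (Scheme.pointSmallEtale ξ).fiber.map g' v' = Over.homMk (v'.left ≫ g'.left) hv₀ := by
    apply Over.OverMorphism.ext
    rfl
  rw [h3]
  exact h2

set_option backward.isDefEq.respectTransparency false in
/-- the stalk of `f_* K` vanishes when `K` has zero stalks along the fibre (`f` universally closed) -/
theorem isZero_stalk_push_of_closed {X Y : Scheme.{u}} (f : X ⟶ Y) [UniversallyClosed f]
    (K : EtCoh.Ab X) {Ω : Type u} [Field Ω] [IsSepClosed Ω] (ξ : Spec (CommRingCat.of Ω) ⟶ Y)
    (hK : ∀ (Ω' : Type u) [Field Ω'] [IsSepClosed Ω'] (x : Spec (CommRingCat.of Ω') ⟶ X),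
      f (x (default : Spec (CommRingCat.of Ω'))) = ξ (default : Spec (CommRingCat.of Ω)) →
      IsZero ((EtCoh.stalk x).obj K)) :
    IsZero ((EtCoh.stalk ξ).obj ((EtCoh.push f).obj K)) := by
  haveI := EtHens.preservesFiltered_forget_addCommGrp.{u}
  haveI : LocallySmall.{u} Y.Etale := inferInstance
  suffices h : ∀ a : ↑((EtCoh.stalk ξ).obj ((EtCoh.push f).obj K)), a = 0 by
    haveI : Subsingleton ↑((EtCoh.stalk ξ).obj ((EtCoh.push f).obj K)) :=
      ⟨fun a b => (h a).trans (h b).symm⟩
    exact AddCommGrpCat.isZero_of_subsingleton _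
  intro a
  obtain ⟨W, w, s, rfl⟩ := GrothendieckTopology.Point.toPresheafFiber_jointly_surjective.{u + 1, u}
    (Scheme.pointSmallEtale ξ) (P := ((EtCoh.push f).obj K).obj) a
  haveI : Etale W.hom := W.prop
  let P : X.Etale := (EtCoh.bc f).obj W
  let s' : EtCoh.sect K P := s
  let C : Set W.left := (pullback.fst W.hom f).base '' (EtShriek.sectSupp K P s')
  have hC : IsClosed C :=
    (pullback.fst W.hom f).isClosedMap _ (EtCons.isClosed_sectSupp K P s')
  have hww : w.left ≫ W.hom = ξ := Over.w w
  have hw₀ : w.left (default : Spec (CommRingCat.of Ω)) ∉ C := by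
    rintro ⟨p, hp, hpw⟩
    let v₀ : Spec (CommRingCat.of (SeparableClosure (P.left.residueField p))) ⟶ P.left :=
      Spec.map (CommRingCat.ofHom (algebraMap (P.left.residueField p)
        (SeparableClosure (P.left.residueField p)))) ≫ P.left.fromSpecResidueField p
    have hv₀p : v₀ (default : Spec (CommRingCat.of (SeparableClosure (P.left.residueField p)))) = p := by
      change (P.left.fromSpecResidueField p) _ = p
      exact Scheme.fromSpecResidueField_apply _ _
    have hx : f ((v₀ ≫ P.hom) (default : Spec (CommRingCat.of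
        (SeparableClosure (P.left.residueField p))))) = ξ (default : Spec (CommRingCat.of Ω)) := by
      have e1 : (v₀ ≫ P.hom) (default : Spec (CommRingCat.of
          (SeparableClosure (P.left.residueField p)))) = P.hom p := by
        have := congrArg (fun q => P.hom q) hv₀p
        exact this
      rw [e1]
      have hcond : pullback.fst W.hom f ≫ W.hom = pullback.snd W.hom f ≫ f := pullback.condition
      have e2 : f (P.hom p) = W.hom (pullback.fst W.hom f p) := by
        have := congrArg (fun φ => φ p) hcond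
        exact this.symm
      rw [e2]
      have e3 : pullback.fst W.hom f p = w.left (default : Spec (CommRingCat.of Ω)) := hpw
      rw [e3]
      exact congrArg (fun φ => φ (default : Spec (CommRingCat.of Ω))) hww
    have hz := hK _ (v₀ ≫ P.hom) hx
    have hsub : Subsingleton ↑((EtCoh.stalk (v₀ ≫ P.hom)).obj K) :=
      AddCommGrpCat.subsingleton_of_isZero hz
    have hgerm : (Scheme.pointSmallEtale (v₀ ≫ P.hom)).toPresheafFiber P (Over.homMk v₀ rfl)
        K.obj s' = 0 := @Subsingleton.elim _ hsub _ _
    obtain ⟨W', g, w', hw', hg⟩ :=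
      EtCons.exists_local_of_germ_eq_zero K P s' (v₀ ≫ P.hom) v₀ rfl hgerm
    exact hp W' g ⟨w', hw'.trans hv₀p⟩ hg
  let O : W.left.Opens := ⟨Cᶜ, hC.isOpen_compl⟩
  let W'' : Y.Etale := Scheme.Etale.mk (O.ι ≫ W.hom)
  let g : W'' ⟶ W := MorphismProperty.Over.homMk O.ι rfl
  have hsub : Set.range w.left.base ⊆ Set.range O.ι.base := by
    rintro _ ⟨t, rfl⟩
    have ht : t = (default : Spec (CommRingCat.of Ω)) :=
      Subsingleton.elim (α := Spec (CommRingCat.of Ω)) _ _
    rw [ht, O.range_ι]
    exact hw₀
  let w'' : (Scheme.pointSmallEtale ξ).fiber.obj W'' :=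
    Over.homMk (IsOpenImmersion.lift O.ι w.left hsub) (by
      change IsOpenImmersion.lift O.ι w.left hsub ≫ O.ι ≫ W.hom = ξ
      rw [IsOpenImmersion.lift_fac_assoc, hww])
  have hfib : (Scheme.pointSmallEtale ξ).fiber.map g w'' = w := by
    apply Over.OverMorphism.ext
    exact IsOpenImmersion.lift_fac _ _ _
  have h1 := GrothendieckTopology.Point.toPresheafFiber_w_apply (Scheme.pointSmallEtale ξ)
    g w'' ((EtCoh.push f).obj K).obj s
  rw [← hfib, ← h1]
  have hzero : ((EtCoh.push f).obj K).obj.map g.op s = 0 := by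
    change K.obj.map ((EtCoh.bc f).map g).op s' = 0
    apply restrict_eq_zero_of_disjoint_supp K ((EtCoh.bc f).map g) s'
    intro p'' hmem
    have hin : (pullback.fst W.hom f) (((EtCoh.bc f).map g).left p'') ∈ C := ⟨_, hmem, rfl⟩
    have e := EtLift.bc_map_fst f g
    have e' : (pullback.fst W.hom f) (((EtCoh.bc f).map g).left p'') =
        O.ι ((pullback.fst W''.hom f) p'') := congrArg (fun φ => φ p'') e
    rw [e'] at hin
    have hO : O.ι ((pullback.fst W''.hom f) p'') ∈ Set.range O.ι.base := ⟨_, rfl⟩
    rw [O.range_ι] at hO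
    exact hO hin
  rw [hzero]
  exact map_zero _

end Groth.Agent.Lib.lead.PushShriek
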