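import Mathlib
import Groth.Prelude.Def_EtBase
import Groth.Prelude.Def_EtCore
import Groth.Prelude.Def_EtShriek2
import Groth.Agent.Lib.lead.PushShriek1
import Groth.Agent.Lib.helper23.EtOpenImm

/-!
# `f_* j'_! ≅ j_! g_*` for a closed map `f` and an open immersion `j`
-/

universe u

set_option maxHeartbeats 400000
set_option linter.style.haveILetI false

open CategoryTheory CategoryTheory.Limits Opposite AlgebraicGeometry

namespace Groth.Agent.Lib.lead.PushShriek

variable {U X V Y : Scheme.{u}} {f : X ⟶ Y} {j : V ⟶ Y} {j' : U ⟶ X} {g : U ⟶ V}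
  [Etale j] [Etale j']

set_option backward.isDefEq.respectTransparency false in
/-- the comparison `U ×_V T ⟶ X ×_Y T` -/
noncomputable def thetaHom (h : IsPullback j' g f j) (T : V.Etale) :
    (EtShriek.compEtale j').obj ((EtCoh.bc g).obj T) ⟶
      (EtCoh.bc f).obj ((EtShriek.compEtale j).obj T) :=
  MorphismProperty.Over.homMk
    (pullback.lift (pullback.fst T.hom g) (pullback.snd T.hom g ≫ j') (by
      change pullback.fst T.hom g ≫ T.hom ≫ j = (pullback.snd T.hom g ≫ j') ≫ f
      rw [Category.assoc, h.w, ← Category.assoc, ← Category.assoc, pullback.condition]))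
    (pullback.lift_snd _ _ _)

set_option backward.isDefEq.respectTransparency false in
/-- its inverse -/
noncomputable def thetaInv (h : IsPullback j' g f j) (T : V.Etale) :
    (EtCoh.bc f).obj ((EtShriek.compEtale j).obj T) ⟶
      (EtShriek.compEtale j').obj ((EtCoh.bc g).obj T) :=
  MorphismProperty.Over.homMk
    (pullback.lift (pullback.fst (T.hom ≫ j) f)
      (h.lift (pullback.snd (T.hom ≫ j) f) (pullback.fst (T.hom ≫ j) f ≫ T.hom) (by
        rw [Category.assoc]
        exact pullback.condition.symm))
      (by rw [h.lift_snd]))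
    (by
      change pullback.lift _ _ _ ≫ pullback.snd T.hom g ≫ j' = pullback.snd (T.hom ≫ j) f
      rw [pullback.lift_snd_assoc, h.lift_fst])

set_option backward.isDefEq.respectTransparency false in
theorem theta_hom_inv (h : IsPullback j' g f j) (T : V.Etale) :
    thetaHom h T ≫ thetaInv h T = 𝟙 _ := by
  apply MorphismProperty.Over.Hom.ext
  change pullback.lift (pullback.fst T.hom g) (pullback.snd T.hom g ≫ j') _ ≫
    pullback.lift (pullback.fst (T.hom ≫ j) f) _ _ = 𝟙 (pullback T.hom g)
  apply pullback.hom_ext
  · rw [Category.assoc, pullback.lift_fst, pullback.lift_fst, Category.id_comp]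
  · rw [Category.assoc, pullback.lift_snd, Category.id_comp]
    apply h.hom_ext
    · rw [Category.assoc, h.lift_fst, pullback.lift_snd]
    · rw [Category.assoc, h.lift_snd, pullback.lift_fst_assoc, pullback.condition]

set_option backward.isDefEq.respectTransparency false in
theorem theta_inv_hom (h : IsPullback j' g f j) (T : V.Etale) :
    thetaInv h T ≫ thetaHom h T = 𝟙 _ := by
  apply MorphismProperty.Over.Hom.ext
  change pullback.lift (pullback.fst (T.hom ≫ j) f) _ _ ≫
    pullback.lift (pullback.fst T.hom g) (pullback.snd T.hom g ≫ j') _ =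
      𝟙 (pullback (T.hom ≫ j) f)
  apply pullback.hom_ext
  · rw [Category.assoc, pullback.lift_fst, pullback.lift_fst, Category.id_comp]
  · rw [Category.assoc, pullback.lift_snd, pullback.lift_snd_assoc, h.lift_fst, Category.id_comp]

set_option backward.isDefEq.respectTransparency false in
theorem theta_naturality (h : IsPullback j' g f j) {T T' : V.Etale} (t : T ⟶ T') :
    (EtShriek.compEtale j').map ((EtCoh.bc g).map t) ≫ thetaHom h T' =
      thetaHom h T ≫ (EtCoh.bc f).map ((EtShriek.compEtale j).map t) := by
  apply MorphismProperty.Over.Hom.ext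
  change ((EtCoh.bc g).map t).left ≫ pullback.lift (pullback.fst T'.hom g)
    (pullback.snd T'.hom g ≫ j') _ = pullback.lift (pullback.fst T.hom g)
      (pullback.snd T.hom g ≫ j') _ ≫ ((EtCoh.bc f).map ((EtShriek.compEtale j).map t)).left
  apply pullback.hom_ext
  · have e1 := EtLift.bc_map_fst g t
    have e2 := EtLift.bc_map_fst f ((EtShriek.compEtale j).map t)
    rw [Category.assoc, pullback.lift_fst, e1, Category.assoc]
    erw [e2]
    rw [pullback.lift_fst_assoc]
    rfl
  · have e1 := EtLift.bc_map_snd g t
    have e2 := EtLift.bc_map_snd f ((EtShriek.compEtale j).map t)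
    rw [Category.assoc, pullback.lift_snd, ← Category.assoc, e1, Category.assoc]
    erw [e2]
    rw [pullback.lift_snd]

set_option backward.isDefEq.respectTransparency false in
/-- restriction to an open commutes with direct image -/
noncomputable def restrPushIso (h : IsPullback j' g f j) [EtShriek.JCont j] [EtShriek.JCont j']
    (K : EtCoh.Ab X) :
    (EtShriek.restrAlong j).obj ((EtCoh.push f).obj K) ≅
      (EtCoh.push g).obj ((EtShriek.restrAlong j').obj K) :=
  (fullyFaithfulSheafToPresheaf _ _).preimageIso
    (NatIso.ofComponents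
      (fun T => K.obj.mapIso (Iso.op
        ⟨thetaHom h T.unop, thetaInv h T.unop, theta_hom_inv h T.unop, theta_inv_hom h T.unop⟩))
      (by
        intro T T' t
        change K.obj.map ((EtCoh.bc f).map ((EtShriek.compEtale j).map t.unop)).op ≫
          K.obj.map (thetaHom h T'.unop).op = K.obj.map (thetaHom h T.unop).op ≫
            K.obj.map ((EtShriek.compEtale j').map ((EtCoh.bc g).map t.unop)).op
        rw [← K.obj.map_comp, ← K.obj.map_comp, ← op_comp, ← op_comp, theta_naturality]))

set_option backward.isDefEq.respectTransparency false in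
theorem main0653 (f : X ⟶ Y) [IsFinite f] (j : V ⟶ Y) [IsOpenImmersion j] [Etale j]
    [EtShriek.JCont j] (j' : U ⟶ X) [IsOpenImmersion j'] [Etale j'] [EtShriek.JCont j']
    (g : U ⟶ V) (h : IsPullback j' g f j) (F : EtCoh.Ab U) :
    Nonempty ((EtCoh.push f).obj ((EtShriek.extZero j').obj F) ≅
      (EtShriek.extZero j).obj ((EtCoh.push g).obj F)) := by
  apply EtRecoll.main0652 j ((EtCoh.push g).obj F) ((EtCoh.push f).obj ((EtShriek.extZero j').obj F))
  · haveI := EtOpenImm.isIso_extZero_unit j'
    exact ⟨restrPushIso h _ ≪≫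
      (EtCoh.push g).mapIso (asIso ((EtShriek.extZeroAdj j').unit.app F)).symm⟩
  · intro Ω _ _ ξ hξ
    apply isZero_stalk_push_of_closed
    intro Ω' _ _ x hx
    apply EtRecoll.isZero_stalk_extZero' j' F x
    rw [Set.disjoint_left]
    rintro _ ⟨u, rfl⟩ ⟨t, ht⟩
    have ht' : t = (default : Spec (CommRingCat.of Ω')) :=
      Subsingleton.elim (α := Spec (CommRingCat.of Ω')) _ _
    rw [ht'] at ht
    have h1 : f (j' u) = j (g u) := congrArg (fun φ => φ u) h.w
    have h2 : ξ (default : Spec (CommRingCat.of Ω)) ∈ Set.range j.base := by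
      rw [← hx, ht, h1]
      exact ⟨_, rfl⟩
    exact hξ ⟨_, rfl⟩ h2

end Groth.Agent.Lib.lead.PushShriek
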