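import Mathlib
import Groth.Agent.Lib.lead.SH9

/-!
# (Strict) henselization, part 10: formally étale
-/

universe u

set_option maxHeartbeats 400000

open IsLocalRing TensorProduct Polynomial

namespace Groth.Agent.Lib.lead.SH

variable {R : Type u} [CommRing R] [IsLocalRing R] {Ω : Type u} [Field Ω] [Algebra R Ω]
  [IsLocalHom (algebraMap R Ω)]

theorem ofIdxₐ_tr (i j : Idx R Ω) (h : i ≤ j) : (ofIdxₐ j).comp (tr i j h) = ofIdxₐ i :=
  AlgHom.ext (fun x => ofIdx_tr i j h x)

instance formallyEtale_Hz : Algebra.FormallyEtale R (Hz R Ω) := by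
  rw [Algebra.FormallyEtale.iff_comp_bijective]
  intro B _ _ I hI
  have hst : ∀ i : Idx R Ω, Function.Bijective
      ((Ideal.Quotient.mkₐ R I).comp : (i.Ring →ₐ[R] B) → (i.Ring →ₐ[R] B ⧸ I)) :=
    fun i => Algebra.FormallyEtale.iff_comp_bijective.mp (Idx.formallyEtale i) I hI
  constructor
  · intro g₁ g₂ h12
    apply algHom_ext_Hz
    intro i
    apply (hst i).1
    change (Ideal.Quotient.mkₐ R I).comp (g₁.comp (ofIdxₐ i)) =
      (Ideal.Quotient.mkₐ R I).comp (g₂.comp (ofIdxₐ i))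
    rw [← AlgHom.comp_assoc, ← AlgHom.comp_assoc]
    exact congrArg (fun t => AlgHom.comp t (ofIdxₐ i)) h12
  · intro h
    choose ψ hψ using fun i => (hst i).2 (h.comp (ofIdxₐ i))
    have hcompat : ∀ i j (hij : i ≤ j), (ψ j).comp (tr i j hij) = ψ i := by
      intro i j hij
      apply (hst i).1
      change (Ideal.Quotient.mkₐ R I).comp ((ψ j).comp (tr i j hij)) =
        (Ideal.Quotient.mkₐ R I).comp (ψ i)
      rw [← AlgHom.comp_assoc, hψ j, hψ i, AlgHom.comp_assoc, ofIdxₐ_tr]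
    refine ⟨liftₐ ψ hcompat, ?_⟩
    apply algHom_ext_Hz
    intro i
    refine AlgHom.ext fun x => ?_
    change Ideal.Quotient.mkₐ R I (liftₐ ψ hcompat (ofIdx i x)) = h (ofIdxₐ i x)
    rw [liftₐ_ofIdx]
    exact AlgHom.congr_fun (hψ i) x

theorem formallyEtale_of_strict {R : Type u} [CommRing R] [IsLocalRing R]
    (S : Type u) [CommRing S] [IsLocalRing S] [Algebra R S]
    [IsLocalHom (algebraMap R S)] [Hensel.IsStrictHenselization R S] :
    Algebra.FormallyEtale R S := by
  obtain ⟨e⟩ := strict_unique (R := R) (Sh R) S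
  exact Algebra.FormallyEtale.of_equiv e

end Groth.Agent.Lib.lead.SH
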