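import Mathlib
import Groth.Agent.Lib.lead.SH16
import Groth.Agent.Lib.helper11.AbsFlat


universe u
open TensorProduct

set_option maxHeartbeats 400000

namespace Groth.Agent.Lib.lead.SH

theorem isReduced_of_ringEquiv {X Y : Type*} [CommRing X] [CommRing Y] (e : X ≃+* Y)
    [IsReduced X] : IsReduced Y :=
  isReduced_of_injective e.symm.toRingHom e.symm.injective

/-- weakly étale base change preserves reducedness of `K ⊗ A` -/
theorem isReduced_tensor_of_weaklyEtale (k K A B : Type u) [CommRing k] [CommRing K] [Algebra k K]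
    [CommRing A] [Algebra k A] [CommRing B] [Algebra A B] [Algebra k B] [IsScalarTower k A B]
    [Algebra.WeaklyEtale A B] [IsReduced (K ⊗[k] A)] : IsReduced (K ⊗[k] B) := by
  haveI h1 : IsReduced (A ⊗[k] K) :=
    isReduced_of_ringEquiv (Algebra.TensorProduct.comm k K A).toRingEquiv
  haveI h2 : IsReduced ((A ⊗[k] K) ⊗[A] B) :=
    Groth.Agent.Lib.helper11.AbsFlat.isReduced_of_weaklyEtale (A ⊗[k] K) _
  haveI h3 : IsReduced (B ⊗[A] (A ⊗[k] K)) :=
    isReduced_of_ringEquiv (Algebra.TensorProduct.comm A (A ⊗[k] K) B).toRingEquiv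
  haveI h4 : IsReduced (B ⊗[k] K) :=
    isReduced_of_ringEquiv (Algebra.TensorProduct.cancelBaseChange k A B B K).toRingEquiv
  exact isReduced_of_ringEquiv (Algebra.TensorProduct.comm k B K).toRingEquiv

theorem injective_tensor_of_injective (k K A B : Type u) [Field k] [CommRing K] [Algebra k K]
    [CommRing A] [Algebra k A] [CommRing B] [Algebra A B] [Algebra k B] [IsScalarTower k A B]
    (h : Function.Injective (algebraMap A B)) :
    Function.Injective (Algebra.TensorProduct.map (AlgHom.id k K) (IsScalarTower.toAlgHom k A B)) := by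
  have : (Algebra.TensorProduct.map (AlgHom.id k K) (IsScalarTower.toAlgHom k A B) : K ⊗[k] A → K ⊗[k] B) =
      (IsScalarTower.toAlgHom k A B).toLinearMap.lTensor K := by
    ext x
    induction x using TensorProduct.induction_on with
    | zero => simp
    | tmul a b => simp
    | add a b ha hb => rw [map_add, map_add, ha, hb]
  rw [this]
  exact Module.Flat.lTensor_preserves_injective_linearMap _ h

end Groth.Agent.Lib.lead.SH
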