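import Mathlib
import Groth.Agent.Lib.lead.SH14

/-!
# (Strict) henselization, part 18: discrete valuation rings
-/

universe u

set_option maxHeartbeats 400000

open IsLocalRing TensorProduct

namespace Groth.Agent.Lib.lead.SH

/-- A Noetherian local ring whose maximal ideal is generated by a non-zero-divisor is a domain. -/
theorem isDomain_of_maximalIdeal_eq_span_nzd {S : Type*} [CommRing S] [IsLocalRing S]
    [IsNoetherianRing S] (π : S) (hπ : maximalIdeal S = Ideal.span {π})
    (hnzd : π ∈ nonZeroDivisors S) : IsDomain S := by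
  have key : ∀ x : S, x ≠ 0 → ∃ (n : ℕ) (u : S), IsUnit u ∧ x = u * π ^ n := by
    intro x hx
    have hkrull : ⨅ i, maximalIdeal S ^ i = ⊥ :=
      Ideal.iInf_pow_eq_bot_of_isLocalRing _ (Ideal.IsMaximal.ne_top inferInstance)
    have hex : ∃ n, x ∉ maximalIdeal S ^ n := by
      by_contra hcon
      push_neg at hcon
      have : x ∈ ⨅ i, maximalIdeal S ^ i := by
        rw [Ideal.mem_iInf]; exact hcon
      rw [hkrull] at this
      exact hx this
    classical
    let n := Nat.find hex
    have hn : x ∉ maximalIdeal S ^ n := Nat.find_spec hex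
    have hn0 : n ≠ 0 := by
      intro h0
      rw [h0, pow_zero, Ideal.one_eq_top] at hn
      exact hn Submodule.mem_top
    obtain ⟨k, hk⟩ := Nat.exists_eq_succ_of_ne_zero hn0
    have hk' : x ∈ maximalIdeal S ^ k := by
      by_contra hcon
      have := Nat.find_min' hex hcon
      omega
    rw [hπ, Ideal.span_singleton_pow, Ideal.mem_span_singleton'] at hk'
    obtain ⟨y, hy⟩ := hk'
    refine ⟨k, y, ?_, hy.symm⟩
    by_contra hyu
    have hym : y ∈ maximalIdeal S := (mem_maximalIdeal y).mpr hyu
    apply hn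
    have hpk : π ^ k ∈ maximalIdeal S ^ k :=
      Ideal.pow_mem_pow (by rw [hπ]; exact Ideal.mem_span_singleton_self _) k
    have : y * π ^ k ∈ maximalIdeal S * maximalIdeal S ^ k := Ideal.mul_mem_mul hym hpk
    rw [hk, pow_succ', ← hy]
    exact this
  haveI : NoZeroDivisors S := by
    refine ⟨fun {x y} hxy => ?_⟩
    by_contra hcon
    push_neg at hcon
    obtain ⟨a, u, hu, rfl⟩ := key x hcon.1
    obtain ⟨b, v, hv, rfl⟩ := key y hcon.2
    have h1 : u * v * π ^ (a + b) = 0 := by
      rw [← hxy, pow_add]; ring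
    have h2 : π ^ (a + b) = 0 := by
      have := (hu.mul hv).mul_right_eq_zero.mp h1
      exact this
    have h3 : π ^ (a + b) ∈ nonZeroDivisors S := pow_mem hnzd _
    have : (1 : S) = 0 := by
      apply (mem_nonZeroDivisors_iff.mp h3).2
      rw [one_mul, h2]
    exact one_ne_zero this
  exact NoZeroDivisors.to_isDomain S

section flat

variable (R S : Type*) [CommRing R] [IsLocalRing R] [IsNoetherianRing R] [CommRing S]
  [IsLocalRing S] [IsNoetherianRing S] [Algebra R S] [Module.Flat R S]

theorem exists_dvr_of_flat (hm : (maximalIdeal R).map (algebraMap R S) = maximalIdeal S)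
    [IsDomain R] [IsDiscreteValuationRing R] :
    ∃ _ : IsDomain S, IsDiscreteValuationRing S := by
  obtain ⟨π, hπ⟩ := IsDiscreteValuationRing.exists_irreducible R
  have hmR : maximalIdeal R = Ideal.span {π} := hπ.maximalIdeal_eq
  have hmS : maximalIdeal S = Ideal.span {algebraMap R S π} := by
    rw [← hm, hmR, Ideal.map_span, Set.image_singleton]
  have hnzd : algebraMap R S π ∈ nonZeroDivisors S := by
    have h1 : π ∈ nonZeroDivisors R := mem_nonZeroDivisors_of_ne_zero hπ.ne_zero
    have h2 : IsSMulRegular S π := Module.Flat.isSMulRegular_of_nonZeroDivisors h1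
    rw [mem_nonZeroDivisors_iff_right]
    intro x hx
    apply h2
    change π • x = π • (0 : S)
    rw [smul_zero, Algebra.smul_def, mul_comm]
    exact hx
  haveI hdom : IsDomain S := isDomain_of_maximalIdeal_eq_span_nzd _ hmS hnzd
  refine ⟨hdom, ?_⟩
  have hnf : ¬ IsField S := by
    intro hf
    have h0 : algebraMap R S π ≠ 0 := nonZeroDivisors.ne_zero hnzd
    have hmem : algebraMap R S π ∈ maximalIdeal S := by
      rw [hmS]; exact Ideal.mem_span_singleton_self _
    obtain ⟨b, hb⟩ := hf.mul_inv_cancel h0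
    exact (mem_maximalIdeal _).mp hmem (isUnit_iff_exists_inv.mpr ⟨b, hb⟩)
  apply ((IsDiscreteValuationRing.TFAE S hnf).out 4 0).mp
  rw [hmS]
  exact ⟨⟨_, rfl⟩⟩

theorem exists_dvr_of_faithfullyFlat [Module.FaithfullyFlat R S]
    (hm : (maximalIdeal R).map (algebraMap R S) = maximalIdeal S)
    [IsDomain S] [IsDiscreteValuationRing S] :
    ∃ _ : IsDomain R, IsDiscreteValuationRing R := by
  have hinj : Function.Injective (algebraMap R S) := FaithfulSMul.algebraMap_injective R S
  haveI hdom : IsDomain R := hinj.isDomain (algebraMap R S)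
  refine ⟨hdom, ?_⟩
  have hnfS : ¬ IsField S := IsDiscreteValuationRing.not_isField S
  have hnf : ¬ IsField R := by
    intro hf
    apply hnfS
    rw [IsLocalRing.isField_iff_maximalIdeal_eq] at hf ⊢
    rw [← hm, hf, Ideal.map_bot]
  have h1 : Module.finrank (ResidueField S) (CotangentSpace S) = 1 :=
    ((IsDiscreteValuationRing.TFAE S hnfS).out 0 5).mp ‹IsDiscreteValuationRing S›
  apply ((IsDiscreteValuationRing.TFAE R hnf).out 5 0).mp
  rw [← IsLocalRing.spanFinrank_maximalIdeal_eq_finrank_cotangentSpace R,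
    ← spanFinrank_maximalIdeal_eq_of_flat R S hm,
    IsLocalRing.spanFinrank_maximalIdeal_eq_finrank_cotangentSpace S, h1]

end flat

variable {R : Type u} [CommRing R] [IsLocalRing R] {Ω : Type u} [Field Ω] [Algebra R Ω]
  [IsLocalHom (algebraMap R Ω)]

theorem Model.dvr_iff {S : Type u} [CommRing S] [Algebra R S] [IsLocalRing S]
    [IsLocalHom (algebraMap R S)] [IsNoetherianRing R] (M : Model R Ω S) :
    (∃ _ : IsDomain R, IsDiscreteValuationRing R) ↔ (∃ _ : IsDomain S, IsDiscreteValuationRing S) := by
  haveI := M.isNoetherianRing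
  haveI := M.flat
  haveI := M.faithfullyFlat
  constructor
  · rintro ⟨_, _⟩
    exact exists_dvr_of_flat R S M.map_maximalIdeal
  · rintro ⟨_, _⟩
    exact exists_dvr_of_faithfullyFlat R S M.map_maximalIdeal

end Groth.Agent.Lib.lead.SH
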