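import Mathlib
import Groth.Prelude.Def_Hens2
import Groth.Agent.Lib.lead.SH9
import Groth.Agent.Lib.lead.PairStd
import Groth.Agent.Lib.lead.PairHz
import Groth.Agent.Lib.lead.HenselQuot

/-!
# Henselization, part 19: the henselization of a local ring is the henselization of the pair
`(R, m)`
-/

universe u

set_option maxHeartbeats 400000

open IsLocalRing TensorProduct Polynomial

namespace Groth.Agent.Lib.lead.SH

open Groth.Agent.Lib.lead.Hensel

variable {R : Type u} [CommRing R] [IsLocalRing R]

section stage

variable (C : Type u) [CommRing C] (J : Ideal C) (φ : R →+* C)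
  (hφ : (maximalIdeal R).map φ ≤ J)

/-- the map induced on the residue field -/
noncomputable def φbar (hφ : (maximalIdeal R).map φ ≤ J) : ResidueField R →+* C ⧸ J :=
  Ideal.Quotient.lift (maximalIdeal R) ((Ideal.Quotient.mk J).comp φ) (fun a ha => by
    rw [RingHom.comp_apply, Ideal.Quotient.eq_zero_iff_mem]
    exact hφ (Ideal.mem_map_of_mem _ ha))

theorem φbar_residue (a : R) : φbar C J φ hφ (residue R a) = Ideal.Quotient.mk J (φ a) :=
  Ideal.Quotient.lift_mk _ _ _

theorem stage_mk (i : Idx R (ResidueField R)) (ψ : i.Ring →+* C)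
    (hψ : ψ.comp (algebraMap R i.Ring) = φ) (x : i.Ring) :
    Ideal.Quotient.mk J (ψ x) = φbar C J φ hφ (i.pt x) := by
  obtain ⟨a, ha⟩ := i.exists_sub_mem x
  have h3 : i.pt x = residue R a := by
    have := (i.pt_eq_zero_iff _).mpr ha
    rw [map_sub, i.pt.commutes, sub_eq_zero] at this
    exact this
  rw [h3, φbar_residue]
  have h4 : ψ (x - algebraMap R i.Ring a) ∈ J := by
    rw [← i.map_maximalIdeal] at ha
    have h5 : ((maximalIdeal R).map (algebraMap R i.Ring)).map ψ ≤ J := by
      rw [Ideal.map_map, hψ]; exact hφ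
    exact h5 (Ideal.mem_map_of_mem _ ha)
  rw [map_sub, ← Ideal.Quotient.eq_zero_iff_mem, map_sub, sub_eq_zero] at h4
  rw [h4]
  congr 1
  exact RingHom.congr_fun hψ a

include hφ in
theorem stage_pair_existsUnique (hJ : HenselianRing C J) (i : Idx R (ResidueField R)) :
    ∃! ψ : i.Ring →+* C, ψ.comp (algebraMap R i.Ring) = φ := by
  classical
  letI : Algebra R C := φ.toAlgebra
  obtain ⟨s, hs, hstd⟩ := Algebra.IsEtaleAt.exists_isStandardEtale (R := R) (pk i.χ)
  let P : StandardEtalePresentation R (Localization.Away s) :=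
    hstd.nonempty_standardEtalePresentation.some
  have hχs : IsUnit (i.χ s) := by
    have : i.χ s ≠ 0 := fun h0 => hs ((mem_pk i.χ s).mpr h0)
    exact this.isUnit
  -- the point of `D`
  let χ' : Localization.Away s →ₐ[R] ResidueField R :=
    IsLocalization.liftAlgHom (M := Submonoid.powers s) (f := i.χ) (by
      rintro ⟨_, n, rfl⟩
      simpa using hχs.pow n)
  have hχ' : ∀ e, χ' (algebraMap _ (Localization.Away s) e) = i.χ e := fun e => by
    rw [IsLocalization.liftAlgHom_apply, IsLocalization.lift_eq]
    rfl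
  -- the map to `C ⧸ J`
  let β : Localization.Away s →ₐ[R] C ⧸ J :=
    { (φbar C J φ hφ).comp χ'.toRingHom with
      commutes' := fun a => by
        change φbar C J φ hφ (χ' (algebraMap R _ a)) = _
        rw [χ'.commutes]
        exact φbar_residue C J φ hφ a }
  have hβ : ∀ d, β d = φbar C J φ hφ (χ' d) := fun d => rfl
  obtain ⟨τ, hτ⟩ := Groth.Agent.Lib.lead.PairStd.exists_lift J hJ P β
  have hτ' : ∀ d, Ideal.Quotient.mk J (τ d) = β d := fun d => AlgHom.congr_fun hτ d
  have hunit : ∀ y : (pk i.χ).primeCompl,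
      IsUnit ((τ.comp (IsScalarTower.toAlgHom R (MvPolynomial (Fin i.n) R ⧸ i.I) (Localization.Away s)))
        (y : (MvPolynomial (Fin i.n) R ⧸ i.I))) := by
    intro y
    apply isUnit_of_isUnit_mk J hJ.jac
    change IsUnit (Ideal.Quotient.mk J (τ (algebraMap _ (Localization.Away s)
      (y : MvPolynomial (Fin i.n) R ⧸ i.I))))
    rw [hτ', hβ, hχ']
    exact (isUnit_of_primeCompl i.χ y).map _
  let ψ : i.Ring →ₐ[R] C :=
    IsLocalization.liftAlgHom (M := (pk i.χ).primeCompl)
      (f := τ.comp (IsScalarTower.toAlgHom R (MvPolynomial (Fin i.n) R ⧸ i.I) (Localization.Away s))) hunit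
  have hψ : ψ.toRingHom.comp (algebraMap R i.Ring) = φ := by
    ext a
    exact ψ.commutes a
  refine ⟨ψ.toRingHom, hψ, ?_⟩
  intro ψ' hψ'
  -- the map from `D` to the stage
  have hsu : ∀ y : Submonoid.powers s,
      IsUnit ((IsScalarTower.toAlgHom R (MvPolynomial (Fin i.n) R ⧸ i.I) i.Ring) y) := by
    rintro ⟨_, n, rfl⟩
    have : IsUnit (algebraMap (MvPolynomial (Fin i.n) R ⧸ i.I) i.Ring s) :=
      IsLocalization.map_units i.Ring (⟨s, hs⟩ : (pk i.χ).primeCompl)
    simpa using this.pow n
  let ι : Localization.Away s →ₐ[R] i.Ring :=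
    IsLocalization.liftAlgHom (M := Submonoid.powers s)
      (f := IsScalarTower.toAlgHom R (MvPolynomial (Fin i.n) R ⧸ i.I) i.Ring) hsu
  have hι : ∀ e, ι (algebraMap _ (Localization.Away s) e) = algebraMap _ i.Ring e := fun e => by
    rw [IsLocalization.liftAlgHom_apply, IsLocalization.lift_eq]
    rfl
  have hptι : ∀ d, i.pt (ι d) = χ' d := by
    have : i.pt.comp ι = χ' := by
      apply IsLocalization.algHom_ext (Submonoid.powers s)
      refine AlgHom.ext fun e => ?_
      change i.pt (ι (algebraMap _ (Localization.Away s) e)) =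
        χ' (algebraMap _ (Localization.Away s) e)
      rw [hι, hχ']
      exact pt_algebraMap i.χ e
    exact fun d => AlgHom.congr_fun this d
  let θ' : Localization.Away s →ₐ[R] C :=
    { ψ'.comp ι.toRingHom with
      commutes' := fun a => by
        change ψ' (ι (algebraMap R _ a)) = φ a
        rw [ι.commutes]
        exact RingHom.congr_fun hψ' a }
  have hθ : θ' = ψ.comp ι := by
    apply Groth.Agent.Lib.lead.PairStd.lift_unique J hJ P
    intro d
    change Ideal.Quotient.mk J (ψ' (ι d)) = Ideal.Quotient.mk J (ψ.toRingHom (ι d))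
    rw [stage_mk C J φ hφ i ψ' hψ', stage_mk C J φ hφ i ψ.toRingHom hψ]
  apply IsLocalization.ringHom_ext (pk i.χ).primeCompl
  refine RingHom.ext fun e => ?_
  change ψ' (algebraMap _ i.Ring e) = ψ (algebraMap _ i.Ring e)
  rw [← hι]
  exact AlgHom.congr_fun hθ (algebraMap _ (Localization.Away s) e)

include hφ in
theorem pair_universal (hJ : HenselianRing C J) :
    ∃! g : Hn R →+* C, g.comp (algebraMap R (Hn R)) = φ := by
  classical
  letI : Algebra R C := φ.toAlgebra
  choose ψ₀ hψ₀ hψu using fun i => stage_pair_existsUnique C J φ hφ hJ i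
  let ψ : ∀ i : Idx R (ResidueField R), i.Ring →ₐ[R] C := fun i =>
    { ψ₀ i with commutes' := fun a => RingHom.congr_fun (hψ₀ i) a }
  have hcompat : ∀ i j (hij : i ≤ j), (ψ j).comp (tr i j hij) = ψ i := by
    intro i j hij
    have h1 : (ψ₀ j).comp (tr i j hij).toRingHom = ψ₀ i := by
      apply hψu
      ext a
      simp only [RingHom.comp_apply]
      have : (tr i j hij).toRingHom (algebraMap R i.Ring a) = algebraMap R j.Ring a :=
        (tr i j hij).commutes a
      rw [this]
      exact RingHom.congr_fun (hψ₀ j) a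
    refine AlgHom.ext fun x => ?_
    exact RingHom.congr_fun h1 x
  let G : Hn R →ₐ[R] C := liftₐ ψ hcompat
  have hG : ∀ i x, G (ofIdx i x) = ψ₀ i x := fun i x => liftₐ_ofIdx ψ hcompat i x
  refine ⟨G.toRingHom, ?_, ?_⟩
  · ext a
    exact G.commutes a
  · intro G' hG'
    ext z
    obtain ⟨i, x, rfl⟩ := exists_of z
    change G' (ofIdx i x) = G (ofIdx i x)
    rw [hG]
    have h1 : G'.comp (ofIdx i) = ψ₀ i := by
      apply hψu
      ext a
      simp only [RingHom.comp_apply]
      rw [ofIdx_algebraMap]
      exact RingHom.congr_fun hG' a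
    exact RingHom.congr_fun h1 x

end stage

theorem isPairHenselization_Hn : Hens2.IsPairHenselization R (maximalIdeal R) (Hn R) := by
  refine ⟨?_, ?_⟩
  · rw [(modelHz (R := R) (Ω := ResidueField R)).map_maximalIdeal]
    infer_instance
  · intro C _ J φ hJ hφ
    exact pair_universal C J φ hφ hJ

/-- henselizations transport along algebra isomorphisms -/
theorem isHenselization_of_algEquiv {S S' : Type u} [CommRing S] [IsLocalRing S] [Algebra R S]
    [IsLocalHom (algebraMap R S)] [hS : Hensel.IsHenselization R S] [CommRing S'] [IsLocalRing S']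
    [Algebra R S'] [IsLocalHom (algebraMap R S')] (e : S ≃ₐ[R] S') :
    Hensel.IsHenselization R S' where
  henselian := by
    haveI := hS.henselian
    exact Groth.Agent.Lib.lead.HenselQuot.henselian_of_surjective
      (e.toRingEquiv : S →+* S') e.surjective
  universal T _ _ f hf := by
    have he : (e.toRingEquiv : S →+* S').comp (algebraMap R S) = algebraMap R S' := by
      ext a; exact e.commutes a
    obtain ⟨g, hg, hgu⟩ := hS.universal T f hf
    refine ⟨g.comp (e.symm.toRingEquiv : S' →+* S), ?_, ?_⟩
    · change (g.comp (e.symm.toRingEquiv : S' →+* S)).comp (algebraMap R S') = f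
      rw [← hg]
      ext a
      change g (e.symm (algebraMap R S' a)) = g (algebraMap R S a)
      rw [e.symm.commutes]
    · intro g' hg'
      have : g'.comp (e.toRingEquiv : S →+* S') = g := by
        apply hgu
        change (g'.comp (e.toRingEquiv : S →+* S')).comp (algebraMap R S) = f
        rw [RingHom.comp_assoc, he]
        exact hg'
      rw [← this]
      ext b
      change g' b = g' (e (e.symm b))
      rw [e.apply_symm_apply]

/-- for a local ring, henselization of the pair `(R, m)` = henselization of the local ring -/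
theorem isPairHenselization_iff (B : Type u) [CommRing B] [IsLocalRing B] [Algebra R B]
    [IsLocalHom (algebraMap R B)] :
    Hens2.IsPairHenselization R (maximalIdeal R) B ↔ Hensel.IsHenselization R B := by
  constructor
  · intro hB
    obtain ⟨e⟩ := Groth.Agent.Lib.lead.PairHz.algEquiv_of_isPairHenselization
      (isPairHenselization_Hn (R := R)) hB
    exact isHenselization_of_algEquiv e
  · intro hB
    obtain ⟨e⟩ := hens_unique (R := R) B
    exact Groth.Agent.Lib.lead.PairHz.isPairHenselization_of_algEquiv isPairHenselization_Hn e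

end Groth.Agent.Lib.lead.SH
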