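import Mathlib
import Groth.Agent.Lib.lead.SH9
import Groth.Agent.Lib.lead.LocDirSys

/-!
# (Strict) henselization, part 21: the (strict) henselization is ind-étale
-/

universe u

set_option maxHeartbeats 400000
set_option linter.unusedSectionVars false

open IsLocalRing

namespace Groth.Agent.Lib.lead.SH

variable {R : Type u} [CommRing R] [IsLocalRing R] {Ω : Type u} [Field Ω] [Algebra R Ω]
  [IsLocalHom (algebraMap R Ω)] {S : Type u} [CommRing S] [Algebra R S]

/-- the directed system of a model -/
noncomputable def Model.dirSys (M : Model R Ω S) : DirSys R S (Idx R Ω) where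
  St i := i.Ring
  tr := tr
  tr_refl i := (tr_unique i i le_rfl (AlgHom.id R _) (fun x => rfl)).symm
  tr_trans i j k h h' := tr_unique i k (h.trans h') _ (fun x => by
    change k.pt (tr j k h' (tr i j h x)) = _
    rw [pt_tr, pt_tr])
  φ := M.φ
  compat i j h := AlgHom.ext (M.compat i j h)
  surj := M.surj
  ker := M.ker

theorem Model.isIndEtale (M : Model R Ω S) : EtPBC.IsIndEtale R S :=
  M.dirSys.isIndEtale (fun i => isIndEtale_atPrime R (pk i.χ))

end Groth.Agent.Lib.lead.SH
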