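import Mathlib
import Groth.Prelude.Def_EtBase
import Groth.Prelude.Def_EtCore
import Groth.Agent.Lib.lead.EtClosed1

/-!
# Sheaves on the small étale site of a separably closed field
-/

universe u

set_option maxHeartbeats 400000
set_option linter.style.haveILetI false

open CategoryTheory CategoryTheory.Limits Opposite AlgebraicGeometry

namespace Groth.Agent.Lib.lead.SepPt

variable (k : Type u) [Field k] [IsSepClosed k]

/-- the inclusion of the terminal object -/
noncomputable def G : Discrete PUnit.{u + 1} ⥤ (Spec (CommRingCat.of k)).Etale :=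
  Functor.fromPUnit (EtCoh.top (Spec (CommRingCat.of k)))

instance : (G k).Full where
  map_surjective {X Y} f := ⟨eqToHom (Subsingleton.elim _ _), (EtCore.topIsTerminal _).hom_ext _ _⟩

instance : (G k).Faithful where
  map_injective {X Y} f g _ := Subsingleton.elim _ _

set_option backward.isDefEq.respectTransparency false in
theorem exists_section (V : (Spec (CommRingCat.of k)).Etale) (x : V.left) :
    ∃ g : EtCoh.top (Spec (CommRingCat.of k)) ⟶ V,
      g.left (default : Spec (CommRingCat.of k)) = x := by
  haveI : Etale V.hom := V.prop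
  obtain ⟨l, hl1, hl2⟩ := Scheme.exists_fac_of_etale_of_isSepClosed V.hom
    (𝟙 (Spec (CommRingCat.of k))) x
    (Subsingleton.elim (α := Spec (CommRingCat.of k)) _ _)
  exact ⟨MorphismProperty.Over.homMk l (by simpa using hl1), hl2⟩

set_option backward.isDefEq.respectTransparency false in
instance isCoverDense_G : (G k).IsCoverDense (Spec (CommRingCat.of k)).smallEtaleTopology where
  is_cover V := by
    choose g hg using fun x : V.left => exists_section k V x
    refine (Spec (CommRingCat.of k)).smallEtaleTopology.superset_covering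
      (S := Sieve.ofArrows _ g) ?_ ?_
    · rw [Sieve.generate_le_iff, Presieve.ofArrows_le_iff]
      intro x
      exact ⟨⟨⟨PUnit.unit⟩, 𝟙 _, g x, by simp⟩⟩
    · rw [Scheme.ofArrows_mem_smallEtaleTopology_iff]
      ext y
      simp only [Set.mem_iUnion, Set.mem_univ, iff_true]
      exact ⟨y, ⟨(default : Spec (CommRingCat.of k)), hg y⟩⟩

/-- evaluation at the point is an equivalence for the trivial topology on the point -/
theorem isEquivalence_eval_bot (A : Type*) [Category A]
    (J₀ : GrothendieckTopology (Discrete PUnit.{u + 1})) (hJ : J₀ = ⊥) :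
    ((sheafSections J₀ A).obj (op ⟨PUnit.unit⟩)).IsEquivalence := by
  subst hJ
  have h1 : (sheafToPresheaf (⊥ : GrothendieckTopology (Discrete PUnit.{u + 1})) A).IsEquivalence :=
    (sheafBotEquivalence A).isEquivalence_functor
  have h2 : ((evaluation (Discrete PUnit.{u + 1})ᵒᵖ A).obj (op ⟨PUnit.unit⟩)).IsEquivalence := by
    haveI : ((evaluation (Discrete PUnit.{u + 1})ᵒᵖ A).obj (op ⟨PUnit.unit⟩)).Faithful := by
      constructor
      intro P Q α β h
      ext ⟨⟨⟨⟩⟩⟩
      exact h
    haveI : ((evaluation (Discrete PUnit.{u + 1})ᵒᵖ A).obj (op ⟨PUnit.unit⟩)).Full := by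
      constructor
      intro P Q f
      refine ⟨{ app := fun _ => f, naturality := ?_ }, rfl⟩
      intro X Y g
      obtain ⟨⟨⟨⟩⟩⟩ := X
      obtain ⟨⟨⟨⟩⟩⟩ := Y
      obtain rfl : g = 𝟙 _ := Subsingleton.elim _ _
      simp
    haveI : ((evaluation (Discrete PUnit.{u + 1})ᵒᵖ A).obj (op ⟨PUnit.unit⟩)).EssSurj := by
      constructor
      intro a
      exact ⟨(Functor.const _).obj a, ⟨Iso.refl _⟩⟩
    exact { }
  exact Functor.isEquivalence_of_iso
    (NatIso.ofComponents (fun F => Iso.refl _) :
      sheafToPresheaf _ A ⋙ (evaluation (Discrete PUnit.{u + 1})ᵒᵖ A).obj (op ⟨PUnit.unit⟩) ≅ _)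

set_option backward.isDefEq.respectTransparency false in
theorem induced_eq_bot :
    (G k).inducedTopology (Spec (CommRingCat.of k)).smallEtaleTopology = ⊥ := by
  ext ⟨⟨⟩⟩ S
  constructor
  · intro hS
    rw [Functor.mem_inducedTopology_iff_of_isCoverDense] at hS
    obtain ⟨Y, f, hf, y, hy⟩ := (Scheme.pointSmallEtale (𝟙 (Spec (CommRingCat.of k)))).jointly_surjective
      _ hS (Over.homMk (𝟙 _) (by simp; rfl))
    obtain ⟨Z, g, h, hg, hfac⟩ := hf
    obtain ⟨⟨⟨⟩⟩⟩ := Z
    obtain rfl : g = 𝟙 _ := Subsingleton.elim _ _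
    rw [GrothendieckTopology.bot_covering]
    exact (Sieve.id_mem_iff_eq_top).mp hg
  · intro hS
    rw [GrothendieckTopology.bot_covering] at hS
    rw [hS]
    exact GrothendieckTopology.top_mem _ _

theorem main3055 :
    ((sheafSections (Spec (CommRingCat.of k)).smallEtaleTopology (Type (u + 1))).obj
      (op (EtCoh.top (Spec (CommRingCat.of k))))).IsEquivalence := by
  have h1 : ((G k).sheafPushforwardContinuous (Type (u + 1))
      ((G k).inducedTopology (Spec (CommRingCat.of k)).smallEtaleTopology)
      (Spec (CommRingCat.of k)).smallEtaleTopology).IsEquivalence := inferInstance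
  have h2 := isEquivalence_eval_bot (Type (u + 1)) _ (induced_eq_bot k)
  exact Functor.isEquivalence_of_iso
    (NatIso.ofComponents (fun F => Iso.refl _) :
      (G k).sheafPushforwardContinuous (Type (u + 1))
      ((G k).inducedTopology (Spec (CommRingCat.of k)).smallEtaleTopology)
      (Spec (CommRingCat.of k)).smallEtaleTopology ⋙ (sheafSections _ _).obj (op ⟨PUnit.unit⟩) ≅ _)

end Groth.Agent.Lib.lead.SepPt
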