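import Mathlib
import Groth.Prelude.Def_EtBase
import Groth.Prelude.Def_EtCore
import Groth.Prelude.Def_EtShriek2

/-!
# Stalks of extension by zero along an étale morphism
-/

universe u

set_option maxHeartbeats 400000
set_option linter.style.haveILetI false

open CategoryTheory CategoryTheory.Limits Opposite AlgebraicGeometry

namespace Groth.Agent.Lib.lead.ShriekStalk

variable {U X : Scheme.{u}} (j : U ⟶ X) [Etale j] {Ω : Type u} [Field Ω] [IsSepClosed Ω]
  (ξ : Spec (CommRingCat.of Ω) ⟶ X)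

/-- lifts of the geometric point -/
abbrev Lifts : Type u := {u : Spec (CommRingCat.of Ω) ⟶ U // u ≫ j = ξ}

variable {j ξ}

set_option backward.isDefEq.respectTransparency false in
/-- the lift determined by a point of the fibre -/
noncomputable def liftOf {V : U.Etale}
    (x : (Scheme.pointSmallEtale ξ).fiber.obj ((EtShriek.compEtale j).obj V)) : Lifts j ξ :=
  ⟨x.left ≫ V.hom, by
    have := Over.w x
    simpa using this⟩

set_option backward.isDefEq.respectTransparency false in
noncomputable def ptOf {V : U.Etale}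
    (x : (Scheme.pointSmallEtale ξ).fiber.obj ((EtShriek.compEtale j).obj V)) :
    (Scheme.pointSmallEtale (liftOf x).1).fiber.obj V :=
  Over.homMk x.left rfl

set_option backward.isDefEq.respectTransparency false in
noncomputable def incl (u : Lifts j ξ) {V : U.Etale}
    (y : (Scheme.pointSmallEtale u.1).fiber.obj V) :
    (Scheme.pointSmallEtale ξ).fiber.obj ((EtShriek.compEtale j).obj V) :=
  Over.homMk y.left (by
    have := Over.w y
    dsimp at this ⊢
    rw [reassoc_of% this, u.2])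

set_option backward.isDefEq.respectTransparency false in
theorem incl_liftOf_ptOf {V : U.Etale}
    (x : (Scheme.pointSmallEtale ξ).fiber.obj ((EtShriek.compEtale j).obj V)) :
    incl (liftOf x) (ptOf x) = x := by
  apply Over.OverMorphism.ext
  rfl

set_option backward.isDefEq.respectTransparency false in
theorem liftOf_incl (u : Lifts j ξ) {V : U.Etale}
    (y : (Scheme.pointSmallEtale u.1).fiber.obj V) : liftOf (incl u y) = u := by
  apply Subtype.ext
  exact Over.w y

set_option backward.isDefEq.respectTransparency false in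
theorem liftOf_map {V W : U.Etale} (g : V ⟶ W)
    (x : (Scheme.pointSmallEtale ξ).fiber.obj ((EtShriek.compEtale j).obj V)) :
    liftOf ((Scheme.pointSmallEtale ξ).fiber.map ((EtShriek.compEtale j).map g) x) = liftOf x := by
  apply Subtype.ext
  change (x.left ≫ g.left) ≫ W.hom = x.left ≫ V.hom
  rw [Category.assoc]
  congr 1
  exact Over.w g.hom

/-- transport lemma -/
theorem pi_eq_of_eq {A : AddCommGrpCat.{u + 1}} {T : AddCommGrpCat.{u + 1}} {W : U.Etale}
    (σ : ∀ u : Lifts j ξ, T ⟶ ∏ᶜ fun _ : (Scheme.pointSmallEtale u.1).fiber.obj W => A)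
    (u u' : Lifts j ξ) (h : u = u')
    (y : (Scheme.pointSmallEtale u.1).fiber.obj W)
    (y' : (Scheme.pointSmallEtale u'.1).fiber.obj W) (hy : y.left = y'.left) :
    σ u ≫ Pi.π _ y = σ u' ≫ Pi.π _ y' := by
  subst h
  have : y = y' := Over.OverMorphism.ext hy
  rw [this]

variable (j ξ) in
set_option backward.isDefEq.respectTransparency false in
/-- decomposition of maps into the restricted skyscraper -/
noncomputable def homEquivE (P : U.Etaleᵒᵖ ⥤ AddCommGrpCat.{u + 1}) (A : AddCommGrpCat.{u + 1}) :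
    (P ⟶ (EtShriek.compEtale j).op ⋙ (Scheme.pointSmallEtale ξ).skyscraperPresheaf A) ≃
      (∀ u : Lifts j ξ, P ⟶ (Scheme.pointSmallEtale u.1).skyscraperPresheaf A) where
  toFun τ u :=
    { app V := Pi.lift (fun y => τ.app V ≫ Pi.π _ (incl u y))
      naturality := by
        intro V W g
        refine Pi.hom_ext _ _ (fun y => ?_)
        simp
        rfl }
  invFun σ :=
    { app V := Pi.lift (fun x => (σ (liftOf x)).app V ≫ Pi.π _ (ptOf x))
      naturality := by
        intro V W g
        refine Pi.hom_ext _ _ (fun x => ?_)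
        simp
        exact pi_eq_of_eq (fun u => (σ u).app V) _ _ (liftOf_map g.unop x).symm _ _ rfl }
  left_inv τ := by
    ext V : 2
    dsimp
    refine Pi.hom_ext _ _ (fun x => ?_)
    simp only [Pi.lift_π, incl_liftOf_ptOf]
  right_inv σ := by
    ext u V : 3
    dsimp
    refine Pi.hom_ext _ _ (fun y => ?_)
    simp only [Pi.lift_π]
    exact pi_eq_of_eq (fun u => (σ u).app V) _ _ (liftOf_incl u y) _ _ rfl

set_option backward.isDefEq.respectTransparency false in
theorem homEquivE_naturality (P : U.Etaleᵒᵖ ⥤ AddCommGrpCat.{u + 1}) {A A' : AddCommGrpCat.{u + 1}}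
    (g : A ⟶ A')
    (τ : P ⟶ (EtShriek.compEtale j).op ⋙ (Scheme.pointSmallEtale ξ).skyscraperPresheaf A)
    (u : Lifts j ξ) :
    homEquivE j ξ P A' (τ ≫ Functor.whiskerLeft (EtShriek.compEtale j).op
      ((Scheme.pointSmallEtale ξ).skyscraperPresheafFunctor.map g)) u =
      homEquivE j ξ P A τ u ≫ (Scheme.pointSmallEtale u.1).skyscraperPresheafFunctor.map g := by
  ext V : 2
  refine Pi.hom_ext _ _ (fun y => ?_)
  simp [homEquivE]

/-- Yoneda, by hand -/
theorem iso_of_natural_equiv {C : Type*} [Category C] {X Y : C}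
    (e : ∀ A : C, (X ⟶ A) ≃ (Y ⟶ A))
    (nat : ∀ (A A' : C) (f : X ⟶ A) (g : A ⟶ A'), e A' (f ≫ g) = e A f ≫ g) :
    Nonempty (X ≅ Y) := by
  refine ⟨⟨(e Y).symm (𝟙 Y), e X (𝟙 X), ?_, ?_⟩⟩
  · apply (e X).injective
    rw [nat, Equiv.apply_symm_apply, Category.id_comp]
  · rw [← nat, Category.id_comp, Equiv.apply_symm_apply]

section Main

variable (j ξ) [EtShriek.JCont j] (F : EtCoh.Ab U)

/-- the composite adjunction `stalk_ξ ∘ j_! ⊣ j^* ∘ sky_ξ` -/
noncomputable def adjL :
    EtShriek.extZero j ⋙ EtCoh.stalk ξ ⊣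
      (Scheme.pointSmallEtale ξ).skyscraperSheafFunctor (A := AddCommGrpCat.{u + 1}) ⋙
        EtShriek.restrAlong j :=
  (EtShriek.extZeroAdj j).comp
    ((Scheme.pointSmallEtale ξ).skyscraperSheafAdjunction (A := AddCommGrpCat.{u + 1}))

/-- step 2: sheaf morphisms are presheaf morphisms -/
noncomputable def e2 (A : AddCommGrpCat.{u + 1}) :
    (F ⟶ ((Scheme.pointSmallEtale ξ).skyscraperSheafFunctor (A := AddCommGrpCat.{u + 1}) ⋙
        EtShriek.restrAlong j).obj A) ≃
      (F.obj ⟶ (EtShriek.compEtale j).op ⋙ (Scheme.pointSmallEtale ξ).skyscraperPresheaf A) :=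
  (fullyFaithfulSheafToPresheaf _ _).homEquiv

/-- step 4 -/
noncomputable def e4 (A : AddCommGrpCat.{u + 1}) :
    (∀ u : Lifts j ξ, F.obj ⟶ (Scheme.pointSmallEtale u.1).skyscraperPresheaf A) ≃
      (∀ u : Lifts j ξ, (EtCoh.stalk u.1).obj F ⟶ A) :=
  Equiv.piCongrRight (fun u =>
    ((Scheme.pointSmallEtale u.1).skyscraperPresheafHomEquiv (P := F.obj) (M := A)).symm)

/-- step 5 -/
noncomputable def e5 (A : AddCommGrpCat.{u + 1}) :
    (∀ u : Lifts j ξ, (EtCoh.stalk u.1).obj F ⟶ A) ≃
      ((∐ fun u : Lifts j ξ => (EtCoh.stalk u.1).obj F) ⟶ A) where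
  toFun f := Sigma.desc f
  invFun g u := Sigma.ι (fun u : Lifts j ξ => (EtCoh.stalk u.1).obj F) u ≫ g
  left_inv f := by
    funext u
    simp
  right_inv g := by
    apply Sigma.hom_ext
    intro u
    simp

/-- the total natural bijection -/
noncomputable def eTot (A : AddCommGrpCat.{u + 1}) :
    ((EtCoh.stalk ξ).obj ((EtShriek.extZero j).obj F) ⟶ A) ≃
      ((∐ fun u : Lifts j ξ => (EtCoh.stalk u.1).obj F) ⟶ A) :=
  (((adjL j ξ).homEquiv F A).trans (e2 j ξ F A)).trans
    (((homEquivE j ξ F.obj A).trans (e4 j ξ F A)).trans (e5 j ξ F A))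

theorem e4_naturality {A A' : AddCommGrpCat.{u + 1}} (g : A ⟶ A')
    (σ : ∀ u : Lifts j ξ, F.obj ⟶ (Scheme.pointSmallEtale u.1).skyscraperPresheaf A) :
    e4 j ξ F A' (fun u => σ u ≫ (Scheme.pointSmallEtale u.1).skyscraperPresheafFunctor.map g) =
      fun u => e4 j ξ F A σ u ≫ g := by
  funext u
  simp only [e4, Equiv.piCongrRight_apply, Pi.map_apply]
  apply ((Scheme.pointSmallEtale u.1).skyscraperPresheafHomEquiv (P := F.obj) (M := A')).injective
  refine (Equiv.apply_symm_apply _ _).trans ?_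
  refine Eq.trans ?_ (GrothendieckTopology.Point.skyscraperPresheafHomEquiv_naturality_right
    (Scheme.pointSmallEtale u.1) _ g).symm
  exact congrArg (· ≫ (Scheme.pointSmallEtale u.1).skyscraperPresheafFunctor.map g)
    (Equiv.apply_symm_apply _ _).symm

theorem e5_naturality {A A' : AddCommGrpCat.{u + 1}} (g : A ⟶ A')
    (ρ : ∀ u : Lifts j ξ, (EtCoh.stalk u.1).obj F ⟶ A) :
    e5 j ξ F A' (fun u => ρ u ≫ g) = e5 j ξ F A ρ ≫ g := by
  apply Sigma.hom_ext
  intro u
  simp [e5]

theorem eTot_naturality {A A' : AddCommGrpCat.{u + 1}}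
    (f : (EtCoh.stalk ξ).obj ((EtShriek.extZero j).obj F) ⟶ A) (g : A ⟶ A') :
    eTot j ξ F A' (f ≫ g) = eTot j ξ F A f ≫ g := by
  simp only [eTot, Equiv.trans_apply]
  rw [Adjunction.homEquiv_naturality_right]
  have h2 : ∀ φ, e2 j ξ F A' (φ ≫
      ((Scheme.pointSmallEtale ξ).skyscraperSheafFunctor (A := AddCommGrpCat.{u + 1}) ⋙
        EtShriek.restrAlong j).map g) = e2 j ξ F A φ ≫
        Functor.whiskerLeft (EtShriek.compEtale j).op
          ((Scheme.pointSmallEtale ξ).skyscraperPresheafFunctor.map g) := fun φ => rfl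
  rw [h2]
  have h3 : ∀ τ, homEquivE j ξ F.obj A' (τ ≫ Functor.whiskerLeft (EtShriek.compEtale j).op
      ((Scheme.pointSmallEtale ξ).skyscraperPresheafFunctor.map g)) =
      fun u => homEquivE j ξ F.obj A τ u ≫
        (Scheme.pointSmallEtale u.1).skyscraperPresheafFunctor.map g :=
    fun τ => funext (homEquivE_naturality F.obj g τ)
  rw [h3, e4_naturality, e5_naturality]

theorem main0647 :
    Nonempty ((EtCoh.stalk ξ).obj ((EtShriek.extZero j).obj F) ≅
      ∐ fun u : {u : Spec (CommRingCat.of Ω) ⟶ U // u ≫ j = ξ} => (EtCoh.stalk u.1).obj F) :=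
  iso_of_natural_equiv (fun A => eTot j ξ F A) (fun _ _ f g => eTot_naturality j ξ F f g)

end Main

end Groth.Agent.Lib.lead.ShriekStalk
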