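import Mathlib
import Groth.Agent.Lib.lead.WEMax2

/-!
# The maximal weakly étale subalgebra: subalgebras, reduction, connected case
-/

universe u

set_option maxHeartbeats 400000
set_option linter.unusedSectionVars false
set_option linter.style.haveILetI false

open TensorProduct Polynomial

namespace Groth.Agent.Lib.lead.WEMax

variable (K : Type u) [Field K] (A : Type u) [CommRing A] [Algebra K A]

theorem map_max_subalgebra (A' : Subalgebra K A) :
    (EtAlgD.maxWeaklyEtale K A').map A'.val = EtAlgD.maxWeaklyEtale K A ⊓ A' := by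
  apply le_antisymm
  · apply le_inf
    · have h : (EtAlgD.maxWeaklyEtale K A').map A'.val =
          (A'.val.comp (EtAlgD.maxWeaklyEtale K A').val).range := by
        rw [AlgHom.range_comp, Subalgebra.range_val]
      rw [h]
      haveI := weaklyEtale_max K A'
      exact range_le_max K A _
    · rintro _ ⟨x, -, rfl⟩
      exact x.2
  · intro x hx
    obtain ⟨hxM, hxA'⟩ := hx
    let N' : Subalgebra K A' := (EtAlgD.maxWeaklyEtale K A ⊓ A').comap A'.val
    haveI hN' : Algebra.WeaklyEtale K N' := by
      haveI := weaklyEtale_max K A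
      let g : N' →ₐ[K] EtAlgD.maxWeaklyEtale K A :=
        (A'.val.comp N'.val).codRestrict _ (fun y => (y.2 : A'.val y.1 ∈ _ ⊓ A').1)
      refine weaklyEtale_of_injective K g ?_
      intro a b hab
      have := congrArg (fun z : EtAlgD.maxWeaklyEtale K A => (z : A)) hab
      exact Subtype.val_injective (Subtype.val_injective this)
    have hle := le_max K A' N'
    have hmem : (⟨x, hxA'⟩ : A') ∈ N' := ⟨hxM, hxA'⟩
    exact ⟨⟨x, hxA'⟩, hle hmem, rfl⟩

theorem bijOn_mk :
    Set.BijOn (Ideal.Quotient.mkₐ K (nilradical A)) (EtAlgD.maxWeaklyEtale K A)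
      (EtAlgD.maxWeaklyEtale K (A ⧸ nilradical A)) := by
  refine ⟨?_, ?_, ?_⟩
  · intro x hx
    haveI := weaklyEtale_max K A
    exact range_le_max K (A ⧸ nilradical A)
      ((Ideal.Quotient.mkₐ K (nilradical A)).comp (EtAlgD.maxWeaklyEtale K A).val)
      ⟨⟨x, hx⟩, rfl⟩
  · intro x hx y hy hxy
    haveI := weaklyEtale_max K A
    haveI : IsReduced (EtAlgD.maxWeaklyEtale K A) := WEFieldAlg.isReduced K _
    have hnil : IsNilpotent (x - y) := by
      have : x - y ∈ nilradical A := by
        rw [← Ideal.Quotient.eq]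
        exact hxy
      exact this
    have hnil' : IsNilpotent ((⟨x, hx⟩ : EtAlgD.maxWeaklyEtale K A) - ⟨y, hy⟩) := by
      obtain ⟨n, hn⟩ := hnil
      exact ⟨n, Subtype.ext (by simpa using hn)⟩
    have h0 := hnil'.eq_zero
    exact sub_eq_zero.mp (congrArg Subtype.val h0)
  · intro ybar hybar
    haveI := weaklyEtale_max K (A ⧸ nilradical A)
    let y' : EtAlgD.maxWeaklyEtale K (A ⧸ nilradical A) := ⟨ybar, hybar⟩
    haveI : Algebra.Etale K (Algebra.adjoin K {y'}) :=
      WEFieldAlg.etale_of_fg K _ _ ⟨{y'}, by simp⟩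
    obtain ⟨g, hgm, hgs, hg⟩ := exists_separable_of_etale K (Algebra.adjoin K {y'})
      ⟨y', Algebra.subset_adjoin (Set.mem_singleton _)⟩
    have hg' : aeval ybar g = 0 := by
      have h1 := Polynomial.aeval_algHom_apply
        ((EtAlgD.maxWeaklyEtale K (A ⧸ nilradical A)).val.comp (Algebra.adjoin K {y'}).val)
        (⟨y', Algebra.subset_adjoin (Set.mem_singleton _)⟩ : Algebra.adjoin K {y'}) g
      rw [hg, map_zero] at h1
      exact h1
    obtain ⟨y₀, rfl⟩ := Ideal.Quotient.mk_surjective ybar
    have hnil : IsNilpotent (aeval y₀ g) := by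
      have h1 := Polynomial.aeval_algHom_apply (Ideal.Quotient.mkₐ K (nilradical A)) y₀ g
      have : Ideal.Quotient.mk (nilradical A) (aeval y₀ g) = 0 := by
        change Ideal.Quotient.mkₐ K (nilradical A) (aeval y₀ g) = 0
        rw [← h1]
        exact hg'
      exact Ideal.Quotient.eq_zero_iff_mem.mp this
    have hunit : IsUnit (aeval y₀ (derivative g)) := by
      obtain ⟨a, b, hab⟩ := hgs
      have h1 := congrArg (aeval y₀) hab
      rw [map_add, map_mul, map_mul, map_one] at h1
      have h2 : IsNilpotent (aeval y₀ a * aeval y₀ g) := (Commute.all _ _).isNilpotent_mul_left hnil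
      have h3 : IsUnit (aeval y₀ b * aeval y₀ (derivative g)) := by
        have : aeval y₀ b * aeval y₀ (derivative g) = 1 - aeval y₀ a * aeval y₀ g := by
          linear_combination h1
        rw [this]
        exact h2.isUnit_one_sub
      exact isUnit_of_mul_isUnit_right h3
    obtain ⟨y, ⟨hy1, hy2⟩, -⟩ := existsUnique_nilpotent_sub_and_aeval_eq_zero hnil hunit
    refine ⟨y, mem_max_of_separable_root K A y g hgm hgs hy2, ?_⟩
    change Ideal.Quotient.mk (nilradical A) y = Ideal.Quotient.mk (nilradical A) y₀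
    rw [Ideal.Quotient.eq, ← neg_sub]
    exact (nilradical A).neg_mem (mem_nilradical.mpr hy1)

theorem isField_max (hid : ∀ e : A, IsIdempotentElem e → e = 0 ∨ e = 1) [Nontrivial A] :
    IsField (EtAlgD.maxWeaklyEtale K A) := by
  haveI := weaklyEtale_max K A
  refine ⟨⟨0, 1, fun h => zero_ne_one (congrArg Subtype.val h)⟩, mul_comm, ?_⟩
  intro x hx
  obtain ⟨z, hz⟩ := exists_eq_mul_mul K (EtAlgD.maxWeaklyEtale K A) x
  have hidem : IsIdempotentElem (x * z) := by
    unfold IsIdempotentElem
    calc x * z * (x * z) = (x * x * z) * z := by ring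
      _ = x * z := by rw [← hz]
  have hidem' : IsIdempotentElem ((x * z : EtAlgD.maxWeaklyEtale K A) : A) := by
    unfold IsIdempotentElem
    rw [← Subalgebra.coe_mul, hidem.eq]
  rcases hid _ hidem' with h0 | h1
  · exfalso
    apply hx
    have h0' : x * z = 0 := Subtype.val_injective h0
    calc x = x * x * z := hz
      _ = x * (x * z) := by ring
      _ = 0 := by rw [h0', mul_zero]
  · exact ⟨z, Subtype.val_injective h1⟩

end Groth.Agent.Lib.lead.WEMax
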